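import Mathlib.FieldTheory.Finite.GaloisField
import Mathlib.RingTheory.IntegralDomain
import Mathlib.Algebra.Algebra.Subalgebra.Lattice

/-!
An irreducible module of a commutative group of automorphisms is the additive group of a finite field,
the group acting by multiplications and its normaliser, when it fixes a non-zero vector, by field
automorphisms.
-/

set_option linter.unusedSectionVars false
set_option linter.style.haveILetI false

namespace Cfsg.Agent.PF

open Module

theorem s09_field_model {p q : ℕ} [Fact p.Prime] (hq : q ≠ 0) {V : Type*} [AddCommGroup V]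
    [Module (ZMod p) V] [Finite V] {U W : Type*} [Group U] [Group W]
    (ρ : U →* Module.End (ZMod p) V) (θ : W →* Module.End (ZMod p) V) (c : W → U → U)
    (hcomm : ∀ x y, ρ x * ρ y = ρ y * ρ x)
    (hirr : ∀ S : Submodule (ZMod p) V, (∀ x, ∀ v ∈ S, ρ x v ∈ S) → S = ⊥ ∨ S = ⊤)
    (hconj : ∀ w x, θ w * ρ x = ρ (c w x) * θ w) (v₀ : V) (hv₀ : v₀ ≠ 0)
    (hfix : ∀ w, θ w v₀ = v₀) (hcard : Nat.card V = p ^ q) :
    ∃ (e : V ≃+ GaloisField p q) (ψ : U →* (GaloisField p q)ˣ)
      (σ : W → (GaloisField p q ≃+* GaloisField p q)),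
      e v₀ = 1 ∧ (∀ x v, e (ρ x v) = ψ x * e v) ∧ (∀ w v, e (θ w v) = σ w (e v)) ∧
      (∀ w x, (ψ (c w x) : GaloisField p q) = σ w (ψ x)) ∧ (∀ x, ψ x = 1 ↔ ρ x = 1) := by
  classical
  haveI : Nontrivial V := ⟨⟨v₀, 0, hv₀⟩⟩
  set A := Algebra.adjoin (ZMod p) (Set.range ρ) with hA
  have hmul : ∀ a b : A, a * b = b * a := by
    haveI := Algebra.isMulCommutative_adjoin (ZMod p) (s := Set.range ρ)
      (by rintro _ ⟨x, rfl⟩ _ ⟨y, rfl⟩; exact hcomm x y)
    exact fun a b => mul_comm' a b
  letI : CommRing A := { (inferInstance : Ring A) with mul_comm := hmul }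
  let gen : U → A := fun x => ⟨ρ x, Algebra.subset_adjoin ⟨x, rfl⟩⟩
  have hker : ∀ a : A, a ≠ 0 → ∀ v, (a : Module.End (ZMod p) V) v = 0 → v = 0 := by
    intro a ha v hv
    rcases hirr (LinearMap.ker (a : Module.End (ZMod p) V)) (fun x w hw => by
      rw [LinearMap.mem_ker] at hw ⊢
      have e : (a : Module.End (ZMod p) V) * ρ x = ρ x * a := congrArg Subtype.val (hmul a (gen x))
      have e2 := LinearMap.congr_fun e w
      simp only [Module.End.mul_apply] at e2
      rw [e2, hw, map_zero]) with e | e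
    · exact (Submodule.eq_bot_iff _).mp e v hv
    · exact absurd (Subtype.ext (LinearMap.ker_eq_top.mp e)) ha
  haveI : Nontrivial A := ⟨⟨1, 0, fun e => hv₀ (by
    have := LinearMap.congr_fun (congrArg Subtype.val e) v₀
    simpa using this)⟩⟩
  haveI : NoZeroDivisors A := ⟨fun {a b} hab => by
    by_contra hne
    push Not at hne
    refine hne.2 (Subtype.ext (LinearMap.ext fun v => hker a hne.1 _ ?_))
    have := LinearMap.congr_fun (congrArg Subtype.val hab) v
    simpa using this⟩
  haveI : IsDomain A := NoZeroDivisors.to_isDomain A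
  let ev : A →+ V :=
    { toFun := fun a => (a : Module.End (ZMod p) V) v₀
      map_zero' := by simp
      map_add' := fun a b => by simp }
  have hev : Function.Injective ev := by
    rw [injective_iff_map_eq_zero]
    intro a ha
    by_contra hne
    exact hv₀ (hker a hne v₀ ha)
  haveI : Finite A := Finite.of_injective ev hev
  have hsur : Function.Surjective ev := by
    let S : Submodule (ZMod p) V := (A.toSubmodule).map (LinearMap.applyₗ v₀)
    rcases hirr S (fun x v hv => by
      obtain ⟨a, ha, rfl⟩ := hv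
      exact ⟨ρ x * a, A.mul_mem (Algebra.subset_adjoin ⟨x, rfl⟩) ha, rfl⟩) with e | e
    · exact absurd ((Submodule.eq_bot_iff S).mp e v₀ ⟨1, A.one_mem, rfl⟩) hv₀
    · intro v
      obtain ⟨a, ha, e2⟩ := (e.ge (Submodule.mem_top : v ∈ ⊤) : v ∈ S)
      exact ⟨⟨a, ha⟩, e2⟩
  let L : A ≃+ V := AddEquiv.ofBijective ev ⟨hev, hsur⟩
  haveI := Fintype.ofFinite A
  letI : Field A := (Finite.isField_of_domain A).toField
  let E : A ≃+* GaloisField p q := by
    haveI := Fintype.ofFinite (GaloisField p q)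
    refine FiniteField.ringEquivOfCardEq ?_
    rw [← Nat.card_eq_fintype_card, ← Nat.card_eq_fintype_card, GaloisField.card p q hq,
      Nat.card_congr L.toEquiv, hcard]
  have hW : ∀ w, θ w * θ w⁻¹ = 1 := fun w => by rw [← map_mul, mul_inv_cancel, map_one]
  have hW' : ∀ w, θ w⁻¹ * θ w = 1 := fun w => by rw [← map_mul, inv_mul_cancel, map_one]
  have hinv : ∀ w, ∀ a ∈ A, θ w * a * θ w⁻¹ ∈ A := by
    intro w a ha
    induction ha using Algebra.adjoin_induction with
    | mem z hz =>
      obtain ⟨x, rfl⟩ := hz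
      rw [hconj, mul_assoc, hW, mul_one]
      exact Algebra.subset_adjoin ⟨_, rfl⟩
    | algebraMap r =>
      rw [← Algebra.commutes, mul_assoc, hW, mul_one]
      exact A.algebraMap_mem r
    | add x y _ _ hx hy => rw [mul_add, add_mul]; exact A.add_mem hx hy
    | mul x y _ _ hx hy =>
      have e : θ w * (x * y) * θ w⁻¹ = θ w * x * θ w⁻¹ * (θ w * y * θ w⁻¹) := by
        simp only [mul_assoc]
        rw [← mul_assoc (θ w⁻¹) (θ w), hW', one_mul]
      rw [e]
      exact A.mul_mem hx hy
  let τ : W → A ≃+* A := fun w =>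
    { toFun := fun a => ⟨θ w * a * θ w⁻¹, hinv w a a.2⟩
      invFun := fun a => ⟨θ w⁻¹ * a * θ w, by simpa using hinv w⁻¹ a a.2⟩
      left_inv := fun a => Subtype.ext (by
        show θ w⁻¹ * (θ w * (a : Module.End (ZMod p) V) * θ w⁻¹) * θ w = a
        simp only [mul_assoc]
        rw [hW', mul_one, ← mul_assoc, hW', one_mul])
      right_inv := fun a => Subtype.ext (by
        show θ w * (θ w⁻¹ * (a : Module.End (ZMod p) V) * θ w) * θ w⁻¹ = a
        simp only [mul_assoc]
        rw [hW, mul_one, ← mul_assoc, hW, one_mul])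
      map_mul' := fun a b => Subtype.ext (by
        show θ w * ((a : Module.End (ZMod p) V) * b) * θ w⁻¹ =
          θ w * a * θ w⁻¹ * (θ w * b * θ w⁻¹)
        simp only [mul_assoc]
        rw [← mul_assoc (θ w⁻¹) (θ w), hW', one_mul])
      map_add' := fun a b => Subtype.ext (by
        show θ w * ((a : Module.End (ZMod p) V) + b) * θ w⁻¹ = _
        rw [mul_add, add_mul]; rfl) }
  let ψ₀ : U →* A :=
    { toFun := gen
      map_one' := Subtype.ext (map_one ρ)
      map_mul' := fun x y => Subtype.ext (map_mul ρ x y) }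
  let ψ : U →* (GaloisField p q)ˣ := (E.toMonoidHom.comp ψ₀).toHomUnits
  have hψ : ∀ x, (ψ x : GaloisField p q) = E (gen x) := fun x => rfl
  let e : V ≃+ GaloisField p q := L.symm.trans E.toAddEquiv
  have hL : ∀ a : A, L.symm (ev a) = a := fun a => L.symm_apply_apply a
  refine ⟨e, ψ, fun w => E.symm.trans ((τ w).trans E), ?_, ?_, ?_, ?_, ?_⟩
  · show E (L.symm v₀) = 1
    have : v₀ = ev 1 := by simp [ev]
    rw [this, hL, map_one]
  · intro x v
    obtain ⟨a, rfl⟩ := hsur v
    show E (L.symm (ρ x (ev a))) = ψ x * E (L.symm (ev a))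
    rw [show ρ x (ev a) = ev (gen x * a) from rfl, hL, hL, hψ, map_mul]
  · intro w v
    obtain ⟨a, rfl⟩ := hsur v
    show E (L.symm (θ w (ev a))) = E (τ w (E.symm (E (L.symm (ev a)))))
    rw [E.symm_apply_apply, hL]
    have : θ w (ev a) = ev (τ w a) := by
      show θ w ((a : Module.End (ZMod p) V) v₀) = (θ w * a * θ w⁻¹ : Module.End (ZMod p) V) v₀
      rw [Module.End.mul_apply, Module.End.mul_apply, hfix]
    rw [this, hL]
  · intro w x
    show (ψ (c w x) : GaloisField p q) = E (τ w (E.symm (ψ x)))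
    rw [hψ, hψ, E.symm_apply_apply]
    congr 1
    apply Subtype.ext
    show ρ (c w x) = θ w * ρ x * θ w⁻¹
    rw [hconj, mul_assoc, hW, mul_one]
  · intro x
    rw [← Units.val_eq_one, hψ, ← map_one E, E.injective.eq_iff]
    exact ⟨fun h => congrArg Subtype.val h, fun h => Subtype.ext h⟩

end Cfsg.Agent.PF
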