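import Cfsg.Agent.OddChar.PF.S09Facts
import Mathlib.GroupTheory.SpecificGroups.Cyclic
import Mathlib.FieldTheory.Finite.Basic

/-!
# Section 9: the non-Galois case
-/

set_option linter.unusedSectionVars false
set_option linter.unusedVariables false
set_option linter.style.haveILetI false

universe u

namespace Cfsg.Agent.PF

open Subgroup
open scoped commutatorElement

variable {G : Type u} [Group G] [Finite G] {M W₁ U W₂ H₀ : Subgroup G}

/-- A fixed point free automorphism of a finite group: every element is a commutator with it. -/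
theorem Hyp9.exists_commutator_eq (h : Hyp9 M W₁ U W₂) {w : G} (hw : w ∈ W₁) (hw1 : w ≠ 1) {y : G}
    (hy : y ∈ U) : ∃ x ∈ U, w * x * w⁻¹ * x⁻¹ = y := by
  let f : ↥U → ↥U := fun x =>
    ⟨w * x * w⁻¹ * (x : G)⁻¹, mul_mem (s09_conj_mem (h.W₁_le_normalizer_U hw) x.2) (inv_mem x.2)⟩
  have hinj : Function.Injective f := by
    intro a b e
    have e' : w * a * w⁻¹ * (a : G)⁻¹ = w * b * w⁻¹ * (b : G)⁻¹ := congrArg Subtype.val e
    have e2 : w * ((b : G)⁻¹ * a) = (b : G)⁻¹ * a * w := by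
      calc w * ((b : G)⁻¹ * a)
          = (w * (b : G)⁻¹ * w⁻¹) * (w * a * w⁻¹ * (a : G)⁻¹) * a * w := by group
        _ = (w * (b : G)⁻¹ * w⁻¹) * (w * b * w⁻¹ * (b : G)⁻¹) * a * w := by rw [e']
        _ = _ := by group
    have e3 := h.fpf' w hw hw1 _ (mul_mem (inv_mem b.2) a.2) e2
    exact Subtype.ext (inv_mul_eq_one.mp e3).symm
  obtain ⟨x, hx⟩ := (Finite.injective_iff_surjective.mp hinj) ⟨y, hy⟩
  exact ⟨x, x.2, congrArg Subtype.val hx⟩

/-- A homomorphism from `U` to a commutative group which is invariant under `W₁` is trivial. -/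
theorem Hyp9.hom_eq_one (h : Hyp9 M W₁ U W₂) {A : Type*} [CommGroup A] (ξ : ↥U →* A)
    (hξ : ∀ w, ∀ hw : w ∈ W₁, ∀ x : ↥U,
      ξ ⟨w * x * w⁻¹, s09_conj_mem (h.W₁_le_normalizer_U hw) x.2⟩ = ξ x) :
    ξ = 1 := by
  obtain ⟨w, hw, hw1⟩ := (Subgroup.bot_or_exists_ne_one W₁).resolve_left h.typeP.W₁_ne
  ext y
  obtain ⟨x, hx, e⟩ := h.exists_commutator_eq hw hw1 y.2
  have : y = (⟨w * x * w⁻¹, s09_conj_mem (h.W₁_le_normalizer_U hw) hx⟩ : ↥U) * ⟨x, hx⟩⁻¹ :=
    Subtype.ext e.symm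
  rw [this, map_mul, map_inv, hξ w hw ⟨x, hx⟩, mul_inv_cancel]
  rfl

/-- A subgroup between `H₀` and `H` is normalised by `H`. -/
theorem Kernel9.H_le_normalizer_of_between (h : Hyp9 M W₁ U W₂) (k : Kernel9 M U H₀)
    {N : Subgroup G} (h1 : H₀ ≤ N) (h2 : N ≤ Cfsg.fittingHallOf M) :
    Cfsg.fittingHallOf M ≤ normalizer (N : Set G) := by
  refine s09_le_normalizer_of_conj fun a ha x hx => ?_
  have e : a * x * a⁻¹ = ⁅a, x⁆ * x := by simp only [commutatorElement_def]; group
  rw [e]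
  exact mul_mem (h1 (k.commutator_H_le h (commutator_mem_commutator ha (h2 hx)))) hx

/-- The join of a set of `W₁`-conjugates of `N`. -/
noncomputable def joinConj (N : Subgroup G) (s : Finset ↥W₁) : Subgroup G :=
  s.sup fun w => Cfsg.Lib.Coprime.conjMap (w : G) N

theorem Kernel9.between_conj (h : Hyp9 M W₁ U W₂) (k : Kernel9 M U H₀) {N : Subgroup G}
    (h1 : H₀ ≤ N) (h2 : N ≤ Cfsg.fittingHallOf M) (w : ↥W₁) :
    H₀ ≤ Cfsg.Lib.Coprime.conjMap (w : G) N ∧
      Cfsg.Lib.Coprime.conjMap (w : G) N ≤ Cfsg.fittingHallOf M := by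
  constructor
  · calc H₀ = Cfsg.Lib.Coprime.conjMap (w : G) H₀ :=
          (Cfsg.Lib.Coprime.conjMap_eq_self (k.normal (h.W₁_le w.2))).symm
      _ ≤ _ := Cfsg.Lib.Coprime.conjMap_mono h1
  · calc Cfsg.Lib.Coprime.conjMap (w : G) N ≤
          Cfsg.Lib.Coprime.conjMap (w : G) (Cfsg.fittingHallOf M) :=
          Cfsg.Lib.Coprime.conjMap_mono h2
      _ = _ := Cfsg.Lib.Coprime.conjMap_eq_self (h.M_le_normalizer_H (h.W₁_le w.2))

theorem U_normalizes_conj (h : Hyp9 M W₁ U W₂) {N : Subgroup G}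
    (hN : U ≤ normalizer (N : Set G)) (w : ↥W₁) :
    U ≤ normalizer (Cfsg.Lib.Coprime.conjMap (w : G) N : Set G) := by
  rw [Cfsg.Lib.Coprime.normalizer_conjMap]
  intro x hx
  exact Cfsg.Lib.Coprime.mem_conjMap.mpr
    (hN (s09_conj_mem' (h.W₁_le_normalizer_U w.2) hx))

/-- A non-trivial proper `U`-invariant subgroup of the chief factor which is minimal among them is a
line, and the `q` conjugate lines span. -/
theorem Kernel9.minimal_line (h : Hyp9 M W₁ U W₂) (k : Kernel9 M U H₀) {p : ℕ} (hp : p.Prime)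
    (hcard : Nat.card (Cfsg.fittingHallOf M) = p ^ Nat.card W₁ * Nat.card H₀) {N : Subgroup G}
    (hlt : H₀ < N) (hN : N < Cfsg.fittingHallOf M) (hUN : U ≤ normalizer (N : Set G))
    (hmin : ∀ L : Subgroup G, H₀ < L → L ≤ N → U ≤ normalizer (L : Set G) → L = N) :
    Nat.card N = p * Nat.card H₀ ∧
      (⨆ w : W₁, N.map (MulAut.conj (w : G)).toMonoidHom) = Cfsg.fittingHallOf M := by
  classical
  haveI := Fintype.ofFinite ↥W₁
  set H := Cfsg.fittingHallOf M with hHdef
  set m := Nat.card H₀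
  have hm0 : 0 < m := Nat.card_pos
  obtain ⟨r, hr⟩ : m ∣ Nat.card N := Subgroup.card_dvd_of_le hlt.le
  have hrd : r ∣ p ^ Nat.card W₁ := by
    have := Subgroup.card_dvd_of_le hN.le
    rw [hr, hcard, mul_comm (p ^ _)] at this
    exact Nat.dvd_of_mul_dvd_mul_left hm0 this
  obtain ⟨d, hdq, rfl⟩ := (Nat.dvd_prime_pow hp).mp hrd
  have hd1 : 0 < d := by
    rcases Nat.eq_zero_or_pos d with rfl | hd
    · rw [pow_zero, mul_one] at hr
      exact absurd (Subgroup.eq_of_le_of_card_ge hlt.le hr.le).symm hlt.ne'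
    · exact hd
  have hdlt : d < Nat.card W₁ := by
    refine lt_of_le_of_ne hdq fun e => hN.ne (Subgroup.eq_of_le_of_card_ge hN.le ?_)
    rw [hcard, hr, e, mul_comm]
  let Nw : ↥W₁ → Subgroup G := fun w => Cfsg.Lib.Coprime.conjMap (w : G) N
  let J : Finset ↥W₁ → Subgroup G := fun s => H₀ ⊔ s.sup Nw
  have hJH : ∀ s, J s ≤ H := fun s =>
    sup_le k.H₀_le (Finset.sup_le fun w _ => (k.between_conj h hlt.le hN.le w).2)
  have hJn : ∀ s, U ≤ normalizer (J s : Set G) := by
    intro s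
    induction s using Finset.induction_on with
    | empty => simpa [J] using k.U_le_normalizer h
    | insert a t ha ih =>
      have e : J (insert a t) = J t ⊔ Nw a := by simp only [J, Finset.sup_insert]; ac_rfl
      rw [e]
      exact Cfsg.Lib.Coprime.le_normalizer_sup ih (U_normalizes_conj h hUN a)
  -- choose an independent set, as large as possible
  obtain ⟨s, hs, hsmax⟩ := (Finset.univ.powerset.filter fun s : Finset ↥W₁ =>
    Nat.card (J s) = m * (p ^ d) ^ s.card).exists_max_image Finset.card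
      ⟨∅, Finset.mem_filter.mpr ⟨by simp, by simp [J, m]⟩⟩
  have hsc := (Finset.mem_filter.mp hs).2
  have hall : ∀ w, Nw w ≤ J s := by
    intro w
    by_contra hw
    have hws : w ∉ s := fun hws => hw ((Finset.le_sup hws).trans le_sup_right)
    obtain ⟨b1, b2⟩ := k.between_conj h hlt.le hN.le w
    have hinter : J s ⊓ Nw w = H₀ := by
      have hX0 : H₀ ≤ J s ⊓ Nw w := le_inf le_sup_left b1
      by_contra hne
      refine hw ?_
      have hXn : U ≤ normalizer ((J s ⊓ Nw w : Subgroup G) : Set G) :=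
        Cfsg.Lib.Coprime.le_normalizer_inf (hJn s) (U_normalizes_conj h hUN w)
      set X := Cfsg.Lib.Coprime.conjMap (w : G)⁻¹ (J s ⊓ Nw w) with hXdef
      have hX1 : H₀ < X := by
        refine lt_of_le_of_ne ?_ ?_
        · calc H₀ = Cfsg.Lib.Coprime.conjMap (w : G)⁻¹ H₀ :=
                (Cfsg.Lib.Coprime.conjMap_eq_self (inv_mem (k.normal (h.W₁_le w.2)))).symm
            _ ≤ _ := Cfsg.Lib.Coprime.conjMap_mono hX0
        · intro e
          refine hne ?_
          rw [← Cfsg.Lib.Coprime.conjMap_conjMap_inv (w : G) (J s ⊓ Nw w), ← hXdef, ← e,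
            Cfsg.Lib.Coprime.conjMap_eq_self (k.normal (h.W₁_le w.2))]
      have hX2 : X ≤ N := by
        calc X ≤ Cfsg.Lib.Coprime.conjMap (w : G)⁻¹ (Nw w) :=
              Cfsg.Lib.Coprime.conjMap_mono inf_le_right
          _ = N := Cfsg.Lib.Coprime.conjMap_inv_conjMap _ _
      have hX3 : U ≤ normalizer (X : Set G) :=
        U_normalizes_conj h hXn (w⁻¹)
      have e := hmin X hX1 hX2 hX3
      calc Nw w = Cfsg.Lib.Coprime.conjMap (w : G) X := by rw [e]
        _ = J s ⊓ Nw w := Cfsg.Lib.Coprime.conjMap_conjMap_inv _ _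
        _ ≤ J s := inf_le_left
    have hnorm : Nw w ≤ normalizer (J s : Set G) :=
      b2.trans (k.H_le_normalizer_of_between h le_sup_left (hJH s))
    have hc := Cfsg.Lib.Coprime.card_sup_mul_card_inf hnorm
    rw [hinter, hsc, show Nat.card (Nw w) = m * p ^ d from
      (Cfsg.Lib.Coprime.card_conjMap _ _).trans hr] at hc
    have e : J (insert w s) = J s ⊔ Nw w := by simp only [J, Finset.sup_insert]; ac_rfl
    have hin : insert w s ∈ Finset.univ.powerset.filter fun s : Finset ↥W₁ =>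
        Nat.card (J s) = m * (p ^ d) ^ s.card := by
      refine Finset.mem_filter.mpr ⟨by simp, ?_⟩
      rw [e, Finset.card_insert_of_notMem hws]
      refine Nat.eq_of_mul_eq_mul_right hm0 ?_
      rw [show Nat.card ↥(J s ⊔ Nw w) * m = _ from hc, pow_succ]
      ring
    have := hsmax _ hin
    rw [Finset.card_insert_of_notMem hws] at this
    omega
  have hsup : (⨆ w : W₁, N.map (MulAut.conj (w : G)).toMonoidHom) = ⨆ w, Nw w := rfl
  have hNle : H₀ ≤ ⨆ w, Nw w := (k.between_conj h hlt.le hN.le 1).1.trans (le_iSup Nw 1)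
  have hS : (⨆ w, Nw w) = H := by
    have hle : (⨆ w, Nw w) ≤ H := iSup_le fun w => (k.between_conj h hlt.le hN.le w).2
    refine (k.chief _ hNle hle ?_).resolve_left fun e => ?_
    · refine h.normal_of (k.H_le_normalizer_of_between h hNle hle) ?_ ?_
      · intro x hx
        rw [← Cfsg.Lib.Coprime.conjMap_eq_self_iff, Cfsg.Lib.Coprime.conjMap, Subgroup.map_iSup]
        exact iSup_congr fun w => Cfsg.Lib.Coprime.conjMap_eq_self (U_normalizes_conj h hUN w hx)
      · intro x hx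
        rw [← Cfsg.Lib.Coprime.conjMap_eq_self_iff, Cfsg.Lib.Coprime.conjMap, Subgroup.map_iSup]
        calc (⨆ w, (Nw w).map (MulAut.conj x).toMonoidHom)
            = ⨆ w, Nw (⟨x, hx⟩ * w) := iSup_congr fun w => Cfsg.Lib.Coprime.conjMap_mul _ _ _
          _ = ⨆ w, Nw w := (Equiv.mulLeft (⟨x, hx⟩ : ↥W₁)).iSup_comp (g := Nw)
    · refine hlt.not_ge ?_
      have := le_iSup Nw 1
      rw [e] at this
      simpa [Nw, Cfsg.Lib.Coprime.conjMap_one] using this
  have hJ : J s = H := le_antisymm (hJH s) (hS ▸ iSup_le hall)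
  have key : d * s.card = Nat.card W₁ := by
    rw [hJ, hcard, mul_comm, ← pow_mul] at hsc
    exact (Nat.pow_right_injective hp.two_le (Nat.eq_of_mul_eq_mul_left hm0 hsc)).symm
  have hd : d = 1 := by
    rcases h.q_prime.eq_one_or_self_of_dvd d ⟨_, key.symm⟩ with e | e
    · exact e
    · exact absurd e hdlt.ne
  exact ⟨by rw [hr, hd, pow_one, mul_comm], hsup.trans hS⟩

/-- The action of `U` on a line. -/
theorem Kernel9.line_character (h : Hyp9 M W₁ U W₂) (k : Kernel9 M U H₀) {p : ℕ} (hp : p.Prime)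
    {N : Subgroup G} (hlt : H₀ ≤ N) (hN : N ≤ Cfsg.fittingHallOf M) (hUN : U ≤ normalizer (N : Set G))
    (hcard : Nat.card N = p * Nat.card H₀) :
    ∃ χ : ↥U →* (ZMod p)ˣ, ∀ x : ↥U, χ x = 1 ↔ (x : G) ∈ centMod U N H₀ := by
  haveI := Fact.mk hp
  haveI hnorm : (H₀.subgroupOf N).Normal :=
    (Subgroup.normal_subgroupOf_iff_le_normalizer hlt).mpr (hN.trans (h.H_le.trans k.normal))
  have hc : Nat.card (↥N ⧸ H₀.subgroupOf N) = p := by
    refine Nat.eq_of_mul_eq_mul_right (Nat.card_pos (α := H₀)) ?_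
    rw [← hcard, Subgroup.card_eq_card_quotient_mul_card_subgroup (H₀.subgroupOf N),
      Nat.card_congr (Subgroup.subgroupOfEquivOfLe hlt).toEquiv]
  haveI : IsCyclic (↥N ⧸ H₀.subgroupOf N) := isCyclic_of_prime_card hc
  let act : ↥U →* MulAut ↥N := N.normalizerMonoidHom.comp (Subgroup.inclusion hUN)
  have hact : ∀ x : ↥U, (H₀.subgroupOf N).map (act x).toMonoidHom = H₀.subgroupOf N := by
    intro x
    ext y
    constructor
    · rintro ⟨z, hz, rfl⟩
      exact s09_conj_mem (k.U_le_normalizer h x.2) hz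
    · intro hy
      refine ⟨(act x).symm y, ?_, (act x).apply_symm_apply y⟩
      rw [show (act x).symm = act x⁻¹ from (map_inv act x).symm]
      exact s09_conj_mem (k.U_le_normalizer h (inv_mem x.2)) hy
  let φ : ↥U →* MulAut (↥N ⧸ H₀.subgroupOf N) :=
    { toFun := fun x => QuotientGroup.congr _ _ (act x) (hact x)
      map_one' := by
        ext y
        obtain ⟨y, rfl⟩ := QuotientGroup.mk'_surjective _ y
        show QuotientGroup.mk' _ (act 1 y) = QuotientGroup.mk' _ y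
        rw [map_one]; rfl
      map_mul' := fun a b => by
        ext y
        obtain ⟨y, rfl⟩ := QuotientGroup.mk'_surjective _ y
        show QuotientGroup.mk' _ (act (a * b) y) = QuotientGroup.mk' _ (act a (act b y))
        rw [map_mul]; rfl }
  let e : MulAut (↥N ⧸ H₀.subgroupOf N) ≃* (ZMod p)ˣ :=
    (IsCyclic.mulAutMulEquiv _).trans (Units.mapEquiv (ZMod.ringEquivCongr hc).toMulEquiv)
  refine ⟨e.toMonoidHom.comp φ, fun x => ?_⟩
  have hUH : U ≤ normalizer (N : Set G) := hUN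
  rw [mem_centMod hUH (k.U_le_normalizer h)]
  have hnN₀ : N ≤ normalizer (H₀ : Set G) := hN.trans (h.H_le.trans k.normal)
  constructor
  · intro e1
    have e2 : φ x = 1 := e.injective (e1.trans (map_one e).symm)
    refine ⟨x.2, fun y hy => ?_⟩
    have e3 : QuotientGroup.mk' _ (act x ⟨y, hy⟩) = QuotientGroup.mk' _ (⟨y, hy⟩ : ↥N) :=
      congrArg (fun f : MulAut _ => f (QuotientGroup.mk' _ (⟨y, hy⟩ : ↥N))) e2
    have e4 : ((x : G) * y * (x : G)⁻¹)⁻¹ * y ∈ H₀ := by
      have e4' := (QuotientGroup.eq (s := H₀.subgroupOf N)).mp e3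
      exact e4'
    have e5 : ⁅y, (x : G)⁆ = y * ((((x : G) * y * (x : G)⁻¹)⁻¹ * y)) * y⁻¹ := by
      simp only [commutatorElement_def]; group
    rw [e5]
    exact s09_conj_mem (hnN₀ hy) e4
  · rintro ⟨-, hx⟩
    show e (φ x) = 1
    rw [show φ x = 1 from ?_, map_one]
    ext y
    obtain ⟨y, rfl⟩ := QuotientGroup.mk'_surjective _ y
    refine QuotientGroup.eq.mpr ?_
    show ((x : G) * y * (x : G)⁻¹)⁻¹ * y ∈ H₀
    have e5 : ((x : G) * y * (x : G)⁻¹)⁻¹ * y = (y : G)⁻¹ * ⁅(y : G), (x : G)⁆ * y := by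
      simp only [commutatorElement_def]; group
    rw [e5]
    exact s09_conj_mem' (hnN₀ y.2) (hx y y.2)

/-- `C` is the intersection of the conjugates of the stabiliser of a line. -/
theorem Kernel9.mem_C_of_span (h : Hyp9 M W₁ U W₂) (k : Kernel9 M U H₀) {N : Subgroup G}
    (hUN : U ≤ normalizer (N : Set G))
    (hspan : (⨆ w : W₁, N.map (MulAut.conj (w : G)).toMonoidHom) = Cfsg.fittingHallOf M) {x : G}
    (hx : x ∈ U) :
    x ∈ centMod U (Cfsg.fittingHallOf M) H₀ ↔ ∀ w ∈ W₁, w * x * w⁻¹ ∈ centMod U N H₀ := by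
  have hNH : N ≤ Cfsg.fittingHallOf M := by
    refine le_trans ?_ hspan.le
    refine le_trans ?_ (le_iSup _ (1 : ↥W₁))
    exact (Cfsg.Lib.Coprime.conjMap_one N).ge
  constructor
  · intro hc w hw
    have hwC := s09_conj_mem (k.W₁_normalizes_C h hw) hc
    obtain ⟨h1, h2⟩ := (k.mem_C h).mp hwC
    exact (mem_centMod hUN (k.U_le_normalizer h)).mpr ⟨h1, fun y hy => h2 y (hNH hy)⟩
  · intro hc
    refine (k.mem_C h).mpr ⟨hx, ?_⟩
    have hsub : Cfsg.fittingHallOf M ≤
        fmod (zpowers x) (Cfsg.fittingHallOf M) H₀ (h.H_le.trans k.normal) := by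
      nth_rewrite 1 [← hspan]
      refine iSup_le fun w => ?_
      rintro - ⟨n, hn, rfl⟩
      refine ⟨s09_conj_mem (h.M_le_normalizer_H (h.W₁_le w.2)) (hNH hn), fun y hy => ?_⟩
      have hxC : (w : G)⁻¹ * x * w ∈ centMod U N H₀ := by
        simpa using hc (w : G)⁻¹ (inv_mem w.2)
      have hyC : (w : G)⁻¹ * y * w ∈ centMod U N H₀ := by
        obtain ⟨j, rfl⟩ := Subgroup.mem_zpowers_iff.mp hy
        have e : (w : G)⁻¹ * x ^ j * w = ((w : G)⁻¹ * x * w) ^ j := by
          simpa using (conj_zpow (i := j) (a := (w : G)⁻¹) (b := x)).symm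
        rw [e]
        exact zpow_mem hxC j
      have e : ⁅(w : G) * n * (w : G)⁻¹, y⁆ = w * ⁅n, (w : G)⁻¹ * y * w⁆ * (w : G)⁻¹ := by
        simp only [commutatorElement_def]; group
      show ⁅(w : G) * n * (w : G)⁻¹, y⁆ ∈ H₀
      rw [e]
      exact s09_conj_mem (k.normal (h.W₁_le w.2))
        (((mem_centMod hUN (k.U_le_normalizer h)).mp hyC).2 n hn)
    exact fun y hy => (hsub hy).2 x (mem_zpowers x)

/-- (9.7)(a) -/
theorem s9NonGalois (G : Type u) [Group G] [Finite G] (hodd : Odd (Nat.card G)) : S9NonGalois G := by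
  classical
  intro M W₁ U W₂ h H₀ k hng p hp hcard
  haveI := Fact.mk hp
  haveI := Fintype.ofFinite ↥W₁
  unfold IsGalois9 at hng
  push Not at hng
  obtain ⟨X, hX0, hXH, hUX, hne0, hneH⟩ := hng
  let T : Set (Subgroup G) := {L | H₀ < L ∧ L ≤ X ∧ U ≤ normalizer (L : Set G)}
  obtain ⟨N, ⟨hlt, hNX, hUN⟩, hmin⟩ := (Set.toFinite T).exists_minimal
    ⟨X, lt_of_le_of_ne hX0 hne0.symm, le_rfl, hUX⟩
  have hNH : N < Cfsg.fittingHallOf M := lt_of_le_of_lt hNX (lt_of_le_of_ne hXH hneH)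
  obtain ⟨hNc, hspan⟩ := k.minimal_line h hp hcard hlt hNH hUN fun L h1 h2 h3 =>
    le_antisymm h2 (hmin ⟨h1, h2.trans hNX, h3⟩ h2)
  obtain ⟨χ, hχ⟩ := k.line_character h hp hlt.le hNH.le hUN hNc
  set a := (centMod U N H₀).relIndex U with ha
  have hker : χ.ker = (centMod U N H₀).subgroupOf U := by ext x; exact hχ x
  have har : a = Nat.card χ.range := by
    rw [ha, Subgroup.relIndex, ← hker, Subgroup.index_ker]
  have hdvd : a ∣ p - 1 := by
    rw [har, ← ZMod.card_units p, ← Nat.card_eq_fintype_card]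
    exact Subgroup.card_subgroup_dvd_card _
  have ha1 : 1 < a := by
    have hpos : 0 < a := har ▸ Nat.card_pos
    refine lt_of_le_of_ne hpos fun e => hlt.not_ge ?_
    have hUC : U ≤ centMod U N H₀ := Subgroup.relIndex_eq_one.mp e.symm
    refine le_trans ?_ (k.fmod_eq h).le
    intro n hn
    exact ⟨hNH.le hn, fun y hy => ((mem_centMod hUN (k.U_le_normalizer h)).mp (hUC hy)).2 n hn⟩
  refine ⟨N, a, hNH.le, hlt.le, hNc, hUN, hspan, rfl, ha1, ?_, hdvd, ?_, ?_⟩
  · -- `a` is odd and divides the even number `p - 1`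
    have haodd : Odd a := Odd.of_dvd_nat hodd
      ((Subgroup.relIndex_dvd_card _ _).trans (Subgroup.card_subgroup_dvd_card U))
    have hpodd : p ≠ 2 := fun e => by
      have h1 : p ∣ Nat.card G :=
        (Dvd.intro _ hNc.symm).trans (Subgroup.card_subgroup_dvd_card N)
      exact (Nat.not_even_iff_odd.mpr hodd) (even_iff_two_dvd.mpr (e ▸ h1))
    have h2 : 2 ∣ p - 1 := (hp.even_sub_one hpodd).two_dvd
    exact Nat.le_of_dvd (by have := hp.two_le; omega)
      (Nat.Coprime.mul_dvd_of_dvd_of_dvd haodd.coprime_two_left h2 hdvd)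
  · -- `u` divides `a ^ (q - 1)`
    let cj : ↥W₁ → ↥U →* ↥U := fun w =>
      (U.normalizerMonoidHom ⟨w, h.W₁_le_normalizer_U w.2⟩).toMonoidHom
    have hcj : ∀ w x, ((cj w x : ↥U) : G) = (w : G) * x * (w : G)⁻¹ := fun w x => rfl
    let ξ : ↥U →* (ZMod p)ˣ := ∏ w : ↥W₁, χ.comp (cj w)
    have hξ1 : ξ = 1 := by
      refine h.hom_eq_one ξ fun w hw x => ?_
      simp only [ξ, MonoidHom.finsetProd_apply, MonoidHom.coe_comp, Function.comp_apply]
      refine Fintype.prod_equiv (Equiv.mulRight (⟨w, hw⟩ : ↥W₁)) _ _ fun v => ?_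
      congr 1
      apply Subtype.ext
      rw [hcj, hcj]
      show (v : G) * (w * x * w⁻¹) * (v : G)⁻¹ = (v : G) * w * x * ((v : G) * w)⁻¹
      group
    let Φ : ↥U →* ({w : ↥W₁ // w ≠ 1} → ↥χ.range) :=
      { toFun := fun x w => ⟨χ (cj w.1 x), _, rfl⟩
        map_one' := funext fun w => Subtype.ext (by simp)
        map_mul' := fun x y => funext fun w => Subtype.ext (by simp) }
    have hΦ : Φ.ker = (centMod U (Cfsg.fittingHallOf M) H₀).subgroupOf U := by
      ext x
      rw [MonoidHom.mem_ker, Subgroup.mem_subgroupOf, k.mem_C_of_span h hUN hspan x.2]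
      constructor
      · intro hx
        have hall : ∀ v : ↥W₁, v ≠ 1 → χ (cj v x) = 1 := fun v hv =>
          congrArg Subtype.val (congrFun hx ⟨v, hv⟩)
        have h1 : χ (cj 1 x) = 1 := by
          have := congrArg (fun f : ↥U →* (ZMod p)ˣ => f x) hξ1
          simp only [ξ, MonoidHom.finsetProd_apply, MonoidHom.coe_comp, Function.comp_apply,
            MonoidHom.one_apply] at this
          rwa [Finset.prod_eq_single (1 : ↥W₁) (fun v _ hv => hall v hv) (by simp)] at this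
        intro w hw
        rcases eq_or_ne (⟨w, hw⟩ : ↥W₁) 1 with e | e
        · have h2 := (hχ _).mp h1
          rw [← e] at h2
          exact h2
        · exact (hχ (cj ⟨w, hw⟩ x)).mp (hall _ e)
      · intro hx
        exact funext fun w => Subtype.ext ((hχ (cj w.1 x)).mpr (hx _ w.1.2))
    rw [Subgroup.relIndex, ← hΦ, Subgroup.index_ker]
    refine (Subgroup.card_subgroup_dvd_card Φ.range).trans ?_
    rw [Nat.card_fun, ← har, Nat.card_eq_fintype_card, Fintype.card_subtype_compl,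
      Fintype.card_subtype_eq, ← Nat.card_eq_fintype_card]
  · obtain ⟨g, hg⟩ := IsCyclic.exists_generator (α := χ.range)
    obtain ⟨x, hx⟩ := g.2
    refine ⟨x, x.2, fun v hv => ?_⟩
    obtain ⟨n, hn⟩ := (mem_powers_iff_mem_zpowers).mpr (hg ⟨χ ⟨v, hv⟩, _, rfl⟩)
    refine ⟨n, (hχ ((x ^ n)⁻¹ * ⟨v, hv⟩)).mp ?_⟩
    rw [map_mul, map_inv, map_pow, hx, inv_mul_eq_one]
    exact congrArg Subtype.val hn

end Cfsg.Agent.PF
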