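import Cfsg.Agent.OddChar.PF.S09Module
import Cfsg.Agent.OddChar.PF.S09Lines
import Cfsg.Agent.OddChar.PF.S09FieldModel

/-!
# Section 9: the Galois case
-/

set_option linter.unusedSectionVars false
set_option linter.unusedVariables false
set_option linter.style.haveILetI false

universe u

namespace Cfsg.Agent.PF

open Subgroup Module
open scoped commutatorElement

/-- A field of prime power order `p ^ q` has exactly `q` automorphisms. -/
theorem s09_card_aut {p q : ℕ} [Fact p.Prime] (hq : q ≠ 0) :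
    Nat.card (GaloisField p q ≃+* GaloisField p q) = q := by
  let F := GaloisField p q
  have e : (F ≃+* F) ≃ Gal(F/ZMod p) :=
    { toFun := fun σ => AlgEquiv.ofRingEquiv (f := σ) (fun x =>
        RingHom.congr_fun (RingHom.ext_zmod (σ.toRingHom.comp (algebraMap (ZMod p) F))
          (algebraMap (ZMod p) F)) x)
      invFun := fun σ => σ.toRingEquiv
      left_inv := fun σ => RingEquiv.ext fun x => rfl
      right_inv := fun σ => AlgEquiv.ext fun x => rfl }
  rw [Nat.card_congr e, IsGalois.card_aut_eq_finrank, GaloisField.finrank p hq]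

variable {G : Type u} [Group G] [Finite G] {M W₁ U W₂ H₀ : Subgroup G}

/-- (9.7)(b) -/
theorem s9Galois (G : Type u) [Group G] [Finite G] : S9Galois G := by
  classical
  intro M W₁ U W₂ h H₀ k hgal p hp hcard
  haveI := Fact.mk hp
  obtain ⟨V, iA, iM, iF, π, ρ, hV, hsur, hadd, hzero, hact⟩ := k.exists_module h hcard
  set H := Cfsg.fittingHallOf M with hHdef
  set C := centMod U H H₀ with hC
  set q := Nat.card W₁ with hqdef
  have hq0 : q ≠ 0 := (Nat.card_pos (α := W₁)).ne'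
  let ρU : ↥U →* Module.End (ZMod p) V := ρ.comp (Subgroup.inclusion h.U_le)
  let ρW : ↥W₁ →* Module.End (ZMod p) V := ρ.comp (Subgroup.inclusion h.W₁_le)
  let c : ↥W₁ → ↥U → ↥U := fun w x =>
    ⟨w * x * (w : G)⁻¹, s09_conj_mem (h.W₁_le_normalizer_U w.2) x.2⟩
  have hρC : ∀ x : ↥U, ρU x = 1 ↔ (x : G) ∈ C := by
    intro x
    rw [hC, k.mem_C h]
    constructor
    · intro e
      refine ⟨x.2, fun y hy => ?_⟩
      have hm : (x : G) * y * (x : G)⁻¹ ∈ H := s09_conj_mem (h.M_le_normalizer_H (h.U_le x.2)) hy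
      have e1 : π ((x : G) * y * (x : G)⁻¹) = π y := by
        have := hact ⟨x, h.U_le x.2⟩ y hy
        rw [this]
        exact LinearMap.congr_fun e (π y)
      have hi : π (y * ((x : G) * y * (x : G)⁻¹)⁻¹) = 0 := by
        have e2 := hadd _ (mul_mem hy (inv_mem hm)) _ hm
        rw [inv_mul_cancel_right, e1] at e2
        exact (add_eq_right (b := π y)).mp e2.symm
      have e3 := (hzero _ (mul_mem hy (inv_mem hm))).mp hi
      have : ⁅y, (x : G)⁆ = y * ((x : G) * y * (x : G)⁻¹)⁻¹ := by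
        simp only [commutatorElement_def]; group
      exact this ▸ e3
    · rintro ⟨-, hx⟩
      refine LinearMap.ext fun v => ?_
      obtain ⟨y, hy, rfl⟩ := hsur v
      show ρ ⟨x, h.U_le x.2⟩ (π y) = π y
      rw [← hact _ y hy]
      have hm : (x : G) * y * (x : G)⁻¹ ∈ H := s09_conj_mem (h.M_le_normalizer_H (h.U_le x.2)) hy
      have e2 := hadd _ (k.H₀_le (hx y hy)) _ hm
      rw [(hzero _ (k.H₀_le (hx y hy))).mpr (hx y hy), zero_add,
        show ⁅y, (x : G)⁆ * ((x : G) * y * (x : G)⁻¹) = y by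
          simp only [commutatorElement_def]; group] at e2
      exact e2.symm
  have hcomm : ∀ x y, ρU x * ρU y = ρU y * ρU x := by
    intro x y
    have hm : ((x⁻¹ * y⁻¹ * x * y : ↥U) : G) ∈ C := by
      refine k.derived_U_le h ?_
      have e : ((x⁻¹ * y⁻¹ * x * y : ↥U) : G) = ⁅(x : G)⁻¹, (y : G)⁻¹⁆ := by
        simp [commutatorElement_def]
      rw [e]
      exact commutator_mem_commutator (inv_mem x.2) (inv_mem y.2)
    have e : x * y = y * x * (x⁻¹ * y⁻¹ * x * y) := by group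
    rw [← map_mul, ← map_mul, e, map_mul, (hρC _).mpr hm, mul_one]
  have hirr : ∀ S : Submodule (ZMod p) V, (∀ x, ∀ v ∈ S, ρU x v ∈ S) → S = ⊥ ∨ S = ⊤ := by
    intro S hS
    let N : Subgroup G :=
      { carrier := {y | y ∈ H ∧ π y ∈ S}
        one_mem' := ⟨one_mem _, by rw [(hzero 1 (one_mem _)).mpr (one_mem _)]; exact S.zero_mem⟩
        mul_mem' := fun {a b} ha hb => ⟨mul_mem ha.1 hb.1, by
          rw [hadd a ha.1 b hb.1]; exact S.add_mem ha.2 hb.2⟩
        inv_mem' := fun {a} ha => ⟨inv_mem ha.1, by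
          have e := hadd a⁻¹ (inv_mem ha.1) a ha.1
          rw [inv_mul_cancel, (hzero 1 (one_mem _)).mpr (one_mem _)] at e
          rw [eq_neg_of_add_eq_zero_left e.symm]
          exact S.neg_mem ha.2⟩ }
    have h0 : H₀ ≤ N := fun y hy => ⟨k.H₀_le hy, by
      rw [(hzero y (k.H₀_le hy)).mpr hy]; exact S.zero_mem⟩
    rcases hgal N h0 (fun y hy => hy.1) (s09_le_normalizer_of_conj fun a ha y hy =>
        ⟨s09_conj_mem (h.M_le_normalizer_H (h.U_le ha)) hy.1,
          by rw [hact ⟨a, h.U_le ha⟩ y hy.1]; exact hS ⟨a, ha⟩ _ hy.2⟩) with e | e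
    · refine Or.inl ((Submodule.eq_bot_iff S).mpr fun v hv => ?_)
      obtain ⟨y, hy, rfl⟩ := hsur v
      exact (hzero y hy).mpr (e ▸ (⟨hy, hv⟩ : y ∈ N))
    · refine Or.inr (eq_top_iff.mpr fun v _ => ?_)
      obtain ⟨y, hy, rfl⟩ := hsur v
      exact (e.ge hy).2
  have hconj : ∀ w x, ρW w * ρU x = ρU (c w x) * ρW w := by
    intro w x
    show ρ _ * ρ _ = ρ _ * ρ _
    rw [← map_mul, ← map_mul]
    congr 1
    apply Subtype.ext
    show (w : G) * x = (w : G) * x * (w : G)⁻¹ * w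
    group
  -- a point of `W₂` outside `H₀`
  obtain ⟨r, hr, -, hrc, hW₂⟩ := k.prime_structure h
  obtain ⟨x₀, hx₀, hx₀'⟩ : ∃ x ∈ W₂, x ∉ H₀ := by
    by_contra hcon
    push Not at hcon
    rw [inf_eq_left.mpr (show W₂ ≤ H₀ from hcon)] at hW₂
    have h1 := hr.two_le
    have h2 : 0 < Nat.card W₂ := Nat.card_pos
    nlinarith
  have hfix : ∀ w : ↥W₁, ρW w (π x₀) = π x₀ := by
    intro w
    have := hact ⟨w, h.W₁_le w.2⟩ x₀ (h.W₂_le_H hx₀)
    show ρ ⟨w, h.W₁_le w.2⟩ (π x₀) = _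
    rw [← this]
    congr 1
    show (w : G) * x₀ * (w : G)⁻¹ = x₀
    rw [h.typeP.selfNormalizing.2.2.2.1 w w.2 x₀ hx₀, mul_inv_cancel_right]
  obtain ⟨e, ψ₀, σ, he₀, heU, heW, hψσ, hψ1⟩ := s09_field_model hq0 ρU ρW c hcomm hirr hconj
    (π x₀) (fun e => hx₀' ((hzero x₀ (h.W₂_le_H hx₀)).mp e)) hfix hV
  let F := GaloisField p q
  haveI := Fintype.ofFinite F
  let f : G → F := fun y => e (π y)
  let ψ : G → F := fun y => if hy : y ∈ U then (ψ₀ ⟨y, hy⟩ : F) else 1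
  have hψ : ∀ y, ∀ hy : y ∈ U, ψ y = ψ₀ ⟨y, hy⟩ := fun y hy => dif_pos hy
  have hψC : ∀ y, ∀ hy : y ∈ U, ψ₀ ⟨y, hy⟩ = 1 ↔ y ∈ C := fun y hy =>
    (hψ1 _).trans (hρC _)
  have hσinj : Function.Injective σ := by
    intro w w' hww
    by_contra hne
    have hne' : ((w'⁻¹ * w : ↥W₁) : G) ≠ 1 := fun e1 =>
      hne (inv_mul_eq_one.mp (Subtype.ext e1)).symm
    refine (k.C_lt h).not_ge fun y hy => ?_
    obtain ⟨x, hx, e1⟩ := h.exists_commutator_eq (w'⁻¹ * w).2 hne' hy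
    have hz : ψ₀ (c (w'⁻¹ * w) ⟨x, hx⟩) = ψ₀ ⟨x, hx⟩ := by
      have h1 : ψ₀ (c w ⟨x, hx⟩) = ψ₀ (c w' ⟨x, hx⟩) := Units.ext (by rw [hψσ, hψσ, hww])
      have h2 : (ψ₀ (c w'⁻¹ (c w ⟨x, hx⟩)) : F) = ψ₀ (c w'⁻¹ (c w' ⟨x, hx⟩)) := by
        rw [hψσ w'⁻¹ (c w ⟨x, hx⟩), hψσ w'⁻¹ (c w' ⟨x, hx⟩), h1]
      have c1 : c w'⁻¹ (c w ⟨x, hx⟩) = c (w'⁻¹ * w) ⟨x, hx⟩ := Subtype.ext (by
        show (w' : G)⁻¹ * ((w : G) * x * (w : G)⁻¹) * ((w' : G)⁻¹)⁻¹ =
          (w' : G)⁻¹ * w * x * ((w' : G)⁻¹ * w)⁻¹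
        group)
      have c2 : c w'⁻¹ (c w' ⟨x, hx⟩) = ⟨x, hx⟩ := Subtype.ext (by
        show (w' : G)⁻¹ * ((w' : G) * x * (w' : G)⁻¹) * ((w' : G)⁻¹)⁻¹ = x
        group)
      rw [c1, c2] at h2
      exact Units.ext h2
    have hd : (⟨y, hy⟩ : ↥U) = c (w'⁻¹ * w) ⟨x, hx⟩ * ⟨x, hx⟩⁻¹ := Subtype.ext e1.symm
    exact (hψC y hy).mp (by rw [hd, map_mul, map_inv, hz, mul_inv_cancel])
  have hσbij : Function.Bijective σ := by
    haveI : Finite (F ≃+* F) := Finite.of_injective _ DFunLike.coe_injective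
    exact (Nat.bijective_iff_injective_and_card σ).mpr ⟨hσinj, (s09_card_aut hq0).symm⟩
  have hfW : ∀ w : ↥W₁, ∀ y ∈ H, f (w * y * (w : G)⁻¹) = σ w (f y) := fun w y hy => by
    show e (π _) = σ w (e (π y))
    rw [hact ⟨w, h.W₁_le w.2⟩ y hy]
    exact heW w (π y)
  have hfix_iff : ∀ z : F, (∀ w, σ w z = z) ↔ z ^ p = z := by
    intro z
    constructor
    · intro hz
      obtain ⟨w, hw⟩ := hσbij.2 (frobeniusEquiv F p)
      have := hz w
      rw [hw, frobeniusEquiv_def] at this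
      exact this
    · intro hz w
      obtain ⟨n, rfl⟩ : z ∈ (algebraMap (ZMod p) F).range := by
        have h1 : z ∈ (⊥ : Subfield F) := (Subfield.mem_bot_iff_pow_eq_self (F := F) (p := p)).mpr hz
        have h2 : (⊥ : Subfield F) ≤ (algebraMap (ZMod p) F).fieldRange := bot_le
        exact h2 h1
      exact RingHom.congr_fun (RingHom.ext_zmod ((σ w).toRingHom.comp (algebraMap (ZMod p) F))
        (algebraMap (ZMod p) F)) n
  let Ψ : ↥U →* Fˣ := ψ₀
  have hrange : C.relIndex U = Nat.card Ψ.range := by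
    have : Ψ.ker = C.subgroupOf U := by ext x; exact hψC x x.2
    rw [Subgroup.relIndex, ← this, Subgroup.index_ker]
  have hFcard : Nat.card Fˣ = p ^ q - 1 := by
    rw [Nat.card_units, GaloisField.card p q hq0]
  have hcop : (C.relIndex U).Coprime (p - 1) := by
    refine Nat.coprime_of_dvd fun l hl hlu hlp => ?_
    haveI := Fact.mk hl
    rw [hrange] at hlu
    obtain ⟨⟨z, x, hxz⟩, hz⟩ := exists_prime_orderOf_dvd_card' l hlu
    rw [← Subgroup.orderOf_coe] at hz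
    change orderOf z = l at hz
    have hzp : (z : F) ^ p = z := by
      have h1 : z ^ (p - 1) = 1 := orderOf_dvd_iff_pow_eq_one.mp (hz ▸ hlp)
      have e1 : p = p - 1 + 1 := by have := hp.two_le; omega
      calc (z : F) ^ p = (z : F) ^ (p - 1 + 1) := congrArg ((z : F) ^ ·) e1
        _ = z := by rw [pow_succ, ← Units.val_pow_eq_pow_val, h1, Units.val_one, one_mul]
    have hxC : ∀ w : ↥W₁, (w : G) * x * (w : G)⁻¹ * (x : G)⁻¹ ∈ C := by
      intro w
      have h1 : ψ₀ (c w x) = ψ₀ x := Units.ext (by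
        rw [hψσ, show ψ₀ x = z from hxz]
        exact (hfix_iff _).mpr hzp w)
      have hm : ((c w x * x⁻¹ : ↥U) : G) ∈ U := (c w x * x⁻¹).2
      exact (hψC _ hm).mp (by
        show ψ₀ (c w x * x⁻¹) = 1
        rw [map_mul, map_inv, h1, mul_inv_cancel])
    obtain ⟨d, hd, hdc⟩ := Cfsg.Lib.Coprime.exists_fixed_of_commutator_mem (A := W₁) (N := C)
      (k.W₁_normalizes_C h)
      ((h.coprime_U_W.coprime_dvd_left (Subgroup.card_dvd_of_le (centMod_le U H H₀))).symm)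
      (Or.inl (haveI := h.typeP.W₁_cyclic; inferInstance)) (k.U_normalizes_C h x.2)
      (fun a ha => hxC ⟨a, ha⟩)
    obtain ⟨w, hw, hw1⟩ := (Subgroup.bot_or_exists_ne_one W₁).resolve_left h.typeP.W₁_ne
    have hxd : (x : G) * d = 1 := h.fpf' w hw hw1 _ (mul_mem x.2 (centMod_le _ _ _ hd))
      (mem_centralizer_iff.mp hdc w hw)
    have hxC' : (x : G) ∈ C := by
      rw [eq_inv_of_mul_eq_one_left hxd]; exact inv_mem hd
    have hz1 : z = 1 := hxz.symm.trans ((hψC x x.2).mpr hxC')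
    rw [hz1, orderOf_one] at hz
    exact hl.ne_one hz.symm
  refine ⟨?_, hcop, F, inferInstance, inferInstance, f, ψ, ?_, ?_, ?_, ?_, ?_, ?_, ?_, ?_, ?_, ?_⟩
  · refine hcop.mul_dvd_of_dvd_of_dvd ?_ (by simpa using Nat.sub_dvd_pow_sub_pow p 1 q)
    rw [hrange, ← hFcard]
    exact Subgroup.card_subgroup_dvd_card _
  · rw [← Nat.card_eq_fintype_card, GaloisField.card p q hq0]
  · intro z
    obtain ⟨y, hy, hy'⟩ := hsur (e.symm z)
    exact ⟨y, hy, by show e (π y) = z; rw [hy', e.apply_symm_apply]⟩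
  · intro y hy y' hy'
    show e (π _) = e (π y) + e (π y')
    rw [hadd y hy y' hy', map_add]
  · intro y hy
    rw [← hzero y hy]
    exact e.map_eq_zero_iff
  · intro x hx
    rw [hψ x hx]
    refine ⟨Units.ne_zero _, fun y hy => ?_⟩
    show e (π _) = _ * e (π y)
    rw [hact ⟨x, h.U_le hx⟩ y hy]
    exact heU ⟨x, hx⟩ (π y)
  · intro x hx x' hx'
    rw [hψ x hx, hψ x' hx', hψ _ (mul_mem hx hx'), ← Units.val_mul, ← map_mul]
    rfl
  · intro x hx
    rw [hψ x hx, Units.val_eq_one]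
    exact hψC x hx
  · intro y hy
    rw [← hfix_iff]
    constructor
    · intro hy' w
      obtain ⟨a, ha, b, hb, rfl⟩ := (Cfsg.Lib.Coprime.mem_sup_of_le_normalizer'
        ((h.W₂_le_H.trans h.H_le).trans k.normal)).mp (by rwa [sup_comm] : y ∈ H₀ ⊔ W₂)
      rw [← hfW w _ hy]
      show e (π _) = e (π _)
      congr 1
      rw [show (w : G) * (a * b) * (w : G)⁻¹ = a * ((w : G) * b * (w : G)⁻¹) by
        calc (w : G) * (a * b) * (w : G)⁻¹ = (w : G) * a * b * (w : G)⁻¹ := by group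
          _ = a * (w : G) * b * (w : G)⁻¹ := by rw [h.typeP.selfNormalizing.2.2.2.1 w w.2 a ha]
          _ = _ := by group]
      have hb' : (w : G) * b * (w : G)⁻¹ ∈ H₀ := s09_conj_mem (k.normal (h.W₁_le w.2)) hb
      rw [hadd a (h.W₂_le_H ha) _ (k.H₀_le hb'), hadd a (h.W₂_le_H ha) _ (k.H₀_le hb),
        (hzero _ (k.H₀_le hb')).mpr hb', (hzero _ (k.H₀_le hb)).mpr hb]
    · intro hy'
      obtain ⟨d, hd, hdc⟩ := Cfsg.Lib.Coprime.exists_fixed_of_commutator_mem (A := W₁) (N := H₀)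
        (h.W₁_le.trans k.normal)
        (((h.coprime_H_UW.coprime_dvd_right (dvd_mul_left _ _)).symm).coprime_dvd_right
          (Subgroup.card_dvd_of_le k.H₀_le))
        (Or.inr (Cfsg.Lib.Coprime.isSolvable_of_le k.H₀_le h.solvable_H))
        (k.normal (h.H_le hy)) (fun w hw => by
          have hm : w * y * w⁻¹ ∈ H := s09_conj_mem (h.M_le_normalizer_H (h.W₁_le hw)) hy
          have h1 : π (w * y * w⁻¹) = π y := e.injective ((hfW ⟨w, hw⟩ y hy).trans (hy' ⟨w, hw⟩))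
          refine (hzero _ (mul_mem hm (inv_mem hy))).mp ?_
          have h2 := hadd _ (mul_mem hm (inv_mem hy)) _ hy
          rw [inv_mul_cancel_right, h1] at h2
          exact (add_eq_right (b := π y)).mp h2.symm)
      have h1 : y * d ∈ W₂ := h.H_inf_centralizer.le ⟨mul_mem hy (k.H₀_le hd), hdc⟩
      have e1 : y = y * d * d⁻¹ := by group
      rw [e1]
      exact mul_mem_sup h1 (inv_mem hd)
  · intro w hw
    refine ⟨σ ⟨w, hw⟩, fun y hy => hfW ⟨w, hw⟩ y hy, fun x hx => ?_⟩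
    rw [hψ x hx, hψ _ (s09_conj_mem (h.W₁_le_normalizer_U hw) hx)]
    exact hψσ ⟨w, hw⟩ ⟨x, hx⟩
  · intro τ
    obtain ⟨w, rfl⟩ := hσbij.2 τ
    exact ⟨w, w.2, fun y hy => hfW w y hy⟩

end Cfsg.Agent.PF
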