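import Cfsg.Agent.OddChar.PF.Interface
import Cfsg.Agent.OddLocal.Partition

/-!
# The partition of the non-identity elements
-/

namespace Cfsg.Agent.PF

universe u

variable {G : Type u} [Group G] [Finite G]

/-- Statement 1379. -/
theorem p1379 (hG : Cfsg.IsMinSimpleOddOrder G) : P1379 G :=
  Cfsg.Lib.OddLocal.RankTwoMax.partition_theorem hG

end Cfsg.Agent.PF
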