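import Cfsg.Prelude.Def_OddOrderLocal

/-!
# Type I with the core condition stated inside `M_F`

`Cfsg.IsOfTypeI` asks, in its third alternative, that `O_{p'}(M)` be cyclic.  The local analysis
gives this only for `O_{p'}(M_F)`; that `O_{p'}(M)` adds nothing to it follows once a maximal
subgroup of Type I is known to be a Frobenius group.  So the development between the two works
with `IsTypeI'` and with the sets built on it; `NoGap` is the bridge back to the frozen notions.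
-/

universe u

namespace Cfsg.Agent.PF

variable {G : Type u} [Group G]

/-- Type I, the third alternative asking `O_{p'}(M_F)` to be cyclic. -/
def IsTypeI' (M : Subgroup G) : Prop :=
  Cfsg.IsOfTypeF M ∧
  ( Cfsg.IsTISubset (Cfsg.fittingHallOf M : Set G) ∨
    (IsMulCommutative (Cfsg.fittingHallOf M) ∧ Cfsg.RankLE 2 (Cfsg.fittingHallOf M) ∧
      ¬ Cfsg.RankLE 1 (Cfsg.fittingHallOf M)) ∨
    ((∀ p : ℕ, p.Prime → p ∣ Nat.card (Cfsg.fittingHallOf M) →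
        Monoid.exponent (M ⧸ Cfsg.fittingHall M) ∣ p - 1) ∧
      ∃ p : ℕ, p.Prime ∧ p ∣ Nat.card (Cfsg.fittingHallOf M) ∧
        IsCyclic (Cfsg.pPrimeCore p ↥(Cfsg.fittingHallOf M))) )

open scoped Classical in
/-- `A(M)` on `IsTypeI'`. -/
noncomputable def typeA' (M : Subgroup G) : Set G :=
  if IsTypeI' M then
    {a | a ∈ M ∧ a ≠ 1 ∧ ∃ x ∈ Cfsg.fittingHallOf M, x ≠ 1 ∧ a * x = x * a}
  else
    {a | a ∈ ⁅M, M⁆ ∧ a ≠ 1 ∧ ∃ x ∈ Cfsg.typeCore M, x ≠ 1 ∧ a * x = x * a}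

/-- `A₀(M)` on `IsTypeI'`. -/
noncomputable def typeA0' (M : Subgroup G) : Set G :=
  typeA' M ∪ {v | ¬ IsTypeI' M ∧ ∃ W₁ U W₂ : Subgroup G, Cfsg.IsTypePWith M W₁ U W₂ ∧
    ∃ m ∈ M, ∃ w ∈ W₁ ⊔ W₂, w ∉ W₁ ∧ w ∉ W₂ ∧ v = m * w * m⁻¹}

/-- Supporting subgroups on `IsTypeI'`. -/
def Supports' (L M : Subgroup G) : Prop :=
  IsCoatom L ∧ ∃ x ∈ typeA0' M, ¬ Subgroup.centralizer ({x} : Set G) ≤ M ∧
    Subgroup.centralizer ({x} : Set G) ≤ L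

/-- The two notions of Type I agree on the maximal subgroups of `G`. -/
def NoGap (G : Type u) [Group G] : Prop :=
  ∀ M : Subgroup G, IsCoatom M → (IsTypeI' M ↔ Cfsg.IsOfTypeI M)

theorem NoGap.typeA_eq (h : NoGap G) {M : Subgroup G} (hM : IsCoatom M) :
    typeA' M = Cfsg.typeA M := by
  unfold typeA' Cfsg.typeA
  by_cases hI : Cfsg.IsOfTypeI M
  · rw [if_pos ((h M hM).mpr hI), if_pos hI]
  · rw [if_neg (fun h' => hI ((h M hM).mp h')), if_neg hI]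

theorem NoGap.typeA0_eq (h : NoGap G) {M : Subgroup G} (hM : IsCoatom M) :
    typeA0' M = Cfsg.typeA0 M := by
  unfold typeA0' Cfsg.typeA0
  rw [h.typeA_eq hM, propext (h M hM)]

theorem NoGap.supports_iff (h : NoGap G) {L M : Subgroup G} (hM : IsCoatom M) :
    Supports' L M ↔ Cfsg.Supports L M := by
  unfold Supports' Cfsg.Supports
  rw [h.typeA0_eq hM]

variable (G) [Finite G]

/-- The weak form of statement 1380. -/
def P1380' : Prop :=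
  ∀ (M : Subgroup G), IsCoatom M → ∀ (K U : Subgroup G), Cfsg.IsSigmaDecomposition M K U →
    (IsTypeI' M ↔ (K = ⊥ ∧ U ≠ ⊥))

/-- The weak form of statement 1385. -/
def P1385' : Prop :=
  (∀ M : Subgroup G, IsCoatom M → IsTypeI' M) ∨
    ∃ W₁ W₂ S T : Subgroup G, Cfsg.IsSelfNormalizingCyclic W₁ W₂ ∧ IsCoatom S ∧ IsCoatom T ∧
      Cfsg.IsComplIn ⁅S, S⁆ W₁ S ∧ Cfsg.IsComplIn ⁅T, T⁆ W₂ T ∧ S ⊓ T = W₁ ⊔ W₂ ∧
      (Cfsg.IsOfTypeII S ∨ Cfsg.IsOfTypeII T) ∧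
      (Cfsg.IsOfTypeII S ∨ Cfsg.IsOfTypeIII S ∨ Cfsg.IsOfTypeIV S ∨ Cfsg.IsOfTypeV S) ∧
      (Cfsg.IsOfTypeII T ∨ Cfsg.IsOfTypeIII T ∨ Cfsg.IsOfTypeIV T ∨ Cfsg.IsOfTypeV T) ∧
      ∀ M : Subgroup G, IsCoatom M → IsTypeI' M ∨
        ∃ g : G, M = S.map (MulAut.conj g).toMonoidHom ∨ M = T.map (MulAut.conj g).toMonoidHom

/-- The weak form of statement 1390. -/
def P1390' : Prop :=
  ∀ (M : Subgroup G), IsCoatom M → ∀ (U : Subgroup G),
    ((IsTypeI' M ∧ Cfsg.IsComplIn (Cfsg.fittingHallOf M) U M) ∨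
      (Cfsg.IsOfTypeII M ∧ Cfsg.IsComplIn (Cfsg.fittingHallOf M) U ⁅M, M⁆)) →
    (∀ (p : ℕ), p.Prime → ∀ P : Sylow p U, IsMulCommutative (P : Subgroup U) ∧ Cfsg.PRankLE p 2 (P : Subgroup U)) ∧
      (∀ X : Set G, X ⊆ (U : Set G) \ {1} → X.Nonempty →
        Cfsg.fittingHallOf M ⊓ Subgroup.centralizer X ≠ ⊥ →
        Subgroup.centralizer X ≤ M ∧
          ∀ L : Subgroup G, IsCoatom L → Subgroup.centralizer X ≤ L → L = M) ∧
      Cfsg.IsTISubset (typeA' M \ Cfsg.typeA1 M)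

/-- The weak form of statement 1391. -/
def P1391' : Prop :=
  ∀ (M : Subgroup G), IsCoatom M → ∀ (X : Set G), (X = typeA' M ∨ X = typeA0' M) →
    (∀ x ∈ X, ∀ g : G, g * x * g⁻¹ ∈ X → ∃ m ∈ M, m * x * m⁻¹ = g * x * g⁻¹) ∧
      (∀ x ∈ X, ¬ Subgroup.centralizer ({x} : Set G) ≤ M → x ∈ Cfsg.typeA1 M ∧
        ∃! L : Subgroup G, IsCoatom L ∧ Subgroup.centralizer ({x} : Set G) ≤ L) ∧
      ∀ x ∈ X, ¬ Subgroup.centralizer ({x} : Set G) ≤ M →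
        ∀ L : Subgroup G, IsCoatom L → Subgroup.centralizer ({x} : Set G) ≤ L →
        Cfsg.IsComplIn (Cfsg.fittingHallOf L) (M ⊓ L) L ∧
        Subgroup.centralizer ({x} : Set G) ≤ Subgroup.normalizer
          ((Cfsg.fittingHallOf L ⊓ Subgroup.centralizer ({x} : Set G) : Subgroup G) : Set G) ∧
        Cfsg.IsComplIn (Cfsg.fittingHallOf L ⊓ Subgroup.centralizer ({x} : Set G))
          (M ⊓ Subgroup.centralizer ({x} : Set G)) (Subgroup.centralizer ({x} : Set G)) ∧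
        (∀ y ∈ X, (Nat.card (Cfsg.fittingHallOf L)).Coprime
          (Nat.card ↥(M ⊓ Subgroup.centralizer ({y} : Set G)))) ∧
        (x ∈ typeA' L ∧ x ∉ Cfsg.typeA1 L) ∧
        (IsTypeI' L ∨ Cfsg.IsOfTypeII L) ∧
        (Cfsg.IsOfTypeII L → ∃ E : Subgroup ↥M, Cfsg.IsFrobeniusComplement E ∧
          Cfsg.frobeniusKernel E = ((Cfsg.fittingHall ↥M : Subgroup ↥M) : Set ↥M))

/-- The weak form of statement 1440: of the equality `M' = F(M)` only the inclusion is kept. -/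
def P1440' : Prop :=
  ∀ (M : Subgroup G), IsCoatom M → ∀ (K U : Subgroup G), Cfsg.IsSigmaDecomposition M K U →
    ∀ g : G, g ∉ M →
    Cfsg.fittingOf M ⊓ (Cfsg.fittingOf M).map (MulAut.conj g).toMonoidHom ≠ ⊥ →
    (Cfsg.fittingOf M ⊓ (Cfsg.fittingOf M).map (MulAut.conj g).toMonoidHom ≤ Cfsg.fittingHallOf M ∧
        IsCyclic ↥(Cfsg.fittingOf M ⊓ (Cfsg.fittingOf M).map (MulAut.conj g).toMonoidHom)) ∧
      (⁅M, M⁆ ≤ Cfsg.fittingOf M ∧ Cfsg.fittingOf M =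
        Cfsg.sigmaCore M ⊔ Cfsg.piCoreOf {q | q.Prime ∧ q ∉ Cfsg.sigma M} (Cfsg.fittingOf M)) ∧
      ((K = ⊥ ∧ IsMulCommutative (Cfsg.fittingHallOf M) ∧ Cfsg.RankLE 2 (Cfsg.fittingHallOf M) ∧
          ¬ Cfsg.RankLE 1 (Cfsg.fittingHallOf M)) ∨
       (∃ p : ℕ, p.Prime ∧
          Nat.card ↥(Cfsg.fittingOf M ⊓ (Cfsg.fittingOf M).map (MulAut.conj g).toMonoidHom) = p ∧
          p ∈ Cfsg.sigma M ∧ p ∉ Cfsg.beta M ∧
          ¬ IsMulCommutative (Cfsg.pCore p ↥(Cfsg.fittingHallOf M)) ∧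
          IsCyclic (Cfsg.pPrimeCore p ↥(Cfsg.fittingHallOf M)) ∧
          ∀ q : ℕ, q.Prime → q ∣ Nat.card (Cfsg.fittingHallOf M) →
            Monoid.exponent (↥M ⧸ Cfsg.fittingHall ↥M) ∣ q - 1) ∨
       (∃ p : ℕ, p.Prime ∧
          Nat.card ↥(Cfsg.fittingOf M ⊓ (Cfsg.fittingOf M).map (MulAut.conj g).toMonoidHom) = p ∧
          p ∈ Cfsg.sigma M ∧ p ∉ Cfsg.beta M ∧
          IsCyclic (Cfsg.pPrimeCore p ↥(Cfsg.fittingHallOf M)) ∧
          Nat.card (Cfsg.pCore p ↥(Cfsg.fittingHallOf M)) = p ^ 3 ∧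
          ¬ IsMulCommutative (Cfsg.pCore p ↥(Cfsg.fittingHallOf M)) ∧ K ≠ ⊥ ∧ U = ⊥ ∧
          (Cfsg.fittingHallOf M).relIndex M ∣ p + 1))

/-- The weak form of statement 1540; with `P1440'` it gives `NoGap`. -/
def P1540' : Prop :=
  ∀ (M : Subgroup G), IsCoatom M → IsTypeI' M →
    ∀ x ∈ Cfsg.fittingHallOf M, x ≠ 1 →
      M ⊓ Subgroup.centralizer ({x} : Set G) ≤ Cfsg.fittingHallOf M

end Cfsg.Agent.PF
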