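import Cfsg.Agent.OddChar.PF.TypeI
import Cfsg.Agent.OddChar.PF.Interface
import Cfsg.Agent.OddLocal.TypeTheorems

/-!
# The types in terms of `K` and `U`
-/

universe u

namespace Cfsg.Agent.PF

variable {G : Type u} [Group G] [Finite G]

theorem p1380' (hG : Cfsg.IsMinSimpleOddOrder G) : P1380' G := fun _ hM _ _ hd =>
  Cfsg.Lib.OddLocal.RankTwoMax.typeI'_iff hG hM hd

theorem p1381 (hG : Cfsg.IsMinSimpleOddOrder G) : P1381 G := fun _ hM _ _ hd =>
  Cfsg.Lib.OddLocal.RankTwoMax.typeII_iff hG hM hd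

theorem p1382 (hG : Cfsg.IsMinSimpleOddOrder G) : P1382 G := fun _ hM _ _ hd =>
  Cfsg.Lib.OddLocal.RankTwoMax.typeIII_IV_iff hG hM hd

theorem p1383 (hG : Cfsg.IsMinSimpleOddOrder G) : P1383 G := fun _ hM _ _ hd =>
  Cfsg.Lib.OddLocal.RankTwoMax.typeV_iff hG hM hd

end Cfsg.Agent.PF
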