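import Cfsg.Agent.OddChar.PF.TypeI
import Cfsg.Agent.OddChar.PF.Interface
import Cfsg.Agent.OddLocal.TypeClasses

/-!
# The classes of maximal subgroups
-/

universe u

namespace Cfsg.Agent.PF

variable {G : Type u} [Group G] [Finite G]

theorem p1385' (hG : Cfsg.IsMinSimpleOddOrder G) : P1385' G :=
  Cfsg.Lib.OddLocal.RankTwoMax.classes_theorem hG

theorem p1389 (hG : Cfsg.IsMinSimpleOddOrder G) : P1389 G := fun _ hM =>
  Cfsg.Lib.OddLocal.RankTwoMax.core_theorem hG hM

end Cfsg.Agent.PF
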