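import Cfsg.Agent.OddChar.PF.Sec08Types
import Cfsg.Agent.OddLocal.SigmaHatTI

/-!
# Complements of the subgroups of Type I and II
-/

universe u

namespace Cfsg.Agent.PF

open Cfsg.Lib.OddLocal.RankTwoMax

variable {G : Type u} [Group G] [Finite G]

theorem p1362 (hG : Cfsg.IsMinSimpleOddOrder G) : P1362 G := fun _ hM _ _ hd =>
  sigmaA_diff_ti hG hM hd

theorem p1390' (hG : Cfsg.IsMinSimpleOddOrder G) : P1390' G := fun _ hM _ hU =>
  complement_theorem hG hM hU

/-- Statement 1390 itself: its hypothesis makes the two kinds of `A(M)` agree. -/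
theorem p1390 (hG : Cfsg.IsMinSimpleOddOrder G) : P1390 G := fun M hM U hU => by
  have h1 : Cfsg.typeA M = typeA' M := by
    unfold Cfsg.typeA typeA'
    rcases hU with ⟨hI, -⟩ | ⟨hII, -⟩
    · rw [if_pos hI, if_pos (isTypeI'_of hI)]
    · have hn : ¬ IsTypeI' M := fun hI => by
        obtain ⟨K, U₀, hd⟩ := Cfsg.Lib.OddLocal.RankTwoMax.exists_decomposition hG hM
        exact ((typeII_iff hG hM hd).mp hII).1 ((typeI'_iff hG hM hd).mp hI).1
      rw [if_neg hn, if_neg fun h => hn (isTypeI'_of h)]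
  rw [h1]
  exact complement_theorem hG hM (hU.imp (fun h => ⟨isTypeI'_of h.1, h.2⟩) id)

end Cfsg.Agent.PF
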