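import Cfsg.Agent.OddChar.PF.TypeI
import Cfsg.Agent.OddLocal.Embedding

/-!
# The tame embedding of `A(M)` and `A₀(M)`, weak form
-/

namespace Cfsg.Agent.PF

universe u

variable {G : Type u} [Group G] [Finite G]

/-- The weak form of statement 1391. -/
theorem p1391' (hG : Cfsg.IsMinSimpleOddOrder G) : P1391' G :=
  Cfsg.Lib.OddLocal.RankTwoMax.embedding_theorem hG

end Cfsg.Agent.PF
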