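import Cfsg.Agent.OddChar.PF.Sec08Support
import Cfsg.Agent.OddChar.PF.Local1379
import Cfsg.Agent.OddChar.PF.Local1380
import Cfsg.Agent.OddChar.PF.Local1385
import Cfsg.Agent.OddChar.PF.Local1390
import Cfsg.Agent.OddChar.PF.Local1391
import Cfsg.Agent.OddLocal.FittingDerived
import Cfsg.Agent.OddLocal.FittingStructure

/-!
# Section 8 without hypotheses
-/

set_option linter.unusedSectionVars false
set_option autoImplicit false

universe u

namespace Cfsg.Agent.PF

variable {G : Type u} [Group G] [Finite G]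

theorem typeFacts (hG : Cfsg.IsMinSimpleOddOrder G) : TypeFacts G where
  p1355 _ hM := Cfsg.Lib.OddLocal.RankTwoMax.fittingHall_theorem hG hM
  p1357 _ hM _ _ hd hne := Cfsg.Lib.OddLocal.RankTwoMax.nonNilpotent_summary hG hM hd hne
  p1380 := p1380' hG
  p1381 := p1381 hG
  p1382 := p1382 hG
  p1383 := p1383 hG

theorem supportFacts (hG : Cfsg.IsMinSimpleOddOrder G) : SupportFacts G where
  types := typeFacts hG
  p1379 := p1379 hG
  p1390 := p1390' hG
  p1391 := p1391' hG

theorem p1537' (hG : Cfsg.IsMinSimpleOddOrder G) : P1537' G :=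
  p1537_of hG (typeFacts hG) (p1391' hG)

theorem p1538' (hG : Cfsg.IsMinSimpleOddOrder G) : P1538' G :=
  p1538_of hG (typeFacts hG) (p1391' hG)

theorem p1539' (hG : Cfsg.IsMinSimpleOddOrder G) : P1539' G :=
  p1539_of hG (supportFacts hG)

end Cfsg.Agent.PF
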