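import Cfsg.Agent.OddChar.PF.S13Norm
import Cfsg.Agent.OddChar.PF.Sec08Facts

/-!
# Section 13: the group-theoretic facts about one of the paired maximal subgroups

For `M` of type II or III with data `W₁, U, W₂` we write `P = M_F`, `C = C_U(P)`, `H = P C`.
-/

set_option linter.unusedSectionVars false
set_option linter.unusedVariables false
set_option linter.style.haveILetI false
set_option autoImplicit false

namespace Cfsg.Agent.PF

open Subgroup
open scoped commutatorElement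

universe u

variable {G : Type u} [Group G] [Finite G]

/-- `C_U(M_F)`. -/
def cent13 (M U : Subgroup G) : Subgroup G :=
  U ⊓ centralizer (Cfsg.fittingHallOf M : Set G)

/-- `M_F C_U(M_F)`. -/
def core13 (M U : Subgroup G) : Subgroup G :=
  Cfsg.fittingHallOf M ⊔ cent13 M U

/-- What is used about one side. -/
structure Side13 (M W₁ U W₂ : Subgroup G) : Prop where
  nine : Hyp9 M W₁ U W₂
  kernel : Kernel9 M U ⊥
  type : Cfsg.IsOfTypeII M ∨ Cfsg.IsOfTypeIII M
  p_prime : (Nat.card W₂).Prime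
  elem : Cfsg.IsElementaryAbelian (Nat.card W₂) (Cfsg.fittingHallOf M)
  card_H : Nat.card (Cfsg.fittingHallOf M) = Nat.card W₂ ^ Nat.card W₁
  ti : Cfsg.IsTISubset (Cfsg.typeA0 M)
  norm : normalizer (Cfsg.typeA0 M) = M
  notI : ¬ IsTypeI' M
  faith_III : Cfsg.IsOfTypeIII M → cent13 M U = ⊥

theorem side13 (hG : Cfsg.IsMinSimpleOddOrder G) (hF : Facts13 G) {S T W₁ W₂ U V : Subgroup G}
    (h : Hyp13 S T W₁ W₂ U V) : Side13 S W₁ U W₂ := by
  obtain ⟨ht, hq, hp, -, hel, hc, hTI, hN⟩ := structure_S hG hF h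
  have h9 := hyp9_of h.maxS h.dataS (ht.imp id Or.inl)
  exact ⟨h9, kernel9_bot hF.s9ex hF.s9 h9 hp hc, ht, hp, hel, hc, hTI, hN,
    not_typeI_of_P hG hF.types h.maxS h.typeS,
    fun hIII => (hF.s11 S W₁ U W₂ h.maxS (Or.inl hIII) h.dataS).U_faithful⟩

/-- A group normalised by a fixed-point-free group of prime order `q`. -/
theorem card_modEq_one_of_fpf {D W : Subgroup G} (hn : W ≤ normalizer (D : Set G)) {q : ℕ}
    (hq : q.Prime) (hW : Nat.card W = q) (hfpf : ∀ w ∈ W, w ≠ 1 → ∀ x ∈ D, w * x = x * w → x = 1) :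
    Nat.card D ≡ 1 [MOD q] := by
  haveI : Fact q.Prime := ⟨hq⟩
  letI : MulAction W D :=
    { smul := fun w x => ⟨w * x * (w : G)⁻¹, s09_conj_mem (hn w.2) x.2⟩
      one_smul := fun x => Subtype.ext (show ((1 : W) : G) * x * ((1 : W) : G)⁻¹ = x by simp)
      mul_smul := fun a b x => Subtype.ext (show ((a * b : W) : G) * x * ((a * b : W) : G)⁻¹ =
        a * (b * x * (b : G)⁻¹) * (a : G)⁻¹ by simp [mul_assoc]) }
  refine ((IsPGroup.of_card (p := q) (n := 1) (by rw [hW, pow_one])).card_modEq_card_fixedPoints D).trans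
    ?_
  obtain ⟨w, hw, hw1⟩ := (Subgroup.bot_or_exists_ne_one W).resolve_left fun e => by
    rw [e, Subgroup.card_bot] at hW
    exact hq.one_lt.ne hW
  have e : MulAction.fixedPoints W D = {1} := by
    ext x
    constructor
    · intro hx
      have h1 : w * (x : G) * w⁻¹ = x := congrArg Subtype.val (hx ⟨w, hw⟩)
      exact Subtype.ext (hfpf w hw hw1 x x.2 (mul_inv_eq_iff_eq_mul.mp h1))
    · rintro rfl
      exact fun v => Subtype.ext (show (v : G) * ((1 : D) : G) * (v : G)⁻¹ = ((1 : D) : G) by simp)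
  rw [e]
  simp [Nat.ModEq.refl]

theorem two_mul_add_one_le {n q : ℕ} (hq : Odd q) (h : n ≡ 1 [MOD q]) (hn : Odd n) (h1 : 1 < n) :
    2 * q + 1 ≤ n := by
  obtain ⟨k, hk⟩ := (Nat.modEq_iff_dvd' h1.le).mp h.symm
  rcases Nat.lt_or_ge k 2 with hk2 | hk2
  · obtain ⟨a, ha⟩ := hn
    obtain ⟨b, hb⟩ := hq
    interval_cases k <;> omega
  · have : q * 2 ≤ q * k := Nat.mul_le_mul_left _ hk2
    omega

namespace Side13

variable {M W₁ U W₂ : Subgroup G} (s : Side13 M W₁ U W₂)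
include s

theorem P_le : Cfsg.fittingHallOf M ≤ M := s.nine.H_le

theorem P_comm : ∀ a ∈ Cfsg.fittingHallOf M, ∀ b ∈ Cfsg.fittingHallOf M, a * b = b * a :=
  fun a ha b hb => congrArg Subtype.val (s.elem.1.is_comm.comm ⟨a, ha⟩ ⟨b, hb⟩)

theorem centMod_eq : centMod U (Cfsg.fittingHallOf M) ⊥ = cent13 M U := by
  have hU : U ≤ normalizer (Cfsg.fittingHallOf M : Set G) :=
    s.nine.U_le.trans s.nine.M_le_normalizer_H
  have h₀ : U ≤ normalizer ((⊥ : Subgroup G) : Set G) := s.nine.U_le.trans s.kernel.normal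
  ext x
  rw [mem_centMod hU h₀, cent13, Subgroup.mem_inf, mem_centralizer_iff]
  refine and_congr_right fun _ => forall₂_congr fun h hh => ?_
  rw [mem_bot, commutatorElement_eq_one_iff_mul_comm]

theorem C_le : cent13 M U ≤ U := inf_le_left

theorem C_centralizes {c x : G} (hc : c ∈ cent13 M U) (hx : x ∈ Cfsg.fittingHallOf M) :
    x * c = c * x :=
  mem_centralizer_iff.mp hc.2 x hx

/-- `U` is abelian. -/
theorem U_comm : ∀ a ∈ U, ∀ b ∈ U, a * b = b * a := by
  obtain ⟨U', W₁', W₂', hQ, hU'⟩ : ∃ U' W₁' W₂' : Subgroup G,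
      Cfsg.IsTypePWith M W₁' U' W₂' ∧ IsMulCommutative U' := by
    rcases s.type with ⟨a, b, c, h, -, -, -, h1, -⟩ | ⟨a, b, c, h, -, -, -, h1, -⟩ <;>
      exact ⟨b, a, c, h, h1⟩
  intro a ha b hb
  have hn : ⁅M, M⁆ ≤ normalizer (Cfsg.fittingHallOf M : Set G) :=
    (Subgroup.commutator_le_self M).trans s.nine.M_le_normalizer_H
  haveI hN : ((Cfsg.fittingHallOf M).subgroupOf ⁅M, M⁆).Normal :=
    (normal_subgroupOf_iff_le_normalizer s.nine.H_le_derived).mpr hn
  have hrep : ∀ z : ↥⁅M, M⁆, ∃ v : ↥⁅M, M⁆, (v : G) ∈ U' ∧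
      (z : ↥⁅M, M⁆ ⧸ (Cfsg.fittingHallOf M).subgroupOf ⁅M, M⁆) = v := fun z => by
    obtain ⟨x, hx, v, hv, he⟩ := hQ.U_compl.2.2.2 z z.2
    refine ⟨⟨v, hQ.U_compl.2.1 hv⟩, hv, QuotientGroup.eq.mpr ?_⟩
    rw [Subgroup.mem_subgroupOf]
    show (z : G)⁻¹ * v ∈ Cfsg.fittingHallOf M
    rw [he, mul_inv_rev, mul_assoc]
    have hvn := hn (hQ.U_compl.2.1 hv)
    exact s09_conj_mem' hvn (inv_mem hx) |> fun h => by simpa [mul_assoc] using h
  set A : ↥⁅M, M⁆ := ⟨a, s.nine.U_le_derived ha⟩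
  set B : ↥⁅M, M⁆ := ⟨b, s.nine.U_le_derived hb⟩
  obtain ⟨u, hu, eA⟩ := hrep A
  obtain ⟨v, hv, eB⟩ := hrep B
  have huv : u * v = v * u :=
    Subtype.ext (show (u : G) * v = v * u from
      congrArg Subtype.val (hU'.is_comm.comm ⟨(u : G), hu⟩ ⟨(v : G), hv⟩))
  have he : ((B * A : ↥⁅M, M⁆) : ↥⁅M, M⁆ ⧸ (Cfsg.fittingHallOf M).subgroupOf ⁅M, M⁆) =
      ((A * B : ↥⁅M, M⁆) : ↥⁅M, M⁆ ⧸ _) := by
    rw [QuotientGroup.mk_mul, QuotientGroup.mk_mul, eA, eB, ← QuotientGroup.mk_mul,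
      ← QuotientGroup.mk_mul, huv]
  have hmem := QuotientGroup.eq.mp he
  rw [Subgroup.mem_subgroupOf] at hmem
  have h2 : (b * a)⁻¹ * (a * b) ∈ Cfsg.fittingHallOf M ⊓ U :=
    Subgroup.mem_inf.mpr ⟨hmem, U.mul_mem (U.inv_mem (U.mul_mem hb ha)) (U.mul_mem ha hb)⟩
  rw [s.nine.typeP.U_compl.2.2.1, mem_bot, inv_mul_eq_one] at h2
  exact h2.symm

theorem core_le_centralizer : core13 M U ≤ centralizer (Cfsg.fittingHallOf M : Set G) :=
  sup_le (fun x hx => mem_centralizer_iff.mpr fun y hy => s.P_comm y hy x hx) inf_le_right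

theorem core_comm : ∀ a ∈ core13 M U, ∀ b ∈ core13 M U, a * b = b * a := by
  have h : core13 M U ≤ centralizer (core13 M U : Set G) := by
    refine sup_le (fun x hx => mem_centralizer_iff.mpr fun y hy => ?_) ?_
    · exact ((mem_centralizer_iff.mp (s.core_le_centralizer hy)) x hx).symm
    · rw [← le_centralizer_iff]
      refine sup_le (fun x hx => mem_centralizer_iff.mpr fun y hy => ?_)
        (fun x hx => mem_centralizer_iff.mpr fun y hy => s.U_comm y hy.1 x hx.1)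
      exact (s.C_centralizes hy hx).symm
  exact fun a ha b hb => (mem_centralizer_iff.mp (h hb)) a ha

theorem core_le_derived : core13 M U ≤ ⁅M, M⁆ :=
  sup_le s.nine.H_le_derived (inf_le_left.trans s.nine.U_le_derived)

theorem core_le : core13 M U ≤ M := s.core_le_derived.trans (Subgroup.commutator_le_self M)

theorem core_eq : core13 M U = ⁅M, M⁆ ⊓ centralizer (Cfsg.fittingHallOf M : Set G) := by
  refine le_antisymm (le_inf s.core_le_derived s.core_le_centralizer) fun z hz => ?_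
  obtain ⟨a, ha, u, hu, rfl⟩ := s.nine.typeP.U_compl.2.2.2 z hz.1
  refine mul_mem_sup ha ⟨hu, ?_⟩
  have hac : a ∈ centralizer (Cfsg.fittingHallOf M : Set G) :=
    mem_centralizer_iff.mpr fun y hy => s.P_comm y hy a ha
  simpa using mul_mem (inv_mem hac) hz.2

theorem core_normal : M ≤ normalizer (core13 M U : Set G) := by
  refine s09_le_normalizer_of_conj fun m hm x hx => ?_
  rw [s.core_eq] at hx ⊢
  refine ⟨s09_conj_mem (s.nine.M_le_normalizer_derived hm) hx.1,
    mem_centralizer_iff.mpr fun y hy => ?_⟩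
  have hy' : m⁻¹ * y * m ∈ Cfsg.fittingHallOf M := s09_conj_mem' (s.nine.M_le_normalizer_H hm) hy
  have h1 := mem_centralizer_iff.mp hx.2 _ hy'
  calc y * (m * x * m⁻¹) = m * (m⁻¹ * y * m * x) * m⁻¹ := by group
    _ = m * (x * (m⁻¹ * y * m)) * m⁻¹ := by rw [h1]
    _ = m * x * m⁻¹ * y := by group

theorem C_inf : Cfsg.fittingHallOf M ⊓ cent13 M U = ⊥ :=
  le_bot_iff.mp ((inf_le_inf_left _ s.C_le).trans s.nine.typeP.U_compl.2.2.1.le)

theorem card_core : Nat.card (core13 M U) =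
    Nat.card W₂ ^ Nat.card W₁ * Nat.card (cent13 M U) := by
  rw [core13, Cfsg.Lib.Coprime.card_sup_of_inf_eq_bot
    (s.C_le.trans (s.nine.U_le.trans s.nine.M_le_normalizer_H)) s.C_inf, s.card_H]

theorem card_U : Nat.card (cent13 M U) * (cent13 M U).relIndex U = Nat.card U := by
  rw [Subgroup.relIndex, ← Nat.card_congr (Subgroup.subgroupOfEquivOfLe s.C_le).toEquiv,
    Subgroup.card_mul_index]

theorem card_M : Nat.card M = Nat.card (core13 M U) * ((cent13 M U).relIndex U * Nat.card W₁) := by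
  rw [s.nine.card_eq, s.nine.card_derived, s.card_core, s.card_H, ← s.card_U]
  ring

theorem C_normalized : W₁ ≤ normalizer (cent13 M U : Set G) := by
  rw [← s.centMod_eq]
  exact normalizer_centMod (s.nine.U_le.trans s.nine.M_le_normalizer_H)
    (s.nine.U_le.trans s.kernel.normal) s.nine.W₁_le_normalizer_U
    (s.nine.W₁_le.trans s.nine.M_le_normalizer_H) (s.nine.W₁_le.trans s.kernel.normal)

theorem card_C_modEq : Nat.card (cent13 M U) ≡ 1 [MOD Nat.card W₁] :=
  card_modEq_one_of_fpf s.C_normalized s.nine.q_prime rfl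
    fun w hw hw1 x hx => s.nine.fpf' w hw hw1 x hx.1

theorem card_U_modEq : Nat.card U ≡ 1 [MOD Nat.card W₁] :=
  card_modEq_one_of_fpf s.nine.W₁_le_normalizer_U s.nine.q_prime rfl s.nine.fpf'

theorem u_modEq : (cent13 M U).relIndex U ≡ 1 [MOD Nat.card W₁] := by
  have h := s.card_U_modEq
  rw [← s.card_U] at h
  have h2 := (s.card_C_modEq.mul_right ((cent13 M U).relIndex U)).symm.trans h
  rwa [one_mul] at h2

theorem one_lt_u (hF : Facts13 G) : 1 < (cent13 M U).relIndex U := by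
  obtain ⟨-, -, -, hlt, -⟩ := hF.s9 M W₁ U W₂ s.nine ⊥ s.kernel
  rw [s.centMod_eq] at hlt
  have h0 : (cent13 M U).relIndex U ≠ 0 := Subgroup.index_ne_zero_of_finite
  have h1 : (cent13 M U).relIndex U ≠ 1 := fun e => hlt.not_ge (Subgroup.relIndex_eq_one.mp e)
  omega

theorem odd_pieces (hG : Cfsg.IsMinSimpleOddOrder G) : Odd (Nat.card W₁) ∧ Odd (Nat.card W₂) ∧
    Odd (Nat.card (cent13 M U)) ∧ Odd ((cent13 M U).relIndex U) := by
  refine ⟨hG.1.of_dvd_nat (Subgroup.card_subgroup_dvd_card _),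
    hG.1.of_dvd_nat (Subgroup.card_subgroup_dvd_card _),
    hG.1.of_dvd_nat (Subgroup.card_subgroup_dvd_card _), ?_⟩
  exact (hG.1.of_dvd_nat (Subgroup.card_subgroup_dvd_card U)).of_dvd_nat
    (Dvd.intro_left _ s.card_U)

/-- The non-identity elements of `H` lie in `A₀`. -/
theorem core_sub_A0 {x : G} (hx : x ∈ core13 M U) (hx1 : x ≠ 1) : x ∈ Cfsg.typeA0 M := by
  obtain ⟨y, hy, hy1⟩ :=
    (Subgroup.bot_or_exists_ne_one W₂).resolve_left s.nine.typeP.selfNormalizing.2.1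
  have hyP := s.nine.W₂_le_H hy
  left
  unfold Cfsg.typeA
  rw [if_neg fun h => s.notI (isTypeI'_of h)]
  refine ⟨s.core_le_derived hx, hx1, y, ?_, hy1,
    ((mem_centralizer_iff.mp (s.core_le_centralizer hx)) y hyP).symm⟩
  unfold Cfsg.typeCore
  split_ifs
  · exact s.nine.H_le_derived hyP
  · exact hyP

theorem mem_of_fusion {x g : G} (hx : x ∈ Cfsg.typeA0 M) (hx1 : x ≠ 1)
    (h : g * x * g⁻¹ ∈ Cfsg.typeA0 M) : g ∈ M := by
  by_contra hg
  exact hx1 (s.ti g (fun h' => hg (s.norm ▸ h')) x hx h)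

theorem centralizer_le {x : G} (hx : x ∈ Cfsg.typeA0 M) (hx1 : x ≠ 1) :
    centralizer ({x} : Set G) ≤ M := fun g hg => by
  refine s.mem_of_fusion hx hx1 ?_
  rw [mem_centralizer_singleton_iff.mp hg, mul_inv_cancel_right]
  exact hx

theorem core_fusion {x g : G} (hx : x ∈ core13 M U) (hx1 : x ≠ 1)
    (h : g * x * g⁻¹ ∈ core13 M U) : g ∈ M :=
  s.mem_of_fusion (s.core_sub_A0 hx hx1) hx1
    (s.core_sub_A0 h fun e => hx1 (conj_eq_one_iff.mp e))

theorem typeA0'_eq : typeA0' M = Cfsg.typeA0 M := by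
  have h2 : ¬ Cfsg.IsOfTypeI M := fun hI => s.notI (isTypeI'_of hI)
  unfold typeA0' Cfsg.typeA0 typeA' Cfsg.typeA
  rw [if_neg s.notI, if_neg h2]
  simp only [s.notI, h2]

theorem supportR_bot {x : G} (hx : x ∈ typeA0' M) (hx1 : x ≠ 1) : Cfsg.supportR M x = ⊥ :=
  supportR_of_le (s.centralizer_le (s.typeA0'_eq ▸ hx) hx1)

/-- In type II every prime divisor of `|C|` divides `|U : C|`. -/
theorem prime_dvd (hII : Cfsg.IsOfTypeII M) {r : ℕ} (hr : r.Prime)
    (hrc : r ∣ Nat.card (cent13 M U)) : r ∣ (cent13 M U).relIndex U := by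
  by_contra hru
  obtain ⟨W₁', U', W₂', hQ, hU'ne, hq', -, hU'c, hN, -⟩ := hII
  have hU'n : U' ≤ normalizer (Cfsg.fittingHallOf M : Set G) :=
    (hQ.U_compl.2.1.trans (Subgroup.commutator_le_self M)).trans s.nine.M_le_normalizer_H
  set C' := cent13 M U' with hC'
  have hsup : Cfsg.fittingHallOf M ⊔ C' = core13 M U := by
    rw [s.core_eq]
    refine le_antisymm (sup_le (le_inf s.nine.H_le_derived fun x hx => mem_centralizer_iff.mpr
      fun y hy => s.P_comm y hy x hx) (inf_le_inf_right _ hQ.U_compl.2.1)) fun z hz => ?_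
    obtain ⟨a, ha, u, hu, rfl⟩ := hQ.U_compl.2.2.2 z hz.1
    refine mul_mem_sup ha ⟨hu, ?_⟩
    have hac : a ∈ centralizer (Cfsg.fittingHallOf M : Set G) :=
      mem_centralizer_iff.mpr fun y hy => s.P_comm y hy a ha
    simpa using mul_mem (inv_mem hac) hz.2
  have hinf' : Cfsg.fittingHallOf M ⊓ C' = ⊥ :=
    le_bot_iff.mp ((inf_le_inf_left _ inf_le_left).trans hQ.U_compl.2.2.1.le)
  have hcard : Nat.card C' = Nat.card (cent13 M U) := by
    have h1 := Cfsg.Lib.Coprime.card_sup_of_inf_eq_bot ((inf_le_left : C' ≤ U').trans hU'n) hinf'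
    change Nat.card ↥(Cfsg.fittingHallOf M ⊔ C') = _ * Nat.card C' at h1
    rw [hsup, s.card_core, s.card_H] at h1
    exact (Nat.eq_of_mul_eq_mul_left (pow_pos s.p_prime.pos _) h1).symm
  have hcardU : Nat.card U' = Nat.card U := by
    have h1 := s.nine.card_derived
    have h2 : Nat.card ↥⁅M, M⁆ = Nat.card (Cfsg.fittingHallOf M) * Nat.card U' :=
      card_complIn hQ.U_compl ((Subgroup.commutator_le_self M).trans s.nine.M_le_normalizer_H)
    exact Nat.eq_of_mul_eq_mul_left Nat.card_pos (h2.symm.trans h1)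
  have hidx : C'.relIndex U' = (cent13 M U).relIndex U := by
    have h1 : Nat.card C' * C'.relIndex U' = Nat.card U' := by
      rw [Subgroup.relIndex, ← Nat.card_congr
        (Subgroup.subgroupOfEquivOfLe (show C' ≤ U' from inf_le_left)).toEquiv,
        Subgroup.card_mul_index]
    rw [hcard, hcardU, ← s.card_U] at h1
    exact Nat.eq_of_mul_eq_mul_left Nat.card_pos h1
  haveI : Fact r.Prime := ⟨hr⟩
  obtain ⟨x, hx⟩ := exists_prime_orderOf_dvd_card' r (hcard.symm ▸ hrc)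
  have hx1 : (x : G) ≠ 1 := fun e => by
    rw [show x = 1 from Subtype.ext e, orderOf_one] at hx
    exact hr.one_lt.ne hx
  have hxH : (x : G) ∈ core13 M U := hsup ▸ Subgroup.mem_sup_right x.2
  refine hN fun g hg => s.core_fusion hxH hx1 ?_
  rw [← hsup]
  refine Subgroup.mem_sup_right ?_
  have hyU : g * (x : G) * g⁻¹ ∈ U' := (mem_normalizer_iff.mp hg x).mp x.2.1
  haveI : (C'.subgroupOf U').Normal := ⟨fun n hn k => by
    rw [show k * n * k⁻¹ = n by rw [hU'c.is_comm.comm k n, mul_inv_cancel_right]]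
    exact hn⟩
  set y : U' := ⟨g * (x : G) * g⁻¹, hyU⟩
  set π := QuotientGroup.mk' (C'.subgroupOf U')
  have hyr : y ^ r = 1 := Subtype.ext (by
    show (g * (x : G) * g⁻¹) ^ r = 1
    rw [conj_pow, ← hx, ← Subgroup.coe_pow, pow_orderOf_eq_one, OneMemClass.coe_one, mul_one,
      mul_inv_cancel])
  have hd1 : orderOf (π y) ∣ r := orderOf_dvd_of_pow_eq_one (by rw [← map_pow, hyr, map_one])
  have hd2 : orderOf (π y) ∣ C'.relIndex U' := by
    rw [Subgroup.relIndex, Subgroup.index_eq_card]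
    exact orderOf_dvd_natCard _
  rw [hidx] at hd2
  have h3 : orderOf (π y) = 1 := by
    rcases (Nat.dvd_prime hr).mp hd1 with h | h
    · exact h
    · exact absurd (h ▸ hd2) hru
  exact Subgroup.mem_subgroupOf.mp ((QuotientGroup.eq_one_iff y).mp (orderOf_eq_one_iff.mp h3))

/-- `u (p - 1) ≤ p ^ q - 1`. -/
theorem u_bound (hgal : S9Galois G) (hng : S9NonGalois G) :
    (cent13 M U).relIndex U * (Nat.card W₂ - 1) ≤ Nat.card W₂ ^ Nat.card W₁ - 1 := by
  set p := Nat.card W₂ with hp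
  set q := Nat.card W₁ with hq
  have hcard : Nat.card (Cfsg.fittingHallOf M) = p ^ q * Nat.card (⊥ : Subgroup G) := by
    rw [Subgroup.card_bot, mul_one, s.card_H]
  have h2 : 2 ≤ p := s.p_prime.two_le
  have hpq : 1 < p ^ q := Nat.one_lt_pow s.nine.q_prime.ne_zero h2
  by_cases hg : IsGalois9 M U ⊥
  · obtain ⟨hd, -⟩ := hgal M W₁ U W₂ s.nine ⊥ s.kernel hg p s.p_prime hcard
    rw [s.centMod_eq] at hd
    exact Nat.le_of_dvd (by omega) hd
  · obtain ⟨H₁, a, hl⟩ := hng M W₁ U W₂ s.nine ⊥ s.kernel hg p s.p_prime hcard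
    have hd := hl.card_dvd
    rw [s.centMod_eq] at hd
    have h3 : (cent13 M U).relIndex U ≤ a ^ (q - 1) :=
      Nat.le_of_dvd (pow_pos (by have := hl.one_lt; omega) _) hd
    have ha : a ≤ p - 1 := by have := hl.two_mul_le; omega
    have h4 : (cent13 M U).relIndex U * (p - 1) ≤ (p - 1) ^ q := by
      calc (cent13 M U).relIndex U * (p - 1) ≤ (p - 1) ^ (q - 1) * (p - 1) :=
            Nat.mul_le_mul_right _ (h3.trans (Nat.pow_le_pow_left ha _))
        _ = (p - 1) ^ q := by rw [← pow_succ, Nat.sub_add_cancel s.nine.q_prime.one_le]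
    have h5 : (p - 1) ^ q < p ^ q := Nat.pow_lt_pow_left (by omega) s.nine.q_prime.ne_zero
    omega

end Side13

end Cfsg.Agent.PF
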