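import Cfsg.Agent.OddChar.PF.S13Support
import Cfsg.Agent.OddChar.PF.S09Galois
import Cfsg.Agent.OddChar.PF.S09Lines
import Cfsg.Agent.OddChar.PF.S13Side

/-!
# Section 14: the endgame

When `|U|` is as large as possible and a conjugate of `W₂` by an element of `Q` normalises `U`, the
conclusion of (14.x) follows: `P` is the additive group of a field, `U` acts by
multiplications and a conjugate of `W₂` by an element of `Q` normalises `U`.
-/

set_option linter.style.haveILetI false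
set_option linter.unusedSectionVars false
set_option linter.unusedVariables false
set_option autoImplicit false

universe u

namespace Cfsg.Agent.PF

open Subgroup

variable {G : Type u} [Group G] [Finite G]

/-- The two facts from which Section 14 ends: `u = (p ^ q - 1) / (p - 1)` and some conjugate of `W₂`
by an element of `Q` normalises `U`. -/
def Full14 (G : Type u) [Group G] [Finite G] : Prop :=
  ∀ (S T W₁ W₂ U V : Subgroup G), Hyp13 S T W₁ W₂ U V → Nat.card W₁ < Nat.card W₂ →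
    Nat.card U * (Nat.card W₂ - 1) = Nat.card W₂ ^ Nat.card W₁ - 1 ∧
    ∃ y ∈ Cfsg.fittingHallOf T, W₂.map (MulAut.conj y).toMonoidHom ≤ normalizer (U : Set G)

/-- A bound that leaves only the Galois case. -/
theorem galois_of_full {M W₁ U W₂ : Subgroup G} (hng : S9NonGalois G) (h : Hyp9 M W₁ U W₂)
    (k : Kernel9 M U ⊥) (hp : (Nat.card W₂).Prime)
    (hcard : Nat.card (Cfsg.fittingHallOf M) = Nat.card W₂ ^ Nat.card W₁ * Nat.card (⊥ : Subgroup G))
    (hC : centMod U (Cfsg.fittingHallOf M) ⊥ = ⊥)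
    (hfull : Nat.card U * (Nat.card W₂ - 1) = Nat.card W₂ ^ Nat.card W₁ - 1) :
    IsGalois9 M U ⊥ := by
  by_contra hg
  obtain ⟨H₁, a, hl⟩ := hng M W₁ U W₂ h ⊥ k hg _ hp hcard
  have hd := hl.card_dvd
  rw [hC, Subgroup.relIndex_bot_left] at hd
  have h2 : 2 ≤ Nat.card W₂ := hp.two_le
  have h3 : Nat.card U ≤ a ^ (Nat.card W₁ - 1) :=
    Nat.le_of_dvd (pow_pos (by have := hl.one_lt; omega) _) hd
  have ha : a ≤ Nat.card W₂ - 1 := by have := hl.two_mul_le; omega
  have h4 : Nat.card U * (Nat.card W₂ - 1) ≤ (Nat.card W₂ - 1) ^ Nat.card W₁ := by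
    calc Nat.card U * (Nat.card W₂ - 1) ≤ (Nat.card W₂ - 1) ^ (Nat.card W₁ - 1) * (Nat.card W₂ - 1) :=
          Nat.mul_le_mul_right _ (h3.trans (Nat.pow_le_pow_left ha _))
      _ = (Nat.card W₂ - 1) ^ Nat.card W₁ := by rw [← pow_succ, Nat.sub_add_cancel h.q_prime.one_le]
  have h5 : (Nat.card W₂ - 1) ^ Nat.card W₁ + 1 < Nat.card W₂ ^ Nat.card W₁ := by
    have e1 : (Nat.card W₂ - 1) ^ (Nat.card W₁ - 1) ≤ Nat.card W₂ ^ (Nat.card W₁ - 1) :=
      Nat.pow_le_pow_left (by omega) _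
    have e2 : (Nat.card W₂ - 1) ^ Nat.card W₁ =
        (Nat.card W₂ - 1) ^ (Nat.card W₁ - 1) * (Nat.card W₂ - 1) := by
      rw [← pow_succ, Nat.sub_add_cancel h.q_prime.one_le]
    have e3 : Nat.card W₂ ^ Nat.card W₁ = Nat.card W₂ ^ (Nat.card W₁ - 1) * Nat.card W₂ := by
      rw [← pow_succ, Nat.sub_add_cancel h.q_prime.one_le]
    have e4 : 1 < Nat.card W₂ ^ (Nat.card W₁ - 1) :=
      Nat.one_lt_pow (by have := h.q_prime.two_le; omega) h2
    have e5 := Nat.mul_le_mul_right (Nat.card W₂ - 1) e1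
    have e6 : Nat.card W₂ ^ (Nat.card W₁ - 1) * (Nat.card W₂ - 1) +
        Nat.card W₂ ^ (Nat.card W₁ - 1) = Nat.card W₂ ^ (Nat.card W₁ - 1) * Nat.card W₂ := by
      rw [← Nat.mul_succ, Nat.succ_eq_add_one, Nat.sub_add_cancel (show 1 ≤ Nat.card W₂ by omega)]
    omega
  omega

variable (hG : Cfsg.IsMinSimpleOddOrder G)
include hG

/-- (14.x): the field model from the two facts. -/
theorem p1544_of_full (hF : Facts13 G) (h47 : P1547 G) (h14 : Full14 G) : P1544 G := by
  classical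
  intro S T W₁ W₂ U V hS hT hSP hTP hST hII hS25 hT25 hqp
  have h : Hyp13 S T W₁ W₂ U V := ⟨hS, hT, hSP, hTP, hST, hS25, hT25, hII⟩
  obtain ⟨hS23, hq, hp, hSII, hel, hcard, -, -⟩ := structure_S hG hF h
  obtain ⟨-, -, -, -, helT, hcardT, -, -⟩ := structure_S hG hF h.symm
  have hII' := hSII hqp
  have h9 : Hyp9 S W₁ U W₂ := hyp9_of hS hSP (hS23.imp id Or.inl)
  have s := side13 hG hF h
  obtain ⟨hfull, y, hy, hyU⟩ := h14 S T W₁ W₂ U V h hqp
  have hfaith : U ⊓ centralizer (Cfsg.fittingHallOf S : Set G) = ⊥ :=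
    h47 S T W₁ W₂ U V hS hT hSP hTP hST hII hS25 hT25
  have hC : centMod U (Cfsg.fittingHallOf S) ⊥ = ⊥ := s.centMod_eq.trans hfaith
  have hcard' : Nat.card (Cfsg.fittingHallOf S) =
      Nat.card W₂ ^ Nat.card W₁ * Nat.card (⊥ : Subgroup G) := by
    rw [Subgroup.card_bot, mul_one, hcard]
  have hg := galois_of_full (s9NonGalois G hG.1) h9 s.kernel hp hcard' hC hfull
  obtain ⟨-, hcop, F, iF, iFin, f, ψ, hFc, hsur, hadd, hzero, hψ, hψmul, hψ1, hfix, -, -⟩ :=
    s9Galois G S W₁ U W₂ h9 ⊥ s.kernel hg _ hp hcard'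
  rw [hC, Subgroup.relIndex_bot_left] at hcop
  have hψinj : Set.InjOn ψ (U : Set G) := by
    intro a ha b hb hab
    have hne := (hψ b hb).1
    have e : ψ (a * b⁻¹) * ψ b = ψ a := by
      rw [← hψmul _ (mul_mem ha (inv_mem hb)) _ hb, inv_mul_cancel_right]
    rw [hab, mul_eq_right₀ hne] at e
    have := (hψ1 _ (mul_mem ha (inv_mem hb))).mp e
    rw [hC, mem_bot, mul_inv_eq_one] at this
    exact this
  have hcyc : IsCyclic U := by
    let φ : U →* F :=
      { toFun := fun x => ψ x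
        map_one' := (hψ1 1 (one_mem U)).mpr (one_mem _)
        map_mul' := fun a b => hψmul a a.2 b b.2 }
    exact isCyclic_of_injective_ringHom φ fun a b hab => Subtype.ext (hψinj a.2 b.2 hab)
  have hfinj : Set.InjOn f (Cfsg.fittingHallOf S : Set G) := by
    intro a ha b hb hab
    have e := hadd (a * b⁻¹) (mul_mem ha (inv_mem hb)) b hb
    rw [inv_mul_cancel_right, hab, right_eq_add] at e
    have := (hzero _ (mul_mem ha (inv_mem hb))).mp e
    rwa [mem_bot, mul_inv_eq_one] at this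
  have hfree : ∀ u ∈ U, u ≠ 1 → ∀ x ∈ Cfsg.fittingHallOf S, u * x = x * u → x = 1 := by
    intro u hu hu1 x hx hc
    by_contra hx1
    have e := (hψ u hu).2 x hx
    rw [show u * x * u⁻¹ = x by rw [hc, mul_inv_cancel_right]] at e
    have hfx : f x ≠ 0 := fun e0 => hx1 (mem_bot.mp ((hzero x hx).mp e0))
    have h1 : ψ u = 1 := (mul_eq_right₀ hfx).mp e.symm
    have := (hψ1 u hu).mp h1
    rw [hC, mem_bot] at this
    exact hu1 this
  have hpq : Nat.card W₁ ≠ Nat.card W₂ := by omega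
  have hdiv : (Nat.card W₂ ^ Nat.card W₁ - 1) / (Nat.card W₂ - 1) = Nat.card U := by
    rw [← hfull, Nat.mul_div_cancel _ (by have := hp.two_le; omega)]
  refine ⟨hq, hp, hel, hcard, hcyc, hfull, hfree, ?_, h9.U_le.trans h9.M_le_normalizer_H, ?_, helT,
    ?_, y, hy, hyU, F, iF, iFin, f, ψ, hFc, ?_, hadd, hψ, hψmul, hψinj, ?_⟩
  · rw [hdiv]; exact hcop
  · rw [hcardT]; exact ((Nat.coprime_primes hq hp).mpr hpq).pow_left _
  · exact hTP.W₁_compl.2.1.trans (Cfsg.Lib.FittingHall.le_normalizer_fittingHallOf T)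
  · exact ⟨fun _ _ => trivial, hfinj, fun z _ => let ⟨x, hx, e⟩ := hsur z; ⟨x, hx, e⟩⟩
  · intro x hx
    simpa using hfix x hx

end Cfsg.Agent.PF
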