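import Cfsg.Agent.OddChar.PF.S14Alpha

/-!
# Section 14: the linear characters of `P` when `U` acts freely

Every non-trivial linear character of `P` either has trivial stabiliser in `M / P` or induces a
column sum; the orbits of the two kinds have `|U| |W₁|` and `|U|` members.
-/

set_option linter.style.haveILetI false
set_option linter.unusedSectionVars false
set_option linter.unusedVariables false
set_option autoImplicit false

universe u

namespace Cfsg.Agent.PF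

open Cfsg.Lib.Chars Cfsg.Lib.CyclicTI Cfsg.Lib.Dual
open Subgroup
open scoped ComplexConjugate

variable {G : Type u} [Group G] [Fintype G] {M W₁ U W₂ : Subgroup G}

/-- `U` acts freely on `M_F`. -/
def FreeOn (U P : Subgroup G) : Prop :=
  ∀ u ∈ U, u ≠ 1 → ∀ x ∈ P, u * x = x * u → x = 1

/-- Trivial stabiliser modulo `P`. -/
def IsRegular (f : ↥(Cfsg.fittingHall ↥M) →* ℂˣ) : Prop :=
  f ≠ 1 ∧ ∀ g : M, twist g f = f → g ∈ Cfsg.fittingHall ↥M

namespace Side

variable (s : Side M W₁ U W₂) (hfree : FreeOn U (Cfsg.fittingHallOf M))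
include s hfree

theorem twist_free {f : ↥(Cfsg.fittingHall ↥M) →* ℂˣ} (h1 : f ≠ 1) {u : M} (hu : (u : G) ∈ U)
    (h : twist u f = f) : u = 1 := by
  by_contra hu1
  set φ := MulAut.conjNormal (H := Cfsg.fittingHall ↥M) u
  have hinj : Function.Injective fun x : ↥(Cfsg.fittingHall ↥M) => x⁻¹ * φ x := by
    intro a b hab
    have hfix : φ (a * b⁻¹) = a * b⁻¹ := by
      have hab' : a⁻¹ * φ a = b⁻¹ * φ b := hab
      calc φ (a * b⁻¹) = a * (a⁻¹ * φ a) * (φ b)⁻¹ := by rw [map_mul, map_inv]; group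
        _ = a * (b⁻¹ * φ b) * (φ b)⁻¹ := by rw [hab']
        _ = a * b⁻¹ := by group
    have := hfree u hu (fun e => hu1 (Subtype.ext e)) _
      (mem_fittingHall_iff.mp (a * b⁻¹).2)
      (mul_inv_eq_iff_eq_mul.mp (congrArg Subtype.val (congrArg Subtype.val hfix) :))
    exact mul_inv_eq_one.mp (Subtype.ext (Subtype.ext this))
  refine h1 (MonoidHom.ext fun y => ?_)
  obtain ⟨x, rfl⟩ := (Finite.injective_iff_surjective.mp hinj) y
  rw [map_mul, map_inv, MonoidHom.one_apply, inv_mul_eq_one]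
  exact (DFunLike.congr_fun h x).symm

variable [Fintype M]

theorem indP_twist (g : M) (f : ↥(Cfsg.fittingHall ↥M) →* ℂˣ) : indP (twist g f) = indP f := by
  rw [indP, ev_twist, indFun_conjN]; rfl

/-- Regular, or conjugate to a fixed character. -/
theorem regular_or_fixed {f : ↥(Cfsg.fittingHall ↥M) →* ℂˣ} (h1 : f ≠ 1) :
    IsRegular f ∨ ∃ f' : ↥(Cfsg.fittingHall ↥M) →* ℂˣ,
      IsFixed W₁ f' ∧ f' ≠ 1 ∧ indP f = indP f' := by
  classical
  by_cases hreg : ∀ g : M, twist g f = f → g ∈ Cfsg.fittingHall ↥M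
  · exact Or.inl ⟨h1, hreg⟩
  push Not at hreg
  obtain ⟨g, hg, hgP⟩ := hreg
  obtain ⟨a, ha, u, hu, w, hw, rfl⟩ := s.exists_decomp g
  rw [twist_mul, twist_mul, s.twist_of_P ha] at hg
  have hw1 : w ≠ 1 := by
    rintro rfl
    rw [twist_one] at hg
    exact hgP (by rw [s.twist_free hfree h1 hu hg, mul_one, mul_one]; exact ha)
  -- `u w` is conjugate to `w` under `U`
  have hwU : ∀ v ∈ U, (w : G) * v * (w : G)⁻¹ ∈ U := fun v hv =>
    (mem_normalizer_iff.mp (s.hyp9.W₁_le_normalizer_U hw) v).mp hv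
  have hinj : Function.Injective fun v : U =>
      (⟨(v : G)⁻¹ * ((w : G) * v * (w : G)⁻¹), mul_mem (inv_mem v.2) (hwU v v.2)⟩ : U) := by
    intro a b hab
    have hab' : (a : G)⁻¹ * ((w : G) * a * (w : G)⁻¹) = (b : G)⁻¹ * ((w : G) * b * (w : G)⁻¹) :=
      congrArg Subtype.val hab
    have hc : ∀ x ∈ U, ∀ y ∈ U, x * y = y * x := fun x hx y hy =>
      congrArg Subtype.val (s.U_comm.is_comm.comm ⟨x, hx⟩ ⟨y, hy⟩)
    have hfix : (w : G) * ((a : G) * (b : G)⁻¹) = ((a : G) * (b : G)⁻¹) * w := by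
      have e : (w : G) * a * (w : G)⁻¹ * ((w : G) * b * (w : G)⁻¹)⁻¹ = (a : G) * (b : G)⁻¹ := by
        have e1 : (w : G) * a * (w : G)⁻¹ = (a : G) * (b : G)⁻¹ * ((w : G) * b * (w : G)⁻¹) := by
          rw [mul_assoc (a : G), ← hab']; group
        rw [e1, mul_inv_cancel_right]
      refine mul_inv_eq_iff_eq_mul.mp (Eq.trans ?_ e)
      group
    exact Subtype.ext (mul_inv_eq_one.mp
      (s.hyp9.fpf' w hw (fun e => hw1 (Subtype.ext e)) _ (mul_mem a.2 (inv_mem b.2)) hfix))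
  obtain ⟨v, hv⟩ := (Finite.injective_iff_surjective.mp hinj) ⟨u, hu⟩
  set v' : M := ⟨v, s.hyp9.U_le v.2⟩
  have huw : u * w = v'⁻¹ * w * v' := Subtype.ext (by
    show (u : G) * w = (v : G)⁻¹ * w * v
    rw [show (u : G) = (v : G)⁻¹ * ((w : G) * v * (w : G)⁻¹) from (congrArg Subtype.val hv).symm]
    group)
  have hg' : twist (u * w) f = f := by rw [twist_mul]; exact hg
  rw [huw, twist_mul, twist_mul] at hg'
  set f' := twist v'⁻¹ f
  have hf' : twist w f' = f' := by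
    calc twist w f' = twist v'⁻¹ (twist v' (twist w f')) := by
          rw [← twist_mul v' v'⁻¹, mul_inv_cancel, twist_one]
      _ = f' := by rw [hg']
  refine Or.inr ⟨f', fun x hx => ?_, fun e => h1 ?_, (s.indP_twist hfree _ _).symm⟩
  · -- `w` generates `W₁`
    haveI := Fact.mk s.q_prime
    obtain ⟨k, hk⟩ := (zpowers_eq_top_of_prime_card (g := (⟨w, hw⟩ : W₁)) (p := Nat.card W₁) rfl
      (fun e => hw1 (Subtype.ext (congrArg Subtype.val e :))) ▸ mem_top (⟨x, hx⟩ : W₁) :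
        (⟨x, hx⟩ : W₁) ∈ zpowers (⟨w, hw⟩ : W₁))
    have hx' : x = w ^ k := Subtype.ext (by
      rw [SubgroupClass.coe_zpow]; exact (congrArg Subtype.val hk).symm)
    exact show x ∈ stabHom f' from hx' ▸ zpow_mem (show w ∈ stabHom f' from hf') k
  · calc f = twist (v'⁻¹ * v') f := by rw [inv_mul_cancel, twist_one]
      _ = 1 := by rw [twist_mul]; exact (congrArg (twist v') e).trans (s.twist_one_left v')

omit hfree in
theorem regular_irr {f : ↥(Cfsg.fittingHall ↥M) →* ℂˣ} (hf : IsRegular f) :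
    Cfsg.IsIrrCharacter ↥M (indP f) := by
  haveI := Fintype.ofFinite ↥(Cfsg.fittingHall ↥M)
  exact s09_indFun_irr (isIrr_ev f) fun g hg => hf.2 g ((twist_eq_iff g f).mpr hg)

omit hfree in
theorem inner_indP_ne {f f' : ↥(Cfsg.fittingHall ↥M) →* ℂˣ} (h : indP f ≠ indP f') :
    Cfsg.classInner (indP f) (indP f') = 0 := by
  have h0 := s.inner_indP_indP f f'
  haveI : IsEmpty {g : M // twist g f = f'} := ⟨fun g => h (by
    rw [← g.2, indP, indP, ev_twist, indFun_conjN])⟩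
  have hc : Nat.card {g : M // twist g f = f'} = 0 := Nat.card_of_isEmpty
  rw [hc, Nat.cast_zero] at h0
  exact (mul_eq_zero.mp h0).resolve_left (Nat.cast_ne_zero.mpr Nat.card_pos.ne')

omit hfree in
/-- The sizes of the orbits. -/
theorem orbit_card [Fintype (↥(Cfsg.fittingHall ↥M) →* ℂˣ)]
    [DecidableEq (↥M → ℂ)] (f₀ : ↥(Cfsg.fittingHall ↥M) →* ℂˣ) :
    ((Finset.univ.filter fun f => indP f = indP f₀).card : ℂ) *
      Cfsg.classInner (indP f₀) (indP f₀) = ((Nat.card U * Nat.card W₁ : ℕ) : ℂ) := by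
  classical
  haveI := Fintype.ofFinite ↥(Cfsg.fittingHall ↥M)
  have h1 := expand (fun a b => s.comm_P.is_comm.comm a b)
    (fun x : ↥(Cfsg.fittingHall ↥M) => indP f₀ x) 1
  simp only [show ∀ f : ↥(Cfsg.fittingHall ↥M) →* ℂˣ, ev f 1 = 1 from fun f => by simp [ev],
    mul_one] at h1
  rw [show indP f₀ ((1 : ↥(Cfsg.fittingHall ↥M)) : M) = indP f₀ 1 from rfl, s.indP_one] at h1
  have h2 : ∀ f : ↥(Cfsg.fittingHall ↥M) →* ℂˣ,
      Cfsg.classInner (fun x : ↥(Cfsg.fittingHall ↥M) => indP f₀ x) (ev f) =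
        if indP f = indP f₀ then Cfsg.classInner (indP f₀) (indP f₀) else 0 := fun f => by
    have h3 := frobenius_reciprocity' (Cfsg.fittingHall ↥M) (ev f) (χ := indP f₀)
      (isClassFunction_indFun _ _)
    rw [← h3]
    show Cfsg.classInner (indP f₀) (indP f) = _
    split
    · rename_i e; rw [e]
    · rename_i e; exact s.inner_indP_ne fun e' => e e'.symm
  rw [Finset.sum_congr rfl fun f _ => h2 f, ← Finset.sum_filter, Finset.sum_const,
    nsmul_eq_mul] at h1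
  exact h1.symm

omit hfree in
theorem orbit_card_regular [Fintype (↥(Cfsg.fittingHall ↥M) →* ℂˣ)] [DecidableEq (↥M → ℂ)]
    {f₀ : ↥(Cfsg.fittingHall ↥M) →* ℂˣ} (hf : IsRegular f₀) :
    (Finset.univ.filter fun f => indP f = indP f₀).card = Nat.card U * Nat.card W₁ := by
  have h := s.orbit_card f₀
  rw [classInner_irrChar (s.regular_irr hf) (s.regular_irr hf), if_pos rfl, mul_one] at h
  exact Nat.cast_injective (R := ℂ) h

variable {μ : (↥(W₁ ⊔ W₂) →* ℂˣ) → (↥M → ℂ)} {δ : (↥(W₁ ⊔ W₂) →* ℂˣ) → ℂ}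
  (hG : Cfsg.IsMinSimpleOddOrder G) (hT : PrimeTIChars M ⁅M, M⁆ W₁ W₂ μ δ)
include hG hT

omit hfree in
theorem orbit_card_red [Fintype (↥(Cfsg.fittingHall ↥M) →* ℂˣ)] [DecidableEq (↥M → ℂ)]
    {ψ : ↥(W₁ ⊔ W₂) →* ℂˣ} (hψ : OnSecond ψ) (hψ1 : ψ ≠ 1) :
    (Finset.univ.filter fun f : ↥(Cfsg.fittingHall ↥M) →* ℂˣ => indP f = redChar μ ψ).card =
      Nat.card U := by
  obtain ⟨f₀, -, -, he, -⟩ := s.exists_fixed hG hT hψ hψ1
  have h := s.orbit_card f₀
  rw [← he, (s.prime hG).inner_red_self hT hψ] at h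
  push_cast at h
  exact Nat.cast_injective (R := ℂ)
    (mul_right_cancel₀ (Nat.cast_ne_zero.mpr s.q_prime.ne_zero) h)

/-- Regular, or inducing a column sum. -/
theorem classify_hom {f : ↥(Cfsg.fittingHall ↥M) →* ℂˣ} (h1 : f ≠ 1) :
    IsRegular f ∨ ∃ ψ, OnSecond ψ ∧ ψ ≠ 1 ∧ indP f = redChar μ ψ := by
  rcases s.regular_or_fixed hfree h1 with h | ⟨f', hf', hf'1, he⟩
  · exact Or.inl h
  · obtain ⟨ψ, hψ, hψ1, hred, -⟩ := s.exists_col hG hT hf' hf'1
    exact Or.inr ⟨ψ, hψ, hψ1, he.trans hred.symm⟩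

end Side

end Cfsg.Agent.PF
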