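import Cfsg.Agent.OddChar.PF.S14Field
import Cfsg.Agent.OddChar.PF.S14Classify

/-!
# Section 14: `U` acts freely on `P`

For type III this is the irreducible action of Section 11. For type II, if `L = L_F ⋊ W₁ W₂^y`
contains the normaliser of `U`, a prime subgroup of `U` with a fixed point on `P` would centralise an
elementary abelian subgroup of rank at most `2` of `L_F` on which `W₂^y` acts freely.
-/

set_option linter.style.haveILetI false
set_option linter.unusedSectionVars false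
set_option linter.unusedVariables false
set_option autoImplicit false

universe u

namespace Cfsg.Agent.PF

open Subgroup

variable {G : Type u} [Group G] [Fintype G] {S T W₁ W₂ U V L : Subgroup G}

/-- The Galois case gives a free action. -/
theorem free_of_galois {M : Subgroup G} (h : Hyp9 M W₁ U W₂) (k : Kernel9 M U ⊥)
    (hp : (Nat.card W₂).Prime)
    (hcard : Nat.card (Cfsg.fittingHallOf M) = Nat.card W₂ ^ Nat.card W₁)
    (hfaith : centMod U (Cfsg.fittingHallOf M) ⊥ = ⊥) (hg : IsGalois9 M U ⊥) :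
    FreeOn U (Cfsg.fittingHallOf M) := by
  obtain ⟨-, -, F, iF, iFin, f, ψ, -, -, -, hzero, hψ, -, hψ1, -, -, -⟩ :=
    s9Galois G M W₁ U W₂ h ⊥ k hg _ hp (by rw [Subgroup.card_bot, mul_one, hcard])
  intro u hu hu1 x hx hc
  by_contra hx1
  have e := (hψ u hu).2 x hx
  rw [show u * x * u⁻¹ = x by rw [hc, mul_inv_cancel_right]] at e
  have hfx : f x ≠ 0 := fun e0 => hx1 (mem_bot.mp ((hzero x hx).mp e0))
  have := (hψ1 u hu).mp ((mul_eq_right₀ hfx).mp e.symm)
  rw [hfaith, mem_bot] at this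
  exact hu1 this

/-- In a nilpotent subgroup `H` an element of order `t` centralises a non-trivial subgroup of
exponent `t` normalised by the normaliser of `H`. -/
theorem exists_central_omega {H : Subgroup G} (hH : Group.IsNilpotent H) {t : ℕ} (ht : t.Prime)
    {u : G} (hu : u ∈ H) (hut : orderOf u = t) :
    ∃ Z : Subgroup G, Z ≤ H ∧ Z ≠ ⊥ ∧ (∀ a ∈ Z, ∀ b ∈ Z, a * b = b * a) ∧ (∀ a ∈ Z, a ^ t = 1) ∧
      (∀ a ∈ Z, a * u = u * a) ∧
      ∀ w ∈ normalizer (H : Set G), ∀ a ∈ Z, w * a * w⁻¹ ∈ Z := by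
  haveI := Fact.mk ht
  haveI := hH
  obtain ⟨P⟩ := (inferInstance : Nonempty (Sylow t H))
  haveI hPn : (P : Subgroup H).Normal :=
    ((Group.isNilpotent_of_finite_tfae.out 0 3 : Group.IsNilpotent H ↔
      ∀ (p : ℕ) (_ : Fact p.Prime) (Q : Sylow p H), (Q : Subgroup H).Normal)).mp hH t (Fact.mk ht) P
  haveI := Sylow.unique_of_normal P hPn
  have hmemP : ∀ x : H, ∀ k : ℕ, x ^ t ^ k = 1 → x ∈ (P : Subgroup H) := by
    intro x k hx
    obtain ⟨i, -, hi⟩ := (Nat.dvd_prime_pow ht).mp (orderOf_dvd_of_pow_eq_one hx)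
    obtain ⟨Q, hQ⟩ := (IsPGroup.of_card (p := t) (n := i)
      (by rw [Nat.card_zpowers, hi])).exists_le_sylow (P := zpowers x)
    rw [Subsingleton.elim Q P] at hQ
    exact hQ (mem_zpowers x)
  have huP : (⟨u, hu⟩ : H) ∈ (P : Subgroup H) :=
    hmemP _ 1 (Subtype.ext (by rw [pow_one, Subgroup.coe_pow, ← hut, pow_orderOf_eq_one]; rfl))
  let Z : Subgroup G :=
    { carrier := {a | (∃ ha : a ∈ H, (⟨a, ha⟩ : H) ∈ (P : Subgroup H)) ∧ a ^ t = 1 ∧
        ∀ b : H, b ∈ (P : Subgroup H) → a * b = b * a}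
      one_mem' := ⟨⟨one_mem _, one_mem _⟩, one_pow _, fun b _ => by simp⟩
      mul_mem' := by
        rintro a b ⟨⟨ha, haP⟩, hat, hac⟩ ⟨⟨hb, hbP⟩, hbt, hbc⟩
        have hab : Commute a b := hac ⟨b, hb⟩ hbP
        exact ⟨⟨mul_mem ha hb, mul_mem haP hbP⟩, by rw [hab.mul_pow, hat, hbt, one_mul],
          fun c hc => (Commute.mul_left (hac c hc) (hbc c hc)).eq⟩
      inv_mem' := by
        rintro a ⟨⟨ha, haP⟩, hat, hac⟩
        exact ⟨⟨inv_mem ha, inv_mem haP⟩, by rw [inv_pow, hat, inv_one],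
          fun c hc => (Commute.inv_left (hac c hc)).eq⟩ }
  refine ⟨Z, fun a ha => ha.1.1, ?_, ?_, fun a ha => ha.2.1, fun a ha => ha.2.2 _ huP, ?_⟩
  · haveI : Nontrivial (P : Subgroup H) := ⟨⟨⟨_, huP⟩, 1, fun e => by
      have : u = 1 := congrArg (fun x : (P : Subgroup H) => ((x : H) : G)) e
      rw [this, orderOf_one] at hut
      exact ht.one_lt.ne hut⟩⟩
    haveI := P.2.center_nontrivial
    have hd : t ∣ Nat.card (Subgroup.center (P : Subgroup H)) := by
      obtain ⟨n, hn⟩ := IsPGroup.iff_card.mp (P.2.to_subgroup (Subgroup.center (P : Subgroup H)))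
      rcases Nat.eq_zero_or_pos n with rfl | hn'
      · exact absurd hn (Finite.one_lt_card (α := Subgroup.center (P : Subgroup H))).ne'
      · exact hn ▸ dvd_pow_self t hn'.ne'
    obtain ⟨z, hz⟩ := exists_prime_orderOf_dvd_card' t hd
    intro e
    have hzt : ((((z : (P : Subgroup H)) : H) : G)) ^ t = 1 := by
      have e' : z ^ t = 1 := orderOf_dvd_iff_pow_eq_one.mp (dvd_of_eq hz)
      rw [← Subgroup.coe_pow, ← Subgroup.coe_pow, ← Subgroup.coe_pow, e']
      rfl
    have hm : (((z : (P : Subgroup H)) : H) : G) ∈ Z :=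
      ⟨⟨SetLike.coe_mem _, SetLike.coe_mem _⟩, hzt, fun b hb =>
        (congrArg (fun x : (P : Subgroup H) => ((x : H) : G))
          (Subgroup.mem_center_iff.mp z.2 ⟨b, hb⟩)).symm⟩
    rw [e, mem_bot] at hm
    have : z = 1 := Subtype.ext (Subtype.ext (Subtype.ext hm))
    rw [this, orderOf_one] at hz
    exact ht.one_lt.ne hz
  · rintro a ⟨-, -, hac⟩ b ⟨⟨hb, hbP⟩, -, -⟩
    exact hac ⟨b, hb⟩ hbP
  · rintro w hw a ⟨⟨ha, haP⟩, hat, hac⟩
    have hm : w * a * w⁻¹ ∈ H := (mem_normalizer_iff.mp hw a).mp ha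
    have hwt : (w * a * w⁻¹) ^ t = 1 := by rw [conj_pow, hat, mul_one, mul_inv_cancel]
    have hP : (⟨_, hm⟩ : H) ∈ (P : Subgroup H) :=
      hmemP _ 1 (Subtype.ext (by rw [pow_one]; exact hwt))
    refine ⟨⟨hm, hP⟩, hwt, fun b hb => ?_⟩
    have hm' : w⁻¹ * b * w ∈ H := by
      simpa using (mem_normalizer_iff.mp (inv_mem hw) (b : G)).mp b.2
    obtain ⟨j, hj⟩ := IsPGroup.iff_orderOf.mp P.2 ⟨b, hb⟩
    have hbj : (b : G) ^ t ^ j = 1 := by
      rw [← Subgroup.coe_pow, show b ^ t ^ j = 1 from by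
        rw [← hj, Subgroup.orderOf_mk, pow_orderOf_eq_one]]
      rfl
    have hP' : (⟨_, hm'⟩ : H) ∈ (P : Subgroup H) := hmemP _ j (Subtype.ext (by
      show (w⁻¹ * (b : G) * w) ^ t ^ j = 1
      have := conj_pow (a := w⁻¹) (b := (b : G)) (i := t ^ j)
      rw [inv_inv, hbj] at this
      rw [this]; group))
    have e := hac ⟨_, hm'⟩ hP'
    calc w * a * w⁻¹ * b = w * (a * (w⁻¹ * b * w)) * w⁻¹ := by group
      _ = w * (w⁻¹ * b * w * a) * w⁻¹ := by rw [e]
      _ = b * (w * a * w⁻¹) := by group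

variable (hG : Cfsg.IsMinSimpleOddOrder G)
include hG

/-- Type III: the action is free. -/
theorem free_typeIII (hF : Facts13 G) (h47 : P1547 G) (h : Hyp13 S T W₁ W₂ U V)
    (h3 : Cfsg.IsOfTypeIII S) : FreeOn U (Cfsg.fittingHallOf S) := by
  have d := side13 hG hF h
  have st := hF.s11 S W₁ U W₂ h.maxS (Or.inl h3) h.dataS
  exact free_of_galois d.nine d.kernel d.p_prime d.card_H (d.centMod_eq.trans st.U_faithful)
    fun N _ hN hn => st.irreducible N hN hn

/-- Type II with `L = L_F ⋊ W₁ W₂^y`: the action is free. -/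
theorem free_typeII (hF : Facts13 G) (h47 : P1547 G) (h : Hyp13 S T W₁ W₂ U V)
    (hII : Cfsg.IsOfTypeII S) (hL : IsCoatom L) (hNU : normalizer (U : Set G) ≤ L) {y : G}
    (hy : y ∈ Cfsg.fittingHallOf T)
    (h1 : Cfsg.fittingHallOf L ⊓ (W₁ ⊔ W₂.map (MulAut.conj y).toMonoidHom) = ⊥)
    (h2 : Cfsg.fittingHallOf L ⊔ (W₁ ⊔ W₂.map (MulAut.conj y).toMonoidHom) = L) :
    FreeOn U (Cfsg.fittingHallOf S) := by
  classical
  have d := side13 hG hF h
  have hfaith : centMod U (Cfsg.fittingHallOf S) ⊥ = ⊥ := d.centMod_eq.trans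
    (h47 S T W₁ W₂ U V h.maxS h.maxT h.dataS h.dataT h.inter h.one_II h.typeS h.typeT)
  intro u hu hu1 x hx hc
  by_contra hx1
  have hg : ¬ IsGalois9 S U ⊥ := fun hg =>
    hx1 (free_of_galois d.nine d.kernel d.p_prime d.card_H hfaith hg u hu hu1 x hx hc)
  obtain ⟨H₁, a, hl⟩ := s9NonGalois G hG.1 S W₁ U W₂ d.nine ⊥ d.kernel hg _ d.p_prime
    (by rw [Subgroup.card_bot, mul_one, d.card_H])
  have hUa := hl.card_dvd
  rw [hfaith, Subgroup.relIndex_bot_left] at hUa
  -- an element of prime order with a fixed point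
  set t := (orderOf u).minFac with htdef
  have hu1' : orderOf u ≠ 1 := fun e => hu1 (orderOf_eq_one_iff.mp e)
  have ht : t.Prime := Nat.minFac_prime hu1'
  haveI := Fact.mk ht
  set u₀ := u ^ (orderOf u / t) with hu₀def
  have hu₀o : orderOf u₀ = t := orderOf_pow_orderOf_div (orderOf_pos u).ne' (Nat.minFac_dvd _)
  have hu₀ : u₀ ∈ U := pow_mem hu _
  have hu₀1 : u₀ ≠ 1 := fun e => by
    rw [e, orderOf_one] at hu₀o; exact ht.one_lt.ne hu₀o
  have hc₀ : u₀ * x = x * u₀ := ((show Commute u x from hc).pow_left _).eq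
  have htU : t ∣ Nat.card U := hu₀o ▸ Subgroup.orderOf_dvd_natCard U hu₀
  have hta : t ∣ a := ht.dvd_of_dvd_pow (htU.trans hUa)
  have htp : t + 1 < Nat.card W₂ := by
    have h3 := Nat.le_of_dvd (by have := hl.one_lt; omega) hta
    have h4 := hl.two_mul_le
    have h5 := ht.two_le
    omega
  -- the centraliser of `u₀` lies in `S`
  obtain ⟨hrank, hX, -⟩ := p1390' hG S h.maxS U (Or.inr ⟨hII, d.nine.typeP.U_compl⟩)
  have hCS : centralizer ({u₀} : Set G) ≤ S := (hX {u₀} (by simp [hu₀, hu₀1])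
    (Set.singleton_nonempty _) (fun e => hx1 (mem_bot.mp (e ▸
      (⟨hx, mem_centralizer_singleton_iff.mpr hc₀.symm⟩ :
        x ∈ Cfsg.fittingHallOf S ⊓ centralizer ({u₀} : Set G)))))).1
  obtain ⟨hfrob, hUL, -⟩ := support_of_typeII hG hF h47 h hII hL hNU
  obtain ⟨Z, hZH, hZne, hZc, hZt, hZu, hZn⟩ :=
    exists_central_omega (fittingHallOf_nilpotent L) ht (hUL hu₀) hu₀o
  have hZS : Z ≤ S := fun z hz => hCS (mem_centralizer_singleton_iff.mpr (hZu z hz))
  have hZpow : ∀ r : ℕ, r.Prime → r ∣ Nat.card Z → r = t := by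
    intro r hr hd
    haveI := Fact.mk hr
    obtain ⟨z, hz⟩ := exists_prime_orderOf_dvd_card' r hd
    have : r ∣ t := hz ▸ orderOf_dvd_of_pow_eq_one (Subtype.ext (hZt z z.2))
    exact (Nat.prime_dvd_prime_iff_eq hr ht).mp this
  have hcop : ∀ n : ℕ, t.Coprime n → (Nat.card Z).Coprime n := fun n hn =>
    Nat.coprime_of_dvd fun r hr hd1 hd2 => by
      rw [hZpow r hr hd1] at hd2
      exact ht.one_lt.ne' (Nat.eq_one_of_dvd_coprimes hn dvd_rfl hd2)
  have htq : t.Coprime (Nat.card W₁) :=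
    Nat.Coprime.coprime_dvd_left htU d.nine.coprime_U_W
  have hZd : Z ≤ ⁅S, S⁆ :=
    le_of_coprime_relIndex (Subgroup.commutator_le_self S)
      (Cfsg.Lib.Coprime.le_normalizer_commutator_right _ _) hZS (by
        rw [relIndex_compl d.nine.typeP.W₁_compl d.nine.M_le_normalizer_derived]
        exact hcop _ htq)
  have htP : t.Coprime (Nat.card (Cfsg.fittingHallOf S)) :=
    (Cfsg.Lib.FittingHall.coprime_compl d.nine.typeP).symm.coprime_dvd_left htU
  obtain ⟨g, hg', hle⟩ := Cfsg.Lib.Coprime.exists_conj_le_of_coprime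
    (N := Cfsg.fittingHallOf S) (H := U) (L := Z)
    (d.nine.U_le.trans d.nine.M_le_normalizer_H)
    (Cfsg.Lib.FittingHall.coprime_compl d.nine.typeP)
    (Or.inl d.nine.solvable_H) (by rw [d.nine.derived_eq]; exact hZd) (hcop _ htP).symm
  -- rank at most two
  have hZcard : Nat.card Z = t ∨ Nat.card Z = t ^ 2 := by
    obtain ⟨k, hk⟩ := IsPGroup.iff_card.mp (show IsPGroup t Z from fun z =>
      ⟨1, by rw [pow_one]; exact Subtype.ext (hZt z z.2)⟩)
    have hZU : Z.map (MulAut.conj g⁻¹).toMonoidHom ≤ U := by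
      rintro _ ⟨z, hz, rfl⟩
      have := hle hz
      rw [Cfsg.Lib.Coprime.mem_conjMap] at this
      simpa using this
    set A := (Z.map (MulAut.conj g⁻¹).toMonoidHom).subgroupOf U with hA
    have hAc : Nat.card A = t ^ k := by
      rw [hA, Nat.card_congr (subgroupOfEquivOfLe hZU).toEquiv,
        card_map_of_injective (MulAut.conj g⁻¹).injective, hk]
    obtain ⟨P, hP⟩ := (IsPGroup.of_card hAc).exists_le_sylow
    have h3 := (hrank t ht P).2 (A.subgroupOf P) ⟨⟨fun a b => ?_⟩⟩ fun a ha => ?_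
    · rw [Nat.card_congr (subgroupOfEquivOfLe hP).toEquiv, hAc] at h3
      have h4 : k ≤ 2 := (Nat.pow_le_pow_iff_right ht.one_lt).mp h3
      have h5 : k ≠ 0 := fun e => hZne (Subgroup.card_eq_one.mp (by rw [hk, e, pow_zero]))
      rcases (show k = 1 ∨ k = 2 by omega) with rfl | rfl
      · left; rw [hk, pow_one]
      · right; exact hk
    · obtain ⟨z₁, hz₁, e₁⟩ := a.2
      obtain ⟨z₂, hz₂, e₂⟩ := b.2
      apply Subtype.ext; apply Subtype.ext; apply Subtype.ext
      show (((a : (P : Subgroup U)) : U) : G) * _ = (((b : (P : Subgroup U)) : U) : G) * _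
      rw [show (((a : (P : Subgroup U)) : U) : G) = _ from e₁.symm,
        show (((b : (P : Subgroup U)) : U) : G) = _ from e₂.symm, ← map_mul, ← map_mul, hZc z₁ hz₁ z₂ hz₂]
    · obtain ⟨z₁, hz₁, e₁⟩ := ha
      apply Subtype.ext; apply Subtype.ext
      show (((a : (P : Subgroup U)) : U) : G) ^ t = 1
      rw [show (((a : (P : Subgroup U)) : U) : G) = _ from e₁.symm, ← map_pow, hZt z₁ hz₁, map_one]
  -- `W₂^y` acts freely on `Z`
  have hWy : W₂.map (MulAut.conj y).toMonoidHom ≤ L :=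
    (le_sup_right.trans le_sup_right).trans h2.le
  have hmod := card_modEq_one_of_fpf (D := Z) (W := W₂.map (MulAut.conj y).toMonoidHom)
    (fun w hw => Subgroup.mem_normalizer_iff.mpr fun z => ⟨fun hz =>
      hZn w (Cfsg.Lib.FittingHall.le_normalizer_fittingHallOf L (hWy hw)) z hz, fun hz => by
      simpa [mul_assoc] using
        hZn w⁻¹ (inv_mem (Cfsg.Lib.FittingHall.le_normalizer_fittingHallOf L (hWy hw))) _ hz⟩)
    d.p_prime (card_map_of_injective (MulAut.conj y).injective)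
    (fun w hw hw1 z hz hwz => by
      by_contra hz1
      exact hw1 (mem_bot.mp (h1.le ⟨hfrob z (hZH hz) hz1
        ⟨hWy hw, mem_centralizer_singleton_iff.mpr hwz⟩, mem_sup_right hw⟩)))
  have hp := d.p_prime
  rcases hZcard with e | e <;> rw [e] at hmod
  · have := Nat.le_of_dvd (by have := ht.two_le; omega)
      ((Nat.modEq_iff_dvd' ht.one_le).mp hmod.symm)
    omega
  · have h6 : Nat.card W₂ ∣ (t + 1) * (t - 1) := by
      have := (Nat.modEq_iff_dvd' (Nat.one_le_pow _ _ ht.pos)).mp hmod.symm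
      rwa [show t ^ 2 - 1 = (t + 1) * (t - 1) by
        rw [show t ^ 2 - 1 = t ^ 2 - 1 ^ 2 by rw [one_pow], Nat.sq_sub_sq]] at this
    rcases hp.dvd_mul.mp h6 with h7 | h7
    · have := Nat.le_of_dvd (by omega) h7; omega
    · have := Nat.le_of_dvd (by have := ht.two_le; omega) h7; omega

end Cfsg.Agent.PF
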