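import Cfsg.Agent.OddChar.PF.S14CfgExists
import Cfsg.Agent.OddChar.PF.S14Free
import Cfsg.Agent.SolvStruct.CyclicProduct

/-!
# Section 14: the maximal subgroups over the normaliser of `U`

When `p < q` the action of `U` on `P` is free; a maximal subgroup over the normaliser of `U` is of
Type I, and its index and order over the Fitting Hall subgroup follow in the two cases.
-/

set_option linter.style.haveILetI false
set_option linter.unusedSectionVars false
set_option linter.unusedVariables false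
set_option autoImplicit false

universe u

namespace Cfsg.Agent.PF

open Subgroup

variable {G : Type u} [Group G] [Fintype G] {S T W₁ W₂ U V L : Subgroup G}

variable (hG : Cfsg.IsMinSimpleOddOrder G) (hF : Facts13 G) (h47 : P1547 G)
include hG hF h47

/-- Type II with `p < q`: the action is free. -/
theorem free_of_gt (h : Hyp13 S T W₁ W₂ U V) (hII : Cfsg.IsOfTypeII S)
    (hlt : Nat.card W₂ < Nat.card W₁) : FreeOn U (Cfsg.fittingHallOf S) := by
  classical
  have d := side13 hG hF h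
  have h9 := d.nine
  have hfaith : centMod U (Cfsg.fittingHallOf S) ⊥ = ⊥ := d.centMod_eq.trans
    (h47 S T W₁ W₂ U V h.maxS h.maxT h.dataS h.dataT h.inter h.one_II h.typeS h.typeT)
  refine free_of_galois h9 d.kernel d.p_prime d.card_H hfaith ?_
  by_contra hg
  obtain ⟨H₁, a, hl⟩ := s9NonGalois G hG.1 S W₁ U W₂ h9 ⊥ d.kernel hg _ d.p_prime
    (by rw [Subgroup.card_bot, mul_one, d.card_H])
  have hUa := hl.card_dvd
  rw [hfaith, Subgroup.relIndex_bot_left] at hUa
  have hU1 : Nat.card U ≠ 1 := fun e => h9.U_ne (Subgroup.card_eq_one.mp e)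
  obtain ⟨t, ht, htU⟩ := Nat.exists_prime_and_dvd hU1
  haveI := Fact.mk ht
  obtain ⟨u, hu⟩ := exists_prime_orderOf_dvd_card' t htU
  have hta : t ∣ a := ht.dvd_of_dvd_pow (htU.trans hUa)
  have htp : t + 1 < Nat.card W₁ := by
    have h3 := Nat.le_of_dvd (by have := hl.one_lt; omega) hta
    have h4 := hl.two_mul_le
    have h5 := ht.two_le
    omega
  obtain ⟨hrank, -, -⟩ := p1390' hG S h.maxS U (Or.inr ⟨hII, h9.typeP.U_compl⟩)
  obtain ⟨Z, hZU, hZne, hZc, hZt, -, hZn⟩ :=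
    exists_central_omega (h.dataS.U_nilpotent) ht u.2 (by rw [Subgroup.orderOf_coe, hu])
  obtain ⟨k, hk⟩ := IsPGroup.iff_card.mp (show IsPGroup t Z from fun z =>
    ⟨1, by rw [pow_one]; exact Subtype.ext (hZt z z.2)⟩)
  -- rank at most two
  have hk2 : k ≤ 2 := by
    set A := Z.subgroupOf U with hA
    have hAc : Nat.card A = t ^ k := by
      rw [hA, Nat.card_congr (subgroupOfEquivOfLe hZU).toEquiv, hk]
    obtain ⟨P, hP⟩ := (IsPGroup.of_card hAc).exists_le_sylow
    have h3 := (hrank t ht P).2 (A.subgroupOf P) ⟨⟨fun a b => ?_⟩⟩ fun a ha => ?_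
    · rw [Nat.card_congr (subgroupOfEquivOfLe hP).toEquiv, hAc] at h3
      exact (Nat.pow_le_pow_iff_right ht.one_lt).mp h3
    · apply Subtype.ext; apply Subtype.ext; apply Subtype.ext
      exact hZc _ a.2 _ b.2
    · apply Subtype.ext; apply Subtype.ext
      exact hZt _ ha
  have h5 : k ≠ 0 := fun e => hZne (Subgroup.card_eq_one.mp (by rw [hk, e, pow_zero]))
  -- `W₁` acts freely on `Z`
  have hn : ∀ w ∈ W₁, ∀ z ∈ Z, w * z * w⁻¹ ∈ Z := fun w hw =>
    hZn w (h9.W₁_le_normalizer_U hw)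
  have hmod := card_modEq_one_of_fpf (D := Z) (W := W₁)
    (fun w hw => Subgroup.mem_normalizer_iff.mpr fun z => ⟨hn w hw z, fun hz => by
      simpa [mul_assoc] using hn w⁻¹ (inv_mem hw) _ hz⟩)
    h9.q_prime rfl (fun w hw hw1 z hz hwz => h9.fpf' w hw hw1 z (hZU hz) hwz)
  rw [hk] at hmod
  have hq := h9.q_prime
  rcases (show k = 1 ∨ k = 2 by omega) with rfl | rfl
  · rw [pow_one] at hmod
    have := Nat.le_of_dvd (by have := ht.two_le; omega)
      ((Nat.modEq_iff_dvd' ht.one_le).mp hmod.symm)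
    omega
  · have h6 : Nat.card W₁ ∣ (t + 1) * (t - 1) := by
      have := (Nat.modEq_iff_dvd' (Nat.one_le_pow _ _ ht.pos)).mp hmod.symm
      rwa [show t ^ 2 - 1 = (t + 1) * (t - 1) by
        rw [show t ^ 2 - 1 = t ^ 2 - 1 ^ 2 by rw [one_pow], Nat.sq_sub_sq]] at this
    rcases hq.dvd_mul.mp h6 with h7 | h7
    · have := Nat.le_of_dvd (by omega) h7; omega
    · have := Nat.le_of_dvd (by have := ht.two_le; omega) h7; omega

/-- A maximal subgroup over the normaliser of `U` is of Type I. -/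
theorem typeI_over (h : Hyp13 S T W₁ W₂ U V) (hII : Cfsg.IsOfTypeII S) (hL : IsCoatom L)
    (hNU : normalizer (U : Set G) ≤ L) : IsTypeI' L := by
  have s := h.side14 hG hF h47
  have t := h.symm.side14 hG hF h47
  rcases cfg14_classes hG hF s t hL with hI | ⟨g, hg | hg⟩
  · exact hI
  · exact absurd hg (not_conj_S hG h.maxS s.hyp9 hII hNU g)
  · exact absurd hg (not_conj_T hG s.hyp9 t.hyp9 t.card_P hNU g)

/-- First case: the index is `q` and the Fitting Hall subgroup is larger than `U`. -/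
theorem local_case_one (h : Hyp13 S T W₁ W₂ U V) (hII : Cfsg.IsOfTypeII S) (hL : IsCoatom L)
    (hNU : normalizer (U : Set G) ≤ L) (h1 : Cfsg.fittingHallOf L ⊓ W₁ = ⊥)
    (h2 : Cfsg.fittingHallOf L ⊔ W₁ = L) :
    ((Cfsg.fittingHallOf L).subgroupOf L).index = Nat.card W₁ ∧ U < Cfsg.fittingHallOf L := by
  have s := h.side14 hG hF h47
  obtain ⟨-, hUL, -⟩ := support_of_typeII hG hF h47 h hII hL hNU
  have hHL := Cfsg.Lib.FittingHall.fittingHallOf_le L
  have hHn := Cfsg.Lib.FittingHall.le_normalizer_fittingHallOf L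
  have hWL : W₁ ≤ L := le_sup_right.trans h2.le
  refine ⟨relIndex_compl ⟨hHL, hWL, h1, fun m hm => ?_⟩ hHn, lt_of_le_of_ne hUL fun e => ?_⟩
  · obtain ⟨r, hr, w, hw, rfl⟩ :=
      (Cfsg.Lib.Coprime.mem_sup_of_le_normalizer (hWL.trans hHn)).mp (h2.ge hm)
    exact ⟨r, hr, w, hw, rfl⟩
  · have hLS : L ≤ S := h2 ▸ sup_le (e ▸ s.hyp9.U_le) s.hyp9.W₁_le
    refine not_conj_S hG h.maxS s.hyp9 hII hNU 1 ?_
    rw [(hL.le_iff.mp hLS).resolve_left h.maxS.1]
    ext x
    simp [TypeMap.im]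

/-- The complement of the second case: it is the conjugate of `W₁ W₂` by `y`, of order `p q`. -/
theorem local_card_sup_conj (h : Hyp13 S T W₁ W₂ U V) {y : G}
    (hy : y ∈ Cfsg.fittingHallOf T) :
    Nat.card ↥(W₁ ⊔ W₂.map (MulAut.conj y).toMonoidHom) = Nat.card W₂ * Nat.card W₁ := by
  have s := h.side14 hG hF h47
  have t := h.symm.side14 hG hF h47
  have h9T := t.hyp9
  have e : W₁.map (MulAut.conj y).toMonoidHom = W₁ := by
    have hc : ∀ x ∈ W₁, y * x = x * y := fun x hx =>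
      congrArg Subtype.val (t.elem.1.is_comm.comm ⟨y, hy⟩ ⟨x, h9T.W₂_le_H hx⟩)
    ext x
    constructor
    · rintro ⟨z, hz, rfl⟩
      show y * z * y⁻¹ ∈ W₁
      rwa [hc z hz, mul_inv_cancel_right]
    · intro hx
      exact ⟨x, hx, show y * x * y⁻¹ = x by rw [hc x hx, mul_inv_cancel_right]⟩
  have e2 : W₁ ⊔ W₂.map (MulAut.conj y).toMonoidHom =
      (W₁ ⊔ W₂).map (MulAut.conj y).toMonoidHom := by rw [Subgroup.map_sup, e]
  have hcop : (Nat.card W₁).Coprime (Nat.card W₂) :=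
    (Nat.coprime_primes s.q_prime s.p_prime).mpr s.ne
  have hc12 : ∀ a ∈ W₁, ∀ b ∈ W₂, a * b = b * a := fun a ha b hb =>
    h.dataS.selfNormalizing.2.2.2.1 a ha b hb
  have hn : W₁ ⊔ W₂ ≤ normalizer (W₁ : Set G) := sup_le Subgroup.le_normalizer fun b hb =>
    mem_normalizer_iff.mpr fun a => ⟨fun ha => by
      show b * a * b⁻¹ ∈ W₁
      rw [← hc12 a ha b hb, mul_inv_cancel_right]; exact ha, fun ha => by
      have := hc12 _ ha b hb
      have e3 : b * a * b⁻¹ = a := by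
        have h3 : b * (b * a * b⁻¹) = b * a := by rw [← this]; group
        exact mul_left_cancel h3
      rwa [e3] at ha⟩
  rw [e2, card_map_of_injective (MulAut.conj y).injective, card_complIn (M := W₁ ⊔ W₂)
    (A := W₁) (B := W₂) ⟨le_sup_left, le_sup_right, inf_eq_bot_of_coprime hcop, fun m hm => ?_⟩ hn,
    mul_comm]
  obtain ⟨r, hr, w, hw, rfl⟩ :=
    (Cfsg.Lib.Coprime.mem_sup_of_le_normalizer (le_sup_right.trans hn)).mp hm
  exact ⟨r, hr, w, hw, rfl⟩

/-- Second case: the index is `p q`, and the order of the Fitting Hall subgroup is `1` modulo it. -/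
theorem local_case_two (h : Hyp13 S T W₁ W₂ U V) (hII : Cfsg.IsOfTypeII S) (hL : IsCoatom L)
    (hNU : normalizer (U : Set G) ≤ L) {y : G} (hy : y ∈ Cfsg.fittingHallOf T)
    (h1 : Cfsg.fittingHallOf L ⊓ (W₁ ⊔ W₂.map (MulAut.conj y).toMonoidHom) = ⊥)
    (h2 : Cfsg.fittingHallOf L ⊔ (W₁ ⊔ W₂.map (MulAut.conj y).toMonoidHom) = L) :
    ((Cfsg.fittingHallOf L).subgroupOf L).index = Nat.card W₂ * Nat.card W₁ ∧
      Nat.card (Cfsg.fittingHallOf L) ≡ 1 [MOD Nat.card W₂ * Nat.card W₁] := by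
  have s := h.side14 hG hF h47
  obtain ⟨hfrob, -, -⟩ := support_of_typeII hG hF h47 h hII hL hNU
  have hHL := Cfsg.Lib.FittingHall.fittingHallOf_le L
  have hHn := Cfsg.Lib.FittingHall.le_normalizer_fittingHallOf L
  have hEL : W₁ ⊔ W₂.map (MulAut.conj y).toMonoidHom ≤ L := le_sup_right.trans h2.le
  have hcompl : Cfsg.IsComplIn (Cfsg.fittingHallOf L)
      (W₁ ⊔ W₂.map (MulAut.conj y).toMonoidHom) L := ⟨hHL, hEL, h1, fun m hm => by
    obtain ⟨r, hr, w, hw, rfl⟩ :=
      (Cfsg.Lib.Coprime.mem_sup_of_le_normalizer (hEL.trans hHn)).mp (h2.ge hm)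
    exact ⟨r, hr, w, hw, rfl⟩⟩
  refine ⟨(relIndex_compl hcompl hHn).trans (local_card_sup_conj hG hF h47 h hy), ?_⟩
  have key : ∀ W : Subgroup G, W ≤ W₁ ⊔ W₂.map (MulAut.conj y).toMonoidHom →
      (Nat.card W).Prime → Nat.card (Cfsg.fittingHallOf L) ≡ 1 [MOD Nat.card W] := fun W hW hp =>
    card_modEq_one_of_fpf ((hW.trans hEL).trans hHn) hp rfl fun w hw hw1 x hx hwx => by
      by_contra hx1
      exact hw1 (mem_bot.mp (h1.le ⟨hfrob x hx hx1
        ⟨hEL (hW hw), mem_centralizer_singleton_iff.mpr hwx⟩, hW hw⟩))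
  refine (Nat.modEq_and_modEq_iff_modEq_mul ((Nat.coprime_primes s.p_prime s.q_prime).mpr s.ne.symm)).mp
    ⟨?_, key W₁ le_sup_left s.q_prime⟩
  have := key (W₂.map (MulAut.conj y).toMonoidHom) le_sup_right
    (by rw [card_map_of_injective (MulAut.conj y).injective]; exact s.p_prime)
  rwa [card_map_of_injective (MulAut.conj y).injective] at this

/-- Second case with `L_F = U`, or `L_F` cyclic: the conjugate of `W₂` normalises `U`. -/
theorem local_normalizes (h : Hyp13 S T W₁ W₂ U V) (hII : Cfsg.IsOfTypeII S) (hL : IsCoatom L)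
    (hNU : normalizer (U : Set G) ≤ L) {y : G} (hy : y ∈ Cfsg.fittingHallOf T)
    (h1 : Cfsg.fittingHallOf L ⊓ (W₁ ⊔ W₂.map (MulAut.conj y).toMonoidHom) = ⊥)
    (h2 : Cfsg.fittingHallOf L ⊔ (W₁ ⊔ W₂.map (MulAut.conj y).toMonoidHom) = L)
    (hc : Cfsg.fittingHallOf L = U ∨ IsCyclic ↥(Cfsg.fittingHallOf L)) :
    W₂.map (MulAut.conj y).toMonoidHom ≤ normalizer (U : Set G) ∧
      Nat.card U ≡ 1 [MOD Nat.card W₂] := by
  obtain ⟨hfrob, hUL, -⟩ := support_of_typeII hG hF h47 h hII hL hNU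
  have hWy : W₂.map (MulAut.conj y).toMonoidHom ≤ L :=
    (le_sup_right.trans le_sup_right).trans h2.le
  have hn : W₂.map (MulAut.conj y).toMonoidHom ≤ normalizer (U : Set G) := by
    have hHn := Cfsg.Lib.FittingHall.le_normalizer_fittingHallOf L
    rcases hc with e | hcyc
    · exact e ▸ hWy.trans hHn
    · intro w hw
      haveI := hcyc
      rw [← Cfsg.Lib.Coprime.conjMap_eq_self_iff]
      refine Cfsg.Lib.SolvStruct.CyclicProduct.eq_of_card_eq_of_isCyclic
        (A := Cfsg.fittingHallOf L) ?_ hUL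
        (card_map_of_injective (MulAut.conj w).injective)
      rintro _ ⟨z, hz, rfl⟩
      exact (mem_normalizer_iff.mp (hHn (hWy hw)) z).mp (hUL hz)
  refine ⟨hn, card_modEq_one_of_fpf hn (side13 hG hF h).p_prime
    (card_map_of_injective (MulAut.conj y).injective) fun w hw hw1 x hx hwx => ?_⟩
  by_contra hx1
  exact hw1 (mem_bot.mp (h1.le ⟨hfrob x (hUL hx) hx1
    ⟨hWy hw, mem_centralizer_singleton_iff.mpr hwx⟩, mem_sup_right hw⟩))

end Cfsg.Agent.PF
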