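import Mathlib

/-!
# Section 14: the arithmetic

`n = (p ^ q - 1) / (p - 1)` and `m = (q ^ p - 1) / (q - 1)` for odd primes `q < p`, and the numerical
contradictions of the counting argument.
-/

set_option linter.unusedVariables false
set_option autoImplicit false

namespace Cfsg.Agent.PF.Arith14

/-- `(q + 1) ^ q ≤ q ^ (q + 1)` for `3 ≤ q`. -/
theorem succ_pow_le {q : ℕ} (hq : 3 ≤ q) : (q + 1) ^ q ≤ q ^ (q + 1) := by
  induction q, hq using Nat.le_induction with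
  | base => norm_num
  | succ q hq ih =>
    refine le_of_mul_le_mul_right ?_ (show 0 < q ^ (q + 1) by positivity)
    calc (q + 1 + 1) ^ (q + 1) * q ^ (q + 1) = ((q + 1 + 1) * q) ^ (q + 1) := by rw [mul_pow]
      _ ≤ ((q + 1) * (q + 1)) ^ (q + 1) := Nat.pow_le_pow_left (by nlinarith) _
      _ = (q + 1) ^ (q + 2) * (q + 1) ^ q := by rw [← pow_add, ← pow_two, ← pow_mul]; ring
      _ ≤ (q + 1) ^ (q + 1 + 1) * q ^ (q + 1) := Nat.mul_le_mul_left _ ih

/-- `p ^ q ≤ q ^ p` for `3 ≤ q ≤ p`. -/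
theorem pow_le_pow_swap {p q : ℕ} (hq : 3 ≤ q) (hp : q ≤ p) : p ^ q ≤ q ^ p := by
  induction p, hp using Nat.le_induction with
  | base => rfl
  | succ p hp ih =>
    have h1 : (p + 1) ^ q * q ^ q ≤ p ^ q * (q + 1) ^ q := by
      rw [← mul_pow, ← mul_pow]
      exact Nat.pow_le_pow_left (by nlinarith) _
    have h2 : (p + 1) ^ q * q ^ q ≤ (q ^ p * q) * q ^ q := by
      refine h1.trans ((Nat.mul_le_mul ih (succ_pow_le hq)).trans (le_of_eq ?_))
      rw [pow_succ]; ring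
    rw [pow_succ]
    exact le_of_mul_le_mul_right h2 (by positivity)

/-- `a ↦ (b ^ c - 1) / (b - 1)` as a sum. -/
theorem eq_geom {b c n : ℕ} (hb : 2 ≤ b) (h : n * (b - 1) = b ^ c - 1) :
    n = ∑ i ∈ Finset.range c, b ^ i := by
  have h1 := Nat.geomSum_eq hb c
  rw [h1, ← h, Nat.mul_div_cancel _ (by omega)]

theorem n_sq_le {p q n : ℕ} (hq : 3 ≤ q) (hp : 2 ≤ p) (h : n * (p - 1) = p ^ q - 1) :
    p ^ 2 + p + 1 ≤ n := by
  rw [eq_geom hp h]
  refine le_trans (le_of_eq ?_) (Finset.sum_le_sum_of_subset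
    (Finset.range_subset_range.mpr hq))
  simp [Finset.sum_range_succ]; ring

theorem n_four_le {p q n : ℕ} (hq : 5 ≤ q) (hp : 2 ≤ p) (h : n * (p - 1) = p ^ q - 1) :
    p ^ 4 ≤ n := by
  rw [eq_geom hp h]
  exact Finset.single_le_sum (f := fun i => p ^ i) (fun _ _ => by positivity)
    (Finset.mem_range.mpr hq)

theorem odd_geom {b c : ℕ} (hb : Odd b) (hc : Odd c) : Odd (∑ i ∈ Finset.range c, b ^ i) := by
  rw [Finset.odd_sum_iff_odd_card_odd]
  rwa [Finset.filter_true_of_mem (fun i _ => hb.pow), Finset.card_range]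

theorem geom_modEq_self {b c : ℕ} (hc : 0 < c) : ∑ i ∈ Finset.range c, b ^ i ≡ 1 [MOD b] := by
  obtain ⟨d, rfl⟩ : ∃ d, c = d + 1 := ⟨c - 1, by omega⟩
  rw [Finset.sum_range_succ', pow_zero]
  refine (Nat.ModEq.add_right 1 (?_ : ∑ i ∈ Finset.range d, b ^ (i + 1) ≡ 0 [MOD b])).trans
    (by rw [zero_add])
  exact Nat.modEq_zero_iff_dvd.mpr (Finset.dvd_sum fun i _ => dvd_pow_self b (by omega))

theorem geom_modEq_zero {b c : ℕ} (h : b ≡ 1 [MOD c]) :
    ∑ i ∈ Finset.range c, b ^ i ≡ 0 [MOD c] := by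
  rw [← ZMod.natCast_eq_natCast_iff]
  have hb : (b : ZMod c) = 1 := by
    rw [← Nat.cast_one, ZMod.natCast_eq_natCast_iff]; exact h
  push_cast
  simp [hb]

theorem geom_modEq_one {b c : ℕ} (hc : c.Prime) (h : ¬ b ≡ 1 [MOD c]) :
    ∑ i ∈ Finset.range c, b ^ i ≡ 1 [MOD c] := by
  haveI := Fact.mk hc
  rw [← ZMod.natCast_eq_natCast_iff]
  have hb : (b : ZMod c) ≠ 1 := by
    rw [← Nat.cast_one, Ne, ZMod.natCast_eq_natCast_iff]; exact h
  have h1 : (∑ i ∈ Finset.range c, (b : ZMod c) ^ i) * ((b : ZMod c) - 1) = (b : ZMod c) - 1 := by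
    rw [geom_sum_mul, ZMod.pow_card]
  push_cast
  exact mul_right_cancel₀ (sub_ne_zero.mpr hb) (h1.trans (one_mul _).symm)

/-- `p (n - 1) < q (m - 1)`. -/
theorem n_lt_m {p q n m : ℕ} (hq : 3 ≤ q) (hp : q < p) (hn : n * (p - 1) = p ^ q - 1)
    (hm : m * (q - 1) = q ^ p - 1) : (p : ℝ) * ((n : ℝ) - 1) < (q : ℝ) * ((m : ℝ) - 1) := by
  have h1 : (p : ℝ) ^ q ≤ (q : ℝ) ^ p := by exact_mod_cast pow_le_pow_swap hq hp.le
  have h2 : (n : ℝ) * ((p : ℝ) - 1) = (p : ℝ) ^ q - 1 := by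
    have := congrArg (Nat.cast (R := ℝ)) hn
    rw [Nat.cast_mul, Nat.cast_sub (by omega), Nat.cast_sub (Nat.one_le_pow _ _ (by omega)),
      Nat.cast_pow, Nat.cast_one] at this
    exact this
  have h3 : (m : ℝ) * ((q : ℝ) - 1) = (q : ℝ) ^ p - 1 := by
    have := congrArg (Nat.cast (R := ℝ)) hm
    rw [Nat.cast_mul, Nat.cast_sub (by omega), Nat.cast_sub (Nat.one_le_pow _ _ (by omega)),
      Nat.cast_pow, Nat.cast_one] at this
    exact this
  have hq' : (3 : ℝ) ≤ q := by exact_mod_cast hq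
  have hp' : (q : ℝ) + 1 ≤ p := by exact_mod_cast hp
  have hn1 : (0 : ℝ) ≤ (p : ℝ) ^ q - p := by
    have : (p : ℝ) ^ 1 ≤ (p : ℝ) ^ q := pow_le_pow_right₀ (by linarith) (by omega)
    linarith [pow_one (p : ℝ)]
  refine lt_of_mul_lt_mul_right ?_ (show (0 : ℝ) ≤ ((p : ℝ) - 1) * ((q : ℝ) - 1) by nlinarith)
  have e1 : (p : ℝ) * ((n : ℝ) - 1) * (((p : ℝ) - 1) * ((q : ℝ) - 1)) =
      (p : ℝ) * ((q : ℝ) - 1) * ((p : ℝ) ^ q - p) := by
    rw [show (p : ℝ) ^ q - p = (n : ℝ) * ((p : ℝ) - 1) - ((p : ℝ) - 1) by linarith]; ring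
  have e2 : (q : ℝ) * ((m : ℝ) - 1) * (((p : ℝ) - 1) * ((q : ℝ) - 1)) =
      (q : ℝ) * ((p : ℝ) - 1) * ((q : ℝ) ^ p - q) := by
    rw [show (q : ℝ) ^ p - q = (m : ℝ) * ((q : ℝ) - 1) - ((q : ℝ) - 1) by linarith]; ring
  rw [e1, e2]
  have hc : 0 < (q : ℝ) * ((p : ℝ) - 1) - (p : ℝ) * ((q : ℝ) - 1) := by linarith
  have hd : (p : ℝ) ^ q - p < (q : ℝ) ^ p - q := by linarith
  nlinarith [mul_nonneg hc.le hn1, mul_pos (show (0 : ℝ) < (q : ℝ) * ((p : ℝ) - 1) by nlinarith)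
    (sub_pos.mpr hd)]

/-- The contradiction when `v ≠ m`. -/
theorem v_arith {p q u n v : ℕ} (hq : 3 ≤ q) (hp : q + 2 ≤ p) (hn : n * (p - 1) = p ^ q - 1)
    (hu : 7 ≤ u) (hun : u ≤ n) (hv : v * (2 * p + 1) * (q - 1) ≤ q ^ p - 1) (hv0 : 0 < v) {g : ℝ}
    (hg : (p : ℝ) ^ q * u * q ≤ g)
    (h : 1 - (u : ℝ) / ((p : ℝ) ^ q - 1) - ((p : ℝ) ^ q - 1) / ((p : ℝ) ^ q * u) - (q : ℝ) / g ≤
      (p : ℝ) * q * v / ((q : ℝ) ^ p - 1)) : False := by
  have hq' : (3 : ℝ) ≤ q := by exact_mod_cast hq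
  have hp' : (q : ℝ) + 2 ≤ p := by exact_mod_cast hp
  have hu' : (7 : ℝ) ≤ u := by exact_mod_cast hu
  have hun' : (u : ℝ) ≤ n := by exact_mod_cast hun
  have hpq : (p : ℝ) ^ 3 ≤ (p : ℝ) ^ q := pow_le_pow_right₀ (by linarith) hq
  have hN : (n : ℝ) * ((p : ℝ) - 1) = (p : ℝ) ^ q - 1 := by
    have := congrArg (Nat.cast (R := ℝ)) hn
    rw [Nat.cast_mul, Nat.cast_sub (by omega), Nat.cast_sub (Nat.one_le_pow _ _ (by omega)),
      Nat.cast_pow, Nat.cast_one] at this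
    exact this
  set N : ℝ := (p : ℝ) ^ q - 1 with hNdef
  have hp5 : (5 : ℝ) ≤ p := by linarith
  have h125 : (125 : ℝ) ≤ (p : ℝ) ^ 3 := le_trans (by norm_num) (pow_le_pow_left₀ (by norm_num) hp5 3)
  have hN0 : 0 < N := by linarith
  have hn0 : (0 : ℝ) < n := by linarith
  -- the right side
  have hv' : (v : ℝ) * (2 * (p : ℝ) + 1) * ((q : ℝ) - 1) ≤ (q : ℝ) ^ p - 1 := by
    have := (Nat.cast_le (α := ℝ)).mpr hv
    rw [Nat.cast_mul, Nat.cast_mul, Nat.cast_sub (by omega),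
      Nat.cast_sub (Nat.one_le_pow _ _ (by omega)), Nat.cast_pow, Nat.cast_one] at this
    push_cast at this
    linarith
  have hv1 : (0 : ℝ) < v := by exact_mod_cast hv0
  have hR : (p : ℝ) * q * v / ((q : ℝ) ^ p - 1) ≤
      (p : ℝ) * q / ((2 * (p : ℝ) + 1) * ((q : ℝ) - 1)) := by
    have hd : 0 < (2 * (p : ℝ) + 1) * ((q : ℝ) - 1) := by nlinarith
    have hM : 0 < (q : ℝ) ^ p - 1 := lt_of_lt_of_le (by positivity) ((mul_assoc _ _ _).symm.trans_le hv')
    rw [div_le_div_iff₀ hM hd]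
    nlinarith [mul_le_mul_of_nonneg_left hv' (show (0 : ℝ) ≤ (p : ℝ) * q by positivity)]
  -- the left side
  have hm1 : ((p : ℝ) ^ q - 1) / ((p : ℝ) ^ q * u) ≤ 1 / u := by
    rw [div_le_div_iff₀ (by positivity) (by linarith)]
    nlinarith
  have hqg : (q : ℝ) / g ≤ 1 / 875 := by
    have : (125 : ℝ) * 7 * q ≤ g := le_trans (by gcongr; linarith) hg
    rw [div_le_div_iff₀ (by linarith) (by norm_num)]
    nlinarith
  have hf : (u : ℝ) / N + 1 / u ≤ 7 / N + max (1 / 7) (1 / ((p : ℝ) - 1)) := by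
    have hq2 : ((u : ℝ) - 7) * ((u : ℝ) - n) ≤ 0 :=
      mul_nonpos_of_nonneg_of_nonpos (by linarith) (by linarith)
    rcases le_total ((p : ℝ) - 1) 7 with h7 | h7
    · refine le_trans ?_ (add_le_add_right (le_max_right _ _) _)
      rw [div_add_div _ _ hN0.ne' (by linarith : (u : ℝ) ≠ 0),
        div_add_div _ _ hN0.ne' (by linarith : (p : ℝ) - 1 ≠ 0),
        div_le_div_iff₀ (by positivity) (mul_pos hN0 (by linarith))]
      have : (u : ℝ) * u + N ≤ ((7 : ℝ) + n) * u := by nlinarith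
      nlinarith [mul_le_mul_of_nonneg_left this (mul_nonneg hN0.le (by linarith : (0:ℝ) ≤ (p : ℝ) - 1)),
        congrArg (fun x => N * u * x) hN]
    · refine le_trans ?_ (add_le_add_right (le_max_left _ _) _)
      rw [div_add_div _ _ hN0.ne' (by linarith : (u : ℝ) ≠ 0),
        div_add_div _ _ hN0.ne' (by norm_num : (7 : ℝ) ≠ 0),
        div_le_div_iff₀ (by positivity) (by positivity)]
      have h8 : (0 : ℝ) ≤ (u - 7) * (N - 7 * u) := by
        refine mul_nonneg (by linarith) ?_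
        nlinarith
      nlinarith [mul_nonneg hN0.le h8]
  rcases eq_or_lt_of_le (show 5 ≤ p by omega) with rfl | h6
  · obtain rfl : q = 3 := by omega
    norm_num at hR hNdef
    norm_num [hNdef] at hf h
    norm_num at hf h
    norm_num at hm1
    linarith
  · have hp7 : (6 : ℝ) ≤ p := by exact_mod_cast h6
    have hmax : max (1 / 7) (1 / ((p : ℝ) - 1)) ≤ 1 / 5 := by
      refine max_le (by norm_num) ?_
      exact one_div_le_one_div_of_le (by norm_num) (by linarith)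
    have h7N : 7 / N ≤ 7 / 215 := by
      have : (216 : ℝ) ≤ (p : ℝ) ^ 3 := le_trans (by norm_num) (pow_le_pow_left₀ (by norm_num) hp7 3)
      exact div_le_div_of_nonneg_left (by norm_num) (by norm_num) (by linarith)
    have hR' : (p : ℝ) * q / ((2 * (p : ℝ) + 1) * ((q : ℝ) - 1)) ≤ 3 / 4 := by
      rw [div_le_div_iff₀ (by nlinarith) (by norm_num)]
      nlinarith
    linarith

/-- The lower bound for `u` when `v = m`. -/
theorem u_lower {p q u v : ℕ} (hq : 3 ≤ q) (hp : q + 2 ≤ p) (hu : 7 ≤ u)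
    (hv : v * (q - 1) = q ^ p - 1) {g : ℝ} (hg : (p : ℝ) ^ q * u * q ≤ g)
    (h : 1 - (v : ℝ) / ((q : ℝ) ^ p - 1) - ((q : ℝ) ^ p - 1) / ((q : ℝ) ^ p * v) - (p : ℝ) / g ≤
      (q : ℝ) * p * u / ((p : ℝ) ^ q - 1)) :
    (q = 3 → 48 * (p ^ q - 1) ≤ 100 * (p * q * u)) ∧
      (5 ≤ q → 73 * (p ^ q - 1) ≤ 100 * (p * q * u)) := by
  have hq' : (3 : ℝ) ≤ q := by exact_mod_cast hq
  have hp' : (q : ℝ) + 2 ≤ p := by exact_mod_cast hp
  have hu' : (7 : ℝ) ≤ u := by exact_mod_cast hu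
  have hM : (v : ℝ) * ((q : ℝ) - 1) = (q : ℝ) ^ p - 1 := by
    have := congrArg (Nat.cast (R := ℝ)) hv
    rw [Nat.cast_mul, Nat.cast_sub (by omega), Nat.cast_sub (Nat.one_le_pow _ _ (by omega)),
      Nat.cast_pow, Nat.cast_one] at this
    exact this
  have hqp : (243 : ℝ) ≤ (q : ℝ) ^ p :=
    calc (243 : ℝ) = 3 ^ 5 := by norm_num
      _ ≤ (q : ℝ) ^ 5 := by gcongr
      _ ≤ (q : ℝ) ^ p := pow_le_pow_right₀ (by linarith) (by omega)
  have hv0 : (0 : ℝ) < v := by nlinarith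
  have h1 : (v : ℝ) / ((q : ℝ) ^ p - 1) = 1 / ((q : ℝ) - 1) := by
    rw [← hM]; field_simp
  have h2 : ((q : ℝ) ^ p - 1) / ((q : ℝ) ^ p * v) ≤ ((q : ℝ) - 1) / 243 := by
    rw [← hM, div_le_div_iff₀ (by positivity) (by norm_num)]
    nlinarith [mul_le_mul_of_nonneg_left hqp (mul_nonneg hv0.le (by linarith : (0:ℝ) ≤ (q:ℝ) - 1))]
  have h2' : ((q : ℝ) ^ p - 1) / ((q : ℝ) ^ p * v) ≤ 1 / v := by
    rw [div_le_div_iff₀ (by positivity) hv0]
    nlinarith
  have h3 : (p : ℝ) / g ≤ 1 / 525 := by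
    have hpq : (p : ℝ) ^ 3 ≤ (p : ℝ) ^ q := pow_le_pow_right₀ (by linarith) hq
    have hp5 : (5 : ℝ) ≤ p := by linarith
    have h25 : (25 : ℝ) * p ≤ (p : ℝ) ^ 3 := by
      nlinarith [mul_le_mul_of_nonneg_left (mul_le_mul hp5 hp5 (by norm_num) (by linarith)) (by linarith : (0:ℝ) ≤ p)]
    have : (25 : ℝ) * p * 7 * 3 ≤ g := le_trans (by gcongr; linarith) hg
    rw [div_le_div_iff₀ (by nlinarith) (by norm_num)]
    nlinarith
  rw [h1] at h
  have hN : (0 : ℝ) < (p : ℝ) ^ q - 1 := by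
    have : (p : ℝ) ^ 1 ≤ (p : ℝ) ^ q := pow_le_pow_right₀ (by linarith) (by omega)
    linarith [pow_one (p : ℝ)]
  have hpow : ((p ^ q - 1 : ℕ) : ℝ) = (p : ℝ) ^ q - 1 := by
    rw [Nat.cast_sub (Nat.one_le_pow _ _ (by omega))]; simp
  constructor
  · intro h3q
    have : (q : ℝ) = 3 := by exact_mod_cast h3q
    rw [this] at h h2
    norm_num at h h2
    rw [this] at hM
    norm_num at hM
    have hk : (48 : ℝ) / 100 ≤ 3 * (p : ℝ) * u / ((p : ℝ) ^ q - 1) := by
      subst h3q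
      norm_num at h ⊢
      linarith
    rw [div_le_div_iff₀ (by norm_num) hN] at hk
    rw [← Nat.cast_le (α := ℝ)]
    push_cast [hpow]
    rw [this]
    linarith
  · intro h5
    have hq5 : (5 : ℝ) ≤ q := by exact_mod_cast h5
    have hvbig : (243 : ℝ) / ((q : ℝ) - 1) - 1 ≤ v := by
      rw [sub_le_iff_le_add, div_le_iff₀ (by linarith)]
      nlinarith
    have hq1 : 1 / ((q : ℝ) - 1) ≤ 1 / 4 := one_div_le_one_div_of_le (by norm_num) (by linarith)
    have hv100 : (100 : ℝ) ≤ v := by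
      have h57 : (q : ℝ) ^ 7 ≤ (q : ℝ) ^ p := pow_le_pow_right₀ (by linarith) (by omega)
      have : 200 * ((q : ℝ) - 1) ≤ (q : ℝ) ^ 7 := by
        nlinarith [pow_le_pow_left₀ (by norm_num : (0:ℝ) ≤ 5) hq5 6]
      nlinarith
    have hv1 : 1 / (v : ℝ) ≤ 1 / 100 := one_div_le_one_div_of_le (by norm_num) hv100
    have hk : (73 : ℝ) / 100 ≤ (q : ℝ) * p * u / ((p : ℝ) ^ q - 1) := by linarith
    rw [div_le_div_iff₀ (by norm_num) hN] at hk
    rw [← Nat.cast_le (α := ℝ)]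
    push_cast [hpow]
    linarith

/-- `u` is `n` or `n / q`: the Galois case. -/
theorem u_galois {p q u k n : ℕ} (hpp : p.Prime) (hqq : q.Prime) (hq : 3 ≤ q) (hp : q + 2 ≤ p)
    (hpo : Odd p) (hn : n * (p - 1) = p ^ q - 1) (hk : n = k * u) (hu1 : 1 < u)
    (hu : u ≡ 1 [MOD q]) (hb : u < n →
      (q = 3 → 48 * (p ^ q - 1) ≤ 100 * (p * q * u)) ∧
        (5 ≤ q → 73 * (p ^ q - 1) ≤ 100 * (p * q * u))) : k = 1 ∨ k = q := by
  by_contra hc
  push Not at hc
  obtain ⟨hk1, hkq⟩ := hc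
  have hqo : Odd q := hqq.odd_of_ne_two (by omega)
  have hsum := eq_geom (by omega) hn
  have hno : Odd n := hsum ▸ odd_geom hpo hqo
  have hko : Odd k := Nat.Odd.of_mul_left (hk ▸ hno)
  have hkn : k * u ≡ k [MOD q] := by simpa using hu.mul_left k
  rw [← hk] at hkn
  have hk0 : 0 < k := hko.pos
  have hlt : u < n := by
    rw [hk]; exact lt_mul_of_one_lt_left (by omega) (by omega)
  obtain ⟨hb3, hb5⟩ := hb hlt
  have hN : p ^ q - 1 = k * (p - 1) * u := by rw [← hn, hk]; ring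
  rw [hN] at hb3 hb5
  have hbig : 2 * q + 1 ≤ k ∧ (p ≡ 1 [MOD q] → 3 * q ≤ k) := by
    by_cases h1 : p ≡ 1 [MOD q]
    · have h0 : k ≡ 0 [MOD q] := hkn.symm.trans (hsum ▸ geom_modEq_zero h1)
      obtain ⟨j, rfl⟩ := Nat.modEq_zero_iff_dvd.mp h0
      obtain ⟨a, ha⟩ := Nat.Odd.of_mul_right hko
      have : 3 ≤ j := by
        rcases Nat.eq_zero_or_pos a with rfl | h
        · exact absurd (by rw [ha]; ring) hkq
        · omega
      refine ⟨?_, fun _ => ?_⟩ <;> nlinarith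
    · have h0 : k ≡ 1 [MOD q] := hkn.symm.trans (hsum ▸ geom_modEq_one hqq h1)
      obtain ⟨j, hj⟩ := (Nat.modEq_iff_dvd' hk0).mp h0.symm
      refine ⟨?_, fun h => absurd h h1⟩
      obtain ⟨a, ha⟩ := hko
      obtain ⟨b, hb⟩ := hqo
      rcases (show j = 0 ∨ j = 1 ∨ 2 ≤ j by omega) with rfl | rfl | hj2
      · omega
      · omega
      · have := Nat.mul_le_mul_left q hj2
        omega
  have hp1 : 1 ≤ p := by omega
  obtain ⟨hb1, hb2⟩ := hbig
  rcases (show q = 3 ∨ 5 ≤ q by obtain ⟨b, hb⟩ := hqo; omega) with h3 | h5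
  · have h48 := hb3 h3
    subst h3
    have hcan : 48 * (k * (p - 1)) ≤ 300 * p :=
      le_of_mul_le_mul_right (show 48 * (k * (p - 1)) * u ≤ 300 * p * u by
        calc 48 * (k * (p - 1)) * u = 48 * (k * (p - 1) * u) := by ring
          _ ≤ 100 * (p * 3 * u) := h48
          _ = 300 * p * u := by ring) (by omega)
    rcases (show p = 5 ∨ 7 ≤ p by obtain ⟨a, ha⟩ := hpo; omega) with rfl | h7
    · norm_num at hn
      have : n = 31 := by omega
      subst this
      have hp31 : Nat.Prime 31 := by norm_num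
      rcases (Nat.dvd_prime hp31).mp ⟨u, hk⟩ with rfl | rfl <;> omega
    · rcases (show p = 7 ∨ 9 ≤ p by obtain ⟨a, ha⟩ := hpo; omega) with rfl | h9
      · have := hb2 (by decide)
        omega
      · rcases (show p = 9 ∨ p = 10 ∨ 11 ≤ p by omega) with rfl | rfl | h11
        · exact absurd hpp (by norm_num)
        · exact absurd hpp (by norm_num)
        · have : 7 * (p - 1) ≤ k * (p - 1) := Nat.mul_le_mul_right _ (by omega)
          omega
  · have h73 := hb5 h5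
    have hcan : 73 * (k * (p - 1)) ≤ 100 * (p * q) :=
      le_of_mul_le_mul_right (show 73 * (k * (p - 1)) * u ≤ 100 * (p * q) * u by
        calc 73 * (k * (p - 1)) * u = 73 * (k * (p - 1) * u) := by ring
          _ ≤ 100 * (p * q * u) := h73
          _ = 100 * (p * q) * u := by ring) (by omega)
    have hA : (2 * q + 1) * (p - 1) ≤ k * (p - 1) := Nat.mul_le_mul_right _ hb1
    obtain ⟨P, rfl⟩ : ∃ P, p = P + 1 := ⟨p - 1, by omega⟩
    rw [Nat.add_sub_cancel] at hA hcan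
    nlinarith

/-- The non-Galois case is impossible. -/
theorem u_nongalois {p q u n : ℕ} (hq : 3 ≤ q) (hqo : Odd q) (hp : q + 2 ≤ p)
    (hn : n * (p - 1) = p ^ q - 1) (hu : 2 * u ≤ p - 1)
    (hb : (q = 3 → 48 * (p ^ q - 1) ≤ 100 * (p * q * u)) ∧
        (5 ≤ q → 73 * (p ^ q - 1) ≤ 100 * (p * q * u))) : False := by
  obtain ⟨hb3, hb5⟩ := hb
  rw [← hn] at hb3 hb5
  obtain ⟨b, hb'⟩ := hqo
  have hm : p * q * (2 * u) ≤ p * q * (p - 1) := Nat.mul_le_mul_left _ hu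
  rcases (show q = 3 ∨ 5 ≤ q by omega) with h3 | h5
  · have h48 := hb3 h3
    have hn2 := n_sq_le hq (by omega) hn
    subst h3
    have : 48 * n ≤ 150 * p :=
      le_of_mul_le_mul_right (show 48 * n * (p - 1) ≤ 150 * p * (p - 1) by nlinarith)
        (show 0 < p - 1 by omega)
    nlinarith
  · have h73 := hb5 h5
    have hn4 := n_four_le h5 (by omega) hn
    have h50 : 73 * n ≤ 50 * (p * q) :=
      le_of_mul_le_mul_right (show 73 * n * (p - 1) ≤ 50 * (p * q) * (p - 1) by nlinarith)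
        (show 0 < p - 1 by omega)
    have : p * q ≤ p * p := Nat.mul_le_mul_left _ (by omega)
    have : 4 * (p * p) ≤ p ^ 4 := by
      calc 4 * (p * p) ≤ (p * p) * (p * p) := Nat.mul_le_mul_right _ (by nlinarith)
        _ = p ^ 4 := by ring
    have : 0 < p * p := Nat.mul_pos (by omega) (by omega)
    omega

/-- `T` of type III is impossible. -/
theorem III_arith {p q u n m h : ℕ} (hq : 3 ≤ q) (hp : q + 2 ≤ p) (hn : n * (p - 1) = p ^ q - 1)
    (hm : m * (q - 1) = q ^ p - 1) (hu : u ≤ n) (hh : 7 ≤ h)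
    (hineq : 2 ≤ (q : ℝ) / m + 1 / (h : ℝ) + (p : ℝ) * u / ((p : ℝ) ^ q - 1)) : False := by
  have hq' : (3 : ℝ) ≤ q := by exact_mod_cast hq
  have hp5 : (5 : ℝ) ≤ p := by exact_mod_cast (show 5 ≤ p by omega)
  have hm13 : q * 4 ≤ m := by
    have h1 := n_sq_le (show 3 ≤ p by omega) (show 2 ≤ q by omega) hm
    nlinarith
  have h1 : (q : ℝ) / m ≤ 1 / 4 := by
    have : (q : ℝ) * 4 ≤ m := by exact_mod_cast hm13
    rw [div_le_div_iff₀ (by linarith) (by norm_num)]
    linarith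
  have h2 : 1 / (h : ℝ) ≤ 1 / 7 :=
    one_div_le_one_div_of_le (by norm_num) (by exact_mod_cast hh)
  have h3 : (p : ℝ) * u / ((p : ℝ) ^ q - 1) ≤ 5 / 4 := by
    have hN : (n : ℝ) * ((p : ℝ) - 1) = (p : ℝ) ^ q - 1 := by
      have := congrArg (Nat.cast (R := ℝ)) hn
      rw [Nat.cast_mul, Nat.cast_sub (by omega), Nat.cast_sub (Nat.one_le_pow _ _ (by omega)),
        Nat.cast_pow, Nat.cast_one] at this
      exact this
    have hu' : (u : ℝ) ≤ n := by exact_mod_cast hu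
    have hn0 : (0 : ℝ) < n := by
      have := n_sq_le hq (show 2 ≤ p by omega) hn
      exact_mod_cast (show 0 < n by omega)
    rw [← hN, div_le_div_iff₀ (mul_pos hn0 (by linarith)) (by norm_num)]
    nlinarith
  linarith

/-- `m` is large. -/
theorem m_big {p q m : ℕ} (hq : 3 ≤ q) (hp : q + 2 ≤ p) (hpo : Odd p)
    (hm : m * (q - 1) = q ^ p - 1) (hne : ¬ (q = 3 ∧ p = 5)) :
    p ^ 2 * q * (q - 1) + 1 < m := by
  have hsum := eq_geom (show 2 ≤ q by omega) hm
  have h3 : q ^ (p - 1) + 1 ≤ m := by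
    rw [hsum]
    calc q ^ (p - 1) + 1 = ∑ i ∈ ({p - 1, 0} : Finset ℕ), q ^ i := by
          rw [Finset.sum_pair (by omega), pow_zero]
      _ ≤ _ := Finset.sum_le_sum_of_subset fun i hi => by
          simp only [Finset.mem_insert, Finset.mem_singleton] at hi
          simp only [Finset.mem_range]
          omega
  have key : ∀ d, p ^ 2 * q ^ 2 < q ^ (7 + d - 1) → p = 7 + d → p ^ 2 * q * (q - 1) + 1 < m := by
    intro d hd hpd
    rw [← hpd] at hd
    have : q * (q - 1) ≤ q ^ 2 := by rw [pow_two]; exact Nat.mul_le_mul_left _ (by omega)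
    have : p ^ 2 * q * (q - 1) ≤ p ^ 2 * q ^ 2 := by
      rw [mul_assoc]; exact Nat.mul_le_mul_left _ this
    omega
  rcases (show p = 5 ∨ 7 ≤ p by obtain ⟨a, ha⟩ := hpo; omega) with rfl | h7
  · exact absurd ⟨show q = 3 by omega, rfl⟩ hne
  obtain ⟨d, rfl⟩ : ∃ d, p = 7 + d := ⟨p - 7, by omega⟩
  refine key d ?_ rfl
  have h : ∀ d : ℕ, (7 + d) ^ 2 * q ^ 2 < q ^ (7 + d - 1) := by
    intro d
    induction d with
    | zero =>
      show 49 * q ^ 2 < q ^ 6
      have : (81 : ℕ) ≤ q ^ 4 := le_trans (by norm_num) (Nat.pow_le_pow_left hq 4)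
      calc 49 * q ^ 2 < 81 * q ^ 2 := by nlinarith
        _ ≤ q ^ 4 * q ^ 2 := Nat.mul_le_mul_right _ this
        _ = q ^ 6 := by ring
    | succ d ih =>
      rw [show 7 + (d + 1) - 1 = (7 + d - 1) + 1 by omega, pow_succ q]
      have h2 : (7 + (d + 1)) ^ 2 ≤ 3 * (7 + d) ^ 2 := by ring_nf; omega
      calc (7 + (d + 1)) ^ 2 * q ^ 2 ≤ q * (7 + d) ^ 2 * q ^ 2 :=
            Nat.mul_le_mul_right _ (h2.trans (Nat.mul_le_mul_right _ hq))
        _ = q * ((7 + d) ^ 2 * q ^ 2) := by ring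
        _ < q * q ^ (7 + d - 1) := (Nat.mul_lt_mul_left (by omega)).mpr ih
        _ = q ^ (7 + d - 1) * q := mul_comm _ _
  exact h d

/-- `h` is large when `L_F ≠ U`. -/
theorem h_big {p q u n r : ℕ} (hpp : p.Prime) (hqq : q.Prime) (hq : 3 ≤ q) (hp : q + 2 ≤ p)
    (hn : n * (p - 1) = p ^ q - 1) (hk : n = u ∨ n = q * u) (hu : u ≡ 1 [MOD q])
    (hh : r * u ≡ 1 [MOD p * q]) (hro : Odd r) (hr : 1 < r) : p * q * (p * q) + 1 < r * u := by
  have hco : p.Coprime q := (Nat.coprime_primes hpp hqq).mpr (by omega)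
  have hrq : r ≡ 1 [MOD q] := by
    have h1 : r * u ≡ r [MOD q] := by simpa using hu.mul_left r
    exact h1.symm.trans (hh.of_dvd (dvd_mul_left _ _))
  have hrp' : r * u ≡ 1 [MOD p] := hh.of_dvd (dvd_mul_right _ _)
  have hn1 : n ≡ 1 [MOD p] := eq_geom (show 2 ≤ p by omega) hn ▸ geom_modEq_self (by omega)
  have hn2 := n_sq_le hq (show 2 ≤ p by omega) hn
  rcases hk with rfl | rfl
  · -- `u = n`
    have hrp : r ≡ 1 [MOD p] := by
      have h1 : r * n ≡ r [MOD p] := by simpa using hn1.mul_left r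
      exact h1.symm.trans hrp'
    have hrpq : r ≡ 1 [MOD p * q] := (Nat.modEq_and_modEq_iff_modEq_mul hco).mp ⟨hrp, hrq⟩
    obtain ⟨j, hj⟩ := (Nat.modEq_iff_dvd' (by omega)).mp hrpq.symm
    have hj2 : p * q + 1 ≤ r := by
      rcases Nat.eq_zero_or_pos j with rfl | hjp
      · omega
      · have := Nat.mul_le_mul_left (p * q) hjp
        omega
    have : p * q + 1 ≤ n := by nlinarith
    nlinarith [Nat.mul_le_mul hj2 this]
  · -- `u = n / q`
    have hrp : r ≡ q [MOD p] := by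
      have h1 : r * (q * u) ≡ r [MOD p] := by simpa using hn1.mul_left r
      have h2 : r * (q * u) ≡ q [MOD p] := by
        rw [mul_left_comm]; simpa using hrp'.mul_left q
      exact h1.symm.trans h2
    have hqo : Odd q := hqq.odd_of_ne_two (by omega)
    have hpo : Odd p := hpp.odd_of_ne_two (by omega)
    have hr2 : 2 * p + q ≤ r := by
      have hr' : q ≤ r := by
        by_contra hlt
        push Not at hlt
        have := hrp.eq_of_lt_of_lt (by omega) (by omega)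
        omega
      obtain ⟨i, hi⟩ := (Nat.modEq_iff_dvd' hr').mp hrp.symm
      obtain ⟨a, ha⟩ := hro
      obtain ⟨b, hb⟩ := hqo
      obtain ⟨c, hc⟩ := hpo
      rcases (show i = 0 ∨ i = 1 ∨ 2 ≤ i by omega) with rfl | rfl | hi2
      · have hrq' : r = q := by omega
        rw [hrq'] at hrq
        have h0 : q % q = 1 % q := hrq
        rw [Nat.mod_self, Nat.one_mod_eq_one.mpr (by omega)] at h0
        omega
      · omega
      · have := Nat.mul_le_mul_left p hi2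
        omega
    rcases (show q = 3 ∨ q = 4 ∨ 5 ≤ q by omega) with rfl | rfl | h5
    · -- `q = 3`
      have hn' : 3 * u = p ^ 2 + p + 1 := by
        have hs := eq_geom (show 2 ≤ p by omega) hn
        simp [Finset.sum_range_succ] at hs
        linarith
      rcases (show p = 5 ∨ p = 6 ∨ p = 7 ∨ p = 8 ∨ p = 9 ∨ p = 10 ∨ p = 11 ∨ p = 12 ∨ 13 ≤ p by omega)
        with rfl | rfl | rfl | rfl | rfl | rfl | rfl | rfl | h13
      · omega
      · exact absurd hpp (by norm_num)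
      · obtain rfl : u = 19 := by omega
        have h31 : 31 ≤ r := by
          unfold Nat.ModEq at hrp hrq
          obtain ⟨a, ha⟩ := hro
          omega
        omega
      · exact absurd hpp (by norm_num)
      · exact absurd hpp (by norm_num)
      · exact absurd hpp (by norm_num)
      · omega
      · exact absurd hpp (by norm_num)
      · have h1 : (2 * p + 3) * (p ^ 2 + p + 1) ≤ 3 * (r * u) := by
          calc (2 * p + 3) * (p ^ 2 + p + 1) ≤ r * (3 * u) := by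
                rw [hn']; exact Nat.mul_le_mul_right _ hr2
            _ = 3 * (r * u) := by ring
        have h2 : 3 * (p * 3 * (p * 3) + 1) < (2 * p + 3) * (p ^ 2 + p + 1) := by nlinarith
        omega
    · exact absurd hqq (by norm_num)
    · have hn4 := n_four_le h5 (show 2 ≤ p by omega) hn
      have h1 : (2 * p + q) * p ^ 4 ≤ q * (r * u) := by
        calc (2 * p + q) * p ^ 4 ≤ r * (q * u) := Nat.mul_le_mul hr2 hn4
          _ = q * (r * u) := by ring
      have h2 : q * (p * q * (p * q) + 1) < (2 * p + q) * p ^ 4 := by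
        have hqp : q * q ≤ p * p := Nat.mul_le_mul (by omega) (by omega)
        have : q * (p * q * (p * q)) ≤ q * (p * p * (p * p)) := by
          refine Nat.mul_le_mul_left _ ?_
          calc p * q * (p * q) = p * p * (q * q) := by ring
            _ ≤ p * p * (p * p) := Nat.mul_le_mul_left _ hqp
        have hp4 : q < p ^ 4 := by
          calc q < p := by omega
            _ = p ^ 1 := (pow_one p).symm
            _ ≤ p ^ 4 := Nat.pow_le_pow_right (by omega) (by norm_num)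
        nlinarith
      exact lt_of_mul_lt_mul_left (h2.trans_le h1) (Nat.zero_le _)

/-- The pieces other than `L` cannot be covered by the mass left by `ζ`. -/
theorem cover_arith {p q u m h : ℕ} (hq : 3 ≤ q) (hp : q + 2 ≤ p) (hpo : Odd p) (hu : 7 ≤ u)
    (hm : m * (q - 1) = q ^ p - 1) (hh : 100 ≤ h) (hh' : q ^ (p - 1) + 1 ≤ h) {g : ℝ}
    (hg : (p : ℝ) ^ q * u * q ≤ g)
    (hineq : (p : ℝ) + q - 2 - p / u - q / m - p * q / g ≤
      (p : ℝ) ^ 2 * (q : ℝ) ^ 2 / ((h : ℝ) - 1)) : False := by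
  have hq' : (3 : ℝ) ≤ q := by exact_mod_cast hq
  have hp' : (q : ℝ) + 2 ≤ p := by exact_mod_cast hp
  have hu' : (7 : ℝ) ≤ u := by exact_mod_cast hu
  have hm13 : q * 4 ≤ m := by
    have h1 := n_sq_le (show 3 ≤ p by omega) (show 2 ≤ q by omega) hm
    nlinarith
  have h1 : (q : ℝ) / m ≤ 1 / 4 := by
    have : (q : ℝ) * 4 ≤ m := by exact_mod_cast hm13
    rw [div_le_div_iff₀ (by linarith) (by norm_num)]
    linarith
  have h2 : (p : ℝ) / u ≤ p / 7 := div_le_div_of_nonneg_left (by linarith) (by norm_num) hu'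
  have h3 : (p : ℝ) * q / g ≤ 1 / 175 := by
    have hpq : (p : ℝ) ^ 3 ≤ (p : ℝ) ^ q := pow_le_pow_right₀ (by linarith) hq
    have h25 : (25 : ℝ) * p ≤ (p : ℝ) ^ 3 := by
      have : (5 : ℝ) ≤ p := by linarith
      nlinarith
    have : (25 : ℝ) * p * 7 * q ≤ g := le_trans (by gcongr; linarith) hg
    rw [div_le_div_iff₀ (by nlinarith) (by norm_num)]
    nlinarith
  have h4 : (p : ℝ) ^ 2 * (q : ℝ) ^ 2 / ((h : ℝ) - 1) ≤ 3 := by
    have hh1 : (q : ℝ) ^ (p - 1) ≤ (h : ℝ) - 1 := by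
      have := (Nat.cast_le (α := ℝ)).mpr hh'
      push_cast at this
      linarith
    have hkey : p ^ 2 * q ^ 2 ≤ 3 * q ^ (p - 1) := by
      rcases (show p = 5 ∨ 7 ≤ p by obtain ⟨a, ha⟩ := hpo; omega) with rfl | h7
      · obtain rfl : q = 3 := by omega
        norm_num
      · have hne : ¬ (q = 3 ∧ p = 5) := by omega
        have : ∀ d : ℕ, (7 + d) ^ 2 * q ^ 2 ≤ q ^ (7 + d - 1) := by
          intro d
          induction d with
          | zero =>
            show 49 * q ^ 2 ≤ q ^ 6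
            have : (81 : ℕ) ≤ q ^ 4 := le_trans (by norm_num) (Nat.pow_le_pow_left hq 4)
            calc 49 * q ^ 2 ≤ q ^ 4 * q ^ 2 := Nat.mul_le_mul_right _ (by omega)
              _ = q ^ 6 := by ring
          | succ d ih =>
            rw [show 7 + (d + 1) - 1 = (7 + d - 1) + 1 by omega, pow_succ q]
            calc (7 + (d + 1)) ^ 2 * q ^ 2 ≤ q * (7 + d) ^ 2 * q ^ 2 :=
                  Nat.mul_le_mul_right _ ((show (7 + (d + 1)) ^ 2 ≤ 3 * (7 + d) ^ 2 by ring_nf; omega).trans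
                    (Nat.mul_le_mul_right _ hq))
              _ = q * ((7 + d) ^ 2 * q ^ 2) := by ring
              _ ≤ q * q ^ (7 + d - 1) := Nat.mul_le_mul_left _ ih
              _ = q ^ (7 + d - 1) * q := mul_comm _ _
        have h' := this (p - 7)
        rw [show 7 + (p - 7) = p by omega] at h'
        omega
    have hq0 : (0 : ℝ) < (q : ℝ) ^ (p - 1) := by positivity
    rw [div_le_iff₀ (by linarith)]
    have := (Nat.cast_le (α := ℝ)).mpr hkey
    push_cast at this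
    nlinarith
  nlinarith

end Cfsg.Agent.PF.Arith14
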