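import Cfsg.Agent.OddChar.PF.S04System

/-!
# Section 5: images under a coherent map

(5.5) the image of a member under a coherent map is a sum of members of its orthonormal set, and
(5.9) the image of a column sum is a signed column of the cyclic TI family, as soon as the coherent
set has a member other than that column sum and its conjugate.
-/

set_option linter.unusedSectionVars false
set_option linter.unusedVariables false
set_option linter.style.haveILetI false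
set_option autoImplicit false

namespace Cfsg.Agent.PF

open Cfsg.Lib.Chars Cfsg.Lib.CyclicTI Cfsg.Lib.Dade Cfsg.Lib.Coherence
open scoped ComplexConjugate

universe u v

section Generic

variable {L : Type u} [Group L] [Fintype L] {G : Type v} [Group G] [Fintype G]
  {S T : Set (L → ℂ)} {τ τ₁ : (L → ℂ) → (G → ℂ)} {R : (L → ℂ) → Finset (G → ℂ)}

/-- (5.5): the coherent image of a member is a sum of as many members of its set as its norm. -/
theorem s05_image_part (hS : Cfsg.IsCoherenceSystem S τ R) (hTS : T ⊆ S)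
    (hiso : Cfsg.IsLinearIsometryOn (Cfsg.zspan T) τ₁)
    (hag : ∀ f ∈ Cfsg.zspanOn T {1}ᶜ, τ₁ f = τ f) {χ : L → ℂ} (hχ : χ ∈ T)
    (hχc : Cfsg.conjFun χ ∈ T) {n : ℕ} (hn : Cfsg.classInner χ χ = n) :
    ∃ c : (G → ℂ) → ℤ, τ₁ χ = part (R χ) c ∧ (∀ α ∈ R χ, Cfsg.classInner (τ₁ χ) α = c α) ∧
      (∀ α ∈ R χ, c α = 0 ∨ c α = 1) ∧ ∑ α ∈ R χ, c α = n := by
  classical
  have hm := subset_zspan (S := T) hχ
  have hmc := subset_zspan (S := T) hχc
  have hd : χ - Cfsg.conjFun χ ∈ Cfsg.zspanOn T {1}ᶜ :=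
    mem_one.mpr ⟨(Submodule.span ℤ T).sub_mem hm hmc,
      by simp [conj_apply_one (hS.isCharacter χ (hTS hχ))]⟩
  have hin : Cfsg.classInner (τ₁ χ) (τ (χ - Cfsg.conjFun χ)) = ((n : ℤ) : ℂ) := by
    rw [← hag _ hd, map_sub' (Submodule.span ℤ T) hiso hm hmc, classInner_sub_right,
      hiso.2.2.1 _ hm _ hm, hiso.2.2.1 _ hm _ hmc, hn,
      hS.orthogonal χ (hTS hχ) _ (hTS hχc) (hS.conj_ne χ (hTS hχ)).symm]
    simp
  obtain ⟨c, hc, hs, h0, hN⟩ := sys_proj hS (hTS hχ) (hiso.2.2.2 _ hm)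
  rw [hin] at hs
  have hs' : ∑ α ∈ R χ, c α = (n : ℤ) := by exact_mod_cast hs
  have hN0 : (Cfsg.classInner (τ₁ χ) (τ₁ χ)).re = n := by rw [hiso.2.2.1 _ hm _ hm, hn]; simp
  have h1 := sum_le_sum_sq (R χ) c
  rw [hs'] at h1
  have h1' : (n : ℝ) ≤ ((∑ α ∈ R χ, c α ^ 2 : ℤ) : ℝ) := by exact_mod_cast h1
  have h2 := inner_self_re_nonneg (τ₁ χ - part (R χ) c)
  have hsq : ∑ α ∈ R χ, c α ^ 2 ≤ ∑ α ∈ R χ, c α := by
    rw [hs']
    have : ((∑ α ∈ R χ, c α ^ 2 : ℤ) : ℝ) ≤ n := by linarith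
    exact_mod_cast this
  exact ⟨c, sub_eq_zero.mp (eq_zero_of_inner_self_re (by linarith)), hc,
    fun α hα => zero_one_of_sum_sq_le hsq hα, hs'⟩

/-- (5.5): the coherent image of a member is orthogonal to what is orthogonal to its set. -/
theorem s05_image_orth (hS : Cfsg.IsCoherenceSystem S τ R) (hTS : T ⊆ S)
    (hiso : Cfsg.IsLinearIsometryOn (Cfsg.zspan T) τ₁)
    (hag : ∀ f ∈ Cfsg.zspanOn T {1}ᶜ, τ₁ f = τ f) {χ : L → ℂ} (hχ : χ ∈ T)
    (hχc : Cfsg.conjFun χ ∈ T) {β : G → ℂ} (h : ∀ α ∈ R χ, Cfsg.classInner α β = 0) :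
    Cfsg.classInner (τ₁ χ) β = 0 := by
  obtain ⟨n, -, hn⟩ := sys_norm hS (hTS hχ)
  obtain ⟨c, hc, -⟩ := s05_image_part hS hTS hiso hag hχ hχc hn
  rw [hc]
  exact comb_inner_of_orth _ h _

/-- (5.5): the coherent image of a member is orthogonal to the sets of the other members. -/
theorem s05_image_disjoint (hS : Cfsg.IsCoherenceSystem S τ R) (hTS : T ⊆ S)
    (hiso : Cfsg.IsLinearIsometryOn (Cfsg.zspan T) τ₁)
    (hag : ∀ f ∈ Cfsg.zspanOn T {1}ᶜ, τ₁ f = τ f) {χ : L → ℂ} (hχ : χ ∈ T)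
    (hχc : Cfsg.conjFun χ ∈ T) {φ : L → ℂ} (hφ : φ ∈ S) (h1 : χ ≠ φ) (h2 : χ ≠ Cfsg.conjFun φ)
    {β : G → ℂ} (hβ : β ∈ R φ) : Cfsg.classInner (τ₁ χ) β = 0 :=
  s05_image_orth hS hTS hiso hag hχ hχc fun α hα =>
    hS.disjoint φ hφ χ (hTS hχ) (hS.orthogonal χ (hTS hχ) φ hφ h1)
      (hS.orthogonal χ (hTS hχ) _ (hS.conj_mem φ hφ) h2) α hα β hβ

end Generic

section Column

variable {G : Type u} [Group G] [Fintype G] {L K W₁ W₂ H : Subgroup G} [Fintype L] {A A₀ : Set G}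
  {R : G → Subgroup G}
  {μ : (↥(W₁ ⊔ W₂) →* ℂˣ) → (↥L → ℂ)} {δ : (↥(W₁ ⊔ W₂) →* ℂˣ) → ℂ}
  {η : (↥(W₁ ⊔ W₂) →* ℂˣ) → (G → ℂ)} {Rs : (↥L → ℂ) → Finset (G → ℂ)}
  {T : Set (↥L → ℂ)} {τ₁ : (↥L → ℂ) → (G → ℂ)}

theorem s05_inv_inv (b : ↥(W₁ ⊔ W₂) →* ℂˣ) : b⁻¹⁻¹ = b :=
  MonoidHom.ext fun w => by rw [MonoidHom.inv_apply, MonoidHom.inv_apply, inv_inv]

theorem s05_inv_ne {b : ↥(W₁ ⊔ W₂) →* ℂˣ} (h : b ≠ 1) : b⁻¹ ≠ 1 := fun e => h (MonoidHom.ext fun w =>
  inv_eq_one.mp (DFunLike.congr_fun e w))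

/-- An irreducible member of the family is none of the `μ ω`. -/
theorem s05_irr_ne_mu (d : PrimeDade L K W₁ W₂ H A A₀ R) (hT : PrimeTIChars L K W₁ W₂ μ δ)
    {χ : ↥L → ℂ} (hχ : χ ∈ seqIndD (K.subgroupOf L) (H.subgroupOf L) ⊥)
    (ω : ↥(W₁ ⊔ W₂) →* ℂˣ) : χ ≠ μ ω := by
  intro e
  haveI := d.normal_K
  obtain ⟨⟨θ, -, -, -, hθ⟩, -⟩ := hχ
  obtain ⟨a, ha, ha1⟩ := (Subgroup.bot_or_exists_ne_one W₁).resolve_left d.cycTI.1
  have ha2 : a ∉ W₂ := fun hh => ha1 (Subgroup.mem_bot.mp (d.cycTI.2.2.1 ▸ ⟨ha, hh⟩))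
  have h1 := hT.apply_off ω ⟨a, d.W₁_le ha⟩ ⟨a, Subgroup.mem_sup_left ha⟩ rfl ha2
  have haK : (⟨a, d.W₁_le ha⟩ : L) ∉ K.subgroupOf L :=
    d.not_mem_K hT (w := ⟨a, Subgroup.mem_sup_left ha⟩) ha2
  rw [← e, hθ, indFun_normal_not_mem _ _ haK] at h1
  have hδ0 : δ ω ≠ 0 := by rcases hT.sign ω with h | h <;> simp [h]
  exact mul_ne_zero hδ0 (Units.ne_zero _) h1.symm

open Classical in
/-- (5.9): the coherent image of a column sum is a signed column, as soon as the coherent set has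
a member that is neither that column sum nor its conjugate. -/
theorem s05_column_image (d : PrimeDade L K W₁ W₂ H A A₀ R) (hT : PrimeTIChars L K W₁ W₂ μ δ)
    (hη : Cfsg.IsCyclicTIFamily W₁ W₂ η)
    (hS : Cfsg.IsCoherenceSystem (seqIndD (K.subgroupOf L) (H.subgroupOf L) ⊥)
      (Cfsg.dadeIsometry A₀ L R) Rs)
    (hred : ∀ ψ, OnSecond ψ → ψ ≠ 1 → redChar μ ψ ∈ seqIndD (K.subgroupOf L) (H.subgroupOf L) ⊥ ∧
      ∀ α, α ∈ Rs (redChar μ ψ) ↔ ∃ φ, OnFirst φ ∧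
        (α = δ ψ • η (φ * ψ) ∨ α = -(δ ψ • η (φ * ψ⁻¹))))
    (hirr : ∀ χ ∈ seqIndD (K.subgroupOf L) (H.subgroupOf L) ⊥, Cfsg.IsIrrCharacter ↥L χ →
      ∀ α ∈ Rs χ, ∀ ω, Cfsg.classInner α (η ω) = 0)
    (hTS : T ⊆ seqIndD (K.subgroupOf L) (H.subgroupOf L) ⊥)
    (hTc : ∀ φ ∈ T, Cfsg.conjFun φ ∈ T)
    (hiso : Cfsg.IsLinearIsometryOn (Cfsg.zspan T) τ₁)
    (hag : ∀ f ∈ Cfsg.zspanOn T {1}ᶜ, τ₁ f = Cfsg.dadeIsometry A₀ L R f)
    {ψ : ↥(W₁ ⊔ W₂) →* ℂˣ} (hψ : OnSecond ψ) (hψ1 : ψ ≠ 1) (hψT : redChar μ ψ ∈ T)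
    {χ : ↥L → ℂ} (hχ : χ ∈ T) (h1 : χ ≠ redChar μ ψ) (h2 : χ ≠ redChar μ ψ⁻¹)
    [Fintype (↥(W₁ ⊔ W₂) →* ℂˣ)] :
    τ₁ (redChar μ ψ) =
        δ ψ • ∑ φ ∈ Finset.univ.filter (fun φ : ↥(W₁ ⊔ W₂) →* ℂˣ => OnFirst φ), η (φ * ψ) ∨
      τ₁ (redChar μ ψ) =
        -(δ ψ • ∑ φ ∈ Finset.univ.filter (fun φ : ↥(W₁ ⊔ W₂) →* ℂˣ => OnFirst φ), η (φ * ψ⁻¹)) := by
  set S := seqIndD (K.subgroupOf L) (H.subgroupOf L) ⊥
  set τ := Cfsg.dadeIsometry A₀ L R with hτdef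
  set rows := Finset.univ.filter (fun φ : ↥(W₁ ⊔ W₂) →* ℂˣ => OnFirst φ) with hrows
  have hmem : ∀ φ, φ ∈ rows ↔ OnFirst φ := fun φ => by simp [hrows]
  set x := redChar μ ψ with hx
  have hinv : OnSecond ψ⁻¹ := fun w hw => by rw [MonoidHom.inv_apply, hψ w hw, inv_one]
  have hne : ψ ≠ ψ⁻¹ := fun e => hS.conj_ne x (hTS hψT) (by rw [hx, d.conj_red hT hψ, ← e])
  have hxn : Cfsg.classInner x x = ((Nat.card W₁ : ℕ) : ℂ) := d.inner_red_self hT hψ
  obtain ⟨c, hf, hc, h01, hsum⟩ := s05_image_part hS hTS hiso hag hψT (hTc _ hψT) hxn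
  obtain ⟨-, hRx⟩ := hred ψ hψ hψ1
  have hδ0 : δ ψ ≠ 0 := by rcases hT.sign ψ with h | h <;> simp [h]
  have hδc : ∀ ω, conj (δ ω) = δ ω := fun ω => by rcases hT.sign ω with h | h <;> simp [h]
  -- the image is orthogonal to the principal column
  have hcol0 : ∀ φ, OnFirst φ → Cfsg.classInner (τ₁ x) (η φ) = 0 := by
    intro φ hφ
    refine s05_image_orth hS hTS hiso hag hψT (hTc _ hψT) fun α hα => ?_
    obtain ⟨a, ha, hα⟩ := (hRx α).mp hα
    have hk : ∀ b, OnSecond b → b ≠ 1 → a * b ≠ φ := fun b hb hb1 e =>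
      hb1 ((mul_eq_iff d.cycTI ha hb hφ onSecond_one).mp (e.trans (mul_one φ).symm)).2
    rcases hα with rfl | rfl
    · rw [classInner_smul_left, hη.orthonormal, if_neg (hk ψ hψ hψ1), mul_zero]
    · rw [classInner_neg_left, classInner_smul_left, hη.orthonormal,
        if_neg (hk ψ⁻¹ hinv (s05_inv_ne hψ1)), mul_zero, neg_zero]
  -- the image of the other member is orthogonal to the two columns in question
  have hχorth : ∀ φ, OnFirst φ → Cfsg.classInner (τ₁ χ) (η φ) = 0 ∧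
      Cfsg.classInner (τ₁ χ) (η (φ * ψ)) = 0 := by
    intro φ hφ
    rcases d.member_cases hT (hTS hχ) with hi | ⟨ψ', hψ', hψ'1, e⟩
    · exact ⟨s05_image_orth hS hTS hiso hag hχ (hTc _ hχ) fun α hα => hirr χ (hTS hχ) hi α hα _,
        s05_image_orth hS hTS hiso hag hχ (hTc _ hχ) fun α hα => hirr χ (hTS hχ) hi α hα _⟩
    have hinv' : OnSecond ψ'⁻¹ := fun w hw => by rw [MonoidHom.inv_apply, hψ' w hw, inv_one]
    have n1 : ψ' ≠ ψ := fun h => h1 (by rw [e, h])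
    have n2 : ψ'⁻¹ ≠ ψ := fun h => h2 (by rw [e, ← h, s05_inv_inv])
    have key : ∀ ω b, OnSecond b → b ≠ ψ' → b ≠ ψ'⁻¹ → ω = φ * b →
        Cfsg.classInner (τ₁ χ) (η ω) = 0 := by
      intro ω b hb hb1 hb2 hω
      refine s05_image_orth hS hTS hiso hag hχ (hTc _ hχ) fun α hα => ?_
      obtain ⟨a, ha, hα⟩ := ((hred ψ' hψ' hψ'1).2 α).mp (e ▸ hα)
      rcases hα with rfl | rfl
      · rw [classInner_smul_left, hη.orthonormal, if_neg (fun h =>
          hb1 ((mul_eq_iff d.cycTI ha hψ' hφ hb).mp (h.trans hω)).2.symm), mul_zero]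
      · rw [classInner_neg_left, classInner_smul_left, hη.orthonormal, if_neg (fun h =>
          hb2 ((mul_eq_iff d.cycTI ha hinv' hφ hb).mp (h.trans hω)).2.symm), mul_zero, neg_zero]
    exact ⟨key φ 1 onSecond_one (Ne.symm hψ'1) (s05_inv_ne hψ'1).symm (mul_one φ).symm,
      key _ ψ hψ n1.symm n2.symm rfl⟩
  -- the four-term differences
  have hconst : ∀ φ, OnFirst φ → Cfsg.classInner (τ₁ x) (η (φ * ψ)) =
      Cfsg.classInner (τ₁ x) (η (1 * ψ)) := by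
    intro φ hφ
    obtain ⟨hsupp, himg⟩ := ((s04Images G L K W₁ W₂ H A A₀ R d μ δ hT η hη).2.2) φ 1 ψ hφ onFirst_one hψ
    set four := δ ψ • (μ (φ * ψ) - μ (1 * ψ)) - μ φ + μ 1 with hfour
    obtain ⟨a, ha⟩ := IsCharacter.apply_one (hS.isCharacter χ (hTS hχ))
    obtain ⟨b, hb⟩ := IsCharacter.apply_one (hS.isCharacter x (hTS hψT))
    have hxm := subset_zspan (S := T) hψT
    have hχm := subset_zspan (S := T) hχ
    set g := (a : ℤ) • x - (b : ℤ) • χ with hg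
    have hgm : g ∈ Cfsg.zspanOn T {1}ᶜ := mem_one.mpr
      ⟨(Submodule.span ℤ T).sub_mem ((Submodule.span ℤ T).smul_mem _ hxm)
        ((Submodule.span ℤ T).smul_mem _ hχm), by simp [hg, ha, hb, mul_comm]⟩
    have hgS : g ∈ Cfsg.zspanOn S {1}ᶜ := zspanOn_mono hTS hgm
    have hgc : Cfsg.IsClassFunction ↥L g := isClassFunction_generalized
      (zspan_gen (fun s hs => IsCharacter.isGeneralized (hS.isCharacter s hs)) hgS.1)
    have hcl : ∀ ω, Cfsg.IsClassFunction ↥L (μ ω) := fun ω =>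
      isClassFunction_isChar (isCharacter_of_irr (hT.irr ω))
    have hfc : Cfsg.IsClassFunction ↥L four := fun l z => by
      simp [hfour, hcl _ l z]
    rw [← hτdef] at himg
    have hiso4 := classInner_dade_dade d.dade hgc (fun l hl => zspanOn_support d hgS hl) hfc
    rw [← hτdef, ← hag g hgm, himg, hg,
      map_sub' (Submodule.span ℤ T) hiso ((Submodule.span ℤ T).smul_mem _ hxm)
        ((Submodule.span ℤ T).smul_mem _ hχm), hiso.2.1 _ hxm, hiso.2.1 _ hχm] at hiso4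
    -- the right-hand side vanishes
    have hxfour : Cfsg.classInner x four = 0 := by
      have hi : ∀ φ' ψ', OnFirst φ' → OnSecond ψ' →
          Cfsg.classInner x (μ (φ' * ψ')) = if ψ' = ψ then 1 else 0 := by
        intro φ' ψ' hφ' hψ'
        rw [hx, d.red_sum hT, classInner_sum_left]
        by_cases e : ψ' = ψ
        · rw [if_pos e, Finset.sum_eq_single φ', e, classInner_self_irr (hT.irr _)]
          · intro z hz hne'
            rw [classInner_irrChar (hT.irr _) (hT.irr _), if_neg fun h =>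
              hne' ((mul_eq_iff d.cycTI ((hmem z).mp hz) hψ hφ' hψ').mp (hT.injective h)).1]
          · exact fun h => absurd ((hmem φ').mpr hφ') h
        · rw [if_neg e]
          refine Finset.sum_eq_zero fun z hz => ?_
          rw [classInner_irrChar (hT.irr _) (hT.irr _), if_neg fun h =>
            e ((mul_eq_iff d.cycTI ((hmem z).mp hz) hψ hφ' hψ').mp (hT.injective h)).2.symm]
      have e0 := hi φ 1 hφ onSecond_one
      have e1 := hi 1 1 onFirst_one onSecond_one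
      rw [show φ * 1 = φ from MonoidHom.ext fun w => mul_one _, if_neg (Ne.symm hψ1)] at e0
      rw [show (1 : ↥(W₁ ⊔ W₂) →* ℂˣ) * 1 = 1 from MonoidHom.ext fun w => mul_one _, if_neg (Ne.symm hψ1)] at e1
      rw [hfour, classInner_add_right, classInner_sub_right, classInner_smul_right,
        classInner_sub_right, hi φ ψ hφ hψ, hi 1 ψ onFirst_one hψ, e0, e1]
      simp
    have hχfour : Cfsg.classInner χ four = 0 := by
      have hz : ∀ φ', OnFirst φ' → Cfsg.classInner χ (μ φ') = 0 ∧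
          Cfsg.classInner χ (μ (φ' * ψ)) = 0 := by
        intro φ' hφ'
        rcases d.member_cases hT (hTS hχ) with hi | ⟨ψ', hψ', hψ'1, e⟩
        · exact ⟨by rw [classInner_irrChar hi (hT.irr _), if_neg (s05_irr_ne_mu d hT (hTS hχ) _)],
            by rw [classInner_irrChar hi (hT.irr _), if_neg (s05_irr_ne_mu d hT (hTS hχ) _)]⟩
        have key : ∀ ω b, OnSecond b → b ≠ ψ' → ω = φ' * b → Cfsg.classInner χ (μ ω) = 0 := by
          intro ω b hb hbne hω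
          rw [e, d.red_sum hT, classInner_sum_left]
          refine Finset.sum_eq_zero fun z hz => ?_
          rw [classInner_irrChar (hT.irr _) (hT.irr _), if_neg fun h => hbne
            ((mul_eq_iff d.cycTI ((hmem z).mp hz) hψ' hφ' hb).mp ((hT.injective h).trans hω)).2.symm]
        exact ⟨key φ' 1 onSecond_one (Ne.symm hψ'1) (mul_one φ').symm,
          key _ ψ hψ (fun h => h1 (by rw [e, ← h])) rfl⟩
      rw [hfour, classInner_add_right, classInner_sub_right, classInner_smul_right,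
        classInner_sub_right, (hz φ hφ).1, (hz φ hφ).2, (hz 1 onFirst_one).1, (hz 1 onFirst_one).2]
      simp
    simp only [classInner_sub_left, classInner_zsmul_left, hxfour, hχfour, mul_zero, sub_zero,
      classInner_add_right, classInner_sub_right, (hχorth φ hφ).1, (hχorth φ hφ).2,
      (hχorth 1 onFirst_one).1, (hχorth 1 onFirst_one).2, hcol0 φ hφ, hcol0 1 onFirst_one,
      add_zero, sub_self] at hiso4
    have ha0 : ((a : ℤ) : ℂ) ≠ 0 := by
      rw [Int.cast_natCast, ← ha]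
      exact apply_one_ne_zero' hS (hTS hχ)
    exact sub_eq_zero.mp ((mul_eq_zero.mp ((mul_sub _ _ _).trans hiso4)).resolve_left ha0)
  -- the coefficients
  have hinj : ∀ a b : ↥(W₁ ⊔ W₂) →* ℂˣ, η a = η b → a = b := fun a b e => by
    have h := hη.orthonormal a b
    rw [e, hη.orthonormal b b, if_pos rfl] at h
    by_contra hne'
    rw [if_neg hne'] at h
    exact one_ne_zero h
  set P := rows.image fun φ => δ ψ • η (φ * ψ) with hP
  set N := rows.image fun φ => -(δ ψ • η (φ * ψ⁻¹)) with hN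
  have hRPN : Rs x = P ∪ N := by
    ext α
    rw [Finset.mem_union, hRx]
    simp only [hP, hN, Finset.mem_image, hmem]
    constructor
    · rintro ⟨φ, hφ, rfl | rfl⟩
      exacts [Or.inl ⟨φ, hφ, rfl⟩, Or.inr ⟨φ, hφ, rfl⟩]
    · rintro (⟨φ, hφ, rfl⟩ | ⟨φ, hφ, rfl⟩)
      exacts [⟨φ, hφ, Or.inl rfl⟩, ⟨φ, hφ, Or.inr rfl⟩]
  have hPN : Disjoint P N := by
    rw [Finset.disjoint_left]
    rintro α hα hα'
    obtain ⟨a, ha, rfl⟩ := Finset.mem_image.mp hα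
    obtain ⟨b, hb, e⟩ := Finset.mem_image.mp hα'
    have h := congrArg (fun f => Cfsg.classInner f (η (a * ψ))) e
    simp only [classInner_neg_left, classInner_smul_left, hη.orthonormal, if_true, mul_one] at h
    rw [if_neg (fun e' => hne ((mul_eq_iff d.cycTI ((hmem b).mp hb) hinv ((hmem a).mp ha) hψ).mp
      e').2.symm), mul_zero, neg_zero] at h
    exact hδ0 h.symm
  have injP : Set.InjOn (fun φ => δ ψ • η (φ * ψ)) rows := fun a _ b _ e =>
    mul_right_cancel (hinj _ _ (smul_right_injective (G → ℂ) hδ0 e))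
  have injN : Set.InjOn (fun φ => -(δ ψ • η (φ * ψ⁻¹))) rows := fun a _ b _ e =>
    mul_right_cancel (hinj _ _ (smul_right_injective (G → ℂ) hδ0 (neg_inj.mp e)))
  have hcard : rows.card = Nat.card W₁ := by
    rw [← card_onFirst d.cycTI, Nat.card_eq_fintype_card, Fintype.card_subtype]
  set p₀ := c (δ ψ • η (1 * ψ)) with hp₀
  have hPval : ∀ α ∈ P, c α = p₀ := by
    intro α hα
    obtain ⟨φ, hφ, rfl⟩ := Finset.mem_image.mp hα
    have e1 := hc (δ ψ • η (φ * ψ)) ((hRx _).mpr ⟨φ, (hmem φ).mp hφ, Or.inl rfl⟩)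
    have e2 := hc (δ ψ • η (1 * ψ)) ((hRx _).mpr ⟨1, onFirst_one, Or.inl rfl⟩)
    rw [classInner_smul_right, hconst φ ((hmem φ).mp hφ), ← classInner_smul_right, e2] at e1
    exact_mod_cast e1.symm
  have hpart : τ₁ x = ∑ α ∈ P, (c α : ℂ) • α + ∑ α ∈ N, (c α : ℂ) • α := by
    rw [hf, hRPN, part, comb, Finset.sum_union hPN]
    simp
  rw [hRPN, Finset.sum_union hPN, Finset.sum_congr rfl hPval, Finset.sum_const, nsmul_eq_mul,
    hP, Finset.card_image_of_injOn injP, hcard] at hsum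
  have hNcard : N.card = Nat.card W₁ := by rw [hN, Finset.card_image_of_injOn injN, hcard]
  have hN01 : ∀ α ∈ N, c α = 0 ∨ c α = 1 := fun α h => h01 α (by rw [hRPN]; exact Finset.mem_union_right _ h)
  rcases h01 _ ((hRx _).mpr ⟨1, onFirst_one, Or.inl rfl⟩) with h | h <;> rw [← hp₀] at h
  · right
    rw [h, mul_zero, zero_add] at hsum
    have hone : ∀ α ∈ N, c α = 1 := by
      refine (Finset.sum_eq_sum_iff_of_le (g := fun _ => (1 : ℤ)) fun α hα => ?_).mp ?_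
      · rcases hN01 α hα with e | e <;> omega
      · rw [hsum]; simp [hNcard]
    rw [hpart, Finset.sum_eq_zero (s := P) fun α hα => by rw [hPval α hα, h]; simp, zero_add,
      Finset.sum_congr rfl fun α hα => by rw [hone α hα, Int.cast_one, one_smul], hN,
      Finset.sum_image injN, Finset.smul_sum, Finset.sum_neg_distrib]
  · left
    rw [h, mul_one, add_eq_left] at hsum
    have hzero : ∀ α ∈ N, c α = 0 :=
      (Finset.sum_eq_zero_iff_of_nonneg fun α hα => by rcases hN01 α hα with e | e <;> omega).mp hsum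
    rw [hpart, Finset.sum_eq_zero (s := N) fun α hα => by rw [hzero α hα]; simp, add_zero,
      Finset.sum_congr rfl fun α hα => by rw [hPval α hα, h, Int.cast_one, one_smul], hP,
      Finset.sum_image injP, Finset.smul_sum]

open Classical in
/-- (5.9): with two column sums of the same degree, not conjugate, in the coherent set the sign is
the one of the column. -/
theorem s05_column_image_eq (d : PrimeDade L K W₁ W₂ H A A₀ R) (hT : PrimeTIChars L K W₁ W₂ μ δ)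
    (hη : Cfsg.IsCyclicTIFamily W₁ W₂ η)
    (hS : Cfsg.IsCoherenceSystem (seqIndD (K.subgroupOf L) (H.subgroupOf L) ⊥)
      (Cfsg.dadeIsometry A₀ L R) Rs)
    (hred : ∀ ψ, OnSecond ψ → ψ ≠ 1 → redChar μ ψ ∈ seqIndD (K.subgroupOf L) (H.subgroupOf L) ⊥ ∧
      ∀ α, α ∈ Rs (redChar μ ψ) ↔ ∃ φ, OnFirst φ ∧
        (α = δ ψ • η (φ * ψ) ∨ α = -(δ ψ • η (φ * ψ⁻¹))))
    (hirr : ∀ χ ∈ seqIndD (K.subgroupOf L) (H.subgroupOf L) ⊥, Cfsg.IsIrrCharacter ↥L χ →
      ∀ α ∈ Rs χ, ∀ ω, Cfsg.classInner α (η ω) = 0)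
    (hTS : T ⊆ seqIndD (K.subgroupOf L) (H.subgroupOf L) ⊥)
    (hTc : ∀ φ ∈ T, Cfsg.conjFun φ ∈ T)
    (hiso : Cfsg.IsLinearIsometryOn (Cfsg.zspan T) τ₁)
    (hag : ∀ f ∈ Cfsg.zspanOn T {1}ᶜ, τ₁ f = Cfsg.dadeIsometry A₀ L R f)
    {ψ ψ' : ↥(W₁ ⊔ W₂) →* ℂˣ} (hψ : OnSecond ψ) (hψ1 : ψ ≠ 1) (hψT : redChar μ ψ ∈ T)
    (hψ' : OnSecond ψ') (hψ'1 : ψ' ≠ 1) (hψ'T : redChar μ ψ' ∈ T) (h1 : ψ' ≠ ψ) (h2 : ψ' ≠ ψ⁻¹)
    (hdeg : μ ψ 1 = μ ψ' 1) [Fintype (↥(W₁ ⊔ W₂) →* ℂˣ)] :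
    τ₁ (redChar μ ψ) =
      δ ψ • ∑ φ ∈ Finset.univ.filter (fun φ : ↥(W₁ ⊔ W₂) →* ℂˣ => OnFirst φ), η (φ * ψ) := by
  set rows := Finset.univ.filter (fun φ : ↥(W₁ ⊔ W₂) →* ℂˣ => OnFirst φ) with hrows
  have hmem : ∀ φ, φ ∈ rows ↔ OnFirst φ := fun φ => by simp [hrows]
  have hinvS : ∀ {b : ↥(W₁ ⊔ W₂) →* ℂˣ}, OnSecond b → OnSecond b⁻¹ := fun {b} hb w hw => by
    rw [MonoidHom.inv_apply, hb w hw, inv_one]
  have hne : redChar μ ψ' ≠ redChar μ ψ := fun e => h1 (d.red_inj hT hψ' hψ e)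
  have hne' : redChar μ ψ' ≠ redChar μ ψ⁻¹ := fun e => h2 (d.red_inj hT hψ' (hinvS hψ) e)
  rcases s05_column_image d hT hη hS hred hirr hTS hTc hiso hag hψ hψ1 hψT hψ'T hne hne' with h | h
  · exact h
  exfalso
  set C := fun b : ↥(W₁ ⊔ W₂) →* ℂˣ => ∑ φ ∈ rows, η (φ * b) with hC
  have hCin : ∀ a b, OnSecond a → OnSecond b → a ≠ b → Cfsg.classInner (C a) (η (1 * b)) = 0 := by
    intro a b ha hb hab
    simp only [hC, classInner_sum_left, hη.orthonormal]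
    exact Finset.sum_eq_zero fun φ hφ => if_neg fun e =>
      hab ((mul_eq_iff d.cycTI ((hmem φ).mp hφ) ha onFirst_one hb).mp e).2
  have hCone : ∀ b, OnSecond b → Cfsg.classInner (C b) (η (1 * b)) = 1 := by
    intro b hb
    simp only [hC, classInner_sum_left, hη.orthonormal]
    rw [Finset.sum_eq_single (1 : ↥(W₁ ⊔ W₂) →* ℂˣ)]
    · rw [if_pos rfl]
    · exact fun φ hφ hne'' => if_neg fun e =>
        hne'' ((mul_eq_iff d.cycTI ((hmem φ).mp hφ) hb onFirst_one hb).mp e).1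
    · exact fun h => absurd ((hmem 1).mpr onFirst_one) h
  have hred1 : ∀ b, OnSecond b → redChar μ b 1 = (rows.card : ℂ) * μ b 1 := by
    intro b hb
    rw [d.red_sum hT, Finset.sum_apply, Finset.sum_congr rfl fun φ hφ =>
      hT.column_on_K (φ * b) b (sameColumn_mul ((hmem φ).mp hφ)) 1 (one_mem K), Finset.sum_const,
      nsmul_eq_mul]
  have hm1 := subset_zspan (S := T) hψT
  have hm2 := subset_zspan (S := T) hψ'T
  have hdm : redChar μ ψ - redChar μ ψ' ∈ Cfsg.zspanOn T {1}ᶜ :=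
    mem_one.mpr ⟨(Submodule.span ℤ T).sub_mem hm1 hm2, by simp [hred1 ψ hψ, hred1 ψ' hψ', hdeg]⟩
  have hδ : δ ψ = δ ψ' ∧
      τ₁ (redChar μ ψ) - τ₁ (redChar μ ψ') = δ ψ • (C ψ - C ψ') := by
    have him := fun φ (hφ : φ ∈ rows) =>
      (s04Images G L K W₁ W₂ H A A₀ R d μ δ hT η hη).2.1 φ ψ ψ' ((hmem φ).mp hφ) hψ hψ' hψ1 hψ'1
        (by rw [hT.column_on_K _ ψ (sameColumn_mul ((hmem φ).mp hφ)) 1 (one_mem K),
          hT.column_on_K _ ψ' (sameColumn_mul ((hmem φ).mp hφ)) 1 (one_mem K), hdeg])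
    refine ⟨(him 1 ((hmem 1).mpr onFirst_one)).1, ?_⟩
    rw [← map_sub' (Submodule.span ℤ T) hiso hm1 hm2, hag _ hdm, d.red_sum hT, d.red_sum hT,
      ← Finset.sum_sub_distrib, dade_finset_sum, hC, ← Finset.sum_sub_distrib, Finset.smul_sum]
    exact Finset.sum_congr rfl fun φ hφ => (him φ hφ).2.2
  have hz : Cfsg.classInner (τ₁ (redChar μ ψ')) (η (1 * ψ)) = 0 := by
    refine s05_image_orth hS hTS hiso hag hψ'T (hTc _ hψ'T) fun α hα => ?_
    obtain ⟨a, ha, hα⟩ := ((hred ψ' hψ' hψ'1).2 α).mp hα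
    rcases hα with rfl | rfl
    · rw [classInner_smul_left, hη.orthonormal, if_neg (fun e =>
        h1 ((mul_eq_iff d.cycTI ha hψ' onFirst_one hψ).mp e).2), mul_zero]
    · rw [classInner_neg_left, classInner_smul_left, hη.orthonormal, if_neg (fun e =>
        h2 (by rw [← ((mul_eq_iff d.cycTI ha (hinvS hψ') onFirst_one hψ).mp e).2, s05_inv_inv])),
        mul_zero, neg_zero]
  have hne2 : ψ⁻¹ ≠ ψ := fun e => hS.conj_ne _ (hTS hψT) (by rw [d.conj_red hT hψ, e])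
  have key := congrArg (fun f => Cfsg.classInner f (η (1 * ψ))) hδ.2
  simp only [h, classInner_sub_left, classInner_neg_left, classInner_smul_left, hz] at key
  rw [hCin ψ' ψ hψ' hψ h1, hCone ψ hψ] at key
  have := hCin ψ⁻¹ ψ (hinvS hψ) hψ hne2
  simp only [hC] at this
  rw [this] at key
  rcases hT.sign ψ with e | e <;> simp [e] at key

end Column

end Cfsg.Agent.PF
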