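import Cfsg.Agent.OddChar.PF.S07Coherent
import Cfsg.Agent.S1500

/-!
# Section 7: the Dade map as a linear isometry

On class functions supported in `A` the Dade map is linear, isometric, maps generalised characters
to generalised characters and agrees with induction when all centralisers lie in `L`.
-/

set_option linter.style.haveILetI false
set_option linter.unusedSectionVars false

universe u

namespace Cfsg.Agent.PF

open Cfsg.Lib.Chars Cfsg.Lib.Dade

variable {G : Type u} [Group G] {A : Set G} {L : Subgroup G} {H : G → Subgroup G}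

theorem dade_add (α β : L → ℂ) :
    Cfsg.dadeIsometry A L H (α + β) = Cfsg.dadeIsometry A L H α + Cfsg.dadeIsometry A L H β := by
  funext g
  simp only [Cfsg.dadeIsometry, Pi.add_apply]
  split_ifs <;> simp

theorem dade_zsmul (n : ℤ) (α : L → ℂ) :
    Cfsg.dadeIsometry A L H (n • α) = n • Cfsg.dadeIsometry A L H α := by
  funext g
  simp only [Cfsg.dadeIsometry, Pi.smul_apply]
  split_ifs <;> simp

theorem dade_sub (α β : L → ℂ) :
    Cfsg.dadeIsometry A L H (α - β) = Cfsg.dadeIsometry A L H α - Cfsg.dadeIsometry A L H β := by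
  funext g
  simp only [Cfsg.dadeIsometry, Pi.sub_apply]
  split_ifs <;> simp

variable [Fintype G] [Fintype L]

/-- The Dade map is a linear isometry on combinations of characters supported in `A`. -/
theorem dade_isometry (hD : Cfsg.DadeHypothesis A L H) {S : Set (L → ℂ)}
    (hS : ∀ s ∈ S, Cfsg.IsGeneralizedCharacter L s) (B : Set L)
    (hsupp : ∀ α ∈ Cfsg.zspanOn S B, ∀ x : L, (x : G) ∉ A → α x = 0) :
    Cfsg.IsLinearIsometryOn (Cfsg.zspanOn S B) (Cfsg.dadeIsometry A L H) ∧
      ∀ α ∈ Cfsg.zspanOn S B, Cfsg.dadeIsometry A L H α 1 = 0 := by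
  have hgen : ∀ α ∈ Cfsg.zspanOn S B, Cfsg.IsGeneralizedCharacter L α :=
    fun α hα => Cfsg.Lib.Coherence.zspan_gen hS hα.1
  exact ⟨⟨fun α _ β _ => dade_add α β, fun α _ n => dade_zsmul n α,
    fun α hα β hβ => (Cfsg.Agent.S1500.result A L H hD α
      (isClassFunction_generalized (hgen α hα)) (hsupp α hα)).1 β
      (isClassFunction_generalized (hgen β hβ)) (hsupp β hβ),
    fun α hα => Cfsg.Agent.S1501.result A L H hD α (hgen α hα) (hsupp α hα)⟩,
    fun α _ => dade_one hD α⟩

/-- With all centralisers in `L` the Dade map is induction. -/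
theorem dade_eq_indFun (hD : Cfsg.DadeHypothesis A L H)
    (hC : ∀ a ∈ A, Subgroup.centralizer ({a} : Set G) ≤ L) {α : L → ℂ}
    (hα : Cfsg.IsClassFunction L α) (hαA : ∀ x : L, (x : G) ∉ A → α x = 0) :
    Cfsg.dadeIsometry A L H α = Cfsg.indFun L α := by
  refine classFunction_ext (isClassFunction_dade hD hα) (isClassFunction_indFun L α) fun χ hχ => ?_
  have hχc := isClassFunction_isChar (isCharacter_of_irr hχ)
  rw [inner_dade hD hα hαA hχc, frobenius_reciprocity L α hχc, classInner_def, classInner_def]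
  congr 1
  refine Finset.sum_congr rfl fun a _ => ?_
  by_cases ha : (a : G) ∈ A
  · rw [rho_of_const ha (c := χ a)]
    intro u hu
    have h1 : u ∈ H (a : G) ⊓ (L ⊓ Subgroup.centralizer ({(a : G)} : Set G)) :=
      ⟨hu, hC _ ha (hD.le_centralizer _ ha hu), hD.le_centralizer _ ha hu⟩
    rw [hD.inf_eq_bot _ ha, Subgroup.mem_bot] at h1
    rw [h1, mul_one]
  · simp [hαA a ha]

end Cfsg.Agent.PF
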