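import Cfsg.Agent.OddChar.PF.S09Vanish
import Cfsg.Agent.OddChar.PF.S07DadeMap
import Cfsg.Agent.OddChar.KernelCoherence
import Cfsg.Agent.OddChar.Coherence
import Cfsg.Agent.S1517

/-!
# Section 9: coherence of `S(H₀ C')`
-/

set_option linter.unusedSectionVars false
set_option linter.unusedVariables false
set_option linter.style.haveILetI false

universe u v

namespace Cfsg.Agent.PF

open Cfsg.Lib.Chars Cfsg.Lib.InducedFamily Cfsg.Lib.Coherence
open Subgroup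
open scoped commutatorElement ComplexConjugate

/-! ## One more pair in the limiting case -/

section Extension

variable {L : Type u} [Group L] [Fintype L] {G : Type v} [Group G] [Fintype G]
  {S : Set (L → ℂ)} {τ τ₁ : (L → ℂ) → (G → ℂ)} {R : (L → ℂ) → Finset (G → ℂ)}
  {E : Finset (L → ℂ)} {ψ : L → ℂ} {k : ℕ}

/-- A coherent family of `2 k` irreducible characters of one degree inside a coherence system. -/
structure S09Base (S : Set (L → ℂ)) (τ τ₁ : (L → ℂ) → (G → ℂ)) (E : Finset (L → ℂ)) (ψ : L → ℂ)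
    (k : ℕ) : Prop where
  sub : ↑E ⊆ S
  iso : Cfsg.IsLinearIsometryOn (Cfsg.zspan (↑E : Set (L → ℂ))) τ₁
  agree : ∀ f ∈ Cfsg.zspanOn (↑E : Set (L → ℂ)) {1}ᶜ, τ₁ f = τ f
  norm : ∀ ξ ∈ E, Cfsg.classInner ξ ξ = 1
  deg_eq : ∀ ξ ∈ E, ξ 1 = ψ 1
  mem : ψ ∈ E
  card_eq : E.card = 2 * k
  two_le : 2 ≤ k

open Classical in
theorem S09Base.orth (b : S09Base S τ τ₁ E ψ k) (hS : Cfsg.IsCoherenceSystem S τ R) {ξ η : L → ℂ}
    (h1 : ξ ∈ E) (h2 : η ∈ E) : Cfsg.classInner ξ η = if ξ = η then 1 else 0 := by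
  split_ifs with h
  · rw [← h, b.norm ξ h1]
  · exact hS.orthogonal ξ (b.sub h1) η (b.sub h2) h

open Classical in
theorem S09Base.orth' (b : S09Base S τ τ₁ E ψ k) (hS : Cfsg.IsCoherenceSystem S τ R) {ξ η : L → ℂ}
    (h1 : ξ ∈ E) (h2 : η ∈ E) : Cfsg.classInner (τ₁ ξ) (τ₁ η) = if ξ = η then 1 else 0 := by
  rw [b.iso.2.2.1 _ (subset_zspan h1) _ (subset_zspan h2), b.orth hS h1 h2]

theorem S09Base.sub_mem (b : S09Base S τ τ₁ E ψ k) {ξ : L → ℂ} (h : ξ ∈ E) :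
    ξ - ψ ∈ Cfsg.zspanOn (↑E : Set (L → ℂ)) {1}ᶜ :=
  mem_one.mpr ⟨(Submodule.span ℤ _).sub_mem (subset_zspan h) (subset_zspan b.mem),
    by simp [b.deg_eq ξ h]⟩

theorem S09Base.tau_sub (b : S09Base S τ τ₁ E ψ k) {ξ : L → ℂ} (h : ξ ∈ E) :
    τ₁ ξ - τ₁ ψ = τ (ξ - ψ) := by
  rw [← b.agree _ (b.sub_mem h), map_sub' (Submodule.span ℤ _) b.iso (subset_zspan h) (subset_zspan b.mem)]

open Classical in
/-- Bessel's inequality along the image of the base. -/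
theorem S09Base.bessel (b : S09Base S τ τ₁ E ψ k) (hS : Cfsg.IsCoherenceSystem S τ R) (f : G → ℂ)
    {x : (L → ℂ) → ℝ} (hx : ∀ ξ ∈ E, Cfsg.classInner f (τ₁ ξ) = x ξ) :
    ∑ ξ ∈ E, x ξ ^ 2 ≤ (Cfsg.classInner f f).re := by
  obtain ⟨-, h⟩ := project E (e := τ₁) (n := fun _ => 1) (fun _ _ => one_ne_zero)
    (fun ξ h1 η h2 => by rw [b.orth' hS h1 h2]; simp) hx
  have := inner_self_re_nonneg (f - comb E τ₁ fun i => x i / 1)
  simp only [div_one] at h this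
  linarith

open Classical in
/-- The coefficients along the base of the image of `χ - k ψ`. -/
theorem S09Base.coeff (b : S09Base S τ τ₁ E ψ k) (hS : Cfsg.IsCoherenceSystem S τ R) {χ : L → ℂ}
    (hχ : χ ∈ S) (hn : Cfsg.classInner χ χ = 1) (hχE : χ ∉ E) (hdeg : χ 1 = (k : ℂ) * ψ 1) :
    ∃ c : ℤ, (c = 0 ∨ c = 1) ∧ ∀ ξ ∈ E,
      Cfsg.classInner (τ (χ - (k : ℤ) • ψ)) (τ₁ ξ) = (c : ℂ) - if ξ = ψ then (k : ℂ) else 0 := by
  have hmem : χ - (k : ℤ) • ψ ∈ Cfsg.zspanOn S {1}ᶜ := mem_one.mpr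
    ⟨(Submodule.span ℤ S).sub_mem (subset_zspan hχ)
      ((Submodule.span ℤ S).smul_mem _ (subset_zspan (b.sub b.mem))), by simp [hdeg]⟩
  set β := τ (χ - (k : ℤ) • ψ) with hβ
  have hβg := hS.isometry.2.2.2 _ hmem
  choose! x hx using fun ξ (h : ξ ∈ E) => inner_int hβg (b.iso.2.2.2 _ (subset_zspan h))
  have hin : ∀ ξ ∈ E, Cfsg.classInner (χ - (k : ℤ) • ψ) ξ = -(if ξ = ψ then (k : ℂ) else 0) := by
    intro ξ h
    rw [classInner_sub_left, classInner_zsmul_left,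
      hS.orthogonal χ hχ ξ (b.sub h) (fun e => hχE (e ▸ h)), b.orth hS b.mem h]
    by_cases e : ξ = ψ
    · rw [if_pos e, if_pos e.symm]; simp
    · rw [if_neg e, if_neg (Ne.symm e)]; simp
  have hxψ : ∀ ξ ∈ E, x ξ = x ψ + (k : ℤ) - if ξ = ψ then (k : ℤ) else 0 := by
    intro ξ h
    have h1 := hS.isometry.2.2.1 _ hmem _ (zspanOn_mono b.sub (b.sub_mem h))
    rw [← b.tau_sub h, classInner_sub_right, hx ξ h, hx ψ b.mem, classInner_sub_right, hin ξ h,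
      hin ψ b.mem, if_pos rfl] at h1
    apply Int.cast_injective (α := ℂ)
    push_cast
    linear_combination h1
  set c : ℤ := x ψ + (k : ℤ) with hc
  refine ⟨c, ?_, fun ξ h => by rw [hx ξ h, hxψ ξ h]; push_cast; ring⟩
  have hB := b.bessel hS β (x := fun ξ => (x ξ : ℝ)) fun ξ h => by simpa [hβ] using hx ξ h
  have hN : (Cfsg.classInner β β).re = 1 + (k : ℝ) ^ 2 := by
    rw [hS.isometry.2.2.1 _ hmem _ hmem, classInner_sub_right, classInner_sub_left,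
      classInner_zsmul_right, classInner_zsmul_left, hn, hin ψ b.mem, if_pos rfl,
      hS.orthogonal ψ (b.sub b.mem) χ hχ (fun e => hχE (e ▸ b.mem))]
    simp [pow_two]
  have hZ : ((∑ ξ ∈ E, x ξ ^ 2 : ℤ) : ℝ) ≤ ((1 + (k : ℤ) ^ 2 : ℤ) : ℝ) := by
    rw [hN] at hB; push_cast; exact hB
  have hZ' : ∑ ξ ∈ E, x ξ ^ 2 ≤ 1 + (k : ℤ) ^ 2 := by exact_mod_cast hZ
  have hsum : ∑ ξ ∈ E, x ξ ^ 2 = 2 * k * c ^ 2 + ((k : ℤ) ^ 2 - 2 * k * c) := by
    rw [Finset.sum_congr rfl (g := fun ξ => c ^ 2 + if ξ = ψ then ((k : ℤ) ^ 2 - 2 * k * c) else 0)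
      fun ξ h => by rw [hxψ ξ h]; split_ifs <;> ring,
      Finset.sum_add_distrib, Finset.sum_const, Finset.sum_ite_eq' E ψ, if_pos b.mem, b.card_eq,
      nsmul_eq_mul]
    push_cast
    ring
  rw [hsum] at hZ'
  have hk : (2 : ℤ) ≤ k := by exact_mod_cast b.two_le
  by_contra hne
  push Not at hne
  rcases lt_trichotomy c 0 with h | h | h
  · nlinarith
  · exact hne.1 h
  · have : 2 ≤ c := by omega
    have h' : 2 ≤ c * (c - 1) := by nlinarith
    nlinarith [mul_le_mul_of_nonneg_left h' (by linarith : (0 : ℤ) ≤ k)]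

open Classical in
/-- Either `χ` and its conjugate extend the base coherently, or the image of `χ - k ψ` has all
coefficients shifted by one. -/
theorem S09Base.extend_or (b : S09Base S τ τ₁ E ψ k) (hS : Cfsg.IsCoherenceSystem S τ R) {χ : L → ℂ}
    (hχ : χ ∈ S) (hn : Cfsg.classInner χ χ = 1) (hχE : χ ∉ E) (hχE' : Cfsg.conjFun χ ∉ E)
    (hdeg : χ 1 = (k : ℂ) * ψ 1) :
    Cfsg.IsCoherent (↑E ∪ {χ, Cfsg.conjFun χ} : Set (L → ℂ)) {1}ᶜ τ ∨ ∀ ξ ∈ E,
      Cfsg.classInner (τ (χ - (k : ℤ) • ψ)) (τ₁ ξ) = 1 - if ξ = ψ then (k : ℂ) else 0 := by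
  obtain ⟨c, hc, hco⟩ := b.coeff hS hχ hn hχE hdeg
  rcases hc with hc | hc
  swap
  · exact Or.inr fun ξ h => by rw [hco ξ h, hc, Int.cast_one]
  left
  subst hc
  have hχb := hS.conj_mem χ hχ
  have hdeg' : Cfsg.conjFun χ 1 = (k : ℂ) * ψ 1 := by
    rw [conj_apply_one (hS.isCharacter χ hχ), hdeg]
  obtain ⟨c', -, hco'⟩ := b.coeff hS hχb
    (by rw [sys_conj_norm hS hχ, hn]) hχE' hdeg'
  have hmem : ∀ t ∈ S, t 1 = (k : ℂ) * ψ 1 → t - (k : ℤ) • ψ ∈ Cfsg.zspanOn S {1}ᶜ :=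
    fun t ht h1 => mem_one.mpr ⟨(Submodule.span ℤ S).sub_mem (subset_zspan ht)
      ((Submodule.span ℤ S).smul_mem _ (subset_zspan (b.sub b.mem))), by simp [h1]⟩
  have hd : τ (χ - Cfsg.conjFun χ) =
      τ (χ - (k : ℤ) • ψ) - τ (Cfsg.conjFun χ - (k : ℤ) • ψ) := by
    rw [← map_sub' (spanOn S {1}ᶜ) hS.isometry (hmem χ hχ hdeg) (hmem _ hχb hdeg')]
    congr 1
    abel
  have hc' : c' = 0 := by
    have hB := b.bessel hS (τ (χ - Cfsg.conjFun χ)) (x := fun _ => -(c' : ℝ)) fun ξ h => by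
      rw [hd, classInner_sub_left, hco ξ h, hco' ξ h]
      push_cast
      ring
    rw [hS.isometry.2.2.1 _ (sub_conj_mem hS hχ) _ (sub_conj_mem hS hχ), classInner_sub_left,
      classInner_sub_right, classInner_sub_right, sys_conj_norm hS hχ, hn,
      hS.orthogonal χ hχ _ hχb (hS.conj_ne χ hχ).symm,
      hS.orthogonal _ hχb χ hχ (hS.conj_ne χ hχ), Finset.sum_const, b.card_eq, nsmul_eq_mul] at hB
    simp only [sub_zero, zero_sub, sub_neg_eq_add, Complex.add_re, Complex.one_re, neg_sq] at hB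
    have h4 : ((2 * k : ℕ) : ℤ) * c' ^ 2 ≤ 2 := by
      have : (((2 * k : ℕ) : ℤ) * c' ^ 2 : ℝ) ≤ ((2 : ℤ) : ℝ) := by push_cast at hB ⊢; linarith
      exact_mod_cast this
    have hk : (2 : ℤ) ≤ k := by exact_mod_cast b.two_le
    by_contra hne
    have : 1 ≤ c' ^ 2 := by
      rcases lt_or_gt_of_ne hne with h | h <;> nlinarith
    push_cast at h4
    nlinarith
  subst hc'
  have hsub : (↑E ∪ {χ, Cfsg.conjFun χ} : Set (L → ℂ)) ⊆ S := by
    rintro t (ht | rfl | rfl)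
    exacts [b.sub ht, hχ, hχb]
  refine isCoherent_extend (S₁ := (↑E : Set (L → ℂ))) Set.subset_union_left
    (fun φ h => sys_ne_zero hS (hsub h))
    (fun φ h φ' h' => hS.orthogonal φ (hsub h) φ' (hsub h'))
    ⟨fun p hp q hq => hS.isometry.1 p (zspanOn_mono hsub hp) q (zspanOn_mono hsub hq),
      fun p hp => hS.isometry.2.1 p (zspanOn_mono hsub hp),
      fun p hp q hq => hS.isometry.2.2.1 p (zspanOn_mono hsub hp) q (zspanOn_mono hsub hq),
      fun p hp => hS.isometry.2.2.2 p (zspanOn_mono hsub hp)⟩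
    b.iso b.agree ?_ ?_
  · have hψs : (k : ℤ) • ψ ∈ Cfsg.zspan (↑E : Set (L → ℂ)) :=
      (Submodule.span ℤ _).smul_mem _ (subset_zspan b.mem)
    rintro t (ht | rfl | rfl)
    · refine ⟨t, subset_zspan ht, by simp, fun φ _ => ?_⟩
      rw [sub_self, map_zero' (spanOn S {1}ᶜ) hS.isometry, classInner_zero_left, classInner_zero_left]
    all_goals refine ⟨(k : ℤ) • ψ, hψs, by simp [hdeg, hdeg'], fun φ hφ => ?_⟩
    · rw [hco φ hφ, classInner_sub_left, classInner_zsmul_left,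
        hS.orthogonal _ hχ φ (b.sub hφ) (fun e => hχE (e ▸ hφ)), b.orth hS b.mem hφ]
      by_cases e : φ = ψ
      · rw [if_pos e, if_pos e.symm]; simp
      · rw [if_neg e, if_neg (Ne.symm e)]; simp
    · rw [hco' φ hφ, classInner_sub_left, classInner_zsmul_left,
        hS.orthogonal _ hχb φ (b.sub hφ) (fun e => hχE' (e ▸ hφ)), b.orth hS b.mem hφ]
      by_cases e : φ = ψ
      · rw [if_pos e, if_pos e.symm]; simp
      · rw [if_neg e, if_neg (Ne.symm e)]; simp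
  · refine ⟨χ - Cfsg.conjFun χ, mem_one.mpr
      ⟨(Submodule.span ℤ _).sub_mem (subset_zspan (Or.inr (Or.inl rfl)))
        (subset_zspan (Or.inr (Or.inr rfl))), by simp [conj_apply_one (hS.isCharacter χ hχ)]⟩,
      sub_ne_zero.mpr (hS.conj_ne χ hχ).symm⟩

open Classical in
/-- The norm inequality of the limiting case: an element with inner product `1` with the principal
character, coefficients `e - δ` along the base and `k` with each `β χ`. -/
theorem S09Base.norm_bound (b : S09Base S τ τ₁ E ψ k) (hS : Cfsg.IsCoherenceSystem S τ R)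
    (I : Finset (L → ℂ)) (hI : ↑I ⊆ S) (hIE : ∀ χ ∈ I, χ ∉ E)
    (hIn : ∀ χ ∈ I, Cfsg.classInner χ χ = 1) (hId : ∀ χ ∈ I, χ 1 = (k : ℂ) * ψ 1)
    (hshift : ∀ χ ∈ I, ∀ ξ ∈ E,
      Cfsg.classInner (τ (χ - (k : ℤ) • ψ)) (τ₁ ξ) = 1 - if ξ = ψ then (k : ℂ) else 0)
    {f : G → ℂ} (hf : Cfsg.IsGeneralizedCharacter G f)
    (hf1 : Cfsg.classInner f (fun _ => 1) = 1)
    (hfE : ∀ ξ ∈ E, Cfsg.classInner f (τ (ξ - ψ)) = if ξ = ψ then 0 else 1)
    (hfI : ∀ χ ∈ I, Cfsg.classInner f (τ (χ - (k : ℤ) • ψ)) = (k : ℂ))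
    (hE1 : ∀ ξ ∈ E, Cfsg.classInner (τ (ξ - ψ)) (fun _ => 1) = 0)
    (hI1 : ∀ χ ∈ I, Cfsg.classInner (τ (χ - (k : ℤ) • ψ)) (fun _ => 1) = 0) :
    (I.card : ℝ) + 2 ≤ (Cfsg.classInner f f).re := by
  set one : G → ℂ := fun _ => 1 with hone
  have h11 : Cfsg.classInner one one = 1 := classInner_self_irr isIrrCharacter_one
  -- the base is orthogonal to the principal character
  have hE0 : ∀ ξ ∈ E, Cfsg.classInner one (τ₁ ξ) = 0 := by
    obtain ⟨m, hm⟩ := inner_int (IsCharacter.isGeneralized (isCharacter_of_irr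
      (isIrrCharacter_one : Cfsg.IsIrrCharacter G one))) (b.iso.2.2.2 _ (subset_zspan b.mem))
    have hall : ∀ ξ ∈ E, Cfsg.classInner one (τ₁ ξ) = m := fun ξ h => by
      have h2 := hE1 ξ h
      rw [← b.tau_sub h, ← classInner_conj_symm, map_eq_zero, classInner_sub_right, hm,
        sub_eq_zero] at h2
      exact h2
    have hB := b.bessel hS one (x := fun _ => (m : ℝ)) fun ξ h => by simp [hall ξ h]
    rw [h11, Finset.sum_const, b.card_eq, nsmul_eq_mul, Complex.one_re] at hB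
    have h4 : ((2 * k : ℕ) : ℤ) * m ^ 2 ≤ 1 := by
      have : (((2 * k : ℕ) : ℤ) * m ^ 2 : ℝ) ≤ ((1 : ℤ) : ℝ) := by push_cast at hB ⊢; linarith
      exact_mod_cast this
    have hm0 : m = 0 := by
      have hk : (2 : ℤ) ≤ k := by exact_mod_cast b.two_le
      by_contra hne
      have : 1 ≤ m ^ 2 := by
        rcases lt_or_gt_of_ne hne with h | h <;> nlinarith
      push_cast at h4
      nlinarith
    intro ξ h
    rw [hall ξ h, hm0, Int.cast_zero]
  -- coefficients of `f` along the base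
  choose! y hy using fun ξ (h : ξ ∈ E) => inner_int hf (b.iso.2.2.2 _ (subset_zspan h))
  set e : ℤ := y ψ + 1 with he
  have hye : ∀ ξ ∈ E, y ξ = e - if ξ = ψ then 1 else 0 := fun ξ h => by
    have h2 := hfE ξ h
    rw [← b.tau_sub h, classInner_sub_right, hy ξ h, hy ψ b.mem] at h2
    apply Int.cast_injective (α := ℂ)
    rw [he]
    split_ifs at h2 ⊢ <;> push_cast <;> linear_combination h2
  -- the characters attached to `I`
  set P : G → ℂ := (∑ ξ ∈ E, τ₁ ξ) - (k : ℤ) • τ₁ ψ with hP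
  set X : (L → ℂ) → (G → ℂ) := fun χ => τ (χ - (k : ℤ) • ψ) - P with hX
  have hPin : ∀ ξ ∈ E, Cfsg.classInner P (τ₁ ξ) = 1 - if ξ = ψ then (k : ℂ) else 0 := by
    intro ξ h
    rw [hP, classInner_sub_left, classInner_sum_left, classInner_zsmul_left, b.orth' hS b.mem h,
      Finset.sum_congr rfl fun η hη => b.orth' hS hη h, Finset.sum_ite_eq' E ξ, if_pos h]
    by_cases e : ξ = ψ
    · rw [if_pos e, if_pos e.symm]; simp
    · rw [if_neg e, if_neg (Ne.symm e)]; simp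
  have hXE : ∀ χ ∈ I, ∀ ξ ∈ E, Cfsg.classInner (X χ) (τ₁ ξ) = 0 := fun χ h ξ hξ => by
    simp only [hX]
    rw [classInner_sub_left, hshift χ h ξ hξ, hPin ξ hξ, sub_self]
  have hXP : ∀ χ ∈ I, Cfsg.classInner (X χ) P = 0 := fun χ h => by
    rw [hP, classInner_sub_right, classInner_sum_right, classInner_zsmul_right, hXE χ h ψ b.mem,
      Finset.sum_eq_zero fun ξ hξ => hXE χ h ξ hξ]
    simp
  have hmem : ∀ χ ∈ I, χ - (k : ℤ) • ψ ∈ Cfsg.zspanOn S {1}ᶜ := fun χ h => mem_one.mpr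
    ⟨(Submodule.span ℤ S).sub_mem (subset_zspan (hI h))
      ((Submodule.span ℤ S).smul_mem _ (subset_zspan (b.sub b.mem))), by simp [hId χ h]⟩
  have hPP : Cfsg.classInner P P = (k : ℂ) ^ 2 := by
    conv_lhs => arg 2; rw [hP]
    rw [classInner_sub_right, classInner_sum_right, classInner_zsmul_right, hPin ψ b.mem, if_pos rfl,
      Finset.sum_congr rfl hPin, Finset.sum_sub_distrib, Finset.sum_const, Finset.sum_ite_eq' E ψ,
      if_pos b.mem, b.card_eq, nsmul_eq_mul]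
    push_cast
    ring
  have hXX : ∀ χ ∈ I, ∀ φ ∈ I, Cfsg.classInner (X χ) (X φ) = if χ = φ then 1 else 0 := by
    intro χ hχ φ hφ
    have hβP : ∀ t ∈ I, Cfsg.classInner (τ (t - (k : ℤ) • ψ)) P = (k : ℂ) ^ 2 := fun t ht => by
      have h := hXP t ht
      simp only [hX] at h
      rw [classInner_sub_left, hPP, sub_eq_zero] at h
      exact h
    have hPβ : Cfsg.classInner P (τ (φ - (k : ℤ) • ψ)) = (k : ℂ) ^ 2 := by
      rw [← classInner_conj_symm, hβP φ hφ]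
      simp
    have key : ∀ u v w : G → ℂ, Cfsg.classInner (u - w) (v - w) = Cfsg.classInner u v -
        Cfsg.classInner u w - Cfsg.classInner w v + Cfsg.classInner w w := fun u v w => by
      rw [classInner_sub_left, classInner_sub_right, classInner_sub_right]
      ring
    simp only [hX]
    rw [key, hPP, hβP χ hχ, hPβ,
      hS.isometry.2.2.1 _ (hmem χ hχ) _ (hmem φ hφ), classInner_sub_left, classInner_sub_right,
      classInner_sub_right, classInner_zsmul_left, classInner_zsmul_right, classInner_zsmul_left,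
      classInner_zsmul_right, b.norm ψ b.mem,
      hS.orthogonal χ (hI hχ) ψ (b.sub b.mem) (fun e => hIE χ hχ (e ▸ b.mem)),
      hS.orthogonal ψ (b.sub b.mem) φ (hI hφ) (fun e => hIE φ hφ (e ▸ b.mem))]
    split_ifs with h
    · subst h
      rw [hIn χ hχ]
      push_cast
      ring
    · rw [hS.orthogonal χ (hI hχ) φ (hI hφ) h]
      push_cast
      ring
  have hz : ∀ χ ∈ I, Cfsg.classInner f (X χ) = ((1 - (k : ℤ) * e : ℤ) : ℂ) := by
    intro χ h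
    simp only [hX]
    rw [classInner_sub_right, hfI χ h, hP, classInner_sub_right, classInner_sum_right,
      classInner_zsmul_right, hy ψ b.mem,
      Finset.sum_congr rfl (g := fun ξ => (e : ℂ) - if ξ = ψ then 1 else 0) fun ξ hξ => by
        rw [hy ξ hξ, hye ξ hξ]; push_cast; ring,
      Finset.sum_sub_distrib, Finset.sum_const, Finset.sum_ite_eq' E ψ, if_pos b.mem, b.card_eq,
      nsmul_eq_mul, he]
    push_cast
    ring
  have hX1 : ∀ χ ∈ I, Cfsg.classInner (X χ) one = 0 := fun χ h => by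
    simp only [hX]
    rw [classInner_sub_left, hI1 χ h, zero_sub, neg_eq_zero, ← classInner_conj_symm, map_eq_zero,
      hP, classInner_sub_right, classInner_sum_right, classInner_zsmul_right, hE0 ψ b.mem,
      Finset.sum_eq_zero fun ξ hξ => hE0 ξ hξ]
    simp
  -- first remove the part along `I`
  obtain ⟨hr0, hN⟩ := project I (e := X) (n := fun _ => 1) (fun _ _ => one_ne_zero)
    (fun χ hχ φ hφ => by rw [hXX χ hχ φ hφ]; simp) (a := f)
    (x := fun _ => ((1 - (k : ℤ) * e : ℤ) : ℝ)) (fun χ h => by rw [hz χ h]; simp)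
  simp only [div_one] at hr0 hN
  set r := f - comb I X (fun _ => ((1 - (k : ℤ) * e : ℤ) : ℝ)) with hr
  have hrE : ∀ ξ ∈ E, Cfsg.classInner r (τ₁ ξ) = ((y ξ : ℤ) : ℂ) := fun ξ h => by
    rw [hr, classInner_sub_left, hy ξ h, comb_inner_of_orth I (fun χ hχ => hXE χ hχ ξ h), sub_zero]
  have hr1 : Cfsg.classInner r one = 1 := by
    rw [hr, classInner_sub_left, hf1, comb_inner_of_orth I hX1, sub_zero]
  -- then the base and the principal character
  obtain ⟨-, hN2⟩ := project E (e := τ₁) (n := fun _ => 1) (fun _ _ => one_ne_zero)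
    (fun ξ h η h' => by rw [b.orth' hS h h']; simp) (a := r) (x := fun ξ => (y ξ : ℝ))
    (fun ξ h => by rw [hrE ξ h]; simp)
  simp only [div_one] at hN2
  set r' := r - comb E τ₁ (fun ξ => (y ξ : ℝ)) with hr'
  have hr'1 : Cfsg.classInner r' one = 1 := by
    rw [hr', classInner_sub_left, hr1, comb_inner_of_orth E (fun ξ h => by
      rw [← classInner_conj_symm, hE0 ξ h, map_zero]), sub_zero]
  obtain ⟨-, hN3⟩ := project (ι := Unit) Finset.univ (e := fun _ => one) (n := fun _ => 1)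
    (fun _ _ => one_ne_zero) (fun i _ j _ => by rw [h11]; simp) (a := r') (x := fun _ => 1)
    (fun _ _ => by rw [hr'1]; simp)
  have h3 : (1 : ℝ) ≤ (Cfsg.classInner r' r').re := by
    rw [hN3]
    have := inner_self_re_nonneg (r' - comb Finset.univ (fun _ : Unit => one) fun _ => (1 : ℝ) / 1)
    simpa using this
  have hk : (2 : ℤ) ≤ k := by exact_mod_cast b.two_le
  have hA : 1 ≤ ∑ ξ ∈ E, y ξ ^ 2 := by
    rw [Finset.sum_congr rfl (g := fun ξ => e ^ 2 + if ξ = ψ then (1 - 2 * e) else 0)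
      fun ξ h => by rw [hye ξ h]; split_ifs <;> ring,
      Finset.sum_add_distrib, Finset.sum_const, Finset.sum_ite_eq' E ψ, if_pos b.mem, b.card_eq,
      nsmul_eq_mul]
    push_cast
    rcases lt_trichotomy e 0 with h | h | h
    · nlinarith
    · simp [h]
    · have : 1 ≤ e := h
      nlinarith
  have hB : 1 ≤ (1 - (k : ℤ) * e) ^ 2 := by
    have hne : (1 - (k : ℤ) * e) ≠ 0 := by
      intro h
      have : (k : ℤ) * e = 1 := by linarith
      rcases Int.mul_eq_one_iff_eq_one_or_neg_one.mp this with ⟨h1, -⟩ | ⟨h1, -⟩ <;> omega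
    rcases lt_or_gt_of_ne hne with h | h <;> nlinarith
  have hA' : (1 : ℝ) ≤ ∑ ξ ∈ E, (y ξ : ℝ) ^ 2 := by
    calc (1 : ℝ) = ((1 : ℤ) : ℝ) := by simp
      _ ≤ ((∑ ξ ∈ E, y ξ ^ 2 : ℤ) : ℝ) := by exact_mod_cast hA
      _ = _ := by push_cast; rfl
  have hB' : (I.card : ℝ) ≤ ∑ _χ ∈ I, (((1 - (k : ℤ) * e : ℤ) : ℝ)) ^ 2 := by
    rw [Finset.sum_const, nsmul_eq_mul]
    refine le_mul_of_one_le_right (Nat.cast_nonneg _) ?_
    exact_mod_cast hB
  linarith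

end Extension

/-! ## Arithmetic -/

theorem s09_pow_bound (a : ℕ) : ∀ n, 2 ≤ n → (2 * a) ^ n + n * (2 * a) + 1 ≤ (2 * a + 1) ^ n := by
  intro n hn
  induction n, hn using Nat.le_induction with
  | base => nlinarith
  | succ n hn ih =>
    rw [pow_succ, pow_succ]
    nlinarith [Nat.mul_le_mul_right (2 * a + 1) ih, Nat.zero_le ((2 * a) ^ n), Nat.zero_le (n * a * a)]

theorem s09_two_pow_bound : ∀ n, 3 ≤ n → 6 + n * (n + 2) ≤ 3 * 2 ^ n := by
  intro n hn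
  induction n, hn using Nat.le_induction with
  | base => norm_num
  | succ n hn ih => rw [pow_succ]; nlinarith

/-- The limiting case is impossible. -/
theorem s09_arith {q a u p I E : ℕ} (hq : 3 ≤ q) (ha : 0 < a) (hu : u ≤ a ^ (q - 1))
    (hu0 : 0 < u) (hp : p = 2 * a + 1) (hE : E * a = 2 * u)
    (hI : 3 * (I + 1) ≤ (q + 2) * a)
    (hcount : (p ^ q - 1) * u ≤ (p - 1) * u ^ 2 + q * E * a ^ 2 + q * I * u ^ 2) : False := by
  subst hp
  have h1 : (2 * a + 1) ^ q - 1 ≤ 2 * a * u + 2 * q * a + q * I * u := by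
    refine Nat.le_of_mul_le_mul_right (le_trans hcount (le_of_eq ?_)) hu0
    rw [show q * E * a ^ 2 = q * a * (E * a) by ring, hE, Nat.add_sub_cancel]
    ring
  have h2 : (2 * a) ^ q + q * (2 * a) ≤ (2 * a + 1) ^ q - 1 := by
    have := s09_pow_bound a q (by omega); omega
  have h3 := s09_two_pow_bound q hq
  have h4 : a * u ≤ a ^ q := by
    calc a * u ≤ a * a ^ (q - 1) := Nat.mul_le_mul_left _ hu
      _ = a ^ q := by rw [← pow_succ', show q - 1 + 1 = q by omega]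
  rw [mul_pow] at h2
  have h5 : 3 * (q * I * u) + 3 * (q * u) ≤ q * (q + 2) * (a * u) := by
    have := Nat.mul_le_mul_left (q * u) hI
    linarith
  have h6 : (6 + q * (q + 2)) * (a * u) ≤ 3 * (2 ^ q * a ^ q) := by
    calc _ ≤ 3 * 2 ^ q * a ^ q := Nat.mul_le_mul h3 h4
      _ = _ := by ring
  have h7 : 0 < q * u := Nat.mul_pos (by omega) hu0
  nlinarith

/-! ## The family -/

section Family

variable {L : Type u} [Group L] [Fintype L] {K Ms A : Subgroup L}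

theorem s09_seqIndD_conj [K.Normal] {φ : L → ℂ} (h : φ ∈ seqIndD K Ms A) :
    Cfsg.conjFun φ ∈ seqIndD K Ms A := by
  refine ⟨conj_mem_above A h.1, fun h' => h.2 ?_⟩
  simpa [conjFun_conjFun] using conj_mem_above Ms h'

theorem s09_finite_seqIndD [K.Normal] : (seqIndD K Ms A).Finite :=
  (finite_above A).subset fun _ h => h.1

end Family

namespace Ctx9

variable {L : Type u} [Group L] [Fintype L] {K H H₀ U C W W₂ : Subgroup L} {q p : ℕ}

open Classical in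
/-- The sum of the squares of the degrees bounded through the members. -/
theorem count (c : Ctx9 K H H₀ U C W W₂ q p) [K.Normal] [H.Normal] [(H₀ ⊔ ⁅C, C⁆).Normal]
    (E I : Finset (L → ℂ)) {a : ℕ}
    (hE : ∀ φ ∈ E, φ 1 = ((q * a : ℕ) : ℂ)) (hI : ∀ φ ∈ I, φ 1 = ((q * C.relIndex U : ℕ) : ℂ))
    (hcov : ∀ φ ∈ seqIndD K H (H₀ ⊔ ⁅C, C⁆), Cfsg.IsIrrCharacter L φ → φ ∈ E ∨ φ ∈ I) :
    (p ^ q - 1) * C.relIndex U ≤ (p - 1) * C.relIndex U ^ 2 + q * E.card * a ^ 2 +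
      q * I.card * C.relIndex U ^ 2 := by
  haveI := Fintype.ofFinite ↥K
  haveI := Fintype.ofFinite ↥W
  set u := C.relIndex U
  set N := H₀ ⊔ ⁅C, C⁆ with hNdef
  set Y := H ⊔ N with hYdef
  have hC'U : ⁅C, C⁆ ≤ U := (Subgroup.commutator_le_self C).trans c.C_le
  have hNK : N ≤ K := sup_le (c.H₀_le.trans c.H_le) (hC'U.trans c.U_le)
  have hYK : Y ≤ K := sup_le c.H_le hNK
  have hN := sum_deg_sq_above (N.subgroupOf K)
  have hY := sum_deg_sq_above (Y.subgroupOf K)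
  set sN := Finset.univ.filter fun θ : Cfsg.IrrCharacter ↥K =>
    ∀ b ∈ N.subgroupOf K, (θ : ↥K → ℂ) b = (θ : ↥K → ℂ) 1
  set sY := Finset.univ.filter fun θ : Cfsg.IrrCharacter ↥K =>
    ∀ b ∈ Y.subgroupOf K, (θ : ↥K → ℂ) b = (θ : ↥K → ℂ) 1
  have hYN : sY ⊆ sN := fun θ h => Finset.mem_filter.mpr ⟨Finset.mem_univ _,
    fun b hb => (Finset.mem_filter.mp h).2 b ((le_sup_right : N ≤ Y) hb)⟩
  rw [← Finset.sum_sdiff hYN, hY] at hN
  -- the indices
  have hYeq : Y = H ⊔ ⁅C, C⁆ := by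
    rw [hYdef, hNdef, ← sup_assoc, sup_eq_left.mpr c.H₀_le]
  have hcard : Nat.card Y = p ^ q * Nat.card N := by
    rw [hYeq, hNdef, Cfsg.Lib.Coprime.card_sup_of_inf_eq_bot (c.le_normalizer_H _)
      (eq_bot_iff.mpr ((inf_le_inf le_rfl hC'U).trans c.H_inf_U.le)),
      Cfsg.Lib.Coprime.card_sup_of_inf_eq_bot (c.le_normalizer_H₀ _)
      (eq_bot_iff.mpr ((inf_le_inf c.H₀_le hC'U).trans c.H_inf_U.le)), c.card_H]
    ring
  have hNi : (N.subgroupOf K).index = p ^ q * (Y.subgroupOf K).index := by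
    have h1 := Subgroup.card_mul_index (N.subgroupOf K)
    have h2 := Subgroup.card_mul_index (Y.subgroupOf K)
    rw [Nat.card_congr (Subgroup.subgroupOfEquivOfLe hNK).toEquiv] at h1
    rw [Nat.card_congr (Subgroup.subgroupOfEquivOfLe hYK).toEquiv, hcard] at h2
    refine Nat.eq_of_mul_eq_mul_left (Nat.card_pos (α := N)) ?_
    rw [h1, ← h2]; ring
  have hYi : u ≤ (Y.subgroupOf K).index := by
    have e : (Y.subgroupOf K).index = ⁅C, C⁆.relIndex U := by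
      rw [hYeq]; exact c.relIndex_sup hC'U
    rw [e]
    refine Nat.le_of_dvd (Nat.pos_of_ne_zero fun h0 => ?_)
      (Subgroup.relIndex_dvd_of_le_left U (Subgroup.commutator_le_self C))
    exact Subgroup.index_ne_zero_of_finite h0
  set Θ := sN \ sY
  have hΘ : ∀ θ ∈ Θ, Above (θ : ↥K → ℂ) N ∧ ¬ Above (θ : ↥K → ℂ) H := by
    intro θ hθ
    obtain ⟨h1, h2⟩ := Finset.mem_sdiff.mp hθ
    have hA : Above (θ : ↥K → ℂ) N := fun b hb => (Finset.mem_filter.mp h1).2 b hb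
    refine ⟨hA, fun hH => h2 (Finset.mem_filter.mpr ⟨Finset.mem_univ _, ?_⟩)⟩
    let D : Subgroup L := (kerSubgroup (θ : ↥K → ℂ) (isCharacter_of_irr θ.2)).map K.subtype
    have hD : Y ≤ D := sup_le (fun b hb => ⟨⟨b, c.H_le hb⟩, hH _ hb, rfl⟩)
      (fun b hb => ⟨⟨b, hNK hb⟩, hA _ hb, rfl⟩)
    intro b hb
    obtain ⟨z, hz, e⟩ := hD (Subgroup.mem_subgroupOf.mp hb)
    rw [← show z = b from Subtype.ext e]
    exact hz
  -- the three parts
  obtain ⟨Ainv, hAcard, -, hAmem⟩ := c.invariant_set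
  let ind : Cfsg.IrrCharacter ↥K → (L → ℂ) := fun θ => Cfsg.indFun K (θ : ↥K → ℂ)
  have hsub : Θ ⊆ (Θ.filter fun θ : Cfsg.IrrCharacter ↥K =>
      ∀ w ∈ W, Cfsg.Lib.Chars.conjN K w (θ : ↥K → ℂ) = θ) ∪
      (Θ.filter fun θ => ind θ ∈ E) ∪ (Θ.filter fun θ => ind θ ∈ I) := by
    intro θ hθ
    obtain ⟨h1, h2⟩ := hΘ θ hθ
    by_cases hinv : ∀ w ∈ W, Cfsg.Lib.Chars.conjN K w (θ : ↥K → ℂ) = θ
    · exact Finset.mem_union_left _ (Finset.mem_union_left _ (Finset.mem_filter.mpr ⟨hθ, hinv⟩))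
    · rcases hcov _ ((s09_indFun_mem_seqIndD θ.2).mpr ⟨h1, h2⟩) (c.irr_of_not_invariant θ.2 hinv)
        with h | h
      · exact Finset.mem_union_left _ (Finset.mem_union_right _ (Finset.mem_filter.mpr ⟨hθ, h⟩))
      · exact Finset.mem_union_right _ (Finset.mem_filter.mpr ⟨hθ, h⟩)
  have hfib : ∀ (T : Finset (L → ℂ)) (d : ℕ), (∀ φ ∈ T, φ 1 = ((q * d : ℕ) : ℂ)) →
      ∑ θ ∈ Θ.filter (fun θ => ind θ ∈ T), deg (θ : ↥K → ℂ) ^ 2 ≤ q * T.card * d ^ 2 := by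
    intro T d hT
    set s := Θ.filter fun θ => ind θ ∈ T
    have hd : ∀ θ ∈ s, deg (θ : ↥K → ℂ) = d := fun θ hθ => by
      have h := hT _ (Finset.mem_filter.mp hθ).2
      simp only [ind] at h
      rw [c.indFun_apply_one θ.2] at h
      exact Nat.eq_of_mul_eq_mul_left c.q_prime.pos (by exact_mod_cast h)
    rw [Finset.sum_congr rfl fun θ hθ => by rw [hd θ hθ], Finset.sum_const, smul_eq_mul]
    refine Nat.mul_le_mul_right _ ?_
    refine (Finset.card_le_mul_card_image s (f := ind) q fun φ hφ => ?_).trans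
      (Nat.mul_le_mul_left q (Finset.card_le_card fun φ hφ => ?_))
    · obtain ⟨θ₀, hθ₀, rfl⟩ := Finset.mem_image.mp hφ
      have hle : ((s.filter fun θ => ind θ = ind θ₀).image Subtype.val).card ≤ q := by
        refine (Finset.card_le_card (t := Finset.univ.image fun w : ↥W =>
          Cfsg.Lib.Chars.conjN K (w : L) (θ₀ : ↥K → ℂ)) fun x hx => ?_).trans
          (Finset.card_image_le.trans_eq (by rw [Finset.card_univ, ← Nat.card_eq_fintype_card, c.card_W]))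
        obtain ⟨θ, hθ, rfl⟩ := Finset.mem_image.mp hx
        obtain ⟨g, hg⟩ := s09_conj_of_indFun_eq θ₀.2 θ.2 (Finset.mem_filter.mp hθ).2.symm
        obtain ⟨z, hz, w, hw, rfl⟩ := c.decomp g
        rw [conjN_mul, conjN_of_mem (isClassFunction_irr θ₀) ⟨z, hz⟩] at hg
        exact Finset.mem_image.mpr ⟨⟨w, hw⟩, Finset.mem_univ _, hg⟩
      rwa [Finset.card_image_of_injective _ Subtype.val_injective] at hle
    · obtain ⟨θ, hθ, rfl⟩ := Finset.mem_image.mp hφ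
      exact (Finset.mem_filter.mp hθ).2
  have h0 : ∑ θ ∈ Θ.filter (fun θ : Cfsg.IrrCharacter ↥K =>
      ∀ w ∈ W, Cfsg.Lib.Chars.conjN K w (θ : ↥K → ℂ) = θ), deg (θ : ↥K → ℂ) ^ 2 ≤
      (p - 1) * u ^ 2 := by
    rw [Finset.sum_congr rfl fun θ hθ => by
      obtain ⟨h1, h2⟩ := Finset.mem_filter.mp hθ
      rw [c.deg_of_invariant θ.2 (hΘ θ h1).1 (hΘ θ h1).2 h2], Finset.sum_const, smul_eq_mul,
      ← hAcard]
    refine Nat.mul_le_mul_right _ (Finset.card_le_card fun θ hθ => ?_)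
    obtain ⟨h1, h2⟩ := Finset.mem_filter.mp hθ
    exact hAmem θ (hΘ θ h1).1 (hΘ θ h1).2 h2
  have hle : ∑ θ ∈ Θ, deg (θ : ↥K → ℂ) ^ 2 ≤
      (p - 1) * u ^ 2 + q * E.card * a ^ 2 + q * I.card * u ^ 2 := by
    refine (Finset.sum_le_sum_of_subset hsub).trans ?_
    refine le_trans ((Finset.sum_union_inter).le.trans' (Nat.le_add_right _ _)) ?_
    refine Nat.add_le_add ?_ (hfib I u hI)
    exact le_trans ((Finset.sum_union_inter).le.trans' (Nat.le_add_right _ _))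
      (Nat.add_le_add h0 (hfib E a hE))
  refine le_trans ?_ hle
  rw [hNi] at hN
  have : ∑ θ ∈ Θ, deg (θ : ↥K → ℂ) ^ 2 = (p ^ q - 1) * (Y.subgroupOf K).index := by
    rw [Nat.sub_mul, one_mul, ← hN, Nat.add_sub_cancel]
  rw [this]
  exact Nat.mul_le_mul_left _ hYi

end Ctx9

/-! ## The coherence -/

section Main

variable {G : Type u} [Group G] [Fintype G] {M : Subgroup G} [Fintype M]
  {K H H₀ U C W W₂ : Subgroup ↥M} {q p : ℕ} {H₁ C₁ : Subgroup ↥M} {a : ℕ}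
  {A : Set G} {RA : G → Subgroup G} {S : Set (↥M → ℂ)} {τ : (↥M → ℂ) → (G → ℂ)}
  {R : (↥M → ℂ) → Finset (G → ℂ)}

theorem Ctx9.odd_prime_facts (c : Ctx9 K H H₀ U C W W₂ q p) : 3 ≤ q ∧ 0 < C.relIndex U := by
  refine ⟨?_, Nat.pos_of_ne_zero Subgroup.index_ne_zero_of_finite⟩
  have hW : Nat.card W ∣ Nat.card ↥M := Subgroup.card_subgroup_dvd_card W
  rw [c.card_W] at hW
  obtain ⟨j, hj⟩ := c.odd.of_dvd_nat hW
  have := c.q_prime.two_le
  omega

theorem Ctx9.deg_member (c : Ctx9 K H H₀ U C W W₂ q p) [K.Normal] [H.Normal]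
    [(H₀ ⊔ ⁅C, C⁆).Normal] {φ : ↥M → ℂ} (hφ : φ ∈ seqIndD K H (H₀ ⊔ ⁅C, C⁆)) :
    ∃ θ : ↥K → ℂ, Cfsg.IsIrrCharacter ↥K θ ∧ Above θ H₀ ∧ ¬ Above θ H ∧ φ = Cfsg.indFun K θ ∧
      deg φ = q * deg θ ∧ φ 1 = ((q * deg θ : ℕ) : ℂ) ∧ deg θ ∣ C.relIndex U := by
  obtain ⟨θ, hθ, h1, h2, rfl⟩ := s09_seqIndD_exists hφ
  exact ⟨θ, hθ, h1.mono le_sup_left, h2, rfl,
    by rw [deg_indFun (isCharacter_of_irr hθ), c.index_K], c.indFun_apply_one hθ, c.deg_dvd_u hθ h1⟩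

/-- One degree: coherence. -/
theorem s09_coherent_const (c : Ctx9 K H H₀ U C W W₂ q p) [K.Normal]
    (hS : Cfsg.IsCoherenceSystem S τ R) (hsub : seqIndD K H (H₀ ⊔ ⁅C, C⁆) ⊆ S)
    (hne : (seqIndD K H (H₀ ⊔ ⁅C, C⁆)).Nonempty) {d : ℂ}
    (hd : ∀ φ ∈ seqIndD K H (H₀ ⊔ ⁅C, C⁆), φ 1 = d) :
    Cfsg.IsCoherent (seqIndD K H (H₀ ⊔ ⁅C, C⁆)) {1}ᶜ τ :=
  Cfsg.Agent.S1517.result _ τ R
    (Cfsg.Lib.InducedFamily.system_mono hS hsub hne fun φ h => s09_seqIndD_conj h)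
    fun φ hφ φ' hφ' => (hd φ hφ).trans (hd φ' hφ').symm

/-- The non-Galois case with `u ≠ a`. -/
theorem s09_coherent_line (c : Ctx9 K H H₀ U C W W₂ q p) (l : LineCtx H H₀ U W H₁ C₁ p a)
    (hua : C.relIndex U ≠ a) (hcd : C.relIndex U ∣ a ^ (q - 1))
    (hS : Cfsg.IsCoherenceSystem S τ R) (hsub : seqIndD K H (H₀ ⊔ ⁅C, C⁆) ⊆ S)
    (hD : Cfsg.DadeHypothesis A M RA)
    (hA : ∀ x ∈ K, x ≠ 1 → ∀ y ∈ H, y ≠ 1 → x * y = y * x → (x : G) ∈ A)
    (hτ : ∀ f ∈ Cfsg.zspanOn S {x : ↥M | (x : G) ∈ A}, τ f = Cfsg.dadeIsometry A M RA f) :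
    Cfsg.IsCoherent (seqIndD K H (H₀ ⊔ ⁅C, C⁆)) {1}ᶜ τ := by
  classical
  haveI := c.K_normal
  haveI := c.H_normal
  haveI := c.H₀_normal
  haveI := c.sup_C'_normal
  set u := C.relIndex U with hu
  obtain ⟨hq, hu0⟩ := c.odd_prime_facts
  have ha := l.one_lt
  have hq0 : 0 < q := by omega
  have hfin := s09_finite_seqIndD (K := K) (Ms := H) (A := H₀ ⊔ ⁅C, C⁆)
  set T := hfin.toFinset with hT
  have hTmem : ∀ φ, φ ∈ T ↔ φ ∈ seqIndD K H (H₀ ⊔ ⁅C, C⁆) := fun φ => by simp [hT]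
  have hTS : (↑T : Set (↥M → ℂ)) ⊆ S := fun φ h => hsub ((hTmem φ).mp h)
  have hTc : ∀ φ ∈ T, Cfsg.conjFun φ ∈ T := fun φ h =>
    (hTmem _).mpr (s09_seqIndD_conj ((hTmem φ).mp h))
  have hgoal : Cfsg.IsCoherent (↑T : Set (↥M → ℂ)) {1}ᶜ τ →
      Cfsg.IsCoherent (seqIndD K H (H₀ ⊔ ⁅C, C⁆)) {1}ᶜ τ := by
    rw [show (↑T : Set (↥M → ℂ)) = seqIndD K H (H₀ ⊔ ⁅C, C⁆) from Set.ext fun φ => hTmem φ]
    exact id
  refine hgoal ?_
  -- degrees
  have hdiv : ∀ φ ∈ T, q * a ∣ deg φ ∧ deg φ ≤ q * u ∧ φ 1 = ((deg φ : ℕ) : ℂ) := fun φ hφ => by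
    obtain ⟨θ, hθ, h1, h2, -, hd, hd1, hdu⟩ := c.deg_member ((hTmem φ).mp hφ)
    exact ⟨hd ▸ Nat.mul_dvd_mul_left q (c.line_dvd_deg l hθ h1 h2),
      hd ▸ Nat.mul_le_mul_left q (Nat.le_of_dvd hu0 hdu), hd ▸ hd1⟩
  have hirr1 : ∀ φ : ↥M → ℂ, Cfsg.IsIrrCharacter ↥M φ → Cfsg.classInner φ φ = 1 :=
    fun φ h => classInner_self_irr h
  set T₀ := T.filter fun φ => Cfsg.IsIrrCharacter ↥M φ ∧ deg φ = q * a with hT₀
  have h₀T : T₀ ⊆ T := Finset.filter_subset _ _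
  have h₀mem : ∀ φ ∈ T₀, Cfsg.IsIrrCharacter ↥M φ ∧ deg φ = q * a ∧ φ 1 = ((q * a : ℕ) : ℂ) :=
    fun φ h => by
      obtain ⟨h1, h2, h3⟩ := Finset.mem_filter.mp h
      exact ⟨h2, h3, h3 ▸ (hdiv φ h1).2.2⟩
  have hconjdeg : ∀ φ ∈ T, deg (Cfsg.conjFun φ) = deg φ := fun φ h => Nat.cast_injective (R := ℂ) (by
    rw [← (hdiv φ h).2.2, ← (hdiv _ (hTc φ h)).2.2, conj_apply_one (hS.isCharacter φ (hTS h))])
  have h₀c : ∀ φ ∈ T₀, Cfsg.conjFun φ ∈ T₀ := fun φ h => by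
    obtain ⟨h1, h2, h3⟩ := Finset.mem_filter.mp h
    exact Finset.mem_filter.mpr
      ⟨hTc φ h1, IsIrrCharacter.conjugate h2, (hconjdeg φ h1).trans h3⟩
  -- the lower bound for `T₀`
  have hbound : (p - 1) * u ≤ T₀.card * a ^ 2 := by
    obtain ⟨E, hE, hcount⟩ := c.line_set l
    have hsubE : E ⊆ T₀ := fun φ hφ => by
      obtain ⟨h1, h2, h3⟩ := hE φ hφ
      have hm : φ ∈ T := (hTmem φ).mpr (s09_seqIndD_anti
        (sup_le_sup_left (Subgroup.commutator_mono c.C_le c.C_le) _) h1)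
      refine Finset.mem_filter.mpr ⟨hm, h2, Nat.cast_injective (R := ℂ) ?_⟩
      rw [← (hdiv φ hm).2.2, h3]
    refine le_trans (Nat.mul_le_mul_left _ ?_)
      (hcount.trans (Nat.mul_le_mul_right _ (Finset.card_le_card hsubE)))
    exact Nat.le_of_dvd (Nat.pos_of_ne_zero Subgroup.index_ne_zero_of_finite)
      (Subgroup.relIndex_dvd_of_le_left U c.derived_U)
  have hp1 : 2 * a ≤ p - 1 := l.two_mul_le
  have hT₀ne : T₀.Nonempty := by
    refine Finset.card_pos.mp (Nat.pos_of_ne_zero fun e => ?_)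
    rw [e, zero_mul] at hbound
    have : 0 < (p - 1) * u := Nat.mul_pos (by omega) hu0
    omega
  obtain ⟨ψ, hψ⟩ := hT₀ne
  have hcoh₀ : Cfsg.IsCoherent (↑T₀ : Set (↥M → ℂ)) {1}ᶜ τ :=
    Cfsg.Agent.S1517.result _ τ R
      (Cfsg.Lib.InducedFamily.system_mono hS (fun φ h => hTS (h₀T h)) ⟨ψ, hψ⟩ h₀c)
      fun φ hφ φ' hφ' => (h₀mem φ hφ).2.2.trans (h₀mem φ' hφ').2.2.symm
  -- the weighted sums
  have hsum₀ : ∑ φ ∈ T₀, (deg φ : ℝ) ^ 2 / (Cfsg.classInner φ φ).re =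
      (T₀.card : ℝ) * ((q : ℝ) * a) ^ 2 := by
    rw [Finset.sum_congr rfl fun φ h => by rw [(h₀mem φ h).2.1, hirr1 φ (h₀mem φ h).1],
      Finset.sum_const, nsmul_eq_mul]
    push_cast
    simp
  have hcrit : ∀ χ ∈ T, (∀ (d : ℕ), deg χ = q * d → 2 * d < T₀.card * a) →
      deg ψ ∣ deg χ ∧
      (2 * deg χ * deg ψ : ℝ) < ∑ φ ∈ T₀, (deg φ : ℝ) ^ 2 / (Cfsg.classInner φ φ).re := by
    intro χ hχ hlt
    obtain ⟨hdv, -, -⟩ := hdiv χ hχ
    obtain ⟨j, hj⟩ := hdv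
    refine ⟨(h₀mem ψ hψ).2.1 ▸ ⟨j, hj⟩, ?_⟩
    rw [hsum₀, (h₀mem ψ hψ).2.1]
    have h1 := hlt (a * j) (by rw [hj]; ring)
    have h1' : (2 * ((a : ℝ) * j)) < (T₀.card : ℝ) * a := by exact_mod_cast h1
    have hq' : (0 : ℝ) < (q : ℝ) ^ 2 * a := by positivity
    rw [hj]
    push_cast
    nlinarith [mul_lt_mul_of_pos_left h1' hq']
  by_cases hcase : 2 * u < T₀.card * a
  · refine coherent_extend hS h₀T hTS h₀c hTc hcoh₀ hψ fun χ hχ _ => hcrit χ hχ fun d hd => ?_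
    have := (hdiv χ hχ).2.1
    rw [hd] at this
    have := Nat.le_of_mul_le_mul_left this hq0
    omega
  -- the limiting case
  push Not at hcase
  have heq1 : T₀.card * a = 2 * u ∧ p - 1 = 2 * a := by
    have h1 : T₀.card * a ^ 2 ≤ 2 * a * u := by
      rw [pow_two, ← mul_assoc, mul_right_comm 2]; exact Nat.mul_le_mul_right a hcase
    have h2 : p - 1 = 2 * a := le_antisymm
      (Nat.le_of_mul_le_mul_right (hbound.trans h1) hu0) hp1
    refine ⟨le_antisymm hcase (Nat.le_of_mul_le_mul_right ?_ (by omega : 0 < a)), h2⟩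
    rw [h2] at hbound
    linarith
  obtain ⟨hTa, hpa⟩ := heq1
  obtain ⟨k, hk⟩ : a ∣ u := by
    obtain ⟨φ, hφ, hφirr, hφ1⟩ := c.line_exists_irr l hcd
    have hm : φ ∈ T := (hTmem φ).mpr
      (s09_seqIndD_anti (sup_le_sup_left (Subgroup.commutator_le_self C) _) hφ)
    have h1 := (hdiv φ hm).1
    rw [show deg φ = q * u from Nat.cast_injective (R := ℂ) (by rw [← (hdiv φ hm).2.2, hφ1])] at h1
    exact Nat.dvd_of_mul_dvd_mul_left hq0 h1
  have hcard0 : T₀.card = 2 * k :=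
    Nat.eq_of_mul_eq_mul_right (by omega : 0 < a) (by rw [hTa, hk]; ring)
  have hk2 : 2 ≤ k := by
    rcases k with _ | _ | k
    · simp at hk; omega
    · simp at hk; exact absurd hk hua
    · omega
  set T₁ := T.filter fun φ => φ ∈ T₀ ∨ deg φ < q * u with hT₁
  have h₁T : T₁ ⊆ T := Finset.filter_subset _ _
  have h01 : T₀ ⊆ T₁ := fun φ h => Finset.mem_filter.mpr ⟨h₀T h, Or.inl h⟩
  have h₁c : ∀ φ ∈ T₁, Cfsg.conjFun φ ∈ T₁ := fun φ h => by
    obtain ⟨h1, h2⟩ := Finset.mem_filter.mp h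
    exact Finset.mem_filter.mpr ⟨hTc φ h1, h2.imp (h₀c φ) fun h3 => by rwa [hconjdeg φ h1]⟩
  have hcoh₁ : Cfsg.IsCoherent (↑T₁ : Set (↥M → ℂ)) {1}ᶜ τ := by
    refine coherent_extend hS h01 (fun φ h => hTS (h₁T h)) h₀c h₁c hcoh₀ hψ
      fun χ hχ hχ0 => hcrit χ (h₁T hχ) fun d hd => ?_
    have h1 := ((Finset.mem_filter.mp hχ).2.resolve_left hχ0)
    rw [hd] at h1
    have := Nat.lt_of_mul_lt_mul_left h1
    omega
  -- once one more member is in, the criterion is strict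
  have hstrict : ∀ T₂ : Finset (↥M → ℂ), T₀ ⊆ T₂ → T₂ ⊆ T → ∀ χ ∈ T₂, χ ∉ T₀ →
      (∀ φ ∈ T₂, Cfsg.conjFun φ ∈ T₂) → Cfsg.IsCoherent (↑T₂ : Set (↥M → ℂ)) {1}ᶜ τ →
      Cfsg.IsCoherent (↑T : Set (↥M → ℂ)) {1}ᶜ τ := by
    intro T₂ h02 h2T χ hχ hχ0 h2c hcoh2
    refine coherent_extend hS h2T hTS h2c hTc hcoh2 (h02 hψ) fun t ht _ => ?_
    obtain ⟨hdv, hle, -⟩ := hdiv t ht
    refine ⟨(h₀mem ψ hψ).2.1 ▸ hdv, ?_⟩
    obtain ⟨m, hm0, hm⟩ := sys_norm hS (hTS (h2T hχ))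
    have hpos : (0 : ℝ) < (deg χ : ℝ) ^ 2 / (Cfsg.classInner χ χ).re := by
      rw [hm, Complex.natCast_re]
      have : deg χ ≠ 0 := fun e => apply_one_ne_zero' hS (hTS (h2T hχ))
        (by rw [(hdiv χ (h2T hχ)).2.2, e, Nat.cast_zero])
      positivity
    have h3 : ∑ φ ∈ insert χ T₀, (deg φ : ℝ) ^ 2 / (Cfsg.classInner φ φ).re ≤
        ∑ φ ∈ T₂, (deg φ : ℝ) ^ 2 / (Cfsg.classInner φ φ).re :=
      Finset.sum_le_sum_of_subset_of_nonneg (Finset.insert_subset hχ h02)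
        fun φ _ _ => div_nonneg (sq_nonneg _) (inner_self_re_nonneg φ)
    rw [Finset.sum_insert hχ0, hsum₀] at h3
    rw [(h₀mem ψ hψ).2.1]
    have h4 : (deg t : ℝ) ≤ (q : ℝ) * u := by exact_mod_cast hle
    have h5 : (T₀.card : ℝ) * a = 2 * u := by exact_mod_cast hTa
    have h6 : (T₀.card : ℝ) * ((q : ℝ) * a) ^ 2 = 2 * ((q : ℝ) * u * ((q : ℝ) * a)) := by
      rw [mul_pow]
      linear_combination ((q : ℝ) ^ 2 * a) * h5
    push_cast
    nlinarith [mul_le_mul_of_nonneg_right h4 (by positivity : (0 : ℝ) ≤ (q : ℝ) * a)]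
  by_cases hmid : ∃ χ ∈ T₁, χ ∉ T₀
  · obtain ⟨χ, hχ, hχ0⟩ := hmid
    exact hstrict T₁ h01 h₁T χ hχ hχ0 h₁c hcoh₁
  push Not at hmid
  set I := T.filter fun φ => Cfsg.IsIrrCharacter ↥M φ ∧ deg φ = q * u with hI
  have hIT : I ⊆ T := Finset.filter_subset _ _
  have hI0 : ∀ φ ∈ I, φ ∉ T₀ := fun φ h h0 => hua (Nat.eq_of_mul_eq_mul_left hq0
    ((Finset.mem_filter.mp h).2.2.symm.trans (h₀mem φ h0).2.1))
  have hcov : ∀ φ ∈ seqIndD K H (H₀ ⊔ ⁅C, C⁆), Cfsg.IsIrrCharacter ↥M φ → φ ∈ T₀ ∨ φ ∈ I := by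
    intro φ hφ hirr
    have hm := (hTmem φ).mpr hφ
    rcases lt_or_eq_of_le (hdiv φ hm).2.1 with h | h
    · exact Or.inl (hmid φ (Finset.mem_filter.mpr ⟨hm, Or.inr h⟩))
    · exact Or.inr (Finset.mem_filter.mpr ⟨hm, hirr, h⟩)
  obtain ⟨-, τ₁, hiso, hag⟩ := id hcoh₀
  have hbase : S09Base S τ τ₁ T₀ ψ k :=
    { sub := fun φ h => hTS (h₀T h)
      iso := hiso
      agree := hag
      norm := fun ξ h => hirr1 ξ (h₀mem ξ h).1
      deg_eq := fun ξ h => (h₀mem ξ h).2.2.trans (h₀mem ψ hψ).2.2.symm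
      mem := hψ
      card_eq := hcard0
      two_le := hk2 }
  have hIdeg : ∀ χ ∈ I, χ 1 = (k : ℂ) * ψ 1 := fun χ h => by
    rw [(hdiv χ (hIT h)).2.2, (Finset.mem_filter.mp h).2.2, (h₀mem ψ hψ).2.2, hk]
    push_cast; ring
  by_cases hone : ∃ χ ∈ I, Cfsg.IsCoherent (↑T₀ ∪ {χ, Cfsg.conjFun χ} : Set (↥M → ℂ)) {1}ᶜ τ
  · obtain ⟨χ, hχ, hcoh⟩ := hone
    refine hstrict (T₀ ∪ {χ, Cfsg.conjFun χ}) Finset.subset_union_left ?_ χ
      (Finset.mem_union_right _ (Finset.mem_insert_self _ _)) (hI0 χ hχ) ?_ (by simpa using hcoh)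
    · refine Finset.union_subset h₀T fun φ h => ?_
      rcases Finset.mem_insert.mp h with rfl | h
      · exact hIT hχ
      · rw [Finset.mem_singleton.mp h]; exact hTc χ (hIT hχ)
    · intro φ hφ
      rcases Finset.mem_union.mp hφ with h | h
      · exact Finset.mem_union_left _ (h₀c φ h)
      · refine Finset.mem_union_right _ ?_
        rcases Finset.mem_insert.mp h with rfl | h
        · exact Finset.mem_insert_of_mem (Finset.mem_singleton_self _)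
        · rw [Finset.mem_singleton.mp h, conjFun_conjFun]
          exact Finset.mem_insert_self _ _
  push Not at hone
  exfalso
  have hshift : ∀ χ ∈ I, ∀ ξ ∈ T₀, Cfsg.classInner (τ (χ - (k : ℤ) • ψ)) (τ₁ ξ) =
      1 - if ξ = ψ then (k : ℂ) else 0 := fun χ h =>
    (hbase.extend_or hS (hTS (hIT h)) (hirr1 χ (Finset.mem_filter.mp h).2.1) (hI0 χ h)
      (fun hb => hI0 χ h (by simpa [conjFun_conjFun] using h₀c _ hb)) (hIdeg χ h)).resolve_left (hone χ h)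
  -- supports
  have hoff : ∀ x : ↥M, (x : G) ∉ A → x ≠ 1 → x ∈ K → ∀ y ∈ H, x * y = y * x → y = 1 :=
    fun x hx hx1 hxK y hy hc => by
      by_contra hy1
      exact hx (hA x hxK hx1 y hy hy1 hc)
  have hvan : ∀ φ ∈ T, ∀ x : ↥M, (x : G) ∉ A → x ≠ 1 → φ x = 0 := fun φ h x hx hx1 =>
    c.seqIndD_vanish (H₀ ⊔ ⁅C, C⁆) ((hTmem φ).mp h) (hoff x hx hx1)
  have hcf : ∀ f : ↥M → ℂ, f ∈ Cfsg.zspanOn (↑T : Set (↥M → ℂ)) {1}ᶜ →
      Cfsg.IsClassFunction ↥M f ∧ (∀ x : ↥M, (x : G) ∉ A → f x = 0) ∧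
        τ f = Cfsg.dadeIsometry A M RA f := by
    intro f hf
    have hv : ∀ x : ↥M, (x : G) ∉ A → f x = 0 := fun x hx => by
      by_cases hx1 : x = 1
      · rw [hx1]; exact (mem_one.mp hf).2
      · refine Submodule.span_induction (p := fun f _ => f x = 0) (fun φ h => hvan φ h x hx hx1)
          rfl (fun a b _ _ h1 h2 => by simp [h1, h2]) (fun n a _ h1 => by simp [h1]) hf.1
    exact ⟨isClassFunction_generalized (zspan_gen
      (fun φ h => IsCharacter.isGeneralized (hS.isCharacter φ (hTS h))) hf.1), hv,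
      hτ f ⟨zspan_mono hTS hf.1, fun x hx => hv x hx⟩⟩
  set I₁ := Ctx9.lineI H C₁ with hI₁
  have hI₁c : Cfsg.IsCharacter ↥M I₁ := IsCharacter.indFun (isCharacter_of_irr isIrrCharacter_one)
  set α : ↥M → ℂ := I₁ - ψ with hα
  have hαg : Cfsg.IsGeneralizedCharacter ↥M α :=
    IsGeneralizedCharacter.sub (IsCharacter.isGeneralized hI₁c)
      (IsCharacter.isGeneralized (hS.isCharacter ψ (hTS (h₀T hψ))))
  have hαv : ∀ x : ↥M, (x : G) ∉ A → α x = 0 := fun x hx => by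
    by_cases hx1 : x = 1
    · rw [hx1, hα, Pi.sub_apply, hI₁, c.lineI_one l, (h₀mem ψ hψ).2.2, sub_self]
    · rw [hα, Pi.sub_apply, hI₁, c.lineI_vanish l (hoff x hx hx1), hvan ψ (h₀T hψ) x hx hx1,
        sub_self]
  have hαc := isClassFunction_generalized hαg
  set f := Cfsg.dadeIsometry A M RA α with hf
  have hαone : ∀ β : ↥M → ℂ, Cfsg.IsClassFunction ↥M β → (∀ x : ↥M, (x : G) ∉ A → β x = 0) →
      Cfsg.classInner (Cfsg.dadeIsometry A M RA β) (fun _ => 1) =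
        Cfsg.classInner β (fun _ => 1) := fun β hβc hβv => by
    refine Cfsg.Lib.Dade.classInner_dade hD hβc hβv
      (isClassFunction_isChar (isCharacter_of_irr isIrrCharacter_one)) fun x _ => ?_
    rw [finsum_mem_eq_finite_toFinset_sum _ (Set.toFinite _), Finset.sum_const, nsmul_eq_mul,
      ← Nat.card_eq_card_finite_toFinset, mul_one]
    exact (inv_mul_cancel₀ (Nat.cast_ne_zero.mpr Nat.card_pos.ne')).symm
  have hone0 : ∀ φ ∈ T₀ ∪ I, Cfsg.classInner φ (fun _ => (1 : ℂ)) = 0 := fun φ h => by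
    have hdg : 1 < deg φ ∧ Cfsg.IsIrrCharacter ↥M φ := by
      rcases Finset.mem_union.mp h with h | h
      · rw [(h₀mem φ h).2.1]
        exact ⟨by nlinarith, (h₀mem φ h).1⟩
      · rw [(Finset.mem_filter.mp h).2.2]
        exact ⟨by nlinarith, (Finset.mem_filter.mp h).2.1⟩
    rw [classInner_irrChar hdg.2 isIrrCharacter_one, if_neg]
    intro e
    have h1 := IsCharacter.apply_one_eq_deg (isCharacter_of_irr hdg.2)
    rw [congrFun e 1] at h1
    have : (1 : ℕ) = deg φ := by exact_mod_cast h1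
    omega
  have hI₁one : Cfsg.classInner I₁ (fun _ => 1) = 1 := by
    haveI := Fintype.ofFinite ↥(H ⊔ C₁)
    rw [hI₁, Ctx9.lineI, frobenius_reciprocity _ _
      (isClassFunction_isChar (isCharacter_of_irr isIrrCharacter_one))]
    exact classInner_self_irr isIrrCharacter_one
  have horth : ∀ φ ∈ T₀ ∪ I, Cfsg.classInner I₁ φ = 0 := fun φ h => by
    have hm : φ ∈ T ∧ Cfsg.IsIrrCharacter ↥M φ := by
      rcases Finset.mem_union.mp h with h | h
      · exact ⟨h₀T h, (h₀mem φ h).1⟩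
      · exact ⟨hIT h, (Finset.mem_filter.mp h).2.1⟩
    exact c.lineI_orth (H₀ ⊔ ⁅C, C⁆) ((hTmem φ).mp hm.1) hm.2
  have hd0 : ∀ ξ ∈ T₀, ξ - ψ ∈ Cfsg.zspanOn (↑T : Set (↥M → ℂ)) {1}ᶜ := fun ξ h =>
    zspanOn_mono (fun φ h' => h₀T h') (hbase.sub_mem h)
  have hdI : ∀ χ ∈ I, χ - (k : ℤ) • ψ ∈ Cfsg.zspanOn (↑T : Set (↥M → ℂ)) {1}ᶜ := fun χ h =>
    mem_one.mpr ⟨(Submodule.span ℤ _).sub_mem (subset_zspan (hIT h))
      ((Submodule.span ℤ _).smul_mem _ (subset_zspan (h₀T hψ))), by simp [hIdeg χ h]⟩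
  have hψu : ψ ∈ T₀ ∪ I := Finset.mem_union_left _ hψ
  have hN := hbase.norm_bound hS I (fun φ h => hTS (hIT h)) hI0
    (fun χ h => hirr1 χ (Finset.mem_filter.mp h).2.1) hIdeg hshift
    (f := f) (Cfsg.Lib.Dade.isGeneralized_dade hD hαg hαv)
    (by rw [hf, hαone α hαc hαv, hα, classInner_sub_left, hI₁one, hone0 ψ hψu, sub_zero])
    (fun ξ h => by
      obtain ⟨hc1, hv1, ht⟩ := hcf _ (hd0 ξ h)
      rw [ht, hf, Cfsg.Lib.Dade.classInner_dade_dade hD hαc hαv hc1, hα, classInner_sub_left,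
        classInner_sub_right, classInner_sub_right, horth ξ (Finset.mem_union_left _ h),
        horth ψ hψu, hbase.norm ψ hψ, hbase.orth hS hψ h]
      by_cases e : ξ = ψ
      · rw [if_pos e, if_pos e.symm]; simp
      · rw [if_neg e, if_neg (Ne.symm e)]; simp)
    (fun χ h => by
      obtain ⟨hc1, hv1, ht⟩ := hcf _ (hdI χ h)
      rw [ht, hf, Cfsg.Lib.Dade.classInner_dade_dade hD hαc hαv hc1, hα, classInner_sub_left,
        classInner_sub_right, classInner_sub_right, classInner_zsmul_right, classInner_zsmul_right,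
        horth χ (Finset.mem_union_right _ h), horth ψ hψu, hbase.norm ψ hψ,
        hS.orthogonal ψ (hTS (h₀T hψ)) χ (hTS (hIT h)) (fun e => hI0 χ h (e ▸ hψ))]
      simp)
    (fun ξ h => by
      obtain ⟨hc1, hv1, ht⟩ := hcf _ (hd0 ξ h)
      rw [ht, hαone _ hc1 hv1, classInner_sub_left, hone0 ξ (Finset.mem_union_left _ h),
        hone0 ψ hψu, sub_zero])
    (fun χ h => by
      obtain ⟨hc1, hv1, ht⟩ := hcf _ (hdI χ h)
      rw [ht, hαone _ hc1 hv1, classInner_sub_left, classInner_zsmul_left,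
        hone0 χ (Finset.mem_union_right _ h), hone0 ψ hψu]
      simp)
  rw [hf, Cfsg.Lib.Dade.classInner_dade_dade hD hαc hαv hαc, hα, classInner_sub_left,
    classInner_sub_right, classInner_sub_right, horth ψ hψu,
    show Cfsg.classInner ψ I₁ = 0 by rw [← classInner_conj_symm, horth ψ hψu, map_zero],
    hbase.norm ψ hψ] at hN
  simp only [sub_zero, zero_sub, sub_neg_eq_add, Complex.add_re, Complex.one_re] at hN
  have hnorm := c.lineI_norm l hua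
  rw [← hI₁] at hnorm
  have hI3 : 3 * (I.card + 1) ≤ (q + 2) * a := by
    have : ((3 * (I.card + 1) : ℕ) : ℝ) ≤ (((q + 2) * a : ℕ) : ℝ) := by push_cast at hnorm ⊢; linarith
    exact_mod_cast this
  refine s09_arith hq (by omega) (Nat.le_of_dvd (pow_pos (by omega) _) hcd) hu0
    (by have := c.p_prime.two_le; omega) hTa hI3 (c.count T₀ I (fun φ h => (h₀mem φ h).2.2)
      (fun φ h => by rw [(hdiv φ (hIT h)).2.2, (Finset.mem_filter.mp h).2.2]) hcov)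

end Main

/-- (9.11) -/
theorem s9Coherence (G : Type u) [Group G] [Fintype G] (hodd : Odd (Nat.card G)) :
    S9Coherence G := by
  intro M W₁ U W₂ h H₀ k hD _ C S τ R hS hsub hτ
  obtain ⟨p, hp, -, hcard, -⟩ := k.prime_structure h
  have c := h.ctx k hodd hp hcard
  haveI := c.K_normal
  haveI := c.H_normal
  haveI := c.sup_C'_normal
  rw [calS9, h.subgroupOf_sup_C' k] at hsub ⊢
  by_cases hgal : IsGalois9 M U H₀
  · refine s09_coherent_const c hS hsub ?_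
      (d := ((Nat.card W₁ * C.relIndex U : ℕ) : ℂ)) fun φ hφ => ?_
    · obtain ⟨B, hB, hB1, -⟩ := c.invariant_set
      obtain ⟨θ, hθ⟩ := Finset.card_pos.mp
        (show 0 < B.card by have := hp.two_le; omega)
      exact ⟨_, (s09_indFun_mem_seqIndD θ.2).mpr
        ⟨(hB1 θ hθ).1.mono (sup_le_sup_left (Subgroup.commutator_le_self _) _), (hB1 θ hθ).2.1⟩⟩
    · have := (s9GaloisChars G hodd M W₁ U W₂ h H₀ k hgal).2 φ (by
        rw [calS9, h.subgroupOf_sup_C' k]; exact hφ)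
      exact this
  obtain ⟨H₁, a, l⟩ := s9NonGalois G hodd M W₁ U W₂ h H₀ k hgal p hp hcard
  have lc := h.lineCtx k l
  have hcd := h.relIndex_C (H₀ := H₀) ▸ l.card_dvd
  by_cases hua : ((centMod U (Cfsg.fittingHallOf M) H₀).subgroupOf M).relIndex (U.subgroupOf M) = a
  · refine s09_coherent_const c hS hsub ?_ (d := ((Nat.card W₁ * a : ℕ) : ℂ)) fun φ hφ => ?_
    · obtain ⟨φ, hφ, -⟩ := c.line_exists_irr lc hcd
      exact ⟨φ, s09_seqIndD_anti (sup_le_sup_left (Subgroup.commutator_le_self _) _) hφ⟩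
    · haveI := c.H₀_normal
      obtain ⟨θ, hθ, h1, h2, -, -, hd1, hdu⟩ := c.deg_member hφ
      rw [hd1, Nat.dvd_antisymm (hua ▸ hdu) (c.line_dvd_deg lc hθ h1 h2)]
  exact s09_coherent_line c lc hua hcd hS hsub hD
    (fun x hx hx1 y hy hy1 hc => h.mem_typeA hx hx1 hy hy1 hc) hτ

end Cfsg.Agent.PF
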