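import Cfsg.Prelude.Def_OddOrderLocal
import Cfsg.Prelude.Def_OddOrderChar
import Cfsg.Prelude.Def_Characters

/-!
# Section 9: maximal subgroups of types II, III and IV

The definitions of the section and, as propositions, the results that the later sections use.
For a maximal subgroup `M` with type `P` data `W₁, U, W₂` we write `H = M_F`, fix a chief factor
`H / H₀` of `M` not centralised by `U`, and put `C = C_U(H / H₀)`.
-/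

set_option linter.unusedVariables false

universe u

namespace Cfsg.Agent.PF

variable {G : Type u} [Group G]

/-- The setting of the section: a maximal subgroup of type `P` with `U ≠ 1` and `|W₁|` prime
(types II, III and IV). -/
structure Hyp9 (M W₁ U W₂ : Subgroup G) : Prop where
  max : IsCoatom M
  typeP : Cfsg.IsTypePWith M W₁ U W₂
  U_ne : U ≠ ⊥
  q_prime : (Nat.card W₁).Prime

/-- `C_U(H / H₀)`: the largest subgroup `V` of `U` with `[H, V] ≤ H₀`. -/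
def centMod (U H H₀ : Subgroup G) : Subgroup G :=
  sSup {V : Subgroup G | V ≤ U ∧ ⁅H, V⁆ ≤ H₀}

/-- `H₀` is the kernel of a chief factor `M_F / H₀` of `M` on which `U` acts non-trivially. -/
structure Kernel9 (M U H₀ : Subgroup G) : Prop where
  lt : H₀ < Cfsg.fittingHallOf M
  normal : M ≤ Subgroup.normalizer (H₀ : Set G)
  chief : ∀ N : Subgroup G, H₀ ≤ N → N ≤ Cfsg.fittingHallOf M →
    M ≤ Subgroup.normalizer (N : Set G) → N = H₀ ∨ N = Cfsg.fittingHallOf M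
  nontrivial : ¬ ⁅Cfsg.fittingHallOf M, U⁆ ≤ H₀

/-- The Galois case: `U` acts irreducibly on `H / H₀`. -/
def IsGalois9 (M U H₀ : Subgroup G) : Prop :=
  ∀ N : Subgroup G, H₀ ≤ N → N ≤ Cfsg.fittingHallOf M →
    U ≤ Subgroup.normalizer (N : Set G) → N = H₀ ∨ N = Cfsg.fittingHallOf M

/-- The functions on `L` induced from the irreducible characters of `K` whose kernel contains `A`
but not `Ms`. -/
def seqIndD {L : Type u} [Group L] [Fintype L] (K Ms A : Subgroup L) : Set (L → ℂ) :=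
  Cfsg.inducedIrrAbove K A \ Cfsg.inducedIrrAbove K Ms

/-- `S(A)` of the section, for `A` given inside `G`: characters of `M` induced from the characters of
`M'` whose kernel contains `A` but not `M_F`. -/
noncomputable def calS9 [Fintype G] (M A : Subgroup G) [Fintype M] : Set (↥M → ℂ) :=
  seqIndD ((⁅M, M⁆ : Subgroup G).subgroupOf M) ((Cfsg.fittingHallOf M).subgroupOf M) (A.subgroupOf M)

/-- (9.1): existence of the chief factor. -/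
def S9Exists (G : Type u) [Group G] [Finite G] : Prop :=
  ∀ M W₁ U W₂ : Subgroup G, Hyp9 M W₁ U W₂ → ∃ H₀ : Subgroup G, Kernel9 M U H₀

/-- (9.3), (9.4): the structure of `U W₁` and of the chief factor. -/
def S9Facts (G : Type u) [Group G] [Finite G] : Prop :=
  ∀ M W₁ U W₂ : Subgroup G, Hyp9 M W₁ U W₂ → ∀ H₀ : Subgroup G, Kernel9 M U H₀ →
    (∀ w ∈ W₁, w ≠ 1 → U ⊓ Subgroup.centralizer ({w} : Set G) = ⊥) ∧
    (Nat.card (Cfsg.fittingHallOf M)).Coprime (Nat.card U * Nat.card W₁) ∧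
    ⁅U, U⁆ ≤ centMod U (Cfsg.fittingHallOf M) H₀ ∧
    centMod U (Cfsg.fittingHallOf M) H₀ < U ∧
    U ≤ Subgroup.normalizer (centMod U (Cfsg.fittingHallOf M) H₀ : Set G) ∧
    W₁ ≤ Subgroup.normalizer (centMod U (Cfsg.fittingHallOf M) H₀ : Set G) ∧
    M ≤ Subgroup.normalizer ((H₀ ⊔ centMod U (Cfsg.fittingHallOf M) H₀ : Subgroup G) : Set G) ∧
    ∃ p : ℕ, p.Prime ∧ p ≠ Nat.card W₁ ∧ p ≠ 2 ∧
      Nat.card (Cfsg.fittingHallOf M) = p ^ Nat.card W₁ * Nat.card H₀ ∧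
      ⁅Cfsg.fittingHallOf M, Cfsg.fittingHallOf M⁆ ≤ H₀ ∧
      (∀ h ∈ Cfsg.fittingHallOf M, h ^ p ∈ H₀) ∧
      Nat.card W₂ = p * Nat.card ↥(W₂ ⊓ H₀) ∧
      (∀ h ∈ Cfsg.fittingHallOf M, (∀ w ∈ W₁, w * h * w⁻¹ * h⁻¹ ∈ H₀) → h ∈ W₂ ⊔ H₀) ∧
      ((Nat.card W₂).Prime → Nat.card W₂ = p ∧ W₂ ⊓ H₀ = ⊥)

/-- (9.7)(b): the Galois case: `H / H₀` is the additive group of a field of order `p ^ q`, `U` acts by
multiplication and `W₁` by field automorphisms. -/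
def S9Galois (G : Type u) [Group G] [Finite G] : Prop :=
  ∀ M W₁ U W₂ : Subgroup G, Hyp9 M W₁ U W₂ → ∀ H₀ : Subgroup G, Kernel9 M U H₀ → IsGalois9 M U H₀ →
    ∀ p : ℕ, p.Prime → Nat.card (Cfsg.fittingHallOf M) = p ^ Nat.card W₁ * Nat.card H₀ →
    let C := centMod U (Cfsg.fittingHallOf M) H₀
    C.relIndex U * (p - 1) ∣ p ^ Nat.card W₁ - 1 ∧
    (C.relIndex U).Coprime (p - 1) ∧
    ∃ (F : Type) (_ : Field F) (_ : Fintype F) (f ψ : G → F), Fintype.card F = p ^ Nat.card W₁ ∧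
      (∀ z : F, ∃ x ∈ Cfsg.fittingHallOf M, f x = z) ∧
      (∀ x ∈ Cfsg.fittingHallOf M, ∀ x' ∈ Cfsg.fittingHallOf M, f (x * x') = f x + f x') ∧
      (∀ x ∈ Cfsg.fittingHallOf M, f x = 0 ↔ x ∈ H₀) ∧
      (∀ u ∈ U, ψ u ≠ 0 ∧ ∀ x ∈ Cfsg.fittingHallOf M, f (u * x * u⁻¹) = ψ u * f x) ∧
      (∀ u ∈ U, ∀ u' ∈ U, ψ (u * u') = ψ u * ψ u') ∧
      (∀ u ∈ U, ψ u = 1 ↔ u ∈ C) ∧
      (∀ x ∈ Cfsg.fittingHallOf M, x ∈ W₂ ⊔ H₀ ↔ f x ^ p = f x) ∧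
      (∀ w ∈ W₁, ∃ σ : F ≃+* F, (∀ x ∈ Cfsg.fittingHallOf M, f (w * x * w⁻¹) = σ (f x)) ∧
        ∀ u ∈ U, ψ (w * u * w⁻¹) = σ (ψ u)) ∧
      ∀ σ : F ≃+* F, ∃ w ∈ W₁, ∀ x ∈ Cfsg.fittingHallOf M, f (w * x * w⁻¹) = σ (f x)

/-- `H₁` is one of the lines of the non-Galois case, with stabiliser of index `a` in `U`. -/
structure Line9 (M W₁ U H₀ H₁ : Subgroup G) (p a : ℕ) : Prop where
  le : H₁ ≤ Cfsg.fittingHallOf M
  ge : H₀ ≤ H₁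
  card : Nat.card H₁ = p * Nat.card H₀
  normal : U ≤ Subgroup.normalizer (H₁ : Set G)
  span : (⨆ w : W₁, H₁.map (MulAut.conj (w : G)).toMonoidHom) = Cfsg.fittingHallOf M
  index : (centMod U H₁ H₀).relIndex U = a
  one_lt : 1 < a
  two_mul_le : 2 * a ≤ p - 1
  dvd : a ∣ p - 1
  card_dvd : (centMod U (Cfsg.fittingHallOf M) H₀).relIndex U ∣ a ^ (Nat.card W₁ - 1)
  cyclic : ∃ u ∈ U, ∀ v ∈ U, ∃ n : ℕ, (u ^ n)⁻¹ * v ∈ centMod U H₁ H₀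

/-- (9.7)(a): the non-Galois case. -/
def S9NonGalois (G : Type u) [Group G] [Finite G] : Prop :=
  ∀ M W₁ U W₂ : Subgroup G, Hyp9 M W₁ U W₂ → ∀ H₀ : Subgroup G, Kernel9 M U H₀ → ¬ IsGalois9 M U H₀ →
    ∀ p : ℕ, p.Prime → Nat.card (Cfsg.fittingHallOf M) = p ^ Nat.card W₁ * Nat.card H₀ →
    ∃ (H₁ : Subgroup G) (a : ℕ), Line9 M W₁ U H₀ H₁ p a

/-- (9.8): the reducible members of `S(H₀ C')` lie in `S(H₀ C)`, are `p - 1` in number and have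
degree `q u`; every other member is irreducible. -/
def S9Reducible (G : Type u) [Group G] [Fintype G] : Prop :=
  ∀ M W₁ U W₂ : Subgroup G, Hyp9 M W₁ U W₂ → ∀ H₀ : Subgroup G, Kernel9 M U H₀ →
    ∀ p : ℕ, p.Prime → Nat.card (Cfsg.fittingHallOf M) = p ^ Nat.card W₁ * Nat.card H₀ →
    ∀ [Fintype M],
    let C := centMod U (Cfsg.fittingHallOf M) H₀
    ∃ E : Finset (↥M → ℂ), E.card = p - 1 ∧
      (∀ φ ∈ E, φ ∈ calS9 M (H₀ ⊔ C) ∧ ¬ Cfsg.IsIrrCharacter ↥M φ ∧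
        φ 1 = ((Nat.card W₁ * C.relIndex U : ℕ) : ℂ) ∧ Cfsg.classInner φ φ = (Nat.card W₁ : ℂ)) ∧
      ∀ φ ∈ calS9 M (H₀ ⊔ ⁅C, C⁆), φ ∈ E ∨ Cfsg.IsIrrCharacter ↥M φ

/-- (9.9): in the Galois case all members of `S(H₀ C')` have degree `q u`. -/
def S9GaloisChars (G : Type u) [Group G] [Fintype G] : Prop :=
  ∀ M W₁ U W₂ : Subgroup G, Hyp9 M W₁ U W₂ → ∀ H₀ : Subgroup G, Kernel9 M U H₀ → IsGalois9 M U H₀ →
    ∀ [Fintype M],
    let C := centMod U (Cfsg.fittingHallOf M) H₀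
    (∀ φ ∈ calS9 M H₀, ∃ k : ℕ, φ 1 = ((k * (Nat.card W₁ * C.relIndex U) : ℕ) : ℂ)) ∧
    ∀ φ ∈ calS9 M (H₀ ⊔ ⁅C, C⁆), φ 1 = ((Nat.card W₁ * C.relIndex U : ℕ) : ℂ)

/-- (9.8): in the non-Galois case the degrees are divisible by `q a`, and many irreducible members
of `S(H₀ U')` have degree `q a`. -/
def S9NonGaloisChars (G : Type u) [Group G] [Fintype G] : Prop :=
  ∀ M W₁ U W₂ : Subgroup G, Hyp9 M W₁ U W₂ → ∀ H₀ H₁ : Subgroup G, Kernel9 M U H₀ →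
    ∀ p a : ℕ, p.Prime → Nat.card (Cfsg.fittingHallOf M) = p ^ Nat.card W₁ * Nat.card H₀ →
    Line9 M W₁ U H₀ H₁ p a → ∀ [Fintype M],
    let C := centMod U (Cfsg.fittingHallOf M) H₀
    (∀ φ ∈ calS9 M H₀, ∃ k : ℕ, φ 1 = ((k * (Nat.card W₁ * a) : ℕ) : ℂ)) ∧
    (∃ φ ∈ calS9 M (H₀ ⊔ C), Cfsg.IsIrrCharacter ↥M φ ∧
      φ 1 = ((Nat.card W₁ * C.relIndex U : ℕ) : ℂ)) ∧
    ∃ E : Finset (↥M → ℂ), (∀ φ ∈ E, φ ∈ calS9 M (H₀ ⊔ ⁅U, U⁆) ∧ Cfsg.IsIrrCharacter ↥M φ ∧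
        φ 1 = ((Nat.card W₁ * a : ℕ) : ℂ)) ∧
      (p - 1) * (⁅U, U⁆ : Subgroup G).relIndex U ≤ E.card * a ^ 2

/-- (9.10): either `S(H₀ C')` has an irreducible member of degree `q u`, or we are in the Galois case
with `C = 1` and `u = (p ^ q - 1) / (p - 1)`. -/
def S9Cases (G : Type u) [Group G] [Fintype G] : Prop :=
  ∀ M W₁ U W₂ : Subgroup G, Hyp9 M W₁ U W₂ → ∀ H₀ : Subgroup G, Kernel9 M U H₀ →
    ∀ p : ℕ, p.Prime → Nat.card (Cfsg.fittingHallOf M) = p ^ Nat.card W₁ * Nat.card H₀ →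
    ∀ [Fintype M],
    let C := centMod U (Cfsg.fittingHallOf M) H₀
    (∃ φ ∈ calS9 M (H₀ ⊔ ⁅C, C⁆), Cfsg.IsIrrCharacter ↥M φ ∧
      φ 1 = ((Nat.card W₁ * C.relIndex U : ℕ) : ℂ)) ∨
    (IsGalois9 M U H₀ ∧ C = ⊥ ∧ IsCyclic U ∧ Nat.card U * (p - 1) = p ^ Nat.card W₁ - 1 ∧
      (∀ x ∈ U, x ≠ 1 → ∀ h ∈ Cfsg.fittingHallOf M, x * h * x⁻¹ * h⁻¹ ∈ H₀ → h ∈ H₀) ∧
      (Cfsg.IsOfTypeII M → ∀ x ∈ U, x ≠ 1 → ∀ h ∈ Cfsg.fittingHallOf M, x * h = h * x → h = 1))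

/-- (9.11): `S(H₀ C')` is coherent, for any coherence system containing it whose map is the Dade map
of `A(M)` on combinations supported on `A(M)`. -/
def S9Coherence (G : Type u) [Group G] [Fintype G] : Prop :=
  ∀ M W₁ U W₂ : Subgroup G, Hyp9 M W₁ U W₂ → ∀ H₀ : Subgroup G, Kernel9 M U H₀ →
    Cfsg.DadeHypothesis (Cfsg.typeA M) M (Cfsg.supportR M) →
    ∀ [Fintype M],
    let C := centMod U (Cfsg.fittingHallOf M) H₀
    ∀ (S : Set (↥M → ℂ)) (τ : (↥M → ℂ) → (G → ℂ)) (R : (↥M → ℂ) → Finset (G → ℂ)),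
      Cfsg.IsCoherenceSystem S τ R → calS9 M (H₀ ⊔ ⁅C, C⁆) ⊆ S →
      (∀ α ∈ Cfsg.zspanOn S {x : ↥M | (x : G) ∈ Cfsg.typeA M},
        τ α = Cfsg.dadeIsometry (Cfsg.typeA M) M (Cfsg.supportR M) α) →
      Cfsg.IsCoherent (calS9 M (H₀ ⊔ ⁅C, C⁆)) {1}ᶜ τ

end Cfsg.Agent.PF
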