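import Cfsg.Prelude.Def_OddOrderLocal
import Cfsg.Prelude.Def_OddOrderChar
import Cfsg.Prelude.Def_Characters
import Cfsg.Agent.OddChar.CyclicTI
import Cfsg.Agent.OddChar.PF.S09Interface

/-!
# Section 4: the prime Dade hypothesis

The setting of (4.2) and (4.6), the characters `μ ω` of `L` with their signs, their column sums
`redChar ψ`, and, as propositions, the results that the later sections use: the images of the
differences under the Dade map and the coherence system on the induced family.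
-/

set_option linter.unusedVariables false
set_option autoImplicit false

universe u

namespace Cfsg.Agent.PF

open Cfsg.Lib.CyclicTI

/-- (4.2) and (4.6): `L = K W₁` with `C_K(x) = W₂` for `x ∈ W₁ ∖ 1`, the cyclic group `W₁ W₂` is
self-normalising in `G`, `H` is normal in `L` with `W₂ ≤ H ≤ K`, the set `A` contains every element
of `K ∖ 1` centralising an element of `H ∖ 1`, and `A₀` is `A` together with (at least) the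
conjugates of the elements of `W` outside both factors, with the Dade hypothesis on `A₀`. -/
structure PrimeDade {G : Type u} [Group G] (L K W₁ W₂ H : Subgroup G) (A A₀ : Set G)
    (R : G → Subgroup G) : Prop where
  odd : Odd (Nat.card L)
  compl : Cfsg.IsComplIn K W₁ L
  K_normal : L ≤ Subgroup.normalizer (K : Set G)
  W₁_cyclic : IsCyclic W₁
  coprime : (Nat.card K).Coprime (Nat.card W₁)
  cent : ∀ x ∈ W₁, x ≠ 1 → K ⊓ Subgroup.centralizer ({x} : Set G) = W₂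
  cycTI : Cfsg.IsSelfNormalizingCyclic W₁ W₂
  H_le : H ≤ K
  W₂_le : W₂ ≤ H
  H_normal : L ≤ Subgroup.normalizer (H : Set G)
  A_subset : A ⊆ (K : Set G) \ {1}
  A_subset_A₀ : A ⊆ A₀
  A_cover : ∀ k ∈ K, k ≠ 1 → ∀ h ∈ H, h ≠ 1 → k * h = h * k → k ∈ A
  V_subset : ∀ l ∈ L, ∀ w ∈ W₁ ⊔ W₂, w ∉ W₁ → w ∉ W₂ → l * w * l⁻¹ ∈ A₀
  dade : Cfsg.DadeHypothesis A₀ L R

/-- Two linear characters of `W` agree on `W₂`. -/
def SameColumn {G : Type u} [Group G] (W₁ W₂ : Subgroup G) (ω ω' : ↥(W₁ ⊔ W₂) →* ℂˣ) : Prop :=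
  ∀ w : ↥(W₁ ⊔ W₂), (w : G) ∈ W₂ → ω w = ω' w

/-- (4.3), (4.5): the family `μ` of irreducible characters of `L` and its signs. -/
structure PrimeTIChars {G : Type u} [Group G] [Fintype G] (L K W₁ W₂ : Subgroup G) [Fintype L]
    (μ : (↥(W₁ ⊔ W₂) →* ℂˣ) → (↥L → ℂ)) (δ : (↥(W₁ ⊔ W₂) →* ℂˣ) → ℂ) : Prop where
  injective : Function.Injective μ
  irr : ∀ ω, Cfsg.IsIrrCharacter ↥L (μ ω)
  sign : ∀ ω, δ ω = 1 ∨ δ ω = -1
  sign_column : ∀ ω ω', SameColumn W₁ W₂ ω ω' → δ ω = δ ω'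
  sign_one : ∀ ω, SameColumn W₁ W₂ ω 1 → δ ω = 1
  apply_off : ∀ ω, ∀ l : L, ∀ w : ↥(W₁ ⊔ W₂), (l : G) = (w : G) → (w : G) ∉ W₂ →
    μ ω l = δ ω * (ω w : ℂ)
  vanish : ∀ θ : ↥L → ℂ, Cfsg.IsIrrCharacter ↥L θ → (∀ ω, θ ≠ μ ω) →
    ∀ l : L, (l : G) ∈ W₁ ⊔ W₂ → (l : G) ∉ W₂ → θ l = 0
  degree : ∀ ω, ∃ n : ℤ, μ ω 1 - δ ω = n * (Nat.card W₁ : ℂ)
  conj : ∀ ω, Cfsg.conjFun (μ ω) = μ ω⁻¹
  column_on_K : ∀ ω ω', SameColumn W₁ W₂ ω ω' → ∀ l : L, (l : G) ∈ K → μ ω l = μ ω' l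
  res_irr : ∀ ω, Cfsg.IsIrrCharacter ↥(K.subgroupOf L) (fun k : ↥(K.subgroupOf L) => μ ω k)

/-- The column sum `μ_j`, for `ψ` trivial on `W₁`. -/
noncomputable def redChar {G : Type u} [Group G] [Fintype G] {W₁ W₂ : Subgroup G} {L : Subgroup G}
    (μ : (↥(W₁ ⊔ W₂) →* ℂˣ) → (↥L → ℂ)) (ψ : ↥(W₁ ⊔ W₂) →* ℂˣ) : ↥L → ℂ :=
  ∑ᶠ φ ∈ {φ : ↥(W₁ ⊔ W₂) →* ℂˣ | OnFirst φ}, μ (φ * ψ)

/-- (4.3), (4.5): existence, with the classification of the characters induced from `K`. -/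
def S04Chars (G : Type u) [Group G] [Fintype G] : Prop :=
  ∀ (L K W₁ W₂ H : Subgroup G) (A A₀ : Set G) (R : G → Subgroup G),
    PrimeDade L K W₁ W₂ H A A₀ R → ∀ [Fintype L],
    ∃ (μ : (↥(W₁ ⊔ W₂) →* ℂˣ) → (↥L → ℂ)) (δ : (↥(W₁ ⊔ W₂) →* ℂˣ) → ℂ),
      PrimeTIChars L K W₁ W₂ μ δ ∧
      (∀ ψ, OnSecond ψ → redChar μ ψ = Cfsg.indFun (K.subgroupOf L) (fun k : ↥(K.subgroupOf L) => μ ψ k)) ∧
      ∀ θ : ↥(K.subgroupOf L) → ℂ, Cfsg.IsIrrCharacter _ θ →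
        Cfsg.IsIrrCharacter ↥L (Cfsg.indFun (K.subgroupOf L) θ) ∨
          ∃ ψ, OnSecond ψ ∧ θ = fun k : ↥(K.subgroupOf L) => μ ψ k

/-- (4.7): supports, and (4.8): the Dade images of the differences. -/
def S04Images (G : Type u) [Group G] [Fintype G] : Prop :=
  ∀ (L K W₁ W₂ H : Subgroup G) (A A₀ : Set G) (R : G → Subgroup G),
    PrimeDade L K W₁ W₂ H A A₀ R → ∀ [Fintype L],
    ∀ (μ : (↥(W₁ ⊔ W₂) →* ℂˣ) → (↥L → ℂ)) (δ : (↥(W₁ ⊔ W₂) →* ℂˣ) → ℂ),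
      PrimeTIChars L K W₁ W₂ μ δ →
      ∀ (η : (↥(W₁ ⊔ W₂) →* ℂˣ) → (G → ℂ)), Cfsg.IsCyclicTIFamily W₁ W₂ η →
        (∀ φ : ↥L → ℂ, φ ∈ Cfsg.inducedIrrAbove (K.subgroupOf L) ⊥ →
          φ ∉ Cfsg.inducedIrrAbove (K.subgroupOf L) (H.subgroupOf L) →
          ∀ l : L, l ≠ 1 → (l : G) ∉ A → φ l = 0) ∧
        (∀ φ ψ ψ', OnFirst φ → OnSecond ψ → OnSecond ψ' → ψ ≠ 1 → ψ' ≠ 1 →
          μ (φ * ψ) 1 = μ (φ * ψ') 1 →
          δ ψ = δ ψ' ∧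
          (∀ l : L, (l : G) ∉ A₀ → (μ (φ * ψ) - μ (φ * ψ')) l = 0) ∧
          Cfsg.dadeIsometry A₀ L R (μ (φ * ψ) - μ (φ * ψ')) =
            δ ψ • (η (φ * ψ) - η (φ * ψ'))) ∧
        (∀ φ φ' ψ, OnFirst φ → OnFirst φ' → OnSecond ψ →
          (∀ l : L, (l : G) ∉ A₀ →
            (δ ψ • (μ (φ * ψ) - μ (φ' * ψ)) - μ φ + μ φ') l = 0) ∧
          Cfsg.dadeIsometry A₀ L R (δ ψ • (μ (φ * ψ) - μ (φ' * ψ)) - μ φ + μ φ') =
            η (φ * ψ) - η (φ' * ψ) - η φ + η φ')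

open Classical in
/-- (5.2): the coherence system on the characters induced from those of `K` nontrivial on `H`, with
`R` on a column sum made of the cyclic TI family and `R` on an irreducible member a pair `μ, -μ̄`
outside it. -/
def S04System (G : Type u) [Group G] [Fintype G] : Prop :=
  ∀ (L K W₁ W₂ H : Subgroup G) (A A₀ : Set G) (R : G → Subgroup G),
    PrimeDade L K W₁ W₂ H A A₀ R → ∀ [Fintype L],
    ∀ (μ : (↥(W₁ ⊔ W₂) →* ℂˣ) → (↥L → ℂ)) (δ : (↥(W₁ ⊔ W₂) →* ℂˣ) → ℂ),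
      PrimeTIChars L K W₁ W₂ μ δ →
      ∀ (η : (↥(W₁ ⊔ W₂) →* ℂˣ) → (G → ℂ)), Cfsg.IsCyclicTIFamily W₁ W₂ η →
        ∃ Rs : (↥L → ℂ) → Finset (G → ℂ),
          Cfsg.IsCoherenceSystem (seqIndD (K.subgroupOf L) (H.subgroupOf L) ⊥)
            (Cfsg.dadeIsometry A₀ L R) Rs ∧
          (∀ ψ, OnSecond ψ → ψ ≠ 1 → redChar μ ψ ∈ seqIndD (K.subgroupOf L) (H.subgroupOf L) ⊥ ∧
            ∀ α, α ∈ Rs (redChar μ ψ) ↔ ∃ φ, OnFirst φ ∧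
              (α = δ ψ • η (φ * ψ) ∨ α = -(δ ψ • η (φ * ψ⁻¹)))) ∧
          ∀ χ ∈ seqIndD (K.subgroupOf L) (H.subgroupOf L) ⊥, Cfsg.IsIrrCharacter ↥L χ →
            ∃ ν : G → ℂ, Cfsg.IsIrrCharacter G ν ∧ Rs χ = {ν, -Cfsg.conjFun ν} ∧
              ∀ α ∈ Rs χ, ∀ ω, Cfsg.classInner α (η ω) = 0

end Cfsg.Agent.PF
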