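import Cfsg.Agent.OddChar.PF.S04Images
import Cfsg.Agent.S1486
import Cfsg.Agent.S0194
import Cfsg.Agent.S1518

/-!
# (5.2): the coherence system on the characters induced from `K` and nontrivial on `H`
-/

set_option linter.unusedSectionVars false
set_option linter.unusedVariables false
set_option linter.style.haveILetI false
set_option autoImplicit false

namespace Cfsg.Agent.PF

open Finset
open Cfsg.Lib.Chars Cfsg.Lib.CyclicTI Cfsg.Lib.Dade Cfsg.Lib.InducedFamily
open scoped ComplexConjugate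

universe u

variable {G : Type u} [Group G] [Fintype G] {L K W₁ W₂ H : Subgroup G} [Fintype L] {A A₀ : Set G}
  {R : G → Subgroup G}
  {μ : (↥(W₁ ⊔ W₂) →* ℂˣ) → (↥L → ℂ)} {δ : (↥(W₁ ⊔ W₂) →* ℂˣ) → ℂ}

/-- The family `μ` is determined by its properties. -/
theorem chars_unique (d : PrimeDade L K W₁ W₂ H A A₀ R) {μ' : (↥(W₁ ⊔ W₂) →* ℂˣ) → (↥L → ℂ)}
    {δ' : (↥(W₁ ⊔ W₂) →* ℂˣ) → ℂ} (hT : PrimeTIChars L K W₁ W₂ μ δ)
    (hT' : PrimeTIChars L K W₁ W₂ μ' δ') : μ = μ' := by
  classical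
  haveI : Fintype ↥(W₁.subgroupOf L ⊔ W₂.subgroupOf L) := Fintype.ofFinite _
  funext ω
  obtain ⟨a, ha, ha1⟩ := (Subgroup.bot_or_exists_ne_one W₁).resolve_left d.cycTI.1
  have ha2 : a ∉ W₂ := fun hh => ha1 (Subgroup.mem_bot.mp (d.cycTI.2.2.1 ▸ ⟨ha, hh⟩))
  have hδ0 : δ ω ≠ 0 := by rcases hT.sign ω with h | h <;> simp [h]
  obtain ⟨ω', hω'⟩ : ∃ ω', μ ω = μ' ω' := by
    by_contra! hne
    have h0 := hT'.vanish (μ ω) (hT.irr ω) hne ⟨a, d.W₁_le ha⟩ (Subgroup.mem_sup_left ha) ha2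
    rw [hT.apply_off ω ⟨a, d.W₁_le ha⟩ ⟨a, Subgroup.mem_sup_left ha⟩ rfl ha2] at h0
    exact mul_ne_zero hδ0 (Units.ne_zero _) h0
  have key := d.hyp.eq_of_off (ω := ω.comp d.eW.toMonoidHom) (ω' := ω'.comp d.eW.toMonoidHom)
    (d := δ ω) (d' := δ' ω') hδ0 fun x hx => by
      have hx2 : ((x : L) : G) ∉ W₂ := d.hyp.mem_offSet.mp hx
      have h1 := hT.apply_off ω (x : L) (d.eW x) rfl hx2
      have h2 := hT'.apply_off ω' (x : L) (d.eW x) rfl hx2
      rw [hω'] at h1
      exact h1.symm.trans h2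
  have : ω = ω' := MonoidHom.ext fun w => by
    have := DFunLike.congr_fun key.1 (d.eW.symm w)
    simpa using this
  rw [hω', this]

namespace PrimeDade

theorem exists_second (d : PrimeDade L K W₁ W₂ H A A₀ R) :
    ∃ ψ : ↥(W₁ ⊔ W₂) →* ℂˣ, OnSecond ψ ∧ ψ ≠ 1 := by
  classical
  obtain ⟨-, -, -, h3', -⟩ := two_le_card_first d.cycTI d.odd_W
  by_contra! hall
  have hs : Subsingleton {ψ : ↥(W₁ ⊔ W₂) →* ℂˣ // OnSecond ψ} :=
    ⟨fun a b => Subtype.ext ((hall a.1 a.2).trans (hall b.1 b.2).symm)⟩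
  have := Finite.card_le_one_iff_subsingleton.mpr hs
  rw [card_onSecond d.cycTI] at this
  omega

variable (d : PrimeDade L K W₁ W₂ H A A₀ R) (hT : PrimeTIChars L K W₁ W₂ μ δ)
include d hT

theorem red_eq {ψ : ↥(W₁ ⊔ W₂) →* ℂˣ} (hψ : OnSecond ψ) :
    redChar μ ψ = Cfsg.indFun (K.subgroupOf L) (fun k : ↥(K.subgroupOf L) => μ ψ k) := by
  obtain ⟨μ', δ', hT', hred, -⟩ := exists_chars d
  rw [chars_unique d hT hT']
  exact hred ψ hψ

theorem classify {θ : ↥(K.subgroupOf L) → ℂ} (hθ : Cfsg.IsIrrCharacter _ θ) :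
    Cfsg.IsIrrCharacter ↥L (Cfsg.indFun (K.subgroupOf L) θ) ∨
      ∃ ψ, OnSecond ψ ∧ θ = fun k : ↥(K.subgroupOf L) => μ ψ k := by
  obtain ⟨μ', δ', hT', -, hcl⟩ := exists_chars d
  rw [chars_unique d hT hT']
  exact hcl θ hθ

open Classical in
theorem red_sum (ψ : ↥(W₁ ⊔ W₂) →* ℂˣ) [Fintype (↥(W₁ ⊔ W₂) →* ℂˣ)] :
    redChar μ ψ = ∑ φ ∈ univ.filter (fun φ : ↥(W₁ ⊔ W₂) →* ℂˣ => OnFirst φ), μ (φ * ψ) :=
  finsum_mem_eq_sum_of_inter_support_eq _ (by ext; simp)

/-- `μ_j` has norm `|W₁|` and meets `μ_k` only for `j = k`. -/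
theorem inner_red_red {ψ ψ' : ↥(W₁ ⊔ W₂) →* ℂˣ} (hψ : OnSecond ψ) (hψ' : OnSecond ψ')
    (hne : ψ ≠ ψ') : Cfsg.classInner (redChar μ ψ) (redChar μ ψ') = 0 := by
  classical
  haveI : Fintype (↥(W₁ ⊔ W₂) →* ℂˣ) := Fintype.ofFinite _
  rw [d.red_sum hT, d.red_sum hT, classInner_sum_left]
  refine sum_eq_zero fun φ hφ => ?_
  rw [classInner_sum_right]
  refine sum_eq_zero fun φ' hφ' => ?_
  rw [classInner_irrChar (hT.irr _) (hT.irr _), if_neg]
  exact fun e => hne ((mul_eq_iff d.cycTI (mem_filter.mp hφ).2 hψ (mem_filter.mp hφ').2 hψ').mp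
    (hT.injective e)).2

theorem inner_red_self {ψ : ↥(W₁ ⊔ W₂) →* ℂˣ} (hψ : OnSecond ψ) :
    Cfsg.classInner (redChar μ ψ) (redChar μ ψ) = Nat.card W₁ := by
  classical
  haveI : Fintype (↥(W₁ ⊔ W₂) →* ℂˣ) := Fintype.ofFinite _
  have hcard : (univ.filter fun φ : ↥(W₁ ⊔ W₂) →* ℂˣ => OnFirst φ).card = Nat.card W₁ := by
    rw [← card_onFirst d.cycTI, Nat.card_eq_fintype_card, Fintype.card_subtype]
  rw [d.red_sum hT, classInner_sum_left, ← hcard, card_eq_sum_ones, Nat.cast_sum]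
  refine sum_congr rfl fun φ hφ => ?_
  rw [classInner_sum_right, sum_eq_single φ, classInner_self_irr (hT.irr _), Nat.cast_one]
  · intro φ' hφ' hne
    rw [classInner_irrChar (hT.irr _) (hT.irr _), if_neg]
    exact fun e => hne (mul_right_cancel (hT.injective e)).symm
  · exact fun h => absurd hφ h

theorem red_not_irr {ψ : ↥(W₁ ⊔ W₂) →* ℂˣ} (hψ : OnSecond ψ) :
    ¬ Cfsg.IsIrrCharacter ↥L (redChar μ ψ) := by
  intro h
  have e := d.inner_red_self hT hψ
  rw [classInner_self_irr h] at e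
  classical
  obtain ⟨-, -, h3, -, -⟩ := two_le_card_first d.cycTI d.odd_W
  have : 1 = Nat.card W₁ := by exact_mod_cast e
  omega

theorem red_inj {ψ ψ' : ↥(W₁ ⊔ W₂) →* ℂˣ} (hψ : OnSecond ψ) (hψ' : OnSecond ψ')
    (e : redChar μ ψ = redChar μ ψ') : ψ = ψ' := by
  by_contra hne
  have h := d.inner_red_red hT hψ hψ' hne
  rw [← e, d.inner_red_self hT hψ] at h
  exact absurd (Nat.cast_eq_zero.mp h) Nat.card_pos.ne'

theorem conj_red {ψ : ↥(W₁ ⊔ W₂) →* ℂˣ} (hψ : OnSecond ψ) :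
    Cfsg.conjFun (redChar μ ψ) = redChar μ ψ⁻¹ := by
  classical
  haveI := d.normal_K
  have hψi : OnSecond ψ⁻¹ := fun w hw => by rw [MonoidHom.inv_apply, hψ w hw, inv_one]
  rw [d.red_eq hT hψ, d.red_eq hT hψi, Cfsg.Lib.FrobLin.conjFun_indFun]
  congr 1
  funext k
  exact congrFun (hT.conj ψ) k

/-- A column sum other than the principal one belongs to the family. -/
theorem red_mem {ψ : ↥(W₁ ⊔ W₂) →* ℂˣ} (hψ : OnSecond ψ) (h1 : ψ ≠ 1) :
    redChar μ ψ ∈ seqIndD (K.subgroupOf L) (H.subgroupOf L) ⊥ := by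
  classical
  haveI := d.normal_K
  obtain ⟨a, ha, hne⟩ := d.exists_not_ker hT hψ h1
  rw [d.red_eq hT hψ]
  have haK : a ∈ K.subgroupOf L := d.W₂_le_K ha
  refine ⟨⟨_, hT.res_irr ψ, fun e => hne ?_, fun b hb => ?_, rfl⟩, ?_⟩
  · exact (congrFun e ⟨a, haK⟩).trans (congrFun e 1).symm
  · rw [show b = 1 from Subtype.ext (Subgroup.mem_bot.mp hb)]
  · rintro ⟨θ', hθ', -, hker, e⟩
    apply hne
    have hi : Cfsg.classInner θ' (fun k : ↥(K.subgroupOf L) => μ ψ k) = 1 := by
      rw [← frobenius_reciprocity (K.subgroupOf L) θ'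
          (isClassFunction_isChar (isCharacter_of_irr (hT.irr ψ))), ← e,
        frobenius_reciprocity (K.subgroupOf L) _
          (isClassFunction_isChar (isCharacter_of_irr (hT.irr ψ)))]
      exact classInner_self_irr (hT.res_irr ψ)
    rw [classInner_irrChar hθ' (hT.res_irr ψ)] at hi
    have he : θ' = fun k : ↥(K.subgroupOf L) => μ ψ k := by
      by_contra h
      rw [if_neg h] at hi
      exact zero_ne_one hi
    have := hker ⟨a, haK⟩ (d.W₂_le ha)
    rw [he] at this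
    exact this

/-- The members of the family. -/
theorem member_cases {χ : ↥L → ℂ} (hχ : χ ∈ seqIndD (K.subgroupOf L) (H.subgroupOf L) ⊥) :
    Cfsg.IsIrrCharacter ↥L χ ∨ ∃ ψ, OnSecond ψ ∧ ψ ≠ 1 ∧ χ = redChar μ ψ := by
  obtain ⟨⟨θ, hθ, hθ1, -, rfl⟩, h2⟩ := hχ
  rcases d.classify hT hθ with h | ⟨ψ, hψ, rfl⟩
  · exact Or.inl h
  refine Or.inr ⟨ψ, hψ, ?_, (d.red_eq hT hψ).symm⟩
  rintro rfl
  refine hθ1 (funext fun k => ?_)
  -- `μ 1` is the principal character
  classical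
  obtain ⟨a, ha, ha1⟩ := (Subgroup.bot_or_exists_ne_one W₁).resolve_left d.cycTI.1
  have ha2 : a ∉ W₂ := fun hh => ha1 (Subgroup.mem_bot.mp (d.cycTI.2.2.1 ▸ ⟨ha, hh⟩))
  obtain ⟨ω, hω⟩ : ∃ ω, (fun _ : L => (1 : ℂ)) = μ ω := by
    by_contra! hne
    exact one_ne_zero (hT.vanish _ isIrrCharacter_one hne ⟨a, d.W₁_le ha⟩
      (Subgroup.mem_sup_left ha) ha2)
  haveI : Fintype ↥(W₁.subgroupOf L ⊔ W₂.subgroupOf L) := Fintype.ofFinite _
  have key := d.hyp.eq_of_off (ω := (1 : ↥(W₁ ⊔ W₂) →* ℂˣ).comp d.eW.toMonoidHom)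
    (ω' := ω.comp d.eW.toMonoidHom) (d := (1 : ℂ)) (d' := δ ω) one_ne_zero fun x hx => by
      have hx2 : ((x : L) : G) ∉ W₂ := d.hyp.mem_offSet.mp hx
      have h1 := hT.apply_off ω (x : L) (d.eW x) rfl hx2
      rw [← hω] at h1
      simpa using h1
  have : (1 : ↥(W₁ ⊔ W₂) →* ℂˣ) = ω := MonoidHom.ext fun w => by
    have := DFunLike.congr_fun key.1 (d.eW.symm w)
    simpa using this
  rw [this]
  exact (congrFun hω (k : L)).symm

/-- An element of `W ∖ W₂` does not lie in `K`. -/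
theorem not_mem_K {w : ↥(W₁ ⊔ W₂)} (hw : (w : G) ∉ W₂) : (w : G) ∉ K := by
  intro h
  apply hw
  have e : (pr₁ d.cycTI w : G) ∈ K := by
    have h2 : (w : G) * (pr₂ d.cycTI w : G)⁻¹ ∈ K :=
      mul_mem h (inv_mem (d.W₂_le_K (pr₂_mem d.cycTI w)))
    rwa [show (w : G) = (pr₁ d.cycTI w : G) * (pr₂ d.cycTI w : G) by
      rw [← Subgroup.coe_mul, pr_mul d.cycTI w], mul_inv_cancel_right] at h2
  have e1 : (pr₁ d.cycTI w : G) = 1 := by
    have : (pr₁ d.cycTI w : G) ∈ K ⊓ W₁ := ⟨e, pr₁_mem d.cycTI w⟩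
    rwa [d.compl.2.2.1, Subgroup.mem_bot] at this
  rw [show (w : G) = (pr₁ d.cycTI w : G) * (pr₂ d.cycTI w : G) by
      rw [← Subgroup.coe_mul, pr_mul d.cycTI w], e1, one_mul]
  exact pr₂_mem d.cycTI w

end PrimeDade

theorem member_char {χ : ↥L → ℂ} (hχ : χ ∈ seqIndD (K.subgroupOf L) (H.subgroupOf L) ⊥) :
    Cfsg.IsCharacter ↥L χ := by
  obtain ⟨⟨θ, hθ, -, -, rfl⟩, -⟩ := hχ
  exact IsCharacter.indFun (isCharacter_of_irr hθ)

theorem member_conj_mem (d : PrimeDade L K W₁ W₂ H A A₀ R) {χ : ↥L → ℂ}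
    (hχ : χ ∈ seqIndD (K.subgroupOf L) (H.subgroupOf L) ⊥) :
    Cfsg.conjFun χ ∈ seqIndD (K.subgroupOf L) (H.subgroupOf L) ⊥ := by
  haveI := d.normal_K
  refine ⟨conj_mem_above _ hχ.1, fun h => hχ.2 ?_⟩
  have := conj_mem_above _ h
  rwa [Cfsg.Lib.Coherence.conjFun_conjFun] at this

theorem member_conj_orth (d : PrimeDade L K W₁ W₂ H A A₀ R) {χ : ↥L → ℂ}
    (hχ : χ ∈ seqIndD (K.subgroupOf L) (H.subgroupOf L) ⊥) :
    Cfsg.classInner (Cfsg.conjFun χ) χ = 0 := by
  haveI := d.normal_K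
  obtain ⟨⟨θ, hθ, hθ1, -, rfl⟩, -⟩ := hχ
  exact Cfsg.Agent.S0194.result d.odd (K.subgroupOf L) θ hθ hθ1

theorem member_ne_zero {χ : ↥L → ℂ} (hχ : χ ∈ seqIndD (K.subgroupOf L) (H.subgroupOf L) ⊥) :
    χ ≠ 0 := by
  classical
  obtain ⟨⟨θ, hθ, -, -, rfl⟩, -⟩ := hχ
  intro h
  obtain ⟨n, hn, he⟩ := IsIrrCharacter.apply_one hθ
  have h1 := congrFun h 1
  rw [indFun_one, he, Pi.zero_apply, mul_eq_zero] at h1
  rcases h1 with h1 | h1
  · exact Subgroup.index_ne_zero_of_finite (Nat.cast_eq_zero.mp h1)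
  · exact hn.ne' (Nat.cast_eq_zero.mp h1)

theorem member_conj_ne (d : PrimeDade L K W₁ W₂ H A A₀ R) {χ : ↥L → ℂ}
    (hχ : χ ∈ seqIndD (K.subgroupOf L) (H.subgroupOf L) ⊥) : Cfsg.conjFun χ ≠ χ := fun e => by
  have := member_conj_orth d hχ
  rw [e, classInner_self_eq_zero] at this
  exact member_ne_zero hχ this

theorem member_orth (d : PrimeDade L K W₁ W₂ H A A₀ R) {χ φ : ↥L → ℂ}
    (hχ : χ ∈ seqIndD (K.subgroupOf L) (H.subgroupOf L) ⊥)
    (hφ : φ ∈ seqIndD (K.subgroupOf L) (H.subgroupOf L) ⊥) (hne : χ ≠ φ) :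
    Cfsg.classInner χ φ = 0 := by
  haveI := d.normal_K
  obtain ⟨⟨θ, hθ, -, -, rfl⟩, -⟩ := hχ
  obtain ⟨⟨θ', hθ', -, -, rfl⟩, -⟩ := hφ
  have h := Cfsg.Agent.S1486.result (K.subgroupOf L) θ' θ hθ' hθ
  exact h.2 fun hx => hne (h.1 hx)

/-- An element of the span vanishing at `1` vanishes off `A₀`. -/
theorem zspanOn_support (d : PrimeDade L K W₁ W₂ H A A₀ R) {α : ↥L → ℂ}
    (hα : α ∈ Cfsg.zspanOn (seqIndD (K.subgroupOf L) (H.subgroupOf L) ⊥) {1}ᶜ) {x : L}
    (hx : (x : G) ∉ A₀) : α x = 0 := by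
  by_cases h1 : x = 1
  · exact hα.2 x (by simp [h1])
  obtain ⟨hspan, -⟩ := hα
  induction hspan using Submodule.span_induction with
  | mem f hf => exact d.induced_support hf.1 hf.2 h1 fun h => hx (d.A_subset_A₀ h)
  | zero => rfl
  | add f g _ _ hf hg => simp [hf, hg]
  | smul n f _ hf => simp [hf]

theorem dade_zero : Cfsg.dadeIsometry A₀ L R 0 = 0 := by
  funext g
  simp [Cfsg.dadeIsometry]

theorem dade_finset_sum {ι : Type*} (s : Finset ι) (f : ι → ↥L → ℂ) :
    Cfsg.dadeIsometry A₀ L R (∑ i ∈ s, f i) = ∑ i ∈ s, Cfsg.dadeIsometry A₀ L R (f i) := by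
  classical
  induction s using Finset.induction_on with
  | empty => simp [dade_zero]
  | insert a s ha ih => rw [sum_insert ha, sum_insert ha, dade_add, ih]

theorem inner_ne_two (d : PrimeDade L K W₁ W₂ H A A₀ R) {χ : ↥L → ℂ}
    (hχ : χ ∈ seqIndD (K.subgroupOf L) (H.subgroupOf L) ⊥) (hirr : Cfsg.IsIrrCharacter ↥L χ)
    {ν : G → ℂ} (hν : Cfsg.IsIrrCharacter G ν)
    (he : Cfsg.dadeIsometry A₀ L R (χ - Cfsg.conjFun χ) = ν - Cfsg.conjFun ν) :
    Cfsg.conjFun ν ≠ ν := fun e => by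
  have hm := member_conj_mem d hχ
  have hα : χ - Cfsg.conjFun χ ∈
      Cfsg.zspanOn (seqIndD (K.subgroupOf L) (H.subgroupOf L) ⊥) {1}ᶜ := by
    refine ⟨Submodule.sub_mem _ (Submodule.subset_span hχ) (Submodule.subset_span hm), fun x hx => ?_⟩
    rw [show x = 1 by simpa using hx, Pi.sub_apply,
      Cfsg.Lib.Coherence.conj_apply_one (member_char hχ), sub_self]
  have hc : Cfsg.IsClassFunction L (χ - Cfsg.conjFun χ) := fun a b => by
    simp only [Pi.sub_apply, Cfsg.conjFun, isClassFunction_isChar (member_char hχ) a b]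
  have h := classInner_dade_dade d.dade hc (fun x hx => zspanOn_support d hα hx) hc
  rw [he, e, sub_self, (classInner_self_eq_zero (0 : G → ℂ)).mpr rfl, eq_comm, classInner_self_eq_zero,
    sub_eq_zero] at h
  exact member_conj_ne d hχ h.symm

open Classical in
/-- Statement (5.2) of the interface. -/
theorem s04System (G : Type u) [Group G] [Fintype G] : S04System G := by
  intro L K W₁ W₂ H A A₀ R d _ μ δ hT η hη
  haveI := d.normal_K
  haveI : Fintype (↥(W₁ ⊔ W₂) →* ℂˣ) := Fintype.ofFinite _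
  set S := seqIndD (K.subgroupOf L) (H.subgroupOf L) ⊥ with hS
  set τ := Cfsg.dadeIsometry A₀ L R with hτdef
  obtain ⟨-, -, h3, h3', -⟩ := two_le_card_first d.cycTI d.odd_W
  -- the irreducible members
  have hν : ∀ χ : ↥L → ℂ, ∃ ν : G → ℂ, χ ∈ S → Cfsg.IsIrrCharacter ↥L χ →
      Cfsg.IsIrrCharacter G ν ∧ τ (χ - Cfsg.conjFun χ) = ν - Cfsg.conjFun ν := by
    intro χ
    by_cases h : χ ∈ S ∧ Cfsg.IsIrrCharacter ↥L χ
    · obtain ⟨ν, hν⟩ := Cfsg.Agent.S1518.result A₀ L R d.dade χ h.2 fun x hx1 hxA =>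
        d.induced_support h.1.1 h.1.2 hx1 fun hh => hxA (d.A_subset_A₀ hh)
      exact ⟨ν, fun _ _ => hν⟩
    · exact ⟨0, fun a b => absurd ⟨a, b⟩ h⟩
  choose νf hνf using hν
  set first := univ.filter fun φ : ↥(W₁ ⊔ W₂) →* ℂˣ => OnFirst φ with hfirst
  set Rred : (↥(W₁ ⊔ W₂) →* ℂˣ) → Finset (G → ℂ) := fun ψ =>
    first.image (fun φ => δ ψ • η (φ * ψ)) ∪ first.image (fun φ => -(δ ψ • η (φ * ψ⁻¹))) with hRred
  set Rs : (↥L → ℂ) → Finset (G → ℂ) := fun χ =>
    if Cfsg.IsIrrCharacter ↥L χ then {νf χ, -Cfsg.conjFun (νf χ)}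
    else if h : ∃ ψ, OnSecond ψ ∧ χ = redChar μ ψ then Rred h.choose else ∅ with hRs
  have hRs_red : ∀ ψ, OnSecond ψ → Rs (redChar μ ψ) = Rred ψ := by
    intro ψ hψ
    have h : ∃ ψ', OnSecond ψ' ∧ redChar μ ψ = redChar μ ψ' := ⟨ψ, hψ, rfl⟩
    simp only [hRs, if_neg (d.red_not_irr hT hψ), dif_pos h]
    rw [← d.red_inj hT hψ h.choose_spec.1 h.choose_spec.2]
  have hRs_irr : ∀ χ, Cfsg.IsIrrCharacter ↥L χ → Rs χ = {νf χ, -Cfsg.conjFun (νf χ)} := fun χ h => by
    simp only [hRs, if_pos h]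
  have hinv : ∀ ψ : ↥(W₁ ⊔ W₂) →* ℂˣ, OnSecond ψ → OnSecond ψ⁻¹ := fun ψ hψ w hw => by
    rw [MonoidHom.inv_apply, hψ w hw, inv_one]
  have hne_inv : ∀ ψ : ↥(W₁ ⊔ W₂) →* ℂˣ, OnSecond ψ → ψ ≠ 1 → ψ ≠ ψ⁻¹ := fun ψ hψ h1 e => by
    refine member_conj_ne d (d.red_mem hT hψ h1) ?_
    rw [d.conj_red hT hψ, ← e]
  -- the values `τ (χ - χ̄)` on `W` and their coefficients
  have hνorth : ∀ χ ∈ S, Cfsg.IsIrrCharacter ↥L χ → ∀ ω,
      Cfsg.classInner (νf χ) (η ω) = 0 ∧ Cfsg.classInner (Cfsg.conjFun (νf χ)) (η ω) = 0 := by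
    intro χ hχ hirr ω
    obtain ⟨hν, he⟩ := hνf χ hχ hirr
    have hνb : Cfsg.IsIrrCharacter G (Cfsg.conjFun (νf χ)) := IsIrrCharacter.conjugate hν
    have hne : νf χ ≠ Cfsg.conjFun (νf χ) := (inner_ne_two d hχ hirr hν he).symm
    have hgen : Cfsg.IsGeneralizedCharacter G (νf χ - Cfsg.conjFun (νf χ)) :=
      IsGeneralizedCharacter.sub (IsCharacter.isGeneralized (isCharacter_of_irr hν))
        (IsCharacter.isGeneralized (isCharacter_of_irr hνb))
    have hnorm : Cfsg.classInner (νf χ - Cfsg.conjFun (νf χ)) (νf χ - Cfsg.conjFun (νf χ)) = 2 := by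
      rw [classInner_sub_left, classInner_sub_right, classInner_sub_right, classInner_self_irr hν,
        classInner_self_irr hνb, classInner_irrChar hν hνb, classInner_irrChar hνb hν, if_neg hne,
        if_neg hne.symm]
      norm_num
    have hc : Cfsg.IsClassFunction L (χ - Cfsg.conjFun χ) := fun a b => by
      simp only [Pi.sub_apply, Cfsg.conjFun, isClassFunction_isChar (isCharacter_of_irr hirr) a b]
    obtain ⟨ψ₀, hψ₀, hψ₀1⟩ := d.exists_second
    have hco := coeff_of_norm_two d.cycTI d.odd_W hη hgen (by rw [hnorm]; simp) (c := 0) (Or.inl rfl)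
      (φ := 1) (ψ := ψ₀) (ψ' := 1) onFirst_one hψ₀ onSecond_one hψ₀1 (fun w hw₁ hw₂ => by
        have hw1 : (⟨w, d.W_le w.2⟩ : L) ≠ 1 := fun e => hw₁ (by
          rw [show (w : G) = 1 from congrArg Subtype.val e]; exact one_mem _)
        have hwA : (w : G) ∉ A := fun h => d.not_mem_K hT hw₂ (d.A_subset h).1
        rw [← he, hτdef, d.dade_apply_V hT hc hw₁ hw₂, Pi.sub_apply, Cfsg.conjFun,
          d.induced_support hχ.1 hχ.2 hw1 hwA]
        simp) ω
    simp only [Int.cast_zero, ite_self, sub_zero] at hco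
    rw [classInner_sub_left, sub_eq_zero] at hco
    have key : Cfsg.classInner (νf χ) (η ω) = 0 := by
      rcases hη.irr_or_neg ω with h | h
      · rw [classInner_irrChar hν h] at hco ⊢
        rw [classInner_irrChar hνb h] at hco
        split_ifs at hco ⊢ with a b b
        · exact absurd (a.trans b.symm) hne
        · exact absurd hco one_ne_zero
        · rfl
        · rfl
      · have hh : ∀ f, Cfsg.classInner f (η ω) = -Cfsg.classInner f (-η ω) := fun f => by
          rw [classInner_neg_right, neg_neg]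
        rw [hh, hh, neg_inj] at hco
        rw [hh, neg_eq_zero]
        rw [classInner_irrChar hν h] at hco ⊢
        rw [classInner_irrChar hνb h] at hco
        split_ifs at hco ⊢ with a b b
        · exact absurd (a.trans b.symm) hne
        · exact absurd hco one_ne_zero
        · rfl
        · rfl
    exact ⟨key, by rw [← hco]; exact key⟩
  have hR_irr_orth : ∀ χ ∈ S, Cfsg.IsIrrCharacter ↥L χ → ∀ α ∈ Rs χ, ∀ ω,
      Cfsg.classInner α (η ω) = 0 := by
    intro χ hχ hirr α hα ω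
    rw [hRs_irr χ hirr, mem_insert, mem_singleton] at hα
    rcases hα with rfl | rfl
    · exact (hνorth χ hχ hirr ω).1
    · rw [classInner_neg_left, (hνorth χ hχ hirr ω).2, neg_zero]
  have hR_red_mem : ∀ ψ, OnSecond ψ → ∀ α, α ∈ Rs (redChar μ ψ) ↔ ∃ φ, OnFirst φ ∧
      (α = δ ψ • η (φ * ψ) ∨ α = -(δ ψ • η (φ * ψ⁻¹))) := by
    intro ψ hψ α
    rw [hRs_red ψ hψ]
    simp only [hRred, mem_union, mem_image, hfirst, mem_filter, mem_univ, true_and]
    constructor
    · rintro (⟨φ, hφ, rfl⟩ | ⟨φ, hφ, rfl⟩)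
      · exact ⟨φ, hφ, Or.inl rfl⟩
      · exact ⟨φ, hφ, Or.inr rfl⟩
    · rintro ⟨φ, hφ, rfl | rfl⟩
      · exact Or.inl ⟨φ, hφ, rfl⟩
      · exact Or.inr ⟨φ, hφ, rfl⟩
  have hδc : ∀ ω, (starRingEnd ℂ) (δ ω) = δ ω := fun ω => by
    rcases hT.sign ω with h | h <;> simp [h]
  refine ⟨Rs, ⟨?_, fun χ hχ => member_char hχ, fun χ hχ => member_conj_mem d hχ,
    fun χ hχ => member_conj_ne d hχ, ?_, ?_, fun χ hχ φ hφ hne => member_orth d hχ hφ hne,
    ?_, ?_, ?_, ?_⟩, fun ψ hψ h1 => ⟨d.red_mem hT hψ h1, hR_red_mem ψ hψ⟩, ?_⟩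
  · -- nonempty
    obtain ⟨ψ₀, hψ₀, hψ₀1⟩ := d.exists_second
    exact ⟨_, d.red_mem hT hψ₀ hψ₀1⟩
  · exact (dade_isometry d.dade (fun s hs => IsCharacter.isGeneralized (member_char hs)) _
      fun α hα x hx => zspanOn_support d hα hx).1
  · exact (dade_isometry d.dade (fun s hs => IsCharacter.isGeneralized (member_char hs)) _
      fun α hα x hx => zspanOn_support d hα hx).2
  · -- orthonormal
    intro χ hχ α hα β hβ
    rcases d.member_cases hT hχ with hirr | ⟨ψ, hψ, h1, rfl⟩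
    · obtain ⟨hν, he⟩ := hνf χ hχ hirr
      have hνb : Cfsg.IsIrrCharacter G (Cfsg.conjFun (νf χ)) := IsIrrCharacter.conjugate hν
      have hne : νf χ ≠ Cfsg.conjFun (νf χ) := (inner_ne_two d hχ hirr hν he).symm
      have hne' : νf χ ≠ -Cfsg.conjFun (νf χ) := fun e => by
        have := congrArg (fun f => Cfsg.classInner f (νf χ)) e
        simp only [classInner_neg_left, classInner_self_irr hν, classInner_irrChar hνb hν,
          if_neg hne.symm, neg_zero] at this
        exact one_ne_zero this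
      rw [hRs_irr χ hirr, mem_insert, mem_singleton] at hα hβ
      rcases hα with rfl | rfl <;> rcases hβ with rfl | rfl
      · rw [if_pos rfl, classInner_self_irr hν]
      · rw [if_neg hne', classInner_neg_right, classInner_irrChar hν hνb, if_neg hne, neg_zero]
      · rw [if_neg hne'.symm, classInner_neg_left, classInner_irrChar hνb hν, if_neg hne.symm,
          neg_zero]
      · rw [if_pos rfl, classInner_neg_left, classInner_neg_right, neg_neg, classInner_self_irr hνb]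
    · obtain ⟨φ, hφ, hα⟩ := (hR_red_mem ψ hψ α).mp hα
      obtain ⟨φ', hφ', hβ⟩ := (hR_red_mem ψ hψ β).mp hβ
      by_cases hab : α = β
      · rw [if_pos hab, ← hab]
        rcases hα with rfl | rfl <;>
          simp [classInner_neg_left, classInner_neg_right, classInner_smul_left, classInner_smul_right,
            hη.orthonormal, hδc, delta_sq hT ψ]
      · rw [if_neg hab]
        have hiff := fun {a b : ↥(W₁ ⊔ W₂) →* ℂˣ} (ha : OnSecond a) (hb : OnSecond b) =>
          mul_eq_iff d.cycTI hφ ha hφ' hb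
        rcases hα with rfl | rfl <;> rcases hβ with rfl | rfl <;>
          simp only [classInner_neg_left, classInner_neg_right, classInner_smul_left,
            classInner_smul_right, hη.orthonormal, neg_eq_zero, mul_eq_zero] <;>
          refine Or.inr (Or.inr (if_neg fun e => ?_))
        · exact hab (by rw [e])
        · exact hne_inv ψ hψ h1 ((hiff hψ (hinv ψ hψ)).mp e).2
        · exact hne_inv ψ hψ h1 ((hiff (hinv ψ hψ) hψ).mp e).2.symm
        · exact hab (by rw [e])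
  · -- virtual
    intro χ hχ α hα
    rcases d.member_cases hT hχ with hirr | ⟨ψ, hψ, h1, rfl⟩
    · obtain ⟨hν, -⟩ := hνf χ hχ hirr
      rw [hRs_irr χ hirr, mem_insert, mem_singleton] at hα
      rcases hα with rfl | rfl
      · exact IsCharacter.isGeneralized (isCharacter_of_irr hν)
      · exact IsGeneralizedCharacter.neg
          (IsCharacter.isGeneralized (isCharacter_of_irr (IsIrrCharacter.conjugate hν)))
    · obtain ⟨φ, hφ, hα⟩ := (hR_red_mem ψ hψ α).mp hα
      rcases hT.sign ψ with hs | hs <;> rw [hs] at hα <;>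
        simp only [one_smul, neg_smul, neg_neg] at hα <;> rcases hα with rfl | rfl
      · exact family_gen hη _
      · exact IsGeneralizedCharacter.neg (family_gen hη _)
      · exact IsGeneralizedCharacter.neg (family_gen hη _)
      · exact family_gen hη _
  · -- sum
    intro χ hχ
    rcases d.member_cases hT hχ with hirr | ⟨ψ, hψ, h1, rfl⟩
    · obtain ⟨hν, he⟩ := hνf χ hχ hirr
      have hne : νf χ ≠ Cfsg.conjFun (νf χ) := (inner_ne_two d hχ hirr hν he).symm
      have hne' : νf χ ≠ -Cfsg.conjFun (νf χ) := fun e => by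
        have := congrArg (fun f => Cfsg.classInner f (νf χ)) e
        simp only [classInner_neg_left, classInner_self_irr hν] at this
        rw [classInner_irrChar (χ := Cfsg.conjFun (νf χ)) (IsIrrCharacter.conjugate hν) hν,
          if_neg hne.symm, neg_zero] at this
        exact one_ne_zero this
      rw [hRs_irr χ hirr, sum_pair hne', he, sub_eq_add_neg]
    · rw [hRs_red ψ hψ, hRred]
      simp only
      have hδ0 : δ ψ ≠ 0 := by rcases hT.sign ψ with h | h <;> simp [h]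
      have hηinj : Function.Injective η := fun a b e => by
        have h := hη.orthonormal a b
        rw [e, hη.orthonormal b b, if_pos rfl] at h
        by_contra hne
        rw [if_neg hne] at h
        exact one_ne_zero h
      rw [sum_union, sum_image, sum_image, d.conj_red hT hψ, d.red_sum hT, d.red_sum hT,
        ← sum_sub_distrib, hτdef, dade_finset_sum, ← sum_add_distrib]
      · refine sum_congr rfl fun φ hφ => ?_
        have hφ' := (mem_filter.mp hφ).2
        have hdeg : μ (φ * ψ) 1 = μ (φ * ψ⁻¹) 1 := by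
          have h1K : (((1 : L) : G)) ∈ K := by simp [one_mem]
          rw [hT.column_on_K _ ψ (sameColumn_mul hφ') 1 h1K,
            hT.column_on_K _ ψ⁻¹ (sameColumn_mul hφ') 1 h1K, ← hT.conj ψ,
            Cfsg.Lib.Coherence.conj_apply_one (isCharacter_of_irr (hT.irr ψ))]
        rw [(image_column d hT hη hφ' hψ (hinv ψ hψ) h1 (fun e => h1 (MonoidHom.ext fun w => inv_eq_one.mp (DFunLike.congr_fun e w))) hdeg).2.2,
          smul_sub, sub_eq_add_neg]
      · intro a _ b _ e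
        exact mul_right_cancel (hηinj (smul_right_injective (G → ℂ) hδ0 (neg_inj.mp e)))
      · intro a _ b _ e
        exact mul_right_cancel (hηinj (smul_right_injective (G → ℂ) hδ0 e))
      · rw [disjoint_left]
        rintro α hα hα'
        obtain ⟨a, ha, rfl⟩ := mem_image.mp hα
        obtain ⟨b, hb, e⟩ := mem_image.mp hα'
        have h := congrArg (fun f => Cfsg.classInner f (η (a * ψ))) e
        simp only [classInner_neg_left, classInner_smul_left, hη.orthonormal, if_true,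
          mul_one] at h
        rw [if_neg (fun e' => hne_inv ψ hψ h1 ((mul_eq_iff d.cycTI (mem_filter.mp hb).2 (hinv ψ hψ)
          (mem_filter.mp ha).2 hψ).mp e').2.symm), mul_zero, neg_zero] at h
        exact hδ0 h.symm
  · -- disjoint
    intro χ hχ φ hφ h0 h0' α hα β hβ
    rcases d.member_cases hT hφ with hφi | ⟨ψ', hψ', h1', rfl⟩
    · rcases d.member_cases hT hχ with hχi | ⟨ψ, hψ, h1, rfl⟩
      · obtain ⟨hν', he'⟩ := hνf φ hφ hφi
        obtain ⟨hν, he⟩ := hνf χ hχ hχi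
        have hνb : Cfsg.IsIrrCharacter G (Cfsg.conjFun (νf χ)) := IsIrrCharacter.conjugate hν
        have hνb' : Cfsg.IsIrrCharacter G (Cfsg.conjFun (νf φ)) := IsIrrCharacter.conjugate hν'
        have hne : νf χ ≠ Cfsg.conjFun (νf χ) := (inner_ne_two d hχ hχi hν he).symm
        have hmem : ∀ {ξ : ↥L → ℂ}, ξ ∈ S → ξ - Cfsg.conjFun ξ ∈ Cfsg.zspanOn S {1}ᶜ := fun {ξ} hξ =>
          ⟨Submodule.sub_mem _ (Submodule.subset_span hξ) (Submodule.subset_span (member_conj_mem d hξ)),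
            fun x hx => by
              rw [show x = 1 by simpa using hx, Pi.sub_apply,
                Cfsg.Lib.Coherence.conj_apply_one (member_char hξ), sub_self]⟩
        have hiso := ((dade_isometry d.dade (fun s hs => IsCharacter.isGeneralized (member_char hs))
          ({1}ᶜ : Set L) fun α hα x hx => zspanOn_support d hα hx).1).2.2.1 _ (hmem hφ) _ (hmem hχ)
        rw [← hτdef, he', he] at hiso
        have hconj : ∀ f g : ↥L → ℂ, Cfsg.classInner (Cfsg.conjFun f) g =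
            conj (Cfsg.classInner f (Cfsg.conjFun g)) := fun f g => by
          simp only [classInner_def, map_mul, map_inv₀, map_natCast, map_sum, Cfsg.conjFun,
            Complex.conj_conj]
        have z1 : Cfsg.classInner (Cfsg.conjFun φ) χ = 0 := by rw [hconj, h0', map_zero]
        have z2 : Cfsg.classInner (Cfsg.conjFun φ) (Cfsg.conjFun χ) = 0 := by
          rw [hconj, Cfsg.Lib.Coherence.conjFun_conjFun, h0, map_zero]
        simp only [classInner_sub_left, classInner_sub_right, h0, h0', z1, z2, sub_zero,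
          classInner_irrChar hν' hν, classInner_irrChar hν' hνb, classInner_irrChar hνb' hν,
          classInner_irrChar hνb' hνb] at hiso
        have e1 : νf φ ≠ νf χ := fun e => by
          rw [e, if_pos rfl, if_neg hne, if_pos rfl, if_neg hne.symm] at hiso
          norm_num at hiso
        have e2 : νf φ ≠ Cfsg.conjFun (νf χ) := fun e => by
          rw [e, Cfsg.Lib.Coherence.conjFun_conjFun, if_neg hne.symm, if_pos rfl, if_neg hne,
            if_pos rfl] at hiso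
          norm_num at hiso
        have e3 : Cfsg.conjFun (νf φ) ≠ Cfsg.conjFun (νf χ) := fun e => e1 (by
          have := congrArg Cfsg.conjFun e
          simpa [Cfsg.Lib.Coherence.conjFun_conjFun] using this)
        have e4 : Cfsg.conjFun (νf φ) ≠ νf χ := fun e => e2 (by
          rw [← e, Cfsg.Lib.Coherence.conjFun_conjFun])
        rw [hRs_irr φ hφi, mem_insert, mem_singleton] at hα
        rw [hRs_irr χ hχi, mem_insert, mem_singleton] at hβ
        rcases hα with rfl | rfl <;> rcases hβ with rfl | rfl <;>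
          simp only [classInner_neg_left, classInner_neg_right, classInner_irrChar hν' hν,
            classInner_irrChar hν' hνb, classInner_irrChar hνb' hν, classInner_irrChar hνb' hνb,
            if_neg e1, if_neg e2, if_neg e3, if_neg e4, neg_zero]
      · obtain ⟨a, ha, hβ⟩ := (hR_red_mem ψ hψ β).mp hβ
        rcases hβ with rfl | rfl <;>
          simp [classInner_neg_right, classInner_smul_right, hR_irr_orth φ hφ hφi α hα]
    · obtain ⟨a, ha, hα⟩ := (hR_red_mem ψ' hψ' α).mp hα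
      rcases d.member_cases hT hχ with hχi | ⟨ψ, hψ, h1, rfl⟩
      · have hz : ∀ ω, Cfsg.classInner (η ω) β = 0 := fun ω => by
          rw [← classInner_conj_symm, hR_irr_orth χ hχ hχi β hβ ω, map_zero]
        rcases hα with rfl | rfl <;> simp [classInner_neg_left, classInner_smul_left, hz]
      · obtain ⟨b, hb, hβ⟩ := (hR_red_mem ψ hψ β).mp hβ
        have n1 : ψ' ≠ ψ := fun e => by
          rw [e, d.inner_red_self hT hψ] at h0
          exact Nat.card_pos.ne' (Nat.cast_eq_zero.mp h0)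
        have n2 : ψ' ≠ ψ⁻¹ := fun e => by
          rw [e, d.conj_red hT hψ, d.inner_red_self hT (hinv ψ hψ)] at h0'
          exact Nat.card_pos.ne' (Nat.cast_eq_zero.mp h0')
        have hiff := fun {x y : ↥(W₁ ⊔ W₂) →* ℂˣ} (hx : OnSecond x) (hy : OnSecond y) =>
          mul_eq_iff d.cycTI ha hx hb hy
        rcases hα with rfl | rfl <;> rcases hβ with rfl | rfl <;>
          simp only [classInner_neg_left, classInner_neg_right, classInner_smul_left,
            classInner_smul_right, hη.orthonormal, neg_eq_zero, mul_eq_zero] <;>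
          refine Or.inr (Or.inr (if_neg fun e => ?_))
        · exact n1 ((hiff hψ' hψ).mp e).2
        · exact n2 ((hiff hψ' (hinv ψ hψ)).mp e).2
        · exact n2 (MonoidHom.ext fun w => by
            rw [MonoidHom.inv_apply, ← ((hiff (hinv ψ' hψ') hψ).mp e).2, MonoidHom.inv_apply, inv_inv])
        · exact n1 (inv_inj.mp ((hiff (hinv ψ' hψ') (hinv ψ hψ)).mp e).2)
  · intro χ hχ hirr
    exact ⟨νf χ, (hνf χ hχ hirr).1, hRs_irr χ hirr, hR_irr_orth χ hχ hirr⟩

end Cfsg.Agent.PF
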