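import Cfsg.Agent.OddChar.PF.Sec08Facts
import Cfsg.Agent.OddChar.PF.S04System
import Cfsg.Agent.OddChar.PF.S04Interface

/-!
# (8.14): the prime Dade hypothesis for the maximal subgroups of type P
-/

set_option linter.unusedSectionVars false
set_option linter.unusedVariables false
set_option autoImplicit false

namespace Cfsg.Agent.PF

open Subgroup

universe u

variable {G : Type u} [Group G] [Finite G] {M W₁ U W₂ : Subgroup G}

/-- The prime Dade hypothesis of a maximal subgroup with data of type P. -/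
theorem primeDade (hG : Cfsg.IsMinSimpleOddOrder G) (hM : IsCoatom M)
    (hP : Cfsg.IsTypePWith M W₁ U W₂) (hI : ¬ IsTypeI' M) :
    PrimeDade M ⁅M, M⁆ W₁ W₂ (Cfsg.typeCore M) (typeA' M) (typeA0' M) (Cfsg.supportR M) where
  odd := hG.1.of_dvd_nat (Subgroup.card_subgroup_dvd_card M)
  compl := hP.W₁_compl
  K_normal := Cfsg.Lib.Coprime.le_normalizer_commutator_right M M
  W₁_cyclic := hP.W₁_cyclic
  coprime := by
    obtain ⟨hKM, hWM, hinf, hdec⟩ := hP.W₁_compl
    refine Nat.Coprime.symm (hP.W₁_hall.coprime_dvd_right (dvd_of_eq ?_))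
    have h1 : Nat.card ↥(⁅M, M⁆ ⊔ W₁) = Nat.card ↥⁅M, M⁆ * Nat.card W₁ :=
      Cfsg.Lib.Coprime.card_sup_of_inf_eq_bot
        (hWM.trans (Cfsg.Lib.Coprime.le_normalizer_commutator_right M M)) hinf
    have hsup : ⁅M, M⁆ ⊔ W₁ = M := le_antisymm (sup_le hKM hWM) fun m hm => by
      obtain ⟨a, ha, b, hb, rfl⟩ := hdec m hm
      exact Subgroup.mul_mem_sup ha hb
    rw [hsup] at h1
    have h2 : Nat.card W₁ * W₁.relIndex M = Nat.card M := by
      rw [Subgroup.relIndex, ← Nat.card_congr (Subgroup.subgroupOfEquivOfLe hWM).toEquiv,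
        Subgroup.card_mul_index]
    rw [h1, mul_comm (Nat.card ↥⁅M, M⁆)] at h2
    exact (Nat.eq_of_mul_eq_mul_left Nat.card_pos h2).symm
  cent := hP.W₂_centralizer
  cycTI := hP.selfNormalizing
  H_le := typeCore_le_derived hG (typeFacts hG) hM
  W₂_le := by
    refine (hP.W₂_le.trans inf_le_left).trans ?_
    unfold Cfsg.typeCore
    split_ifs
    · exact hP.U_compl.1
    · exact le_rfl
  H_normal := by
    rw [typeCore_eq_sigmaCore hG (typeFacts hG) hM]
    exact Cfsg.Lib.OddLocal.RankTwoMax.le_normalizer_sigmaCore M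
  A_subset := by
    intro x hx
    unfold typeA' at hx
    rw [if_neg hI] at hx
    exact ⟨hx.1, hx.2.1⟩
  A_subset_A₀ := typeA_subset_typeA0 M
  A_cover := by
    intro k hk hk1 h hh hh1 hkh
    unfold typeA'
    rw [if_neg hI]
    exact ⟨hk, hk1, h, hh, hh1, hkh⟩
  V_subset := fun l hl w hw hw₁ hw₂ =>
    Or.inr ⟨hI, W₁, U, W₂, hP, l, hl, w, hw, hw₁, hw₂, rfl⟩
  dade := ((p1537' hG) M hM _ (Or.inr (Or.inr rfl))).2

/-- The same, from the type. -/
theorem primeDade_of_type (hG : Cfsg.IsMinSimpleOddOrder G) (hM : IsCoatom M)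
    (hT : Cfsg.IsOfTypeII M ∨ Cfsg.IsOfTypeIII M ∨ Cfsg.IsOfTypeIV M ∨ Cfsg.IsOfTypeV M)
    (hP : Cfsg.IsTypePWith M W₁ U W₂) :
    PrimeDade M ⁅M, M⁆ W₁ W₂ (Cfsg.typeCore M) (typeA' M) (typeA0' M) (Cfsg.supportR M) :=
  primeDade hG hM hP (not_typeI_of_P hG (typeFacts hG) hM hT)

end Cfsg.Agent.PF
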