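import Cfsg.Agent.OddChar.PF.S13Side
import Cfsg.Agent.OddChar.PF.Sec08Prime
import Cfsg.Agent.OddChar.PF.S05Coherent
import Cfsg.Agent.OddChar.PF.S09Coherence
import Cfsg.Agent.OddChar.PF.S07DadeMap
import Cfsg.Agent.OddChar.Rational

/-!
# Section 13: the coherent map of one side

The characters induced from `S'` nontrivial on `S_F` carry a coherent map `τ₁` extending induction;
the cyclic TI family is transported to the exchanged factors.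
-/

set_option linter.unusedSectionVars false
set_option linter.unusedVariables false
set_option linter.style.haveILetI false
set_option autoImplicit false

namespace Cfsg.Agent.PF

open Subgroup Cfsg.Lib.Chars Cfsg.Lib.CyclicTI Cfsg.Lib.Coherence
open scoped commutatorElement

universe u

variable {G : Type u} [Group G] [Fintype G] {S T W₁ W₂ U V : Subgroup G}

/-- The inclusion of `W₁ W₂` in `W₂ W₁`. -/
def swapW (W₁ W₂ : Subgroup G) : ↥(W₁ ⊔ W₂) →* ↥(W₂ ⊔ W₁) :=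
  Subgroup.inclusion (le_of_eq (sup_comm _ _))

/-- The family with the factors exchanged. -/
def swapFam (η : (↥(W₁ ⊔ W₂) →* ℂˣ) → (G → ℂ)) : (↥(W₂ ⊔ W₁) →* ℂˣ) → (G → ℂ) :=
  fun ω => η (ω.comp (swapW W₁ W₂))

theorem indFun_of_eq {A B : Subgroup G} (h : A = B) (f : B → ℂ) :
    Cfsg.indFun A (fun a => f (Subgroup.inclusion (le_of_eq h) a)) = Cfsg.indFun B f := by
  subst h
  rfl

theorem swapW_apply (w : ↥(W₂ ⊔ W₁)) :
    swapW W₁ W₂ (Subgroup.inclusion (le_of_eq (sup_comm _ _)) w) = w := rfl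

theorem swap_comp_injective :
    Function.Injective fun ω : ↥(W₂ ⊔ W₁) →* ℂˣ => ω.comp (swapW W₁ W₂) := fun ω ω' h =>
  MonoidHom.ext fun w => by
    have := DFunLike.congr_fun h (Subgroup.inclusion (le_of_eq (sup_comm _ _)) w)
    simpa [swapW_apply] using this

theorem family_swap13 {η : (↥(W₁ ⊔ W₂) →* ℂˣ) → (G → ℂ)} (hη : Cfsg.IsCyclicTIFamily W₁ W₂ η) :
    Cfsg.IsCyclicTIFamily W₂ W₁ (swapFam η) where
  irr_or_neg ω := hη.irr_or_neg _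
  orthonormal a b := by
    classical
    rw [swapFam, swapFam, hη.orthonormal]
    by_cases h : a = b
    · subst h; simp
    · rw [if_neg h, if_neg fun e => h (swap_comp_injective e)]
  map_one := by
    rw [swapFam, MonoidHom.one_comp]
    exact hη.map_one
  eq_on ω w h1 h2 :=
    hη.eq_on (ω.comp (swapW W₁ W₂)) (Subgroup.inclusion (le_of_eq (sup_comm _ _)) w) h2 h1
  induced_eq φ ψ h1 h2 hφ hψ := by
    have h1' : φ.comp (swapW W₁ W₂) ≠ 1 := fun e => h1 (swap_comp_injective (by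
      show φ.comp (swapW W₁ W₂) = (1 : ↥(W₂ ⊔ W₁) →* ℂˣ).comp (swapW W₁ W₂)
      rw [e, MonoidHom.one_comp]))
    have h2' : ψ.comp (swapW W₁ W₂) ≠ 1 := fun e => h2 (swap_comp_injective (by
      show ψ.comp (swapW W₁ W₂) = (1 : ↥(W₂ ⊔ W₁) →* ℂˣ).comp (swapW W₁ W₂)
      rw [e, MonoidHom.one_comp]))
    have e := hη.induced_eq (ψ.comp (swapW W₁ W₂)) (φ.comp (swapW W₁ W₂)) h2' h1'
      (fun w hw => hψ _ hw) (fun w hw => hφ _ hw)
    rw [← indFun_of_eq (sup_comm W₂ W₁)] at e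
    simp only [MonoidHom.comp_apply, swapW_apply] at e
    funext g
    have eg := congrFun e g
    have hc : ψ.comp (swapW W₁ W₂) * φ.comp (swapW W₁ W₂) = (φ * ψ).comp (swapW W₁ W₂) := by
      ext w; simp [mul_comm]
    rw [hc] at eg
    simp only [swapFam]
    rw [show (fun w : ↥(W₂ ⊔ W₁) => 1 - (φ w : ℂ) - (ψ w : ℂ) + (φ w : ℂ) * (ψ w : ℂ)) =
      fun w => 1 - (ψ w : ℂ) - (φ w : ℂ) + (ψ w : ℂ) * (φ w : ℂ) by funext w; ring, eg]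
    ring

theorem swap_onSecond {φ : ↥(W₁ ⊔ W₂) →* ℂˣ} (hφ : OnFirst φ) :
    OnSecond (φ.comp (swapW W₂ W₁)) := fun w hw => hφ _ hw

theorem swapFam_apply (η : (↥(W₁ ⊔ W₂) →* ℂˣ) → (G → ℂ)) (φ : ↥(W₁ ⊔ W₂) →* ℂˣ) :
    swapFam η (φ.comp (swapW W₂ W₁)) = η φ := rfl

theorem Side13.cent_commutator (d : Side13 S W₁ U W₂) :
    ⁅centMod U (Cfsg.fittingHallOf S) (⊥ : Subgroup G),
      centMod U (Cfsg.fittingHallOf S) ⊥⁆ = ⊥ :=
  commutator_eq_bot_iff_le_centralizer.mpr fun a ha => mem_centralizer_iff.mpr fun b hb =>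
    d.U_comm b (centMod_le _ _ _ hb) a (centMod_le _ _ _ ha)

theorem Side13.ne_one_of_A0 (d : Side13 S W₁ U W₂) {x : G} (hx : x ∈ typeA0' S) : x ≠ 1 := by
  rcases hx with hx | ⟨-, V₁, U', V₂, -, m, -, w, -, hw1, -, rfl⟩
  · unfold typeA' at hx
    rw [if_neg d.notI] at hx
    exact hx.2.1
  · exact fun e => hw1 (conj_eq_one_iff.mp e ▸ one_mem V₁)

theorem Side13.centralizer_le' (d : Side13 S W₁ U W₂) {x : G} (hx : x ∈ typeA0' S) :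
    centralizer ({x} : Set G) ≤ S :=
  d.centralizer_le (d.typeA0'_eq ▸ hx) (d.ne_one_of_A0 hx)

/-- The hypothesis of Section 4 for a side, with `H = S_F`. -/
theorem Side13.pd (hG : Cfsg.IsMinSimpleOddOrder G) (d : Side13 S W₁ U W₂) :
    PrimeDade S ⁅S, S⁆ W₁ W₂ (Cfsg.fittingHallOf S) (typeA' S) (typeA0' S) (Cfsg.supportR S) :=
  let c := primeDade hG d.nine.max d.nine.typeP d.notI
  { c with
    H_le := d.nine.H_le_derived
    W₂_le := d.nine.W₂_le_H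
    H_normal := d.nine.M_le_normalizer_H
    A_cover := fun k hk hk1 h hh hh1 hkh => c.A_cover k hk hk1 h (by
      unfold Cfsg.typeCore
      split_ifs
      · exact d.nine.H_le_derived hh
      · exact hh) hh1 hkh }

/-- The coherent map of a side and what it rests on. -/
structure Coh13 (S W₁ W₂ : Subgroup G) [Fintype S]
    (μ : (↥(W₁ ⊔ W₂) →* ℂˣ) → (↥S → ℂ)) (δ : (↥(W₁ ⊔ W₂) →* ℂˣ) → ℂ)
    (η : (↥(W₁ ⊔ W₂) →* ℂˣ) → (G → ℂ)) (Rs : (↥S → ℂ) → Finset (G → ℂ))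
    (τ₁ : (↥S → ℂ) → (G → ℂ)) : Prop where
  pd : PrimeDade S ⁅S, S⁆ W₁ W₂ (Cfsg.fittingHallOf S) (typeA' S) (typeA0' S) (Cfsg.supportR S)
  chars : PrimeTIChars S ⁅S, S⁆ W₁ W₂ μ δ
  fam : Cfsg.IsCyclicTIFamily W₁ W₂ η
  sys : Cfsg.IsCoherenceSystem (calS9 S ⊥)
    (Cfsg.dadeIsometry (typeA0' S) S (Cfsg.supportR S)) Rs
  red : ∀ ψ, OnSecond ψ → ψ ≠ 1 → redChar μ ψ ∈ calS9 S ⊥ ∧
    ∀ α, α ∈ Rs (redChar μ ψ) ↔ ∃ φ, OnFirst φ ∧
      (α = δ ψ • η (φ * ψ) ∨ α = -(δ ψ • η (φ * ψ⁻¹)))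
  irr : ∀ χ ∈ calS9 S ⊥, Cfsg.IsIrrCharacter ↥S χ →
    ∀ α ∈ Rs χ, ∀ ω, Cfsg.classInner α (η ω) = 0
  iso : Cfsg.IsLinearIsometryOn (Cfsg.zspan (calS9 S ⊥)) τ₁
  agree : ∀ f ∈ Cfsg.zspanOn (calS9 S ⊥) {1}ᶜ,
    τ₁ f = Cfsg.dadeIsometry (typeA0' S) S (Cfsg.supportR S) f
  ind : ∀ f ∈ Cfsg.zspanOn (calS9 S ⊥) {1}ᶜ, τ₁ f = Cfsg.indFun S f

theorem calS9_bot (S : Subgroup G) [Fintype S] :
    calS9 S ⊥ = seqIndD ((⁅S, S⁆ : Subgroup G).subgroupOf S)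
      ((Cfsg.fittingHallOf S).subgroupOf S) ⊥ := by
  rw [calS9, bot_subgroupOf]

/-- Existence of the coherent map. -/
theorem Side13.exists_coh (hG : Cfsg.IsMinSimpleOddOrder G) (d : Side13 S W₁ U W₂) [Fintype S]
    {η : (↥(W₁ ⊔ W₂) →* ℂˣ) → (G → ℂ)} (hη : Cfsg.IsCyclicTIFamily W₁ W₂ η) :
    ∃ μ δ Rs τ₁, Coh13 S W₁ W₂ μ δ η Rs τ₁ := by
  have hpd := d.pd hG
  obtain ⟨μ, δ, hT, -⟩ := s04Chars G S ⁅S, S⁆ W₁ W₂ _ _ _ _ hpd
  obtain ⟨Rs, hsys, hred, hirr⟩ := s04System G S ⁅S, S⁆ W₁ W₂ _ _ _ _ hpd μ δ hT η hη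
  rw [← calS9_bot S] at hsys hred hirr
  have hD0 := hpd.dade
  have hD1 := (p1537' hG S d.nine.max _ (Or.inr (Or.inl rfl))).2
  have hI : ¬ Cfsg.IsOfTypeI S := fun h => d.notI (isTypeI'_of h)
  have hA : Cfsg.typeA S = typeA' S := by
    unfold Cfsg.typeA typeA'
    rw [if_neg hI, if_neg d.notI]
  have hCC := d.cent_commutator
  have hclass : ∀ {B : Set ↥S}, ∀ f ∈ Cfsg.zspanOn (calS9 S ⊥) B, Cfsg.IsClassFunction S f :=
    fun {B} f hf => isClassFunction_generalized (zspan_gen (fun s hs =>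
      IsCharacter.isGeneralized (hsys.isCharacter s hs)) hf.1)
  have hind : ∀ f, Cfsg.IsClassFunction S f → (∀ x : S, (x : G) ∉ typeA0' S → f x = 0) →
      Cfsg.dadeIsometry (typeA0' S) S (Cfsg.supportR S) f = Cfsg.indFun S f := fun f hf hs =>
    dade_eq_indFun hD0 (fun a ha => d.centralizer_le' ha) hf hs
  have hcoh := s9Coherence G hG.1 S W₁ U W₂ d.nine ⊥ d.kernel (hA.symm ▸ hD1)
    (calS9 S ⊥) _ Rs hsys (by rw [hCC, bot_sup_eq]) fun α hα => by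
      have hc := hclass α hα
      have hs : ∀ x : S, (x : G) ∉ typeA' S → α x = 0 := fun x hx => hα.2 x (by
        show (x : G) ∉ Cfsg.typeA S
        rw [hA]; exact hx)
      rw [hind α hc (fun x hx => hs x fun h => hx (Or.inl h)), hA,
        dade_eq_indFun hD1 (fun a ha => d.centralizer_le' (Or.inl ha)) hc hs]
  rw [hCC, bot_sup_eq] at hcoh
  obtain ⟨-, τ₁, hiso, hag⟩ := hcoh
  refine ⟨μ, δ, Rs, τ₁, hpd, hT, hη, hsys, hred, fun χ hχ hi => ?_, hiso, hag, fun f hf => ?_⟩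
  · obtain ⟨ν, -, -, h⟩ := hirr χ hχ hi
    exact h
  · rw [hag f hf, hind f (hclass f hf) fun x hx => zspanOn_support hpd (calS9_bot S ▸ hf) hx]

namespace Coh13

variable [Fintype S] {μ : (↥(W₁ ⊔ W₂) →* ℂˣ) → (↥S → ℂ)} {δ : (↥(W₁ ⊔ W₂) →* ℂˣ) → ℂ}
  {η : (↥(W₁ ⊔ W₂) →* ℂˣ) → (G → ℂ)} {Rs : (↥S → ℂ) → Finset (G → ℂ)}
  {τ₁ : (↥S → ℂ) → (G → ℂ)} (c : Coh13 S W₁ W₂ μ δ η Rs τ₁)
include c

theorem inner_eq {χ χ' : ↥S → ℂ} (h : χ ∈ calS9 S ⊥) (h' : χ' ∈ calS9 S ⊥) :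
    Cfsg.classInner (τ₁ χ) (τ₁ χ') = Cfsg.classInner χ χ' :=
  c.iso.2.2.1 _ (subset_zspan h) _ (subset_zspan h')

theorem gen {χ : ↥S → ℂ} (h : χ ∈ calS9 S ⊥) : Cfsg.IsGeneralizedCharacter G (τ₁ χ) :=
  c.iso.2.2.2 _ (subset_zspan h)

theorem map_sub {f f' : ↥S → ℂ} (h : f ∈ Cfsg.zspan (calS9 S ⊥))
    (h' : f' ∈ Cfsg.zspan (calS9 S ⊥)) : τ₁ (f - f') = τ₁ f - τ₁ f' :=
  map_sub' (Submodule.span ℤ (calS9 S ⊥)) c.iso h h'

/-- The image of an irreducible member is orthogonal to the family. -/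
theorem irr_orth {χ : ↥S → ℂ} (hχ : χ ∈ calS9 S ⊥) (hi : Cfsg.IsIrrCharacter ↥S χ)
    (ω : ↥(W₁ ⊔ W₂) →* ℂˣ) : Cfsg.classInner (τ₁ χ) (η ω) = 0 :=
  s05_image_orth c.sys subset_rfl c.iso c.agree hχ (c.sys.conj_mem χ hχ)
    fun α hα => c.irr χ hχ hi α hα ω

theorem red_apply_K (ψ : ↥(W₁ ⊔ W₂) →* ℂˣ) {x : S} (hx : (x : G) ∈ ⁅S, S⁆) :
    redChar μ ψ x = (Nat.card W₁ : ℂ) * μ ψ x := by
  classical
  haveI : Fintype (↥(W₁ ⊔ W₂) →* ℂˣ) := Fintype.ofFinite _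
  rw [c.pd.red_sum c.chars, Finset.sum_apply, Finset.sum_congr rfl fun φ hφ =>
    c.chars.column_on_K (φ * ψ) ψ (sameColumn_mul (Finset.mem_filter.mp hφ).2) x hx,
    Finset.sum_const, nsmul_eq_mul, ← card_onFirst c.pd.cycTI, Nat.card_eq_fintype_card,
    Fintype.card_subtype]

theorem onSecond_inv {ψ : ↥(W₁ ⊔ W₂) →* ℂˣ} (hψ : OnSecond ψ) : OnSecond ψ⁻¹ := fun w hw => by
  rw [MonoidHom.inv_apply, hψ w hw, inv_one]

theorem conj_red_mem {ψ : ↥(W₁ ⊔ W₂) →* ℂˣ} (hψ : OnSecond ψ) (h1 : ψ ≠ 1) :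
    redChar μ ψ⁻¹ ∈ calS9 S ⊥ := by
  rw [← c.pd.conj_red c.chars hψ]
  exact c.sys.conj_mem _ (c.red ψ hψ h1).1

open Classical in
/-- With another member at hand, the image of a column sum is a signed column. -/
theorem column {ψ : ↥(W₁ ⊔ W₂) →* ℂˣ} (hψ : OnSecond ψ) (h1 : ψ ≠ 1) {χ : ↥S → ℂ}
    (hχ : χ ∈ calS9 S ⊥) (hi : Cfsg.IsIrrCharacter ↥S χ)
    [Fintype (↥(W₁ ⊔ W₂) →* ℂˣ)] :
    ∃ (ψ' : ↥(W₁ ⊔ W₂) →* ℂˣ) (e : ℂ), OnSecond ψ' ∧ ψ' ≠ 1 ∧ (e = 1 ∨ e = -1) ∧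
      τ₁ (redChar μ ψ) = e • ∑ φ ∈ Finset.univ.filter
        (fun φ : ↥(W₁ ⊔ W₂) →* ℂˣ => OnFirst φ), η (φ * ψ') := by
  classical
  have hT := calS9_bot S
  have hne : ∀ b, OnSecond b → χ ≠ redChar μ b := fun b hb e =>
    c.pd.red_not_irr c.chars hb (e ▸ hi)
  have hmain := s05_column_image c.pd c.chars c.fam (hT ▸ c.sys)
    (fun b hb hb1 => hT ▸ c.red b hb hb1) (fun b hb => c.irr b (hT ▸ hb))
    (T := calS9 S ⊥) hT.le (fun φ hφ => c.sys.conj_mem φ hφ) c.iso c.agree hψ h1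
    (c.red ψ hψ h1).1 hχ (hne ψ hψ) (hne ψ⁻¹ (c.onSecond_inv hψ))
  have hs := c.chars.sign ψ
  rcases hmain with h | h
  · exact ⟨ψ, δ ψ, hψ, h1, hs, h⟩
  · refine ⟨ψ⁻¹, -δ ψ, c.onSecond_inv hψ, s05_inv_ne h1, ?_, ?_⟩
    · rcases hs with e | e <;> rw [e] <;> simp
    · rw [h, neg_smul]

/-- The images of the members other than a column sum and its conjugate are orthogonal to the
column. -/
theorem column_orth {ψ φ : ↥(W₁ ⊔ W₂) →* ℂˣ} (hψ : OnSecond ψ) (h1 : ψ ≠ 1) (hφ : OnFirst φ)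
    {χ : ↥S → ℂ} (hχ : χ ∈ calS9 S ⊥) (hn : χ ≠ redChar μ ψ) (hn' : χ ≠ redChar μ ψ⁻¹) :
    Cfsg.classInner (τ₁ χ) (η (φ * ψ)) = 0 := by
  have hβ : δ ψ • η (φ * ψ) ∈ Rs (redChar μ ψ) :=
    ((c.red ψ hψ h1).2 _).mpr ⟨φ, hφ, Or.inl rfl⟩
  have h := s05_image_disjoint c.sys subset_rfl c.iso c.agree hχ (c.sys.conj_mem χ hχ)
    (c.red ψ hψ h1).1 hn (by rw [c.pd.conj_red c.chars hψ]; exact hn') hβ
  rw [classInner_smul_right] at h
  rcases c.chars.sign ψ with e | e <;> simpa [e] using h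

theorem ne_inv {ψ : ↥(W₁ ⊔ W₂) →* ℂˣ} (hψ : OnSecond ψ) (h1 : ψ ≠ 1) : ψ⁻¹ ≠ ψ := fun e =>
  c.sys.conj_ne _ (c.red ψ hψ h1).1 (by rw [c.pd.conj_red c.chars hψ, e])

/-- The difference of the images of a column sum and of its conjugate on the column. -/
theorem column_diff {ψ φ : ↥(W₁ ⊔ W₂) →* ℂˣ} (hψ : OnSecond ψ) (h1 : ψ ≠ 1) (hφ : OnFirst φ) :
    Cfsg.classInner (τ₁ (redChar μ ψ)) (η (φ * ψ)) -
      Cfsg.classInner (τ₁ (redChar μ ψ⁻¹)) (η (φ * ψ)) = δ ψ := by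
  classical
  have hm := (c.red ψ hψ h1).1
  have hmc := c.conj_red_mem hψ h1
  have hd : redChar μ ψ - redChar μ ψ⁻¹ ∈ Cfsg.zspanOn (calS9 S ⊥) {1}ᶜ :=
    mem_one.mpr ⟨(Submodule.span ℤ (calS9 S ⊥)).sub_mem (subset_zspan hm) (subset_zspan hmc), by
      rw [← c.pd.conj_red c.chars hψ, Pi.sub_apply,
        conj_apply_one (c.sys.isCharacter _ hm), sub_self]⟩
  rw [← classInner_sub_left, ← c.map_sub (subset_zspan hm) (subset_zspan hmc), c.agree _ hd,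
    show redChar μ ψ - redChar μ ψ⁻¹ = redChar μ ψ - Cfsg.conjFun (redChar μ ψ) by
      rw [c.pd.conj_red c.chars hψ],
    c.sys.sum_eq _ hm, classInner_sum_left, Finset.sum_eq_single (δ ψ • η (φ * ψ))]
  · rw [classInner_smul_left, c.fam.orthonormal, if_pos rfl, mul_one]
  · intro α hα hne
    obtain ⟨a, ha, rfl | rfl⟩ := ((c.red ψ hψ h1).2 α).mp hα
    · rw [classInner_smul_left, c.fam.orthonormal, if_neg, mul_zero]
      exact fun e => hne (by rw [e])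
    · rw [classInner_neg_left, classInner_smul_left, c.fam.orthonormal, if_neg, mul_zero, neg_zero]
      exact fun e => c.ne_inv hψ h1 ((mul_eq_iff c.pd.cycTI ha (c.onSecond_inv hψ) hφ hψ).mp e).2
  · exact fun h => absurd (((c.red ψ hψ h1).2 _).mpr ⟨φ, hφ, Or.inl rfl⟩) h

/-- The column sums have degree `q u`. -/
theorem red_degree (hG : Cfsg.IsMinSimpleOddOrder G) (d : Side13 S W₁ U W₂)
    {ψ : ↥(W₁ ⊔ W₂) →* ℂˣ} (hψ : OnSecond ψ) (h1 : ψ ≠ 1) :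
    redChar μ ψ 1 = ((Nat.card W₁ * (cent13 S U).relIndex U : ℕ) : ℂ) := by
  obtain ⟨E, -, hE, hall⟩ := s9Reducible G hG.1 S W₁ U W₂ d.nine ⊥ d.kernel (Nat.card W₂) d.p_prime
    (by rw [d.card_H, card_bot, mul_one])
  have hCC := d.cent_commutator
  rcases hall _ (by rw [hCC, bot_sup_eq]; exact (c.red ψ hψ h1).1) with h | h
  · have := (hE _ h).2.2.1
    rwa [d.centMod_eq] at this
  · exact absurd h (c.pd.red_not_irr c.chars hψ)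

end Coh13

end Cfsg.Agent.PF
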