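import Cfsg.Agent.OddChar.PF.S13Basic

/-!
# (13.16): the normaliser of `W₁`

`N(W₁) ≤ T` since `A₀(T)` is a TI-subset with normaliser `T`; inside `T = Q V W₂` the part in `V`
centralises `W₁` by coprime action of `W₂`, and a part of `V` centralising a non-identity element of
`Q` is trivial because `Q` is a chief factor on which `V` acts faithfully.
-/

set_option linter.unusedSectionVars false
set_option linter.unusedVariables false
set_option linter.style.haveILetI false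
set_option autoImplicit false

namespace Cfsg.Agent.PF

open Subgroup
open scoped commutatorElement

universe u

variable {G : Type u} [Group G] [Finite G] {M S T W₁ W₂ U V : Subgroup G}

theorem Hyp13.symm (h : Hyp13 S T W₁ W₂ U V) : Hyp13 T S W₂ W₁ V U where
  maxS := h.maxT
  maxT := h.maxS
  dataS := h.dataT
  dataT := h.dataS
  inter := by rw [inf_comm, h.inter, sup_comm]
  typeS := h.typeT
  typeT := h.typeS
  one_II := h.one_II.symm

/-- A subgroup fixed elementwise by nothing in a fixed-point-free situation: the map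
`x ↦ x⁻¹ x^w` is onto. -/
theorem exists_eq_inv_mul_conj {N : Subgroup G} {w : G} (hw : w ∈ normalizer (N : Set G))
    (hfpf : ∀ x ∈ N, w * x = x * w → x = 1) {u : G} (hu : u ∈ N) :
    ∃ x ∈ N, u = x⁻¹ * (w * x * w⁻¹) := by
  have hmem : ∀ x ∈ N, x⁻¹ * (w * x * w⁻¹) ∈ N := fun x hx =>
    mul_mem (inv_mem hx) ((mem_normalizer_iff.mp hw x).mp hx)
  let f : N → N := fun x => ⟨(x : G)⁻¹ * (w * x * w⁻¹), hmem x x.2⟩
  have hf : Function.Injective f := by
    rintro ⟨a, ha⟩ ⟨b, hb⟩ hab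
    have e : a⁻¹ * (w * a * w⁻¹) = b⁻¹ * (w * b * w⁻¹) := congrArg Subtype.val hab
    have hc : w * (a * b⁻¹) = a * b⁻¹ * w := by
      calc w * (a * b⁻¹) = a * (a⁻¹ * (w * a * w⁻¹)) * (w * b⁻¹) := by group
        _ = a * (b⁻¹ * (w * b * w⁻¹)) * (w * b⁻¹) := by rw [e]
        _ = a * b⁻¹ * w := by group
    exact Subtype.ext (mul_inv_eq_one.mp (hfpf _ (mul_mem ha (inv_mem hb)) hc))
  obtain ⟨⟨x, hx⟩, he⟩ := Finite.surjective_of_injective hf ⟨u, hu⟩
  exact ⟨x, hx, (congrArg Subtype.val he).symm⟩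

/-- With `|W₂|` prime and `|M_F| = |W₂| ^ |W₁|` the chief factor kernel is trivial. -/
theorem kernel9_bot (h9ex : S9Exists G) (h9f : S9Facts G) (h : Hyp9 M W₁ U W₂)
    (hW₂ : (Nat.card W₂).Prime)
    (hcard : Nat.card (Cfsg.fittingHallOf M) = Nat.card W₂ ^ Nat.card W₁) : Kernel9 M U ⊥ := by
  obtain ⟨H₀, k⟩ := h9ex M W₁ U W₂ h
  obtain ⟨-, -, -, -, -, -, -, p, hp, -, -, hc, -, -, -, -, hpr⟩ := h9f M W₁ U W₂ h H₀ k
  obtain ⟨he, -⟩ := hpr hW₂
  rw [hcard, he] at hc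
  have h1 : Nat.card H₀ = 1 :=
    (Nat.eq_of_mul_eq_mul_left (pow_pos hp.pos _) (by rw [← hc, mul_one])).symm
  exact Subgroup.card_eq_one.mp h1 ▸ k

theorem centMod_bot (hU : U ≤ normalizer (Cfsg.fittingHallOf M : Set G))
    (hfaith : U ⊓ centralizer (Cfsg.fittingHallOf M : Set G) = ⊥) :
    centMod U (Cfsg.fittingHallOf M) ⊥ = ⊥ := by
  refine le_bot_iff.mp (sSup_le fun X hX => ?_)
  rw [← hfaith]
  refine le_inf hX.1 ?_
  have := le_bot_iff.mp hX.2
  rw [commutator_comm, commutator_eq_bot_iff_le_centralizer] at this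
  exact this

/-- When `M_F` is an elementary chief factor on which `U` acts faithfully, `U` is abelian. -/
theorem Hyp9.U_comm (h : Hyp9 M W₁ U W₂) (h9f : S9Facts G) (k : Kernel9 M U ⊥)
    (hfaith : U ⊓ centralizer (Cfsg.fittingHallOf M : Set G) = ⊥) :
    ∀ a ∈ U, ∀ b ∈ U, a * b = b * a := by
  obtain ⟨-, -, hd, -⟩ := h9f M W₁ U W₂ h ⊥ k
  rw [centMod_bot (h.U_le.trans h.M_le_normalizer_H) hfaith] at hd
  intro a ha b hb
  exact commutatorElement_eq_one_iff_mul_comm.mp (mem_bot.mp (hd (commutator_mem_commutator ha hb)))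

/-- A subgroup of `U` normalised by `W₁` and centralising a non-identity element of `M_F` is
trivial. -/
theorem Hyp9.fixing_trivial (h : Hyp9 M W₁ U W₂) (k : Kernel9 M U ⊥)
    (hfaith : U ⊓ centralizer (Cfsg.fittingHallOf M : Set G) = ⊥)
    (hHc : IsMulCommutative (Cfsg.fittingHallOf M))
    (hUc : ∀ a ∈ U, ∀ b ∈ U, a * b = b * a) {D : Subgroup G} (hD : D ≤ U)
    (hDn : W₁ ≤ normalizer (D : Set G)) {x : G} (hx : x ∈ Cfsg.fittingHallOf M) (hx1 : x ≠ 1)
    (hxD : ∀ d ∈ D, d * x = x * d) : D = ⊥ := by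
  set H := Cfsg.fittingHallOf M with hH
  have hUn : U ≤ normalizer (D : Set G) := fun a ha => mem_normalizer_iff.mpr fun y => by
    constructor
    · intro hy
      rwa [hUc a ha y (hD hy), mul_inv_cancel_right]
    · intro hy
      have hy' := hUc a ha _ (hD hy)
      have : a * y * a⁻¹ = y := by
        calc a * y * a⁻¹ = a⁻¹ * (a * (a * y * a⁻¹)) := by group
          _ = a⁻¹ * (a * y * a⁻¹ * a) := by rw [hy']
          _ = y := by group
      rwa [this] at hy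
  have conjF : ∀ m ∈ normalizer (D : Set G), m ∈ normalizer (H : Set G) →
      ∀ y ∈ H ⊓ centralizer (D : Set G), m * y * m⁻¹ ∈ H ⊓ centralizer (D : Set G) := by
    intro m hmD hmH y hy
    refine ⟨(mem_normalizer_iff.mp hmH y).mp hy.1, mem_centralizer_iff.mpr fun d hd => ?_⟩
    have hd' : m⁻¹ * d * m ∈ D := by
      have := (mem_normalizer_iff.mp (inv_mem hmD) d).mp hd
      rwa [inv_inv] at this
    have he := mem_centralizer_iff.mp hy.2 _ hd'
    calc d * (m * y * m⁻¹) = m * (m⁻¹ * d * m * y) * m⁻¹ := by group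
      _ = m * (y * (m⁻¹ * d * m)) * m⁻¹ := by rw [he]
      _ = m * y * m⁻¹ * d := by group
  have hn : M ≤ normalizer ((H ⊓ centralizer (D : Set G) : Subgroup G) : Set G) := by
    refine h.normal_of (fun a ha => mem_normalizer_iff.mpr fun y => ?_) ?_ ?_
    · have hc : ∀ z ∈ H, a * z * a⁻¹ = z := fun z hz => by
        rw [show a * z = z * a from congrArg Subtype.val (hHc.is_comm.comm ⟨a, ha⟩ ⟨z, hz⟩),
          mul_inv_cancel_right]
      constructor
      · intro hy; rw [hc y hy.1]; exact hy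
      · intro hy
        have hyH : y ∈ H := by
          have := mul_mem (mul_mem (inv_mem ha) hy.1) ha
          simpa [mul_assoc] using this
        rwa [hc y hyH] at hy
    · exact s09_le_normalizer_of_conj fun a ha y hy =>
        conjF a (hUn ha) ((h.U_le.trans h.M_le_normalizer_H) ha) y hy
    · exact s09_le_normalizer_of_conj fun a ha y hy =>
        conjF a (hDn ha) ((h.W₁_le.trans h.M_le_normalizer_H) ha) y hy
  have hxF : x ∈ H ⊓ centralizer (D : Set G) := ⟨hx, mem_centralizer_iff.mpr hxD⟩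
  rcases k.chief _ bot_le inf_le_left hn with h0 | h1
  · exact absurd (mem_bot.mp (h0 ▸ hxF)) hx1
  · refine le_bot_iff.mp (hfaith ▸ le_inf hD (le_centralizer_iff.mp ?_))
    exact inf_eq_left.mp h1

theorem typeT' (hF : Facts13 G) (h : Hyp13 S T W₁ W₂ U V) :
    Cfsg.IsOfTypeII T ∨ Cfsg.IsOfTypeIII T ∨ Cfsg.IsOfTypeIV T := by
  rcases h.typeT with h' | h' | h' | h'
  · exact Or.inl h'
  · exact Or.inr (Or.inl h')
  · exact Or.inr (Or.inr h')
  · exact absurd h' (hF.noV T h.maxT)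

/-- (13.16) -/
theorem normalizer_W₁ (hG : Cfsg.IsMinSimpleOddOrder G) (hF : Facts13 G) (h47 : P1547 G)
    (h : Hyp13 S T W₁ W₂ U V) :
    normalizer (W₁ : Set G) = centralizer (W₁ : Set G) ∧
      centralizer (W₁ : Set G) = Cfsg.fittingHallOf T ⊔ W₂ := by
  obtain ⟨-, hp, hq, -, hel, hcard, hTI, hN⟩ := structure_S hG hF h.symm
  have h9 : Hyp9 T W₂ V W₁ := hyp9_of h.maxT h.dataT (typeT' hF h)
  have hfaith : V ⊓ centralizer (Cfsg.fittingHallOf T : Set G) = ⊥ :=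
    h47 T S W₂ W₁ V U h.maxT h.maxS h.dataT h.dataS h.symm.inter h.symm.one_II h.typeT h.typeS
  have k := kernel9_bot hF.s9ex hF.s9 h9 hq hcard
  have hVc := h9.U_comm hF.s9 k hfaith
  have hWQ : W₁ ≤ Cfsg.fittingHallOf T := h9.W₂_le_H
  have hQc : Cfsg.fittingHallOf T ≤ centralizer (W₁ : Set G) := fun x hx =>
    mem_centralizer_iff.mpr fun w hw =>
      congrArg Subtype.val (hel.1.is_comm.comm ⟨w, hWQ hw⟩ ⟨x, hx⟩)
  have hW₂c : W₂ ≤ centralizer (W₁ : Set G) := fun b hb => mem_centralizer_iff.mpr fun w hw =>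
    h.dataS.selfNormalizing.2.2.2.1 w hw b hb
  have hge : Cfsg.fittingHallOf T ⊔ W₂ ≤ centralizer (W₁ : Set G) := sup_le hQc hW₂c
  obtain ⟨w₀, hw₀, hw₀1⟩ := (Subgroup.bot_or_exists_ne_one W₁).resolve_left h.dataS.W₁_ne
  -- `N(W₁) ≤ T`
  have hA : ∀ w ∈ W₁, w ≠ 1 → w ∈ Cfsg.typeA0 T := by
    intro w hw hw1
    left
    unfold Cfsg.typeA
    split_ifs
    · exact ⟨Cfsg.Lib.FittingHall.fittingHallOf_le T (hWQ hw), hw1, w, hWQ hw, hw1, rfl⟩
    · refine ⟨h9.H_le_derived (hWQ hw), hw1, w, ?_, hw1, rfl⟩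
      unfold Cfsg.typeCore
      split_ifs
      · exact h9.H_le_derived (hWQ hw)
      · exact hWQ hw
  have hNT : normalizer (W₁ : Set G) ≤ T := by
    intro g hg
    by_contra hgT
    refine hw₀1 (hTI g (fun h' => hgT (hN ▸ h')) w₀ (hA w₀ hw₀ hw₀1) (hA _ ?_ ?_))
    · exact (mem_normalizer_iff.mp hg w₀).mp hw₀
    · exact fun e => hw₀1 (conj_eq_one_iff.mp e)
  -- the part in `V`
  have hbot : centralizer (W₁ : Set G) ⊓ V = ⊥ := by
    refine h9.fixing_trivial (D := centralizer (W₁ : Set G) ⊓ V) k hfaith hel.1 hVc inf_le_right ?_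
      (hWQ hw₀) hw₀1 fun d hd => (mem_centralizer_iff.mp hd.1 w₀ hw₀).symm
    refine s09_le_normalizer_of_conj fun b hb d hd => ⟨?_, ?_⟩
    · exact (centralizer (W₁ : Set G)).mul_mem ((centralizer (W₁ : Set G)).mul_mem (hW₂c hb) hd.1)
        ((centralizer (W₁ : Set G)).inv_mem (hW₂c hb))
    · exact (mem_normalizer_iff.mp (h9.W₁_le_normalizer_U hb) d).mp hd.2
  have hVN : V ⊓ normalizer (W₁ : Set G) = ⊥ := by
    obtain ⟨b, hb, hb1⟩ := (Subgroup.bot_or_exists_ne_one W₂).resolve_left h.dataT.W₁_ne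
    have hb' : b ∈ normalizer ((V ⊓ normalizer (W₁ : Set G) : Subgroup G) : Set G) := by
      refine (s09_le_normalizer_of_conj (X := V ⊓ normalizer (W₁ : Set G)) (A := W₂)
        fun b hb d hd => ⟨?_, ?_⟩) hb
      · exact (mem_normalizer_iff.mp (h9.W₁_le_normalizer_U hb) d).mp hd.1
      · exact (normalizer (W₁ : Set G)).mul_mem ((normalizer (W₁ : Set G)).mul_mem
          (Cfsg.Lib.Thompson.centralizer_le_normalizer W₁ (hW₂c hb)) hd.2)
          ((normalizer (W₁ : Set G)).inv_mem (Cfsg.Lib.Thompson.centralizer_le_normalizer W₁ (hW₂c hb)))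
    refine le_bot_iff.mp fun v hv => ?_
    obtain ⟨x, hx, rfl⟩ := exists_eq_inv_mul_conj hb'
      (fun x hx hc => h9.fpf' b hb hb1 x hx.1 hc) hv
    refine hbot ▸ (mem_inf.mpr ⟨mem_centralizer_iff.mpr fun w hw => ?_, hv.1⟩)
    have hbw : w * b = b * w := mem_centralizer_iff.mp (hW₂c hb) w hw
    have hxw : x * w * x⁻¹ ∈ W₁ := (mem_normalizer_iff.mp hx.2 w).mp hw
    have hbx : (x * w * x⁻¹) * b = b * (x * w * x⁻¹) := mem_centralizer_iff.mp (hW₂c hb) _ hxw
    have e1 : b⁻¹ * w * b = w := by rw [mul_assoc, hbw, inv_mul_cancel_left]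
    have e2 : b * x * w * x⁻¹ * b⁻¹ = x * w * x⁻¹ := by
      calc b * x * w * x⁻¹ * b⁻¹ = b * (x * w * x⁻¹) * b⁻¹ := by group
        _ = (x * w * x⁻¹) * b * b⁻¹ := by rw [hbx]
        _ = x * w * x⁻¹ := by group
    have e3 : (b * x * b⁻¹) * w * (b * x * b⁻¹)⁻¹ = x * w * x⁻¹ := by
      calc (b * x * b⁻¹) * w * (b * x * b⁻¹)⁻¹ = b * x * (b⁻¹ * w * b) * x⁻¹ * b⁻¹ := by group
        _ = x * w * x⁻¹ := by rw [e1, e2]
    calc w * (x⁻¹ * (b * x * b⁻¹)) = x⁻¹ * (x * w * x⁻¹) * (b * x * b⁻¹) := by group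
      _ = x⁻¹ * ((b * x * b⁻¹) * w * (b * x * b⁻¹)⁻¹) * (b * x * b⁻¹) := by rw [e3]
      _ = x⁻¹ * (b * x * b⁻¹) * w := by group
  have hle : normalizer (W₁ : Set G) ≤ Cfsg.fittingHallOf T ⊔ W₂ := by
    intro g hg
    obtain ⟨a, ha, b, hb, rfl⟩ := h.dataT.W₁_compl.2.2.2 g (hNT hg)
    obtain ⟨c, hc, v, hv, rfl⟩ := h.dataT.U_compl.2.2.2 a ha
    have hcN := Cfsg.Lib.Thompson.centralizer_le_normalizer W₁ (hQc hc)
    have hbN := Cfsg.Lib.Thompson.centralizer_le_normalizer W₁ (hW₂c hb)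
    have hvN : v ∈ normalizer (W₁ : Set G) := by
      have := mul_mem (mul_mem (inv_mem hcN) hg) (inv_mem hbN)
      simpa [mul_assoc] using this
    have : v ∈ V ⊓ normalizer (W₁ : Set G) := ⟨hv, hvN⟩
    rw [hVN, mem_bot] at this
    rw [this, mul_one]
    exact mul_mem_sup hc hb
  have hcn : centralizer (W₁ : Set G) ≤ normalizer (W₁ : Set G) :=
    Cfsg.Lib.Thompson.centralizer_le_normalizer W₁
  exact ⟨le_antisymm (hle.trans hge) hcn, le_antisymm (hcn.trans hle) hge⟩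

/-- Statement 1548 from the sections before. -/
theorem p1548_of (hG : Cfsg.IsMinSimpleOddOrder G) (hF : Facts13 G) (h47 : P1547 G) : P1548 G :=
  fun _ _ _ _ _ _ hS hT hSP hTP hST hII hS25 hT25 =>
    normalizer_W₁ hG hF h47 ⟨hS, hT, hSP, hTP, hST, hS25, hT25, hII⟩

end Cfsg.Agent.PF
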