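import Cfsg.Agent.OddChar.PF.S14Side
import Cfsg.Agent.OddChar.PF.S13Norm
import Cfsg.Agent.OddChar.PF.S13Image

/-!
# Section 14: the two sides of the data of the section
-/

set_option linter.style.haveILetI false
set_option linter.unusedSectionVars false
set_option linter.unusedVariables false
set_option autoImplicit false

universe u

namespace Cfsg.Agent.PF

open Subgroup

variable {G : Type u} [Group G] [Fintype G] {S T W₁ W₂ U V : Subgroup G}

/-- Each of the paired maximal subgroups is a side; for the other one use `Hyp13.symm`. -/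
theorem Hyp13.side14 (hG : Cfsg.IsMinSimpleOddOrder G) (hF : Facts13 G) (h47 : P1547 G)
    (h : Hyp13 S T W₁ W₂ U V) : Side S W₁ U W₂ := by
  obtain ⟨ht, hq, hp, -, hel, hc, -, -⟩ := structure_S hG hF h
  have d := side13 hG hF h
  refine ⟨h.maxS, h.dataS, ht, fun x hx => d.centralizer_le' hx, hq, hp, fun e => ?_, hel, hc,
    h47 S T W₁ W₂ U V h.maxS h.maxT h.dataS h.dataT h.inter h.one_II h.typeS h.typeT, ?_⟩
  · have hco : (Nat.card (Cfsg.fittingHallOf S)).Coprime (Nat.card W₁) :=
      d.nine.coprime_H_UW.coprime_dvd_right (dvd_mul_left _ _)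
    rw [hc, e] at hco
    exact hp.ne_one (Nat.eq_one_of_dvd_coprimes hco (dvd_pow_self _ hp.ne_zero) dvd_rfl)
  · exact (p1548_of hG hF h47 T S W₂ W₁ V U h.maxT h.maxS h.dataT h.dataS h.symm.inter
      h.one_II.symm h.typeT h.typeS).2

end Cfsg.Agent.PF
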