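import Cfsg.Agent.OddChar.PF.S14Budget
import Cfsg.Agent.OddChar.PF.S14Arith
import Cfsg.Agent.OddChar.PF.S14Free
import Cfsg.Agent.OddChar.PF.S14Ctx
import Cfsg.Agent.S1502

/-!
# Section 14: the orders of `U` and `V`

For `q < p`: `|V| = (q ^ p - 1) / (q - 1)`, and `|U|` is `(p ^ q - 1) / (p - 1)` or a `q`-th part of it.
-/

set_option linter.style.haveILetI false
set_option linter.unusedSectionVars false
set_option linter.unusedVariables false
set_option autoImplicit false

universe u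

namespace Cfsg.Agent.PF

open Subgroup

variable {G : Type u} [Group G] [Fintype G] {S T W₁ W₂ U V : Subgroup G}

/-- A free action: either `|U| (p - 1)` divides `p ^ q - 1` or `|U|` is at most `(p - 1) / 2`. -/
theorem card_cases (hG : Cfsg.IsMinSimpleOddOrder G) (hF : Facts13 G) (h47 : P1547 G)
    (h : Hyp13 S T W₁ W₂ U V) (hfree : FreeOn U (Cfsg.fittingHallOf S)) :
    Nat.card U * (Nat.card W₂ - 1) ∣ Nat.card W₂ ^ Nat.card W₁ - 1 ∨
      2 * Nat.card U ≤ Nat.card W₂ - 1 := by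
  have d := side13 hG hF h
  have hfaith : centMod U (Cfsg.fittingHallOf S) ⊥ = ⊥ := d.centMod_eq.trans
    (h47 S T W₁ W₂ U V h.maxS h.maxT h.dataS h.dataT h.inter h.one_II h.typeS h.typeT)
  have hcard : Nat.card (Cfsg.fittingHallOf S) =
      Nat.card W₂ ^ Nat.card W₁ * Nat.card (⊥ : Subgroup G) := by
    rw [Subgroup.card_bot, mul_one, d.card_H]
  by_cases hg : IsGalois9 S U ⊥
  · left
    obtain ⟨hdvd, -, -⟩ := s9Galois G S W₁ U W₂ d.nine ⊥ d.kernel hg _ d.p_prime hcard
    rwa [hfaith, Subgroup.relIndex_bot_left] at hdvd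
  · right
    obtain ⟨H₁, a, hl⟩ := s9NonGalois G hG.1 S W₁ U W₂ d.nine ⊥ d.kernel hg _ d.p_prime hcard
    have hbot : centMod U H₁ ⊥ = ⊥ := by
      obtain ⟨x, hx, hx1⟩ := (Subgroup.bot_or_exists_ne_one H₁).resolve_left (fun e => by
        have := hl.card
        rw [e, Subgroup.card_bot, mul_one] at this
        exact d.p_prime.ne_one this.symm)
      refine le_bot_iff.mp (sSup_le ?_)
      rintro X ⟨hXU, hXc⟩ y hy
      rw [mem_bot]
      by_contra hy1
      have hc := mem_bot.mp (hXc (commutator_mem_commutator hx hy))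
      exact hx1 (hfree y (hXU hy) hy1 x (hl.le hx)
        (commutatorElement_eq_one_iff_mul_comm.mp hc).symm)
    have hi := hl.index
    rw [hbot, Subgroup.relIndex_bot_left] at hi
    rw [hi]
    exact hl.two_mul_le

/-- `|U| ≥ 7` when `3 ≤ q`. -/
theorem Side.u_ge {M : Subgroup G} (s : Side M W₁ U W₂) (hG : Cfsg.IsMinSimpleOddOrder G) :
    2 * Nat.card W₁ + 1 ≤ Nat.card U := by
  have h1 := s.u_gt_one
  obtain ⟨j, hj⟩ := (Nat.modEq_iff_dvd' (by omega)).mp s.u_modEq.symm
  obtain ⟨a, ha⟩ := s.odd_u hG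
  obtain ⟨b, hb⟩ := s.odd_q hG
  rcases (show j = 0 ∨ j = 1 ∨ 2 ≤ j by omega) with rfl | rfl | hj2
  · omega
  · omega
  · have := Nat.mul_le_mul_left (Nat.card W₁) hj2
    omega

theorem Side.three_le {M : Subgroup G} (s : Side M W₁ U W₂) (hG : Cfsg.IsMinSimpleOddOrder G) :
    3 ≤ Nat.card W₁ := by
  obtain ⟨b, hb⟩ := s.odd_q hG
  have := s.q_prime.two_le
  omega

theorem Side.card_le {M : Subgroup G} [Fintype M] (s : Side M W₁ U W₂) :
    (Nat.card W₂ : ℝ) ^ Nat.card W₁ * Nat.card U * Nat.card W₁ ≤ Nat.card G := by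
  have h := Subgroup.card_le_card_group (H := M)
  rw [s.card_M] at h
  exact_mod_cast h

/-- The orders of `U` and `V`. -/
theorem orders (hG : Cfsg.IsMinSimpleOddOrder G) (hF : Facts13 G) (h47 : P1547 G)
    (h : Hyp13 S T W₁ W₂ U V) (hqp : Nat.card W₁ < Nat.card W₂)
    (c : Cfg14 S T W₁ W₂ U V) {n m : ℕ}
    (hn : n * (Nat.card W₂ - 1) = Nat.card W₂ ^ Nat.card W₁ - 1)
    (hm : m * (Nat.card W₁ - 1) = Nat.card W₁ ^ Nat.card W₂ - 1)
    (hfS : FreeOn U (Cfsg.fittingHallOf S)) (hfT : FreeOn V (Cfsg.fittingHallOf T)) :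
    Nat.card V = m ∧ (n = Nat.card U ∨ n = Nat.card W₁ * Nat.card U) := by
  classical
  haveI := Fintype.ofFinite S
  haveI := Fintype.ofFinite T
  have s := c.sideS
  have t := c.sideT
  obtain ⟨η, hη⟩ := (Cfsg.Agent.S1502.result W₁ W₂ s.dataP.selfNormalizing (s.odd_W hG))
  obtain ⟨b, b', hb⟩ := c.exists_link hG hη
  have hq3 := s.three_le hG
  have hu := s.u_ge hG
  have hv := t.u_ge hG
  have hp2 : Nat.card W₁ + 2 ≤ Nat.card W₂ := by
    obtain ⟨a, ha⟩ := s.odd_q hG
    obtain ⟨a', ha'⟩ := s.odd_p hG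
    omega
  have hgS := s.card_le
  have hn2 := Arith14.n_sq_le hq3 (show 2 ≤ Nat.card W₂ by omega) hn
  have hun : Nat.card U ≤ n := by
    rcases card_cases hG hF h47 h hfS with hd | hd
    · have hle := Nat.le_of_dvd (by
        have := Nat.one_lt_pow (show Nat.card W₁ ≠ 0 by omega) (show 1 < Nat.card W₂ by omega)
        omega) hd
      rw [← hn] at hle
      exact Nat.le_of_mul_le_mul_right hle (by omega)
    · omega
  -- `v = m`
  have hvm : Nat.card V = m := by
    rcases card_cases hG hF h47 h.symm hfT with hd | hd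
    swap
    · exfalso
      omega
    rw [← hm] at hd
    obtain ⟨k, hk⟩ := Nat.dvd_of_mul_dvd_mul_right (by omega) hd
    by_contra hne
    have hm1 : m ≡ 1 [MOD Nat.card W₂] := by
      rw [Arith14.eq_geom (by omega) hm]
      refine Arith14.geom_modEq_one s.p_prime fun h1 => ?_
      have := h1.eq_of_lt_of_lt hqp s.p_prime.one_lt
      omega
    have hk1 : k ≡ 1 [MOD Nat.card W₂] := by
      have h1 : Nat.card V * k ≡ k [MOD Nat.card W₂] := by simpa using t.u_modEq.mul_right k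
      rw [← hk] at h1
      exact h1.symm.trans hm1
    have hmo : Odd m := by
      rw [Arith14.eq_geom (by omega) hm]
      exact Arith14.odd_geom (s.odd_q hG) (s.odd_p hG)
    have hko : Odd k := Nat.Odd.of_mul_right (hk ▸ hmo)
    have hk0 : 1 < k := by
      rcases (show k = 1 ∨ 1 < k by have := hko.pos; omega) with rfl | h2
      · exact absurd (by omega) hne
      · exact h2
    obtain ⟨j, hj⟩ := (Nat.modEq_iff_dvd' (by omega)).mp hk1.symm
    have hk2 : 2 * Nat.card W₂ + 1 ≤ k := by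
      obtain ⟨a, ha⟩ := hko
      obtain ⟨a', ha'⟩ := s.odd_p hG
      rcases (show j = 0 ∨ j = 1 ∨ 2 ≤ j by omega) with rfl | rfl | hj2
      · omega
      · omega
      · have := Nat.mul_le_mul_left (Nat.card W₂) hj2
        omega
    have hle : Nat.card V * (2 * Nat.card W₂ + 1) * (Nat.card W₁ - 1) ≤
        Nat.card W₁ ^ Nat.card W₂ - 1 := by
      rw [← hm, hk]
      exact Nat.mul_le_mul_right _ (Nat.mul_le_mul_left _ hk2)
    have hlt : (Nat.card W₁ - 1) * Nat.card V < Nat.card W₁ ^ Nat.card W₂ - 1 := by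
      rw [← hm, hk, mul_comm]
      exact Nat.mul_lt_mul_of_pos_right (lt_mul_of_one_lt_right (by omega) hk0) (by omega)
    have hci := c.swap.count_ineq hG (family_swap hη) (c.link_swap hb) hfT hfS hlt
    exact Arith14.v_arith hq3 hp2 hn (by omega) hun hle (by omega) hgS hci
  refine ⟨hvm, ?_⟩
  have hlow : Nat.card U < n → (Nat.card W₁ = 3 →
      48 * (Nat.card W₂ ^ Nat.card W₁ - 1) ≤ 100 * (Nat.card W₂ * Nat.card W₁ * Nat.card U)) ∧
      (5 ≤ Nat.card W₁ →
      73 * (Nat.card W₂ ^ Nat.card W₁ - 1) ≤ 100 * (Nat.card W₂ * Nat.card W₁ * Nat.card U)) := by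
    intro hlt
    have hlt' : (Nat.card W₂ - 1) * Nat.card U < Nat.card W₂ ^ Nat.card W₁ - 1 := by
      rw [← hn, mul_comm]
      exact Nat.mul_lt_mul_of_pos_right hlt (by omega)
    exact Arith14.u_lower hq3 hp2 (by omega) (hvm ▸ hm) hgS
      (c.count_ineq hG hη hb hfS hfT hlt')
  rcases card_cases hG hF h47 h hfS with hd | hd
  · rw [← hn] at hd
    obtain ⟨k, hk⟩ := Nat.dvd_of_mul_dvd_mul_right (by omega) hd
    rcases Arith14.u_galois s.p_prime s.q_prime hq3 hp2 (s.odd_p hG) hn (hk.trans (mul_comm _ _))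
      s.u_gt_one s.u_modEq hlow with rfl | rfl
    · left; rw [hk, mul_one]
    · right; rw [hk, mul_comm]
  · exact (Arith14.u_nongalois hq3 (s.odd_q hG) hp2 hn hd (hlow (by omega))).elim

end Cfsg.Agent.PF
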