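import Cfsg.Agent.OddChar.PF.S14Own
import Cfsg.Agent.OddChar.PF.S14Numeric
import Cfsg.Agent.OddChar.PF.S14Local
import Cfsg.Agent.OddChar.PF.S14Field

/-!
# Section 14: the case analysis

For `q < p` we obtain `|U| (p - 1) = p ^ q - 1` and a conjugate of `W₂` by an element of `T_F`
normalising `U`: the hypothesis of the endgame, so P1544.
-/

set_option linter.style.haveILetI false
set_option linter.unusedSectionVars false
set_option linter.unusedVariables false
set_option autoImplicit false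

universe u

namespace Cfsg.Agent.PF

open Subgroup

variable {G : Type u} [Group G] [Fintype G] {S T W₁ W₂ U V : Subgroup G}

attribute [local instance] Piece.fin

theorem Piece.h_eq_card (P : Piece G) (hN : P.N = ⊥) : P.h = Nat.card P.K := by
  rw [Piece.h, hN, bot_subgroupOf, relIndex_bot_left]
  exact Nat.card_congr (subgroupOfEquivOfLe P.spec.K_le).toEquiv

theorem Piece.e_mul_card (P : Piece G) : P.e * Nat.card P.K = Nat.card P.L := by
  rw [Piece.e, ← Nat.card_congr (subgroupOfEquivOfLe P.spec.K_le).toEquiv]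
  exact Subgroup.index_mul_card _

/-- The piece of a maximal subgroup of Type I. -/
theorem Cfg14.piece_typeI (c : Cfg14 S T W₁ W₂ U V) {L : Subgroup G} (hL : IsCoatom L)
    (hI : IsTypeI' L) :
    ∃ i, (∃ g : G, Cfsg.fittingHallOf (c.piece i).L = TypeMap.im (MulAut.conj g)
        (Cfsg.fittingHallOf L)) ∧
      (c.piece i).K = Cfsg.fittingHallOf (c.piece i).L ∧
      (c.piece i).h = Nat.card (Cfsg.fittingHallOf L) ∧
      (c.piece i).e = ((Cfsg.fittingHallOf L).subgroupOf L).index := by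
  obtain ⟨i, ⟨g, hg⟩, hK, hN⟩ := c.hasI L hL hI
  have hF : Cfsg.fittingHallOf (c.piece i).L =
      TypeMap.im (MulAut.conj g) (Cfsg.fittingHallOf L) := by
    rw [hg]; exact TypeMap.fittingHallOf_im _ _
  have hc : Nat.card (c.piece i).K = Nat.card (Cfsg.fittingHallOf L) := by
    rw [hK, hF, TypeMap.card_im]
  refine ⟨i, ⟨g, hF⟩, hK, by rw [(c.piece i).h_eq_card hN, hc], ?_⟩
  have h1 := (c.piece i).e_mul_card
  rw [hc, show Nat.card (c.piece i).L = Nat.card L by rw [hg]; exact TypeMap.card_im _ _,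
    ← Subgroup.index_mul_card ((Cfsg.fittingHallOf L).subgroupOf L),
    Nat.card_congr (subgroupOfEquivOfLe (Cfsg.Lib.FittingHall.fittingHallOf_le L)).toEquiv] at h1
  exact Nat.eq_of_mul_eq_mul_right Nat.card_pos h1

/-- A large free `U` is cyclic. -/
theorem cyclic_of_big (hG : Cfsg.IsMinSimpleOddOrder G) (hF : Facts13 G) (h47 : P1547 G)
    (h : Hyp13 S T W₁ W₂ U V) (hfree : FreeOn U (Cfsg.fittingHallOf S))
    (hbig : ¬ 2 * Nat.card U ≤ Nat.card W₂ - 1) : IsCyclic U := by
  have d := side13 hG hF h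
  have hfaith : centMod U (Cfsg.fittingHallOf S) ⊥ = ⊥ := d.centMod_eq.trans
    (h47 S T W₁ W₂ U V h.maxS h.maxT h.dataS h.dataT h.inter h.one_II h.typeS h.typeT)
  have hcard : Nat.card (Cfsg.fittingHallOf S) =
      Nat.card W₂ ^ Nat.card W₁ * Nat.card (⊥ : Subgroup G) := by
    rw [Subgroup.card_bot, mul_one, d.card_H]
  have hg : IsGalois9 S U ⊥ := by
    by_contra hg
    obtain ⟨H₁, a, hl⟩ := s9NonGalois G hG.1 S W₁ U W₂ d.nine ⊥ d.kernel hg _ d.p_prime hcard
    have hbot : centMod U H₁ ⊥ = ⊥ := by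
      obtain ⟨x, hx, hx1⟩ := (Subgroup.bot_or_exists_ne_one H₁).resolve_left (fun e => by
        have := hl.card
        rw [e, Subgroup.card_bot, mul_one] at this
        exact d.p_prime.ne_one this.symm)
      refine le_bot_iff.mp (sSup_le ?_)
      rintro X ⟨hXU, hXc⟩ y hy
      rw [mem_bot]
      by_contra hy1
      have hc := mem_bot.mp (hXc (commutator_mem_commutator hx hy))
      exact hx1 (hfree y (hXU hy) hy1 x (hl.le hx)
        (commutatorElement_eq_one_iff_mul_comm.mp hc).symm)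
    have hi := hl.index
    rw [hbot, Subgroup.relIndex_bot_left] at hi
    exact hbig (hi ▸ hl.two_mul_le)
  obtain ⟨-, -, F, iF, iFin, f, ψ, -, -, -, -, -, hψmul, hψ1, -, -, -⟩ :=
    s9Galois G S W₁ U W₂ d.nine ⊥ d.kernel hg _ d.p_prime hcard
  let φ : U →* F :=
    { toFun := fun x => ψ x
      map_one' := (hψ1 1 (one_mem U)).mpr (one_mem _)
      map_mul' := fun a b => hψmul a a.2 b b.2 }
  refine isCyclic_of_injective_ringHom φ fun a b hab => ?_
  have e : ψ ((a * b⁻¹ : U) : G) = 1 := by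
    show φ (a * b⁻¹) = 1
    rw [map_mul, hab, ← map_mul, mul_inv_cancel, map_one]
  have := (hψ1 _ (a * b⁻¹).2).mp e
  rw [hfaith, mem_bot] at this
  exact mul_inv_eq_one.mp (Subtype.ext this)

theorem one_le_sq_of_ne {x : ℤ} (h : x ≠ 0) : (1 : ℝ) ≤ (x : ℝ) ^ 2 := by
  have : (1 : ℤ) ≤ x ^ 2 := by
    have : 0 < x ^ 2 := by positivity
    omega
  exact_mod_cast this

theorem ne_zero_of_odd {x : ℤ} (h : Odd x) : x ≠ 0 := fun e => by
  rw [e] at h; exact Int.not_odd_zero h

namespace Cfg14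

attribute [local instance] Piece.fin

variable [Fintype S] [Fintype T] (c : Cfg14 S T W₁ W₂ U V) (hG : Cfsg.IsMinSimpleOddOrder G)
  {η : (↥(W₁ ⊔ W₂) →* ℂˣ) → (G → ℂ)} (hη : Cfsg.IsCyclicTIFamily W₁ W₂ η)
  {b b' : c.ι → ℤ} (hb : Link14 c η b b')
include hG hη hb

/-- An odd coefficient of `τα` bounds the order of the kernel of the piece. -/
theorem alpha_bound (i : c.ι) (he : Even (b i)) :
    ((c.piece i).h : ℝ) - 1 ≤
      ((c.piece i).e : ℝ) * (((Nat.card U : ℝ) - 1) / Nat.card W₁) := by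
  obtain ⟨x, hx, hsum⟩ := c.alpha_room hG hη hb
  letI := c.fin
  have hxi : x i ≠ 0 := fun e => by
    have := hx i
    rw [e, zero_add] at this
    exact Int.not_even_iff_odd.mpr this he
  have hpos : ∀ k, 0 ≤ (((c.piece k).h : ℝ) - 1) / (c.piece k).e := fun k => by
    have := (c.piece k).h_gt_one hG
    have h1 : (1 : ℝ) ≤ (c.piece k).h := by exact_mod_cast this.le
    exact div_nonneg (by linarith) (Nat.cast_nonneg _)
  have h1 : (x i : ℝ) ^ 2 * ((((c.piece i).h : ℝ) - 1) / (c.piece i).e) ≤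
      ((Nat.card U : ℝ) - 1) / Nat.card W₁ :=
    le_trans (Finset.single_le_sum (fun k _ => mul_nonneg (sq_nonneg (x k : ℝ)) (hpos k))
      (Finset.mem_univ i)) hsum
  have h2 := le_trans (le_mul_of_one_le_left (hpos i) (one_le_sq_of_ne hxi)) h1
  rw [div_le_iff₀ (Nat.cast_pos.mpr (c.piece i).e_pos)] at h2
  linarith

/-- The part of the room of a piece taken by its own coefficients. -/
theorem room_self (i : c.ι) :
    ((Nat.card W₂ : ℝ) - 1) * (b i : ℝ) ^ 2 + ((Nat.card W₁ : ℝ) - 1) * (b' i : ℝ) ^ 2 +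
        ((Nat.card W₁ : ℝ) - 1) * ((Nat.card W₂ : ℝ) - 1) * ((b i : ℝ) + b' i - 1) ^ 2 ≤
      ((c.piece i).e : ℝ) - 1 := by
  classical
  letI := c.fin
  choose x hx using fun k => Cfsg.Lib.Coherence.inner_int (c.piece i).beta_gen
    (c.piece k).zt_signed.generalized
  have h := c.room hG hη hb i x fun k _ => hx k
  refine le_trans (le_add_of_nonneg_right (Finset.sum_nonneg fun k _ => ?_)) h
  have h1 : (1 : ℝ) ≤ (c.piece k).h := by exact_mod_cast ((c.piece k).h_gt_one hG).le
  exact mul_nonneg (sq_nonneg _) (div_nonneg (by linarith) (Nat.cast_nonneg _))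

/-- A piece of index `p` has coefficients `(1, 0)` or `(0, 1)`. -/
theorem index_p (i : c.ι) (hlt : Nat.card W₁ < Nat.card W₂) (he : (c.piece i).e = Nat.card W₂) :
    (b i = 1 ∧ b' i = 0) ∨ b i = 0 := by
  have h := c.room_self hG hη hb i
  rw [he] at h
  have hq : (3 : ℝ) ≤ Nat.card W₁ := by exact_mod_cast c.sideS.three_le hG
  have hp : (Nat.card W₁ : ℝ) + 1 ≤ Nat.card W₂ := by exact_mod_cast hlt
  set p : ℝ := (Nat.card W₂ : ℝ)
  set q : ℝ := (Nat.card W₁ : ℝ)
  have hz : b i + b' i - 1 = 0 := by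
    by_contra hne
    have h1 : (1 : ℝ) ≤ ((b i + b' i - 1 : ℤ) : ℝ) ^ 2 := one_le_sq_of_ne hne
    push_cast at h1
    nlinarith [mul_le_mul_of_nonneg_left h1 (show (0 : ℝ) ≤ (q - 1) * (p - 1) by nlinarith)]
  by_cases h0 : b i = 0
  · exact Or.inr h0
  left
  have hb1 : (b i : ℝ) ^ 2 ≤ 1 := by
    nlinarith [sq_nonneg ((b' i : ℝ)), sq_nonneg ((b i : ℝ) + b' i - 1),
      mul_nonneg (mul_nonneg (show (0:ℝ) ≤ q - 1 by linarith) (show (0:ℝ) ≤ p - 1 by linarith))
        (sq_nonneg ((b i : ℝ) + b' i - 1))]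
  have hb2 : b i ^ 2 ≤ 1 := by exact_mod_cast hb1
  have hb3 : b i = 1 ∨ b i = -1 := by
    have : -1 ≤ b i ∧ b i ≤ 1 := ⟨by nlinarith, by nlinarith⟩
    omega
  rcases hb3 with e | e
  · exact ⟨e, by omega⟩
  · exfalso
    have e' : b' i = 2 := by omega
    rw [e, e'] at h
    push_cast at h
    nlinarith

end Cfg14

/-- A number `r < p` with the congruences of `h / u` is `1`. -/
theorem ratio_one {p q u n r : ℕ} (hp : p.Prime) (hq : q.Prime) (hlt : q < p)
    (hk : n = u ∨ n = q * u) (hn : n ≡ 1 [MOD p]) (hu : u ≡ 1 [MOD q])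
    (hh : r * u ≡ 1 [MOD p * q]) (hr : r < p) : r = 1 := by
  have hrp : r * u ≡ 1 [MOD p] := hh.of_dvd (dvd_mul_right _ _)
  rcases hk with rfl | rfl
  · have h1 : r * n ≡ r [MOD p] := by simpa using hn.mul_left r
    exact (h1.symm.trans hrp).eq_of_lt_of_lt hr hp.one_lt
  · exfalso
    have h1 : r * (q * u) ≡ r [MOD p] := by simpa using hn.mul_left r
    have h2 : r * (q * u) ≡ q [MOD p] := by rw [mul_left_comm]; simpa using hrp.mul_left q
    have e : r = q := (h1.symm.trans h2).eq_of_lt_of_lt hr hlt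
    have h3 : r * u ≡ r [MOD q] := by simpa using hu.mul_left r
    have h4 := h3.symm.trans (hh.of_dvd (dvd_mul_left _ _))
    rw [e] at h4
    have h5 : q % q = 1 % q := h4
    rw [Nat.mod_self, Nat.one_mod_eq_one.mpr hq.ne_one] at h5
    omega

set_option maxHeartbeats 4000000 in
/-- Section 14, the two facts. -/
theorem full14_of (hG : Cfsg.IsMinSimpleOddOrder G) (hF : Facts13 G) (h47 : P1547 G) : Full14 G := by
  classical
  intro S T W₁ W₂ U V h hqp
  haveI := Fintype.ofFinite S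
  haveI := Fintype.ofFinite T
  obtain ⟨c⟩ := exists_cfg14 hG hF h47 h
  have s := c.sideS
  have t := c.sideT
  have hII : Cfsg.IsOfTypeII S := (structure_S hG hF h).2.2.2.1 hqp
  have h9 : Hyp9 S W₁ U W₂ := s.hyp9
  have hq3 := s.three_le hG
  have hp2 : Nat.card W₁ + 2 ≤ Nat.card W₂ := by
    obtain ⟨a, ha⟩ := s.odd_q hG
    obtain ⟨a', ha'⟩ := s.odd_p hG
    omega
  obtain ⟨n, hn⟩ : ∃ n, n * (Nat.card W₂ - 1) = Nat.card W₂ ^ Nat.card W₁ - 1 := by
    obtain ⟨n, hn⟩ := Nat.sub_one_dvd_pow_sub_one (Nat.card W₂) (Nat.card W₁)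
    exact ⟨n, by rw [hn, mul_comm]⟩
  obtain ⟨m, hm⟩ : ∃ m, m * (Nat.card W₁ - 1) = Nat.card W₁ ^ Nat.card W₂ - 1 := by
    obtain ⟨m, hm⟩ := Nat.sub_one_dvd_pow_sub_one (Nat.card W₁) (Nat.card W₂)
    exact ⟨m, by rw [hm, mul_comm]⟩
  have hn1 : n ≡ 1 [MOD Nat.card W₂] :=
    Arith14.eq_geom (show 2 ≤ Nat.card W₂ by omega) hn ▸ Arith14.geom_modEq_self (by omega)
  have hm1 : m ≡ 1 [MOD Nat.card W₂] := by
    rw [Arith14.eq_geom (show 2 ≤ Nat.card W₁ by omega) hm]
    refine Arith14.geom_modEq_one s.p_prime fun h1 => ?_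
    have := h1.eq_of_lt_of_lt hqp s.p_prime.one_lt
    omega
  -- the action on `T_F` is free
  have hfT : FreeOn V (Cfsg.fittingHallOf T) := t.type.elim
    (fun h2 => free_of_gt hG hF h47 h.symm h2 hqp) fun h3 => free_typeIII hG hF h47 h.symm h3
  obtain ⟨η, hη⟩ := (Cfsg.Agent.S1502.result W₁ W₂ s.dataP.selfNormalizing (s.odd_W hG))
  obtain ⟨b, b', hb⟩ := c.exists_link hG hη
  have hb2 := c.link_swap hb
  have hη2 := family_swap hη
  -- a maximal subgroup over the normaliser of `U`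
  have hNU : normalizer (U : Set G) ≠ ⊤ := by
    intro htop
    have hnU : U.Normal := Subgroup.normalizer_eq_top_iff.mp htop
    rcases hG.2.1.eq_bot_or_eq_top_of_normal U hnU with e | e
    · exact h9.U_ne e
    · exact h.maxS.1 (top_le_iff.mp (e ▸ h9.U_le))
  obtain ⟨L, hL, hNL⟩ := (eq_top_or_exists_le_coatom _).resolve_left hNU
  have hI := typeI_over hG hF h47 h hII hL hNL
  obtain ⟨i, ⟨gi, hgi⟩, -, hih, hie⟩ := c.piece_typeI hL hI
  obtain ⟨-, hUL, hcase⟩ := support_of_typeII hG hF h47 h hII hL hNL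
  rcases hcase with ⟨h1, h2⟩ | ⟨y, hy, h1, h2⟩
  · -- the complement is not `W₁` alone
    exfalso
    obtain ⟨hidx, hlt⟩ := local_case_one hG hF h47 h hII hL hNL h1 h2
    have he : (c.piece i).e = Nat.card W₁ := hie.trans hidx
    have hb0 : b i = 0 := by
      by_contra h0
      have hr := c.room_self hG hη hb i
      rw [he] at hr
      have := one_le_sq_of_ne h0
      have hq : (3 : ℝ) ≤ Nat.card W₁ := by exact_mod_cast hq3
      have hp : (Nat.card W₁ : ℝ) + 2 ≤ Nat.card W₂ := by exact_mod_cast hp2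
      nlinarith [sq_nonneg (b' i : ℝ), mul_nonneg (mul_nonneg
        (show (0 : ℝ) ≤ (Nat.card W₁ : ℝ) - 1 by linarith)
        (show (0 : ℝ) ≤ (Nat.card W₂ : ℝ) - 1 by linarith)) (sq_nonneg ((b i : ℝ) + b' i - 1))]
    have hab := c.alpha_bound hG hη hb i (by rw [hb0]; exact Even.zero)
    rw [he, mul_div_cancel₀ _ (Nat.cast_ne_zero.mpr Nat.card_pos.ne'), hih] at hab
    have hcl : Nat.card U < Nat.card (Cfsg.fittingHallOf L) := by
      refine lt_of_le_of_ne (Subgroup.card_le_of_le hlt.le) fun e => hlt.ne ?_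
      exact eq_of_le_of_card_ge hlt.le e.ge
    have hcl' : (Nat.card U : ℝ) < Nat.card (Cfsg.fittingHallOf L) := by exact_mod_cast hcl
    linarith
  -- the complement is `W₁ W₂^y`
  obtain ⟨hidx, hmod⟩ := local_case_two hG hF h47 h hII hL hNL hy h1 h2
  have hfS := free_typeII hG hF h47 h hII hL hNL hy h1 h2
  obtain ⟨hvm, hk⟩ := orders hG hF h47 h hqp c hn hm hfS hfT
  have hun : Nat.card U ≤ n := by
    rcases hk with e | e
    · exact e.ge
    · rw [e]; exact Nat.le_mul_of_pos_left _ Nat.card_pos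
  have finish : (Cfsg.fittingHallOf L = U ∨ IsCyclic (Cfsg.fittingHallOf L)) →
      Nat.card U * (Nat.card W₂ - 1) = Nat.card W₂ ^ Nat.card W₁ - 1 ∧
        ∃ y ∈ Cfsg.fittingHallOf T,
          W₂.map (MulAut.conj y).toMonoidHom ≤ normalizer (U : Set G) := by
    intro hc
    obtain ⟨hle, hu1⟩ := local_normalizes hG hF h47 h hII hL hNL hy h1 h2 hc
    refine ⟨?_, y, hy, hle⟩
    rcases hk with e | e
    · rw [← hn, e]
    · exfalso
      have h3 : Nat.card W₁ * Nat.card U ≡ Nat.card W₁ [MOD Nat.card W₂] := by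
        simpa using hu1.mul_left (Nat.card W₁)
      rw [← e] at h3
      have := (h3.symm.trans hn1).eq_of_lt_of_lt hqp s.p_prime.one_lt
      omega
  by_cases hLU : Cfsg.fittingHallOf L = U
  · exact finish (Or.inl hLU)
  obtain ⟨r, hr⟩ := Subgroup.card_dvd_of_le hUL
  set hh : ℕ := Nat.card (Cfsg.fittingHallOf L) with hhdef
  have hho : Odd hh := hG.1.of_dvd_nat (Subgroup.card_subgroup_dvd_card _)
  have hr' : hh = r * Nat.card U := hr.trans (mul_comm _ _)
  have hro : Odd r := Nat.Odd.of_mul_left (hr' ▸ hho)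
  have hr1 : 1 < r := by
    rcases (show r = 1 ∨ 1 < r by have := hro.pos; omega) with rfl | h2'
    · exact absurd (eq_of_le_of_card_ge hUL (by rw [← hhdef, hr, mul_one])).symm hLU
    · exact h2'
  have hmod' : r * Nat.card U ≡ 1 [MOD Nat.card W₂ * Nat.card W₁] := hr' ▸ hmod
  have hee : (c.piece i).e = Nat.card W₂ * Nat.card W₁ := hie.trans hidx
  have hp0 : (0 : ℝ) < Nat.card W₂ := Nat.cast_pos.mpr Nat.card_pos
  have hq0 : (0 : ℝ) < Nat.card W₁ := Nat.cast_pos.mpr Nat.card_pos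
  have hqR : (3 : ℝ) ≤ Nat.card W₁ := by exact_mod_cast hq3
  have hpR : (Nat.card W₁ : ℝ) + 2 ≤ Nat.card W₂ := by exact_mod_cast hp2
  have hnm := Arith14.n_lt_m hq3 hqp hn hm
  have hunR : (Nat.card U : ℝ) ≤ n := by exact_mod_cast hun
  -- no piece of index `p` and large kernel has `b = 0`
  have hno : ∀ k, (c.piece k).e = Nat.card W₂ → m ≤ (c.piece k).h → b k ≠ 0 := by
    intro k hek hhk h0
    have hab := c.alpha_bound hG hη hb k (by rw [h0]; exact Even.zero)
    rw [hek] at hab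
    have hhk' : (m : ℝ) ≤ (c.piece k).h := by exact_mod_cast hhk
    rw [← mul_div_assoc, le_div_iff₀ hq0] at hab
    nlinarith [mul_le_mul_of_nonneg_left hhk' hq0.le, mul_le_mul_of_nonneg_left hunR hp0.le]
  -- the coefficient `b` of `L` is odd
  have hbL : Odd (b i) := by
    by_contra hbo
    have hab := c.alpha_bound hG hη hb i (Int.not_odd_iff_even.mp hbo)
    rw [hee, hih] at hab
    have hab' : (hh : ℝ) - 1 ≤ (Nat.card W₂ : ℝ) * ((Nat.card U : ℝ) - 1) := by
      refine hab.trans (le_of_eq ?_)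
      push_cast
      field_simp
    have hlt : r < Nat.card W₂ := by
      by_contra hge
      push Not at hge
      have hge' : (Nat.card W₂ : ℝ) * Nat.card U ≤ hh := by
        rw [hr']
        exact_mod_cast Nat.mul_le_mul_right _ hge
      linarith
    have := ratio_one s.p_prime s.q_prime hqp hk hn1 s.u_modEq hmod' hlt
    omega
  have hbi : (1 : ℝ) ≤ (b i : ℝ) ^ 2 := one_le_sq_of_ne (ne_zero_of_odd hbL)
  rcases t.type with hTII | hTIII
  swap
  · -- `T` of type III
    exfalso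
    obtain ⟨k, hke, hkh⟩ := c.hasT hTIII
    rw [hvm] at hkh
    have hki : k ≠ i := by
      rintro rfl
      rw [hee] at hke
      have := Nat.mul_lt_mul_of_pos_left s.q_prime.one_lt
        (Nat.card_pos (α := W₂))
      omega
    rcases c.index_p hG hη hb k hqp hke with ⟨hbk, -⟩ | hbk
    · have hbud := c.swap.budget_first hG hη2 hb2 hfT hfS
      letI := c.fin
      have hsum : (c.piece i).share + (c.piece k).share ≤
          ∑ a, (b a : ℝ) ^ 2 * (c.piece a).share := by
        refine le_trans ?_ (Finset.sum_le_sum_of_subset_of_nonneg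
          (Finset.subset_univ ({i, k} : Finset c.ι))
          fun a _ _ => mul_nonneg (sq_nonneg _) ((c.piece a).share_nonneg hG))
        rw [Finset.sum_pair hki.symm, hbk]
        have := le_mul_of_one_le_left ((c.piece i).share_nonneg hG) hbi
        push_cast
        linarith
      have hsi : (c.piece i).share = (1 - 1 / (hh : ℝ)) / (Nat.card W₂ * Nat.card W₁) := by
        rw [Piece.share, hee, hih]; push_cast; ring
      have hsk : (c.piece k).share = (1 - 1 / (m : ℝ)) / Nat.card W₂ := by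
        rw [Piece.share, hke, hkh]
      have hnn : 0 ≤ ((Nat.card W₁ : ℝ) ^ Nat.card W₂ - 1) /
          ((Nat.card W₁ : ℝ) ^ Nat.card W₂ * Nat.card V * Nat.card W₂) := by
        have : (1 : ℝ) ≤ (Nat.card W₁ : ℝ) ^ Nat.card W₂ := one_le_pow₀ (by linarith)
        exact div_nonneg (by linarith) (by positivity)
      have hfin : (c.piece i).share + (c.piece k).share ≤
          1 / (Nat.card W₂ : ℝ) - 1 / ((Nat.card W₂ : ℝ) * Nat.card W₁) +
            (Nat.card U : ℝ) / (((Nat.card W₂ : ℝ) ^ Nat.card W₁ - 1) * Nat.card W₁) := by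
        have hbud' : ∑ a, (b a : ℝ) ^ 2 * (c.piece a).share ≤ _ := hbud
        linarith
      rw [hsi, hsk] at hfin
      have hu7 : 7 ≤ Nat.card U := by have := s.u_ge hG; omega
      refine Arith14.III_arith hq3 hp2 hn hm hun (h := hh) ?_ ?_
      · rw [hr']; nlinarith
      · have e : ((Nat.card W₂ : ℝ) * Nat.card W₁) *
            (1 / (Nat.card W₂ : ℝ) - 1 / ((Nat.card W₂ : ℝ) * Nat.card W₁) +
              (Nat.card U : ℝ) / (((Nat.card W₂ : ℝ) ^ Nat.card W₁ - 1) * Nat.card W₁) -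
              ((1 - 1 / (hh : ℝ)) / (Nat.card W₂ * Nat.card W₁) +
                (1 - 1 / (m : ℝ)) / Nat.card W₂)) =
            (Nat.card W₁ : ℝ) / m + 1 / (hh : ℝ) +
              (Nat.card W₂ : ℝ) * Nat.card U / ((Nat.card W₂ : ℝ) ^ Nat.card W₁ - 1) - 2 := by
          rw [← div_div (Nat.card U : ℝ)]
          field_simp
          ring
        have := mul_nonneg (mul_nonneg hp0.le hq0.le) (sub_nonneg.mpr hfin)
        rw [e] at this
        linarith
    · exact hno k hke (le_of_eq hkh.symm) hbk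
  -- `T` of type II
  have hNV : normalizer (V : Set G) ≠ ⊤ := by
    intro htop
    have hnV : V.Normal := Subgroup.normalizer_eq_top_iff.mp htop
    rcases hG.2.1.eq_bot_or_eq_top_of_normal V hnV with e | e
    · exact t.hyp9.U_ne e
    · exact h.maxT.1 (top_le_iff.mp (e ▸ t.hyp9.U_le))
  obtain ⟨M, hM, hNM⟩ := (eq_top_or_exists_le_coatom _).resolve_left hNV
  have hIM := typeI_over hG hF h47 h.symm hTII hM hNM
  obtain ⟨j, ⟨gj, hgj⟩, -, hjh, hje⟩ := c.piece_typeI hM hIM
  obtain ⟨-, hVM, hcaseM⟩ := support_of_typeII hG hF h47 h.symm hTII hM hNM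
  have hmM : m ≤ (c.piece j).h := by
    rw [hjh, ← hvm]; exact Subgroup.card_le_of_le hVM
  rcases hcaseM with ⟨h1', h2'⟩ | ⟨x', hx', h1', h2'⟩
  · exfalso
    obtain ⟨hidx', hlt⟩ := local_case_one hG hF h47 h.symm hTII hM hNM h1' h2'
    have hje' : (c.piece j).e = Nat.card W₂ := hje.trans hidx'
    rcases c.index_p hG hη hb j hqp hje' with ⟨-, hb0⟩ | hb0
    · have hab := c.swap.alpha_bound hG hη2 hb2 j (by rw [hb0]; exact Even.zero)
      change ((c.piece j).h : ℝ) - 1 ≤
        ((c.piece j).e : ℝ) * (((Nat.card V : ℝ) - 1) / Nat.card W₂) at hab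
      rw [hje', mul_div_cancel₀ _ hp0.ne', hjh] at hab
      have hcl : Nat.card V < Nat.card (Cfsg.fittingHallOf M) := by
        refine lt_of_le_of_ne (Subgroup.card_le_of_le hlt.le) fun e => hlt.ne ?_
        exact eq_of_le_of_card_ge hlt.le e.ge
      have hcl' : (Nat.card V : ℝ) < Nat.card (Cfsg.fittingHallOf M) := by exact_mod_cast hcl
      linarith
    · exact hno j hje' hmM hb0
  obtain ⟨hidx', -⟩ := local_case_two hG hF h47 h.symm hTII hM hNM hx' h1' h2'
  have hje' : (c.piece j).e = Nat.card W₂ * Nat.card W₁ :=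
    hje.trans (hidx'.trans (mul_comm _ _))
  letI := c.fin
  choose xi hxi using fun k => Cfsg.Lib.Coherence.inner_int (c.piece i).beta_gen
    (c.piece k).zt_signed.generalized
  choose yi hyi using fun k => Cfsg.Lib.Coherence.inner_int (c.piece k).beta_gen
    (c.piece i).zt_signed.generalized
  have hpos : ∀ k, 0 ≤ (((c.piece k).h : ℝ) - 1) / (c.piece k).e := fun k => by
    have h1 : (1 : ℝ) ≤ (c.piece k).h := by exact_mod_cast ((c.piece k).h_gt_one hG).le
    exact div_nonneg (by linarith) (Nat.cast_nonneg _)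
  have hroom := c.room hG hη hb i xi fun k _ => hxi k
  rw [hee, Nat.cast_mul] at hroom
  -- the room when `b'` is odd as well
  have hfull : Odd (b' i) → ∀ k, k ≠ i → xi k = 0 := by
    intro ho k hk'
    by_contra hne
    have h1 := one_le_sq_of_ne (ne_zero_of_odd ho)
    have h3 : Odd (b i + b' i - 1) := by
      obtain ⟨a, ha⟩ := hbL
      obtain ⟨a', ha'⟩ := ho
      exact ⟨a + a', by omega⟩
    have h4 := one_le_sq_of_ne (ne_zero_of_odd h3)
    push_cast at h4
    have h5 := Finset.single_le_sum (fun a _ => mul_nonneg (sq_nonneg (xi a : ℝ)) (hpos a))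
      (Finset.mem_erase.mpr ⟨hk', Finset.mem_univ k⟩)
    have h6 : 0 < (xi k : ℝ) ^ 2 * ((((c.piece k).h : ℝ) - 1) / (c.piece k).e) := by
      refine mul_pos (lt_of_lt_of_le one_pos (one_le_sq_of_ne hne)) (div_pos ?_ ?_)
      · have : (1 : ℝ) < (c.piece k).h := by exact_mod_cast (c.piece k).h_gt_one hG
        linarith
      · exact Nat.cast_pos.mpr (c.piece k).e_pos
    nlinarith [mul_le_mul_of_nonneg_left hbi (show (0 : ℝ) ≤ (Nat.card W₂ : ℝ) - 1 by linarith),
      mul_le_mul_of_nonneg_left h1 (show (0 : ℝ) ≤ (Nat.card W₁ : ℝ) - 1 by linarith),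
      mul_le_mul_of_nonneg_left h4 (mul_nonneg (show (0 : ℝ) ≤ (Nat.card W₁ : ℝ) - 1 by linarith)
        (show (0 : ℝ) ≤ (Nat.card W₂ : ℝ) - 1 by linarith))]
  by_cases hij : i = j
  · subst hij
    -- the same class
    have hMh : Nat.card (Cfsg.fittingHallOf M) = hh := hjh.symm.trans hih
    by_cases hb'o : Odd (b' i)
    · exfalso
      have hy0 : ∀ k, k ≠ i → yi k ≠ 0 := by
        intro k hk' h0
        have hp' := c.parity hG hη hk'.symm (hxi k) (hyi k)
        rw [hfull hb'o k hk', h0, add_zero] at hp'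
        exact Int.not_odd_zero hp'
      have hsmall := c.others_small hG i yi (fun k _ => hyi k) hy0
      have hcov := c.covering hG
      rw [← Finset.sum_erase_add _ _ (Finset.mem_univ i)] at hcov
      rw [hee, hih, Nat.cast_mul] at hsmall
      have hsi : (c.piece i).share ≤ 1 / ((Nat.card W₂ : ℝ) * Nat.card W₁) := by
        rw [Piece.share, hee, Nat.cast_mul]
        refine div_le_div_of_nonneg_right ?_ (by positivity)
        linarith [show 0 ≤ 1 / ((c.piece i).h : ℝ) by positivity]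
      have hA : ((Nat.card W₂ : ℝ) ^ Nat.card W₁ - 1) /
          ((Nat.card W₂ : ℝ) ^ Nat.card W₁ * Nat.card U * Nat.card W₁) ≤
          1 / ((Nat.card U : ℝ) * Nat.card W₁) := by
        have hu0 : (0 : ℝ) < Nat.card U := Nat.cast_pos.mpr Nat.card_pos
        rw [div_le_div_iff₀ (by positivity) (by positivity)]
        nlinarith [mul_pos hu0 hq0]
      have hB : ((Nat.card W₁ : ℝ) ^ Nat.card W₂ - 1) /
          ((Nat.card W₁ : ℝ) ^ Nat.card W₂ * Nat.card V * Nat.card W₂) ≤
          1 / ((m : ℝ) * Nat.card W₂) := by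
        rw [hvm]
        have hm0 : (0 : ℝ) < m := by rw [← hvm]; exact Nat.cast_pos.mpr Nat.card_pos
        rw [div_le_div_iff₀ (by positivity) (by positivity)]
        nlinarith [mul_pos hm0 hp0]
      have hmh : m ≤ hh := by rw [← hMh, ← hvm]; exact Subgroup.card_le_of_le hVM
      have hmbig : Nat.card W₁ ^ (Nat.card W₂ - 1) + 1 ≤ m := by
        rw [Arith14.eq_geom (show 2 ≤ Nat.card W₁ by omega) hm]
        calc Nat.card W₁ ^ (Nat.card W₂ - 1) + 1 =
              ∑ a ∈ ({Nat.card W₂ - 1, 0} : Finset ℕ), Nat.card W₁ ^ a := by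
              rw [Finset.sum_pair (by omega), pow_zero]
          _ ≤ _ := Finset.sum_le_sum_of_subset fun a ha => by
              simp only [Finset.mem_insert, Finset.mem_singleton] at ha
              simp only [Finset.mem_range]
              omega
      have h100 : 100 ≤ hh := by
        have : 3 ^ 4 ≤ Nat.card W₁ ^ (Nat.card W₂ - 1) :=
          le_trans (Nat.pow_le_pow_left hq3 4) (Nat.pow_le_pow_right (by omega) (by omega))
        have h7 : m ≡ 1 [MOD Nat.card W₂] := hm1
        by_contra hc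
        push Not at hc
        rcases (show Nat.card W₁ = 3 ∨ 4 ≤ Nat.card W₁ by omega) with e3 | e4
        · rw [e3] at hm
          have h243 : 3 ^ 5 ≤ 3 ^ Nat.card W₂ := Nat.pow_le_pow_right (by norm_num) (by omega)
          omega
        · have : 4 ^ 4 ≤ Nat.card W₁ ^ (Nat.card W₂ - 1) :=
            le_trans (Nat.pow_le_pow_left e4 4) (Nat.pow_le_pow_right (by omega) (by omega))
          omega
      refine Arith14.cover_arith hq3 hp2 (s.odd_p hG) (by have := s.u_ge hG; omega) hm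
        (h := hh) h100 (hmbig.trans hmh) s.card_le ?_
      have key : ((Nat.card W₂ : ℝ) * Nat.card W₁) *
          (1 - 1 / (Nat.card G : ℝ)) ≤ ((Nat.card W₂ : ℝ) * Nat.card W₁) *
          ((Nat.card W₂ : ℝ) * Nat.card W₁ / ((hh : ℝ) - 1) +
            1 / ((Nat.card W₂ : ℝ) * Nat.card W₁) + 1 / ((Nat.card U : ℝ) * Nat.card W₁) +
            1 / ((m : ℝ) * Nat.card W₂) +
            ((Nat.card W₁ : ℝ) - 1) * ((Nat.card W₂ : ℝ) - 1) /
              ((Nat.card W₁ : ℝ) * Nat.card W₂)) :=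
        mul_le_mul_of_nonneg_left (by linarith) (by positivity)
      have e1 : ((Nat.card W₂ : ℝ) * Nat.card W₁) *
          ((Nat.card W₂ : ℝ) * Nat.card W₁ / ((hh : ℝ) - 1) +
            1 / ((Nat.card W₂ : ℝ) * Nat.card W₁) + 1 / ((Nat.card U : ℝ) * Nat.card W₁) +
            1 / ((m : ℝ) * Nat.card W₂) +
            ((Nat.card W₁ : ℝ) - 1) * ((Nat.card W₂ : ℝ) - 1) /
              ((Nat.card W₁ : ℝ) * Nat.card W₂)) =
          (Nat.card W₂ : ℝ) ^ 2 * (Nat.card W₁ : ℝ) ^ 2 / ((hh : ℝ) - 1) + 1 +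
            (Nat.card W₂ : ℝ) / Nat.card U + (Nat.card W₁ : ℝ) / m +
            ((Nat.card W₁ : ℝ) - 1) * ((Nat.card W₂ : ℝ) - 1) := by
        field_simp
      have e2 : ((Nat.card W₂ : ℝ) * Nat.card W₁) * (1 - 1 / (Nat.card G : ℝ)) =
          (Nat.card W₂ : ℝ) * Nat.card W₁ -
            (Nat.card W₂ : ℝ) * Nat.card W₁ / Nat.card G := by ring
      rw [e1, e2] at key
      linarith
    · -- `L_F` is cyclic
      have hab := c.swap.alpha_bound hG hη2 hb2 i (Int.not_odd_iff_even.mp hb'o)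
      change ((c.piece i).h : ℝ) - 1 ≤
        ((c.piece i).e : ℝ) * (((Nat.card V : ℝ) - 1) / Nat.card W₂) at hab
      rw [hee, hih, hvm] at hab
      have hab' : (hh : ℝ) - 1 ≤ (Nat.card W₁ : ℝ) * ((m : ℝ) - 1) := by
        refine hab.trans (le_of_eq ?_)
        push_cast
        field_simp
      obtain ⟨r', hr2⟩ := Subgroup.card_dvd_of_le hVM
      rw [hMh, hvm] at hr2
      have hlt : r' < Nat.card W₁ := by
        by_contra hge
        push Not at hge
        have hge' : (Nat.card W₁ : ℝ) * m ≤ hh := by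
          rw [hr2, mul_comm m r']
          exact_mod_cast Nat.mul_le_mul_right _ hge
        linarith
      have hr'1 : r' = 1 := by
        have h4 : m * r' ≡ r' [MOD Nat.card W₂] := by simpa using hm1.mul_right r'
        have h5 : hh ≡ 1 [MOD Nat.card W₂] := hmod.of_dvd (dvd_mul_right _ _)
        rw [hr2] at h5
        exact (h4.symm.trans h5).eq_of_lt_of_lt (by omega) s.p_prime.one_lt
      rw [hr'1, mul_one] at hr2
      have hVeq : Cfsg.fittingHallOf M = V :=
        (eq_of_le_of_card_ge hVM (by rw [hMh, hr2, hvm])).symm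
      have hcycV : IsCyclic V := cyclic_of_big hG hF h47 h.symm hfT fun hle => by
        have := t.u_ge hG
        omega
      haveI hcM : IsCyclic (Cfsg.fittingHallOf M) := hVeq ▸ hcycV
      have eq1 : TypeMap.im (MulAut.conj gi) (Cfsg.fittingHallOf L) =
          TypeMap.im (MulAut.conj gj) (Cfsg.fittingHallOf M) := hgi.symm.trans hgj
      haveI : IsCyclic (TypeMap.im (MulAut.conj gj) (Cfsg.fittingHallOf M)) :=
        (MulEquiv.isCyclic ((Cfsg.fittingHallOf M).equivMapOfInjective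
          (MulAut.conj gj).toMonoidHom (MulAut.conj gj).injective)).mp hcM
      haveI : IsCyclic (TypeMap.im (MulAut.conj gi) (Cfsg.fittingHallOf L)) := eq1 ▸ this
      exact finish (Or.inr ((MulEquiv.isCyclic ((Cfsg.fittingHallOf L).equivMapOfInjective
          (MulAut.conj gi).toMonoidHom (MulAut.conj gi).injective)).mpr this))
  -- different classes
  exfalso
  have hbig : Nat.card W₂ * Nat.card W₁ * (Nat.card W₂ * Nat.card W₁) + 1 < hh := by
    rw [hr']
    exact Arith14.h_big s.p_prime s.q_prime hq3 hp2 hn hk s.u_modEq hmod' hro hr1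
  have hbigR : (Nat.card W₂ : ℝ) * Nat.card W₁ * ((Nat.card W₂ : ℝ) * Nat.card W₁) + 1 < hh := by
    exact_mod_cast hbig
  have hy0 : yi j = 0 := by
    by_contra hne
    choose zj hzj using fun k => Cfsg.Lib.Coherence.inner_int (c.piece j).beta_gen
      (c.piece k).zt_signed.generalized
    have hrj := c.room hG hη hb j zj fun k _ => hzj k
    rw [hje', Nat.cast_mul] at hrj
    have hz : zj i = yi j := Int.cast_injective (α := ℂ) ((hzj i).symm.trans (hyi j))
    have h5 := Finset.single_le_sum (fun a _ => mul_nonneg (sq_nonneg (zj a : ℝ)) (hpos a))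
      (Finset.mem_erase.mpr ⟨hij, Finset.mem_univ i⟩)
    rw [hz, hee, hih, Nat.cast_mul] at h5
    have h6 : ((hh : ℝ) - 1) / ((Nat.card W₂ : ℝ) * Nat.card W₁) ≤
        (yi j : ℝ) ^ 2 * (((hh : ℝ) - 1) / ((Nat.card W₂ : ℝ) * Nat.card W₁)) :=
      le_mul_of_one_le_left (div_nonneg (by nlinarith) (by positivity)) (one_le_sq_of_ne hne)
    have h7 : ((Nat.card W₂ : ℝ) * Nat.card W₁) <
        ((hh : ℝ) - 1) / ((Nat.card W₂ : ℝ) * Nat.card W₁) := by
      rw [lt_div_iff₀ (by positivity)]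
      linarith
    nlinarith [sq_nonneg (b j : ℝ), sq_nonneg (b' j : ℝ),
      mul_nonneg (show (0 : ℝ) ≤ (Nat.card W₂ : ℝ) - 1 by linarith) (sq_nonneg (b j : ℝ)),
      mul_nonneg (show (0 : ℝ) ≤ (Nat.card W₁ : ℝ) - 1 by linarith) (sq_nonneg (b' j : ℝ)),
      mul_nonneg (mul_nonneg (show (0 : ℝ) ≤ (Nat.card W₁ : ℝ) - 1 by linarith)
        (show (0 : ℝ) ≤ (Nat.card W₂ : ℝ) - 1 by linarith)) (sq_nonneg ((b j : ℝ) + b' j - 1))]
  have hxo : xi j ≠ 0 := by
    intro h0
    have hp' := c.parity hG hη hij (hxi j) (hyi j)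
    rw [h0, hy0, add_zero] at hp'
    exact Int.not_odd_zero hp'
  have hb'e : ¬ Odd (b' i) := fun ho => hxo (hfull ho j (Ne.symm hij))
  have h5 := Finset.single_le_sum (fun a _ => mul_nonneg (sq_nonneg (xi a : ℝ)) (hpos a))
    (Finset.mem_erase.mpr ⟨Ne.symm hij, Finset.mem_univ j⟩)
  have h6 := le_mul_of_one_le_left (hpos j) (one_le_sq_of_ne hxo)
  have hmR : (m : ℝ) ≤ (c.piece j).h := by exact_mod_cast hmM
  have hfinal : (m : ℝ) - 1 ≤
      (Nat.card W₂ : ℝ) ^ 2 * Nat.card W₁ * ((Nat.card W₁ : ℝ) - 1) := by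
    have h7 : (((c.piece j).h : ℝ) - 1) / (c.piece j).e ≤
        (Nat.card W₂ : ℝ) * Nat.card W₁ - Nat.card W₂ := by
      nlinarith [mul_le_mul_of_nonneg_left hbi (show (0 : ℝ) ≤ (Nat.card W₂ : ℝ) - 1 by linarith),
        mul_nonneg (show (0 : ℝ) ≤ (Nat.card W₁ : ℝ) - 1 by linarith) (sq_nonneg (b' i : ℝ)),
        mul_nonneg (mul_nonneg (show (0 : ℝ) ≤ (Nat.card W₁ : ℝ) - 1 by linarith)
          (show (0 : ℝ) ≤ (Nat.card W₂ : ℝ) - 1 by linarith)) (sq_nonneg ((b i : ℝ) + b' i - 1))]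
    rw [div_le_iff₀ (Nat.cast_pos.mpr (c.piece j).e_pos), hje', Nat.cast_mul] at h7
    nlinarith
  by_cases hex : Nat.card W₁ = 3 ∧ Nat.card W₂ = 5
  · -- `p = 5`, `q = 3`
    obtain ⟨e3, e5⟩ := hex
    have hab := c.swap.alpha_bound hG hη2 hb2 i (Int.not_odd_iff_even.mp hb'e)
    change ((c.piece i).h : ℝ) - 1 ≤
      ((c.piece i).e : ℝ) * (((Nat.card V : ℝ) - 1) / Nat.card W₂) at hab
    rw [hee, hih, hvm, e3, e5] at hab
    rw [e3] at hn hm hk hmod'
    rw [e5] at hn hm hmod'
    norm_num at hn hm hab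
    obtain rfl : n = 31 := by omega
    obtain rfl : m = 121 := by omega
    have hu31 : Nat.card U = 31 := by omega
    rw [hu31] at hmod' hr'
    norm_num at hab
    unfold Nat.ModEq at hmod'
    obtain ⟨a, ha⟩ := hro
    omega
  · have hmb := Arith14.m_big hq3 hp2 (s.odd_p hG) hm hex
    have hmb' : (Nat.card W₂ : ℝ) ^ 2 * Nat.card W₁ * ((Nat.card W₁ : ℝ) - 1) + 1 < m := by
      have := (Nat.cast_lt (α := ℝ)).mpr hmb
      rw [Nat.cast_add, Nat.cast_mul, Nat.cast_mul, Nat.cast_pow,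
        Nat.cast_sub (by omega : 1 ≤ Nat.card W₁), Nat.cast_one] at this
      exact this
    linarith

/-- (14.x): P1544. -/
theorem p1544_of (hG : Cfsg.IsMinSimpleOddOrder G) (hF : Facts13 G) (h47 : P1547 G) : P1544 G :=
  p1544_of_full hG hF h47 (full14_of hG hF h47)

end Cfsg.Agent.PF
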