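import Cfsg.Agent.OddChar.PF.Consequences
import Cfsg.Agent.OddChar.PF.S14Endgame

/-!
# The odd order theorem

No minimal simple group of odd order exists, hence every finite group of odd order is solvable.
-/

set_option autoImplicit false

universe u

namespace Cfsg.Agent.PF

variable {G : Type u} [Group G] [Finite G]

theorem p1544 (hG : Cfsg.IsMinSimpleOddOrder G) : P1544 G :=
  haveI := Fintype.ofFinite G
  p1544_of hG (facts13 hG) (p1547 hG)

/-- No minimal simple group of odd order exists. -/
theorem not_minSimpleOddOrder : ¬ Cfsg.IsMinSimpleOddOrder G := fun hG =>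
  false_of_sections hG (s10NoTypeV hG) (p1544 hG)

/-- The odd order theorem. -/
theorem isSolvable_of_odd (G : Type u) [Group G] [Finite G] (hodd : Odd (Nat.card G)) :
    Group.IsSolvable G :=
  Final.solvable_of (fun _ _ _ hH => not_minSimpleOddOrder hH) G hodd

end Cfsg.Agent.PF
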