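import Cfsg.Agent.S0016
import Cfsg.Agent.S0219
import Cfsg.Agent.S0201

/-!
# A non-cyclic simple group has a Klein four-subgroup, given that odd order implies solvable
-/

set_option linter.unusedSectionVars false
set_option linter.style.haveILetI false
set_option autoImplicit false

namespace Cfsg.Agent.PF

open Subgroup

universe u

theorem exists_klein_of_odd_order
    (hodd : ∀ (H : Type u) [Group H] [Finite H], Odd (Nat.card H) → Group.IsSolvable H)
    {G : Type u} [Group G] [Finite G] [IsSimpleGroup G] (hG : ¬ IsCyclic G) :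
    ∃ E : Subgroup G, IsKleinFour E := by
  haveI : Fact (Nat.Prime 2) := ⟨Nat.prime_two⟩
  have hnc : ¬ Std.Commutative (fun a b : G => a * b) := fun hc => hG (by
    letI : CommGroup G := { (inferInstance : Group G) with mul_comm := hc.comm }
    exact IsSimpleGroup.isCyclic (α := G))
  have hnormal : ∀ N : Subgroup G, N.Normal → N = ⊥ ∨ N = ⊤ := fun N hN => hN.eq_bot_or_eq_top
  have heven : Even (Nat.card G) := by
    rw [← Nat.not_odd_iff_even]
    intro ho
    haveI := hodd G ho
    exact hnc ⟨fun a b => IsSimpleGroup.comm_iff_isSolvable.mpr inferInstance a b⟩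
  obtain ⟨P⟩ : Nonempty (Sylow 2 G) := inferInstance
  have hno2 : ∀ H : Subgroup G, H.index = 2 → False := by
    intro H hH
    rcases hnormal H (Subgroup.normal_of_index_eq_two hH) with h | h
    · rw [h, index_bot] at hH
      haveI := Fact.mk Nat.prime_two
      exact hG (isCyclic_of_prime_card hH)
    · rw [h, index_top] at hH
      omega
  have hPc : ¬ IsCyclic (P : Subgroup G) := fun hc => by
    obtain ⟨H, hH⟩ := Cfsg.Agent.S0219.result heven P hc
    exact hno2 H hH
  by_contra hcon
  push Not at hcon
  have huniq : ∀ H K : Subgroup (P : Subgroup G), Nat.card H = 2 → Nat.card K = 2 → H = K := by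
    intro H K hH hK
    by_contra hne
    -- a central involution and a second involution give a four-group
    obtain ⟨h, hh, hh1⟩ := (bot_or_exists_ne_one H).resolve_left (fun e => by rw [e, card_bot] at hH; omega)
    have hPne : Nontrivial (P : Subgroup G) := ⟨h, 1, hh1⟩
    have hZ := P.isPGroup'.center_nontrivial
    obtain ⟨m, hm0, hm⟩ := (P.isPGroup'.to_subgroup (center (P : Subgroup G))).nontrivial_iff_card.mp hZ
    obtain ⟨z, hz⟩ := exists_prime_orderOf_dvd_card' (G := center (P : Subgroup G)) 2
      (hm.symm ▸ dvd_pow_self 2 hm0.ne')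
    have hzc : (z : (P : Subgroup G)) ∈ center (P : Subgroup G) := z.2
    have hz2 : orderOf (z : (P : Subgroup G)) = 2 := by rw [orderOf_coe]; exact hz
    obtain ⟨t, ht, htz⟩ : ∃ t : (P : Subgroup G), orderOf t = 2 ∧ t ≠ (z : (P : Subgroup G)) := by
      have key : ∀ X : Subgroup (P : Subgroup G), Nat.card X = 2 → ∃ t, orderOf t = 2 ∧ zpowers t = X := by
        intro X hX
        obtain ⟨t, htX, ht1⟩ := (bot_or_exists_ne_one X).resolve_left (fun e => by rw [e, card_bot] at hX; omega)
        have ht2 : orderOf t = 2 := by
          have := orderOf_dvd_natCard (⟨t, htX⟩ : X)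
          rw [orderOf_mk, hX] at this
          exact (Nat.dvd_prime Nat.prime_two).mp this |>.resolve_left
            fun e => ht1 (orderOf_eq_one_iff.mp e)
        exact ⟨t, ht2, eq_of_le_of_card_ge (zpowers_le.mpr htX) (by rw [Nat.card_zpowers, ht2, hX])⟩
      obtain ⟨a, ha, haH⟩ := key H hH
      obtain ⟨b, hb, hbK⟩ := key K hK
      by_cases h1 : a = (z : (P : Subgroup G))
      · exact ⟨b, hb, fun e => hne (by rw [← haH, ← hbK, h1, e])⟩
      · exact ⟨a, ha, h1⟩
    have hzt : (z : (P : Subgroup G)) * t = t * z := (mem_center_iff.mp hzc t).symm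
    have hzz : (z : (P : Subgroup G)) * z = 1 := by
      have := pow_orderOf_eq_one (z : (P : Subgroup G)); rwa [hz2, pow_two] at this
    have htt : t * t = 1 := by have := pow_orderOf_eq_one t; rwa [ht, pow_two] at this
    have hz1 : (z : (P : Subgroup G)) ≠ 1 := fun e => by rw [e, orderOf_one] at hz2; omega
    have ht1 : t ≠ 1 := fun e => by rw [e, orderOf_one] at ht; omega
    set a : G := ((z : (P : Subgroup G)) : G) with ha
    set b : G := (t : G) with hb
    have haa : a * a = 1 := congrArg Subtype.val hzz
    have hbb : b * b = 1 := congrArg Subtype.val htt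
    have hab : a * b = b * a := congrArg Subtype.val hzt
    have hba : b * a = a * b := hab.symm
    have hba2 : ∀ c : G, b * (a * c) = a * (b * c) := fun c => by rw [← mul_assoc, hba, mul_assoc]
    have haa2 : ∀ c : G, a * (a * c) = c := fun c => by rw [← mul_assoc, haa, one_mul]
    have hbb2 : ∀ c : G, b * (b * c) = c := fun c => by rw [← mul_assoc, hbb, one_mul]
    let E : Subgroup G :=
      { carrier := {1, a, b, a * b}
        one_mem' := by simp
        mul_mem' := by
          intro x y hx hy
          simp only [Set.mem_insert_iff, Set.mem_singleton_iff] at hx hy ⊢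
          rcases hx with rfl | rfl | rfl | rfl <;> rcases hy with rfl | rfl | rfl | rfl <;>
            simp [haa, hbb, haa2, hbb2, hba, hba2, mul_assoc]
        inv_mem' := by
          intro x hx
          simp only [Set.mem_insert_iff, Set.mem_singleton_iff] at hx ⊢
          have ha' : a⁻¹ = a := inv_eq_of_mul_eq_one_right haa
          have hb' : b⁻¹ = b := inv_eq_of_mul_eq_one_right hbb
          rcases hx with rfl | rfl | rfl | rfl <;> simp [ha', hb', hba] }
    refine hcon E ⟨?_, ?_⟩
    · have hset : ((E : Set G)) = {1, a, b, a * b} := rfl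
      have hinj : Function.Injective (fun x : (P : Subgroup G) => (x : G)) := fun x y e => Subtype.ext e
      have h1a : (1 : G) ≠ a := fun e => hz1 (hinj e.symm)
      have h1b : (1 : G) ≠ b := fun e => ht1 (hinj e.symm)
      have hab' : a ≠ b := fun e => htz (hinj e.symm)
      have h1ab : (1 : G) ≠ a * b := fun e => hab' (by
        calc a = a * (a * b) := by rw [← e, mul_one]
          _ = b := by rw [← mul_assoc, haa, one_mul])
      have haab : a ≠ a * b := fun e => h1b (mul_left_cancel (a := a) (by rw [mul_one]; exact e))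
      have hbab : b ≠ a * b := fun e => h1a (mul_right_cancel (b := b) (by rw [one_mul]; exact e))
      rw [← SetLike.coe_sort_coe, hset, Nat.card_coe_set_eq]
      rw [Set.ncard_insert_of_notMem (by simp [h1a, h1b, h1ab]),
        Set.ncard_insert_of_notMem (by simp [hab', haab]), Set.ncard_pair hbab]
    · haveI : Nontrivial E := by
        refine ⟨1, ⟨a, by simp [E]⟩, fun e => hz1 (Subtype.ext ?_)⟩
        exact (congrArg Subtype.val e).symm
      refine Monoid.exponent_eq_prime_iff Nat.prime_two |>.mpr ?_
      intro x hx
      refine orderOf_eq_prime ?_ hx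
      apply Subtype.ext
      rw [SubgroupClass.coe_pow, pow_two, OneMemClass.coe_one]
      have hx' : (x : G) ∈ ({1, a, b, a * b} : Set G) := x.2
      simp only [Set.mem_insert_iff, Set.mem_singleton_iff] at hx'
      rcases hx' with e | e | e | e <;> rw [e] <;>
        simp [haa, hbb, haa2, hbb2, hba, hba2, mul_assoc]
  rcases Cfsg.Agent.S0016.result 2 P.isPGroup' huniq with h | ⟨-, n, ⟨e⟩⟩
  · exact hPc h
  cases n with
  | zero =>
    refine hPc ((MulEquiv.isCyclic e).mpr ?_)
    exact isCyclic_of_orderOf_eq_card (QuaternionGroup.xa (n := 2 ^ 0) 0)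
      (by rw [QuaternionGroup.orderOf_xa, Nat.card_eq_fintype_card, QuaternionGroup.card]; rfl)
  | succ n =>
    have hc := Cfsg.Agent.S0201.result P n e (fun N hN ho => (hnormal N hN).resolve_right fun h => by
      rw [h, card_top] at ho
      exact (Nat.not_odd_iff_even.mpr heven) ho)
    rcases hnormal (center G) inferInstance with h | h
    · rw [h, card_bot] at hc; omega
    · exact hnc ⟨fun a b => (mem_center_iff.mp (h ▸ mem_top b : b ∈ center G) a)⟩

end Cfsg.Agent.PF
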