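import Cfsg.Agent.OddChar.PF.TypeMap
import Cfsg.Agent.OddChar.PF.Interface
import Cfsg.Agent.OddChar.PF.TypeI
import Cfsg.Agent.Coprime.SchurZassenhaus
import Cfsg.Agent.S1386
import Cfsg.Agent.S1472

/-!
# The end of the proof of the odd order theorem

From the structure of the maximal subgroups, the existence of one that is not of Type I, and the
configuration of the last section, no minimal simple group of odd order exists; hence groups of odd
order are solvable.
-/

set_option linter.unusedSectionVars false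
set_option linter.style.haveILetI false
set_option autoImplicit false

namespace Cfsg.Agent.PF.Final

open Subgroup
open scoped commutatorElement
open Cfsg.Lib.Coprime (conjMap)

universe u

variable {G : Type u} [Group G] [Finite G]

/-- Type P data can be moved onto a prescribed complement of the derived subgroup. -/
theorem exists_typeP_with (hG : Cfsg.IsMinSimpleOddOrder G) {S W₁ W₂ : Subgroup G}
    (hS : IsCoatom S) (hW : Cfsg.IsSelfNormalizingCyclic W₁ W₂) (hC : Cfsg.IsComplIn ⁅S, S⁆ W₁ S)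
    (hW₂S : W₂ ≤ S)
    (hP : Cfsg.IsOfTypeII S ∨ Cfsg.IsOfTypeIII S ∨ Cfsg.IsOfTypeIV S ∨ Cfsg.IsOfTypeV S) :
    ∃ U : Subgroup G, Cfsg.IsTypePWith S W₁ U W₂ := by
  obtain ⟨V₁, U, V₂, hD⟩ : ∃ V₁ U V₂ : Subgroup G, Cfsg.IsTypePWith S V₁ U V₂ := by
    rcases hP with ⟨a, b, c, h, -⟩ | ⟨a, b, c, h, -⟩ | ⟨a, b, c, h, -⟩ | ⟨a, b, c, h, -⟩ <;>
      exact ⟨a, b, c, h⟩
  have hN : ∀ {V : Subgroup G}, V ≤ S → V ≤ normalizer ((⁅S, S⁆ : Subgroup G) : Set G) :=
    fun h => h.trans (Cfsg.Lib.Coprime.le_normalizer_commutator_right S S)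
  have hsup : ∀ {V : Subgroup G}, Cfsg.IsComplIn ⁅S, S⁆ V S → ⁅S, S⁆ ⊔ V = S := fun h =>
    le_antisymm (sup_le h.1 h.2.1) fun m hm => by
      obtain ⟨a, ha, b, hb, rfl⟩ := h.2.2.2 m hm
      exact mul_mem_sup ha hb
  have hcard : ∀ {V : Subgroup G}, Cfsg.IsComplIn ⁅S, S⁆ V S →
      Nat.card S = Nat.card (⁅S, S⁆ : Subgroup G) * Nat.card V := fun {V} h => by
    conv_lhs => rw [← hsup h]
    exact Cfsg.Lib.Coprime.card_sup_of_inf_eq_bot (hN h.2.1) h.2.2.1
  have hV : Nat.card W₁ = Nat.card V₁ :=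
    Nat.eq_of_mul_eq_mul_left Nat.card_pos ((hcard hC).symm.trans (hcard hD.W₁_compl))
  have hcop : (Nat.card (⁅S, S⁆ : Subgroup G)).Coprime (Nat.card V₁) := by
    have h := hD.W₁_hall
    have hrel : V₁.relIndex S = Nat.card (⁅S, S⁆ : Subgroup G) := by
      refine Nat.eq_of_mul_eq_mul_left (Nat.card_pos (α := V₁)) ?_
      rw [mul_comm _ (Nat.card (⁅S, S⁆ : Subgroup G)), ← hcard hD.W₁_compl,
        ← Nat.card_congr (subgroupOfEquivOfLe hD.W₁_compl.2.1).toEquiv]
      exact card_mul_index _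
    rw [hrel] at h
    exact h.symm
  obtain ⟨x, hx, he⟩ := Cfsg.Lib.Coprime.exists_conj_eq_of_coprime (hN hD.W₁_compl.2.1) hcop
    (Or.inl (hG.2.2.2 _ fun h => hS.1 (top_le_iff.mp (h ▸ Subgroup.commutator_le_self S))))
    (by rw [hsup hD.W₁_compl]; exact hC.2.1) hV
  have hxS : x ∈ S := Subgroup.commutator_le_self S hx
  have h2 := TypeMap.isTypePWith_im (MulAut.conj x) hD
  rw [show TypeMap.im (MulAut.conj x) S = S from
      Cfsg.Lib.Coprime.conjMap_eq_self (le_normalizer hxS),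
    show TypeMap.im (MulAut.conj x) V₁ = W₁ from he.symm] at h2
  exact ⟨_, Cfsg.Agent.S1386.result W₁ W₂ S _ _ hW hC hW₂S h2 ▸ h2⟩

theorem card_ne (W₁ W₂ : Subgroup G) (hW : Cfsg.IsSelfNormalizingCyclic W₁ W₂) :
    Nat.card W₁ ≠ Nat.card W₂ := by
  classical
  obtain ⟨h1, -, h3, -, h5, -⟩ := hW
  intro he
  haveI : Fintype G := Fintype.ofFinite G
  haveI := h5
  set W := W₁ ⊔ W₂
  have key : ∀ V : Subgroup G, V ≤ W → Nat.card V = Nat.card W₁ → V.subgroupOf W = W₁.subgroupOf W := by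
    intro V hV hc
    have hW1 : W₁ ≤ W := le_sup_left
    set n := Nat.card W₁
    have hsub : ∀ X : Subgroup G, X ≤ W → Nat.card X = n →
        (Finset.univ.filter fun w : W => (w : G) ∈ X) ⊆ Finset.univ.filter fun w : W => w ^ n = 1 := by
      intro X hX hXc w hw
      simp only [Finset.mem_filter, Finset.mem_univ, true_and] at hw ⊢
      apply Subtype.ext
      rw [SubgroupClass.coe_pow, ← hXc]
      exact congrArg Subtype.val (pow_card_eq_one' (x := (⟨(w : G), hw⟩ : X)))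
    have hcardX : ∀ X : Subgroup G, X ≤ W → Nat.card X = n →
        (Finset.univ.filter fun w : W => (w : G) ∈ X).card = n := by
      intro X hX hXc
      rw [← hXc, ← Nat.card_congr (subgroupOfEquivOfLe hX).toEquiv, Nat.card_eq_fintype_card]
      exact (Fintype.card_subtype _).symm
    have hle : (Finset.univ.filter fun w : W => w ^ n = 1).card ≤ n :=
      IsCyclic.card_pow_eq_one_le Nat.card_pos
    have e1 := Finset.eq_of_subset_of_card_le (hsub V hV hc) (by rw [hcardX V hV hc]; exact hle)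
    have e2 := Finset.eq_of_subset_of_card_le (hsub W₁ hW1 rfl) (by rw [hcardX W₁ hW1 rfl]; exact hle)
    ext w
    simpa [Subgroup.mem_subgroupOf] using Finset.ext_iff.mp (e1.trans e2.symm) w
  have hk := key W₂ le_sup_right he.symm
  refine h1 (eq_bot_iff.mpr fun y hy => ?_)
  rw [← h3]
  refine ⟨hy, ?_⟩
  have : (⟨y, mem_sup_left hy⟩ : W) ∈ W₂.subgroupOf W := hk ▸ (show (⟨y, mem_sup_left hy⟩ : W) ∈ W₁.subgroupOf W from hy)
  exact this

/-- The frozen dichotomy from the weak one. -/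
theorem p1385_frozen (h : P1385' G) (hg : NoGap G) : P1385 G := by
  rcases h with hI | ⟨W₁, W₂, S, T, h1, h2, h3, h4, h5, h6, h7, h8, h9, h10⟩
  · exact Or.inl fun M hM => (hg M hM).mp (hI M hM)
  · exact Or.inr ⟨W₁, W₂, S, T, h1, h2, h3, h4, h5, h6, h7, h8, h9,
      fun M hM => (h10 M hM).imp_left (hg M hM).mp⟩

/-- No minimal simple group of odd order exists. -/
theorem false_of (hG : Cfsg.IsMinSimpleOddOrder G) (h85 : P1385 G) (h41 : P1541 G)
    (h44 : P1544 G) : False := by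
  obtain ⟨M, hM, hMI⟩ := h41
  rcases h85 with hI | ⟨W₁, W₂, S, T, hW, hS, hT, hCS, hCT, hST, hII, hS25, hT25, -⟩
  · exact hMI (hI M hM)
  have hW' : Cfsg.IsSelfNormalizingCyclic W₂ W₁ := by
    obtain ⟨h1, h2, h3, h4, h5, h6⟩ := hW
    refine ⟨h2, h1, by rwa [inf_comm], fun a ha b hb => (h4 b hb a ha).symm, sup_comm W₁ W₂ ▸ h5, ?_⟩
    intro X hX hne
    rw [sup_comm W₂ W₁, Set.union_comm] at hX
    rw [sup_comm W₂ W₁]
    exact h6 X hX hne
  have hWS : W₁ ⊔ W₂ ≤ S := hST ▸ inf_le_left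
  have hWT : W₁ ⊔ W₂ ≤ T := hST ▸ inf_le_right
  obtain ⟨U, hSP⟩ := exists_typeP_with hG hS hW hCS (le_sup_right.trans hWS) hS25
  obtain ⟨V, hTP⟩ := exists_typeP_with hG hT hW' hCT (le_sup_left.trans hWT) hT25
  have main : ∀ (S T W₁ W₂ U V : Subgroup G), IsCoatom S → IsCoatom T →
      Cfsg.IsTypePWith S W₁ U W₂ → Cfsg.IsTypePWith T W₂ V W₁ → S ⊓ T = W₁ ⊔ W₂ →
      (Cfsg.IsOfTypeII S ∨ Cfsg.IsOfTypeII T) →
      (Cfsg.IsOfTypeII S ∨ Cfsg.IsOfTypeIII S ∨ Cfsg.IsOfTypeIV S ∨ Cfsg.IsOfTypeV S) →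
      (Cfsg.IsOfTypeII T ∨ Cfsg.IsOfTypeIII T ∨ Cfsg.IsOfTypeIV T ∨ Cfsg.IsOfTypeV T) →
      Nat.card W₁ < Nat.card W₂ → False := by
    intro S T W₁ W₂ U V hS hT hSP hTP hST hII hS25 hT25 hlt
    obtain ⟨hq, hp, -, -, -, hUc, -, hA, hUP, hQp, hQ, hWQ, y, hy, hyU, F, iF, iFin, f, ψ, hF, hf,
      hfadd, hψ, hψmul, hψinj, hW2⟩ := h44 S T W₁ W₂ U V hS hT hSP hTP hST hII hS25 hT25 hlt
    haveI := Fact.mk hq
    haveI := Fact.mk hp
    letI := iF
    letI := iFin
    have := Cfsg.Agent.S1472.result (Nat.card W₂) (Nat.card W₁) hA F hF (Cfsg.fittingHallOf S) U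
      (Cfsg.fittingHallOf T) f ψ hf hfadd hUP hψ hψmul hψinj hUc hQ.1 hQp
      (fun x hx he => hWQ ((hW2 x hx).mpr he)) y hy
      (fun x hx he => hyU ⟨x, (hW2 x hx).mpr he, rfl⟩)
    omega
  rcases lt_trichotomy (Nat.card W₁) (Nat.card W₂) with h | h | h
  · exact main S T W₁ W₂ U V hS hT hSP hTP hST hII hS25 hT25 h
  · exact card_ne W₁ W₂ hW h
  · exact main T S W₂ W₁ V U hT hS hTP hSP (by rw [inf_comm, hST, sup_comm]) hII.symm hT25 hS25 h

/-- A non-solvable group of odd order of least order is a minimal simple group. -/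
theorem solvable_of
    (h : ∀ (G : Type u) [Group G] [Finite G], Cfsg.IsMinSimpleOddOrder G → False)
    (G : Type u) [Group G] [Finite G] (hodd : Odd (Nat.card G)) : Group.IsSolvable G := by
  obtain ⟨n, hn⟩ : ∃ n, Nat.card G = n := ⟨_, rfl⟩
  induction n using Nat.strong_induction_on generalizing G with
  | _ n ih =>
    subst hn
    by_contra hns
    have hsub : ∀ H : Subgroup G, H ≠ ⊤ → Group.IsSolvable H := fun H hH =>
      ih (Nat.card H) (lt_of_le_of_ne (card_le_card_group H) fun e => hH (eq_top_of_card_eq H e))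
        H (hodd.of_dvd_nat (card_subgroup_dvd_card H)) rfl
    have hnt : Nontrivial G := by
      by_contra hnt
      haveI := not_nontrivial_iff_subsingleton.mp hnt
      exact hns (Group.isSolvable_of_comm fun a b => Subsingleton.elim _ _)
    refine h G ⟨hodd, ?_, fun hc => hns (Group.isSolvable_of_comm fun a b => hc.is_comm.comm a b), hsub⟩
    refine { hnt with eq_bot_or_eq_top_of_normal := fun N hN => ?_ }
    by_contra hcon
    push Not at hcon
    haveI := hsub N hcon.2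
    have hlt : Nat.card (G ⧸ N) < Nat.card G := by
      have h1 := card_mul_index N
      rw [index_eq_card] at h1
      have h2 : 1 < Nat.card N := by
        have : Nat.card N ≠ 1 := fun e => hcon.1 (N.eq_bot_of_card_eq e)
        have := Nat.card_pos (α := N)
        omega
      have h3 : 0 < Nat.card (G ⧸ N) := Nat.card_pos
      nlinarith
    haveI : Group.IsSolvable (G ⧸ N) := ih _ hlt (G ⧸ N)
      (hodd.of_dvd_nat (card_quotient_dvd_card N)) rfl
    exact hns (Group.isSolvable_of_ker_le_range N.subtype (QuotientGroup.mk' N)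
      (by rw [QuotientGroup.ker_mk', range_subtype]))

end Cfsg.Agent.PF.Final
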