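import Cfsg.Agent.OddChar.PF.TypeI
import Cfsg.Agent.OddLocal.FittingNonTI

/-!
# The structure when `F(M)` is not a TI-subgroup, in the weak form
-/

universe u

namespace Cfsg.Agent.PF

variable {G : Type u} [Group G] [Finite G]

theorem p1440' (hG : Cfsg.IsMinSimpleOddOrder G) : P1440' G := fun _ hM _ _ hd _ hg hX =>
  Cfsg.Lib.OddLocal.RankTwoMax.nonTI_fitting_structure hG hM hd hg hX

end Cfsg.Agent.PF
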