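import Cfsg.Agent.OddChar.PF.Sec08Types
import Cfsg.Agent.OddChar.PF.Local1380
import Cfsg.Agent.OddChar.PF.Local1385
import Cfsg.Agent.OddChar.PF.Local1391
import Cfsg.Agent.OddChar.PF.Local1440

/-!
# From the weak 1540 back to the frozen notion of Type I
-/

set_option linter.unusedSectionVars false
set_option linter.style.haveILetI false

universe u

namespace Cfsg.Agent.PF

open Subgroup
open scoped commutatorElement

variable {G : Type u} [Group G] [Finite G] {M : Subgroup G}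

/-- `O_{p'}(M) ≤ M_F` when no element outside `M_F` centralizes a non-identity element of `M_F`. -/
theorem isOfTypeI_of_weak (h : IsTypeI' M)
    (hreg : ∀ x ∈ Cfsg.fittingHallOf M, x ≠ 1 →
      M ⊓ centralizer ({x} : Set G) ≤ Cfsg.fittingHallOf M) : Cfsg.IsOfTypeI M := by
  obtain ⟨hF, hcase⟩ := h
  refine ⟨hF, ?_⟩
  rcases hcase with h1 | h1 | ⟨he, p, hp, hd, hcy⟩
  · exact Or.inl h1
  · exact Or.inr (Or.inl h1)
  refine Or.inr (Or.inr ⟨he, p, hp, hd, ?_⟩)
  haveI := Fact.mk hp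
  haveI : Group.IsNilpotent ↥(Cfsg.fittingHallOf M) :=
    Cfsg.Lib.OddLocal.RankTwoMax.fittingHallOf_nilpotent M
  obtain ⟨⟨z, hz⟩, hzo⟩ := exists_prime_orderOf_dvd_card' p hd
  have hzM : z ∈ M := Subgroup.map_subtype_le _ hz
  rw [orderOf_mk] at hzo
  set N := Cfsg.pPrimeCore p ↥(Cfsg.fittingHallOf M)
  have hmem : ∀ T : Subgroup M, T.Normal → (Nat.card T).Coprime p →
      T.map M.subtype ≤ N.map (Cfsg.fittingHallOf M).subtype := by
    intro T hT hco
    have hTF : T.map M.subtype ≤ Cfsg.fittingHallOf M := by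
      rintro _ ⟨n, hn, rfl⟩
      refine hreg z hz (fun e => hp.ne_one (by rw [← hzo, e, orderOf_one])) ⟨n.2, ?_⟩
      set w : M := n * ⟨z, hzM⟩ * n⁻¹ * (⟨z, hzM⟩ : M)⁻¹ with hwdef
      have hwT : w ∈ T := by
        rw [hwdef, mul_assoc, mul_assoc]
        exact mul_mem hn (by simpa [mul_assoc] using hT.conj_mem _ (inv_mem hn) ⟨z, hzM⟩)
      have hz' : (⟨z, hzM⟩ : M) ∈ Cfsg.fittingHall M := by
        obtain ⟨y, hy, e⟩ := hz
        rwa [show (⟨z, hzM⟩ : M) = y from Subtype.ext e.symm]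
      have hwF : w ∈ Cfsg.fittingHall M := by
        have h1 := (inferInstance : (Cfsg.fittingHall M).Normal).conj_mem _ hz' n
        exact mul_mem h1 (inv_mem hz')
      have hwF' : (w : G) ∈ Cfsg.fittingHallOf M := ⟨w, hwF, rfl⟩
      have hco' : (orderOf (w : G)).Coprime p := by
        rw [Subgroup.orderOf_coe]
        exact Nat.Coprime.of_dvd_left (orderOf_dvd_natCard T hwT) hco
      have hcm : Commute (w : G) z := congrArg Subtype.val
        (Cfsg.Lib.FittingHall.commute_coprime (x := (⟨w, hwF'⟩ : Cfsg.fittingHallOf M)) (y := ⟨z, hz⟩)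
          (by rw [orderOf_mk, orderOf_mk, hzo]; exact hco'))
      have hpw : ((w : G) * z) ^ p = 1 := by
        rw [show (w : G) * z = (n : G) * z * (n : G)⁻¹ by simp [hwdef, mul_assoc], conj_pow,
          show z ^ p = 1 from hzo ▸ pow_orderOf_eq_one z, mul_one, mul_inv_cancel]
      rw [hcm.mul_pow, show z ^ p = 1 from hzo ▸ pow_orderOf_eq_one z, mul_one] at hpw
      have hw1 : (w : G) = 1 := orderOf_eq_one_iff.mp
        (Nat.dvd_one.mp (hco'.gcd_eq_one ▸ Nat.dvd_gcd dvd_rfl (orderOf_dvd_of_pow_eq_one hpw)))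
      refine mem_centralizer_singleton_iff.mpr ?_
      have h2 : (n : G) * z * (n : G)⁻¹ * z⁻¹ = 1 := by simpa [hwdef] using hw1
      calc (n : G) * z = (n : G) * z * (n : G)⁻¹ * z⁻¹ * (z * n) := by group
        _ = z * n := by rw [h2, one_mul]
    have hle : (T.map M.subtype).subgroupOf (Cfsg.fittingHallOf M) ≤ N := by
      refine le_sSup ⟨⟨fun a ha g => ?_⟩, ?_⟩
      · rw [mem_subgroupOf] at ha ⊢
        obtain ⟨b, hb, e⟩ := ha
        exact ⟨⟨g, map_subtype_le _ g.2⟩ * b * (⟨g, map_subtype_le _ g.2⟩ : M)⁻¹, hT.conj_mem _ hb _,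
          by rw [map_mul, map_mul, map_inv, e]; rfl⟩
      · rw [Nat.card_congr (subgroupOfEquivOfLe hTF).toEquiv, card_map_of_injective M.subtype_injective]
        exact hco
    intro a ha
    exact ⟨⟨a, hTF ha⟩, hle ha, rfl⟩
  have hP : (Cfsg.pPrimeCore p M).map M.subtype ≤ N.map (Cfsg.fittingHallOf M).subtype := by
    rw [map_le_iff_le_comap]
    exact sSup_le fun T hT => map_le_iff_le_comap.mp (hmem T hT.1 hT.2)
  haveI : IsCyclic N := hcy
  haveI : IsCyclic ↥(N.map (Cfsg.fittingHallOf M).subtype) :=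
    (N.equivMapOfInjective _ (Cfsg.fittingHallOf M).subtype_injective).isCyclic.mp inferInstance
  exact isCyclic_of_injective
    ((Subgroup.inclusion hP).comp ((Cfsg.pPrimeCore p M).equivMapOfInjective _ M.subtype_injective).toMonoidHom)
    ((Subgroup.inclusion_injective hP).comp (MulEquiv.injective _))

/-- `NoGap` from the weak 1540. -/
theorem noGap_of (h : P1540' G) : NoGap G := fun M hM =>
  ⟨fun hI => isOfTypeI_of_weak hI (h M hM hI), isTypeI'_of⟩

/-- Statement 1380 from the weak 1540. -/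
theorem p1380_of (hG : Cfsg.IsMinSimpleOddOrder G) (h : P1540' G) : P1380 G := fun M hM K U hd =>
  ((noGap_of h M hM).symm).trans (p1380' hG M hM K U hd)

/-- Statement 1385 from the weak 1540. -/
theorem p1385_of (hG : Cfsg.IsMinSimpleOddOrder G) (h : P1540' G) : P1385 G := by
  rcases p1385' hG with hI | ⟨W₁, W₂, S, T, h1, h2, h3, h4, h5, h6, h7, h8, h9, h10⟩
  · exact Or.inl fun M hM => (noGap_of h M hM).mp (hI M hM)
  · exact Or.inr ⟨W₁, W₂, S, T, h1, h2, h3, h4, h5, h6, h7, h8, h9,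
      fun M hM => (h10 M hM).imp_left (noGap_of h M hM).mp⟩

/-- Statement 1391 from the weak 1540. -/
theorem p1391_of (hG : Cfsg.IsMinSimpleOddOrder G) (h : P1540' G) : P1391 G := by
  intro M hM X hX
  have hg := noGap_of h
  rw [← hg.typeA_eq hM, ← hg.typeA0_eq hM] at hX
  obtain ⟨h1, h2, h3⟩ := p1391' hG M hM X hX
  refine ⟨h1, h2, fun x hx hxM L hL hxL => ?_⟩
  obtain ⟨a, b, c, d, e, f, g⟩ := h3 x hx hxM L hL hxL
  exact ⟨a, b, c, d, hg.typeA_eq hL ▸ e, f.imp_left (hg L hL).mp, g⟩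

/-- Statement 1440 from the weak 1540. -/
theorem p1440_of (hG : Cfsg.IsMinSimpleOddOrder G) (h : P1540' G) : P1440 G := by
  intro M hM K U hd g hg hX
  obtain ⟨h1, ⟨h2, h3⟩, h4⟩ := p1440' hG M hM K U hd g hg hX
  refine ⟨h1, ⟨le_antisymm h2 ?_, h3⟩, h4⟩
  by_cases hK : K = ⊥
  · have hI := Cfsg.Lib.OddLocal.RankTwoMax.typeI'_of_kappa_trivial hG hM hd hK
    have hU := Cfsg.Lib.OddLocal.RankTwoMax.U_ne_bot hG hM hd hK
    have hreg := h M hM hI
    refine le_trans (fun f hf => ?_) ((Cfsg.Lib.OddLocal.RankTwoMax.fittingHall_eq_of_ne hG hM hd hU).le.trans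
      (Cfsg.Lib.OddLocal.Sigma.sigmaCore_le_derived hG hM))
    have hfM : ∀ a ∈ Cfsg.fittingOf M, a ∈ M := fun a ha => map_subtype_le _ ha
    haveI : Group.IsNilpotent ↥(Cfsg.fittingOf M) :=
      Cfsg.Lib.OddLocal.RankTwoMax.fittingOf_nilpotent M
    have hle := Cfsg.Lib.FittingHall.fittingHallOf_le_fittingOf M
    obtain ⟨y, hy, hy1⟩ := (Subgroup.bot_or_exists_ne_one (Cfsg.fittingHallOf M)).resolve_left fun e => by
      exact hI.1.2.2.1 ((map_eq_bot_iff_of_injective _ M.subtype_injective).mp e)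
    haveI : Nontrivial ↥(Cfsg.fittingOf M) :=
      ⟨⟨⟨y, hle hy⟩, 1, fun e => hy1 (congrArg Subtype.val e)⟩⟩
    obtain ⟨⟨z, hzF⟩, hz, hz1⟩ := (Subgroup.bot_or_exists_ne_one
      (Subgroup.center ↥(Cfsg.fittingOf M))).resolve_left (Group.IsNilpotent.center_ne_bot _)
    have hcm : ∀ a ∈ Cfsg.fittingOf M, a ∈ centralizer ({z} : Set G) := fun a ha =>
      mem_centralizer_singleton_iff.mpr (congrArg Subtype.val (Subgroup.mem_center_iff.mp hz ⟨a, ha⟩))
    have hzH : z ∈ Cfsg.fittingHallOf M := hreg y hy hy1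
      ⟨hfM z hzF, mem_centralizer_singleton_iff.mpr (mem_centralizer_singleton_iff.mp (hcm y (hle hy))).symm⟩
    exact hreg z hzH (fun e => hz1 (Subtype.ext e)) ⟨hfM f hf, hcm f hf⟩
  · obtain ⟨D, hP⟩ := Cfsg.Lib.OddLocal.RankTwoMax.exists_typePWith hG hM hd hK
    exact hP.fitting_le

end Cfsg.Agent.PF
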