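import Cfsg.Agent.OddChar.Coherence
import Cfsg.Agent.OddChar.Family

/-!
# A virtual character of norm two against the cyclic TI family
-/

set_option linter.unusedSectionVars false
set_option linter.unusedVariables false
set_option linter.style.haveILetI false
set_option autoImplicit false

namespace Cfsg.Agent.PF

open Finset
open Cfsg.Lib.Chars Cfsg.Lib.CyclicTI

universe u

/-- A function on a grid with at least three rows and columns, of square sum at most two, which
differs from `c (1_(i,j) - 1_(i,k))` by a sum of a row function and a column function, is equal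
to it. -/
theorem grid_two {I J : Type*} [Fintype I] [Fintype J] [DecidableEq I] [DecidableEq J]
    (hI : 3 ≤ Fintype.card I) (hJ : 3 ≤ Fintype.card J) (b : I → J → ℤ)
    (hb : ∑ x, ∑ y, b x y ^ 2 ≤ 2) (i : I) {j k : J} (hjk : j ≠ k) {c : ℤ}
    (hc : c = 0 ∨ c = 1 ∨ c = -1)
    (hrect : ∀ x x' y y',
      (b x y - if x = i then (if y = j then c else 0) - (if y = k then c else 0) else 0) +
      (b x' y' - if x' = i then (if y' = j then c else 0) - (if y' = k then c else 0) else 0) =
      (b x y' - if x = i then (if y' = j then c else 0) - (if y' = k then c else 0) else 0) +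
      (b x' y - if x' = i then (if y = j then c else 0) - (if y = k then c else 0) else 0))
    (x : I) (y : J) :
    b x y = if x = i then (if y = j then c else 0) - (if y = k then c else 0) else 0 := by
  -- the squares in some rows
  have hrows : ∀ s : Finset I, ∑ x ∈ s, ∑ y, b x y ^ 2 ≤ 2 := fun s =>
    le_trans (sum_le_sum_of_subset_of_nonneg (subset_univ s)
      fun _ _ _ => sum_nonneg fun _ _ => sq_nonneg _) hb
  by_cases hzero : ∃ i', i' ≠ i ∧ ∀ y, b i' y = 0
  · obtain ⟨i', hi', h0⟩ := hzero
    have e : ∀ y y', b i y - ((if y = j then c else 0) - (if y = k then c else 0)) =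
        b i y' - ((if y' = j then c else 0) - (if y' = k then c else 0)) := fun y y' => by
      have := hrect i i' y y'
      simp only [if_true, if_neg hi', sub_zero, h0, add_zero] at this
      exact this
    obtain ⟨l, hlj, hlk⟩ : ∃ l, l ≠ j ∧ l ≠ k := by
      by_contra! hh
      have hsub : (univ : Finset J) ⊆ {j, k} := fun l _ => by
        by_cases h : l = j
        · simp [h]
        · simp [hh l h]
      have := (card_le_card hsub).trans card_le_two
      rw [card_univ] at this
      omega
    have hj : b i j = b i l + c := by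
      have := e j l
      rw [if_pos rfl, if_neg hjk, if_neg hlj, if_neg hlk] at this
      linarith
    have hk : b i k = b i l - c := by
      have := e k l
      rw [if_neg hjk.symm, if_pos rfl, if_neg hlj, if_neg hlk] at this
      linarith
    have h3 : b i j ^ 2 + b i k ^ 2 + b i l ^ 2 ≤ 2 := by
      have h1 := hrows {i}
      rw [sum_singleton] at h1
      refine le_trans (le_trans (le_of_eq ?_) (sum_le_sum_of_subset_of_nonneg
        (f := fun y => b i y ^ 2) (subset_univ ({j, k, l} : Finset J))
        fun _ _ _ => sq_nonneg _)) h1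
      rw [sum_insert (by simp [hjk, hlj.symm]), sum_insert (by simp [hlk.symm]), sum_singleton,
        add_assoc]
    have hl0 : b i l = 0 := by
      rw [hj, hk] at h3
      rcases hc with rfl | rfl | rfl
      · by_contra hne
        have : (1 : ℤ) ≤ b i l ^ 2 := by
          rcases lt_or_gt_of_ne hne with h | h <;> nlinarith
        nlinarith
      · by_contra hne
        have : (1 : ℤ) ≤ b i l ^ 2 := by
          rcases lt_or_gt_of_ne hne with h | h <;> nlinarith
        nlinarith
      · by_contra hne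
        have : (1 : ℤ) ≤ b i l ^ 2 := by
          rcases lt_or_gt_of_ne hne with h | h <;> nlinarith
        nlinarith
    have hrow : ∀ y, b i y = (if y = j then c else 0) - (if y = k then c else 0) := fun y => by
      have := e y l
      rw [if_neg hlj, if_neg hlk, hl0] at this
      linarith
    by_cases hx : x = i
    · rw [if_pos hx, hx, hrow]
    · rw [if_neg hx]
      have hd : ∀ y', b x y = b x y' := fun y' => by
        have := hrect x i y y'
        simp only [if_neg hx, if_true, sub_zero, hrow, sub_self, add_zero] at this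
        exact this
      by_contra hne
      have h1 := hrows {x}
      rw [sum_singleton, sum_congr rfl fun y' _ => by rw [← hd y'], sum_const, card_univ,
        nsmul_eq_mul] at h1
      have hJ' : (3 : ℤ) ≤ (Fintype.card J : ℤ) := by exact_mod_cast hJ
      have : (1 : ℤ) ≤ b x y ^ 2 := by
        rcases lt_or_gt_of_ne hne with h | h <;> nlinarith
      nlinarith
  · push Not at hzero
    -- two further rows, each with exactly one square equal to one
    exfalso
    obtain ⟨i', hi', i'', hi'', hne⟩ : ∃ i', i' ≠ i ∧ ∃ i'', i'' ≠ i ∧ i' ≠ i'' := by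
      have h2 : 1 < ((univ : Finset I).erase i).card := by
        rw [card_erase_of_mem (mem_univ i), card_univ]; omega
      obtain ⟨u, hu, v, hv, huv⟩ := one_lt_card.mp h2
      exact ⟨u, (mem_erase.mp hu).1, v, (mem_erase.mp hv).1, huv⟩
    have hpos : ∀ x, x ≠ i → 1 ≤ ∑ y, b x y ^ 2 := fun x hx => by
      obtain ⟨y, hy⟩ := hzero x hx
      have : (1 : ℤ) ≤ b x y ^ 2 := by
        rcases lt_or_gt_of_ne hy with h | h <;> nlinarith
      exact this.trans (single_le_sum (fun y _ => sq_nonneg (b x y)) (mem_univ y))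
    have h1 := hrows {i, i', i''}
    rw [sum_insert (by simp [hi'.symm, hi''.symm]), sum_insert (by simp [hne]), sum_singleton] at h1
    have hi0 : ∀ y, b i y = 0 := fun y => by
      have := hpos i' hi'
      have := hpos i'' hi''
      have h : b i y ^ 2 ≤ ∑ y, b i y ^ 2 := single_le_sum (fun y _ => sq_nonneg (b i y)) (mem_univ y)
      have : b i y ^ 2 ≤ 0 := by linarith
      exact pow_eq_zero_iff two_ne_zero |>.mp (le_antisymm this (sq_nonneg _))
    have hone : ∑ y, b i' y ^ 2 ≤ 1 := by
      have := hpos i'' hi''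
      have := sum_nonneg (fun y (_ : y ∈ univ) => sq_nonneg (b i y))
      linarith
    have h2 := hrect i i' j k
    simp only [if_true, if_neg hi', sub_zero, hi0, if_neg hjk, if_neg hjk.symm, zero_sub] at h2
    have hjk2 : b i' j ^ 2 + b i' k ^ 2 ≤ 1 := by
      refine le_trans (le_trans (le_of_eq ?_) (sum_le_sum_of_subset_of_nonneg
        (f := fun y => b i' y ^ 2) (subset_univ ({j, k} : Finset J))
        fun _ _ _ => sq_nonneg _)) hone
      rw [sum_insert (by simp [hjk]), sum_singleton]
    rcases hc with rfl | rfl | rfl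
    · -- with `c = 0` the row `i'` is constant
      obtain ⟨y₀, hy₀⟩ := hzero i' hi'
      have hall : ∀ y, b i' y = b i' y₀ := fun y => by
        have := hrect i i' y₀ y
        simp only [ite_self, sub_zero, hi0, zero_add] at this
        exact this
      have h3 : (Fintype.card J : ℤ) * b i' y₀ ^ 2 ≤ 1 := by
        refine le_trans (le_of_eq ?_) hone
        rw [sum_congr rfl fun y _ => by rw [hall y], sum_const, card_univ, nsmul_eq_mul]
      have hJ' : (3 : ℤ) ≤ (Fintype.card J : ℤ) := by exact_mod_cast hJ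
      have : (1 : ℤ) ≤ b i' y₀ ^ 2 := by
        rcases lt_or_gt_of_ne hy₀ with h | h <;> nlinarith
      nlinarith
    · have : b i' k = b i' j + 2 := by linarith
      nlinarith [sq_nonneg (b i' j + 1), sq_nonneg (b i' k), this]
    · have : b i' j = b i' k + 2 := by linarith
      nlinarith [sq_nonneg (b i' k + 1), sq_nonneg (b i' j), this]

variable {G : Type u} [Group G] [Fintype G] {W₁ W₂ : Subgroup G}

local notation "W" => (W₁ ⊔ W₂ : Subgroup G)

theorem family_gen {η : (W →* ℂˣ) → (G → ℂ)} (hη : Cfsg.IsCyclicTIFamily W₁ W₂ η) (ω : W →* ℂˣ) :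
    Cfsg.IsGeneralizedCharacter G (η ω) := by
  rcases hη.irr_or_neg ω with h | h
  · exact IsCharacter.isGeneralized (isCharacter_of_irr h)
  · have := Cfsg.Lib.Chars.IsGeneralizedCharacter.neg (IsCharacter.isGeneralized (isCharacter_of_irr h))
    rwa [neg_neg] at this

open Classical in
/-- A generalised character of norm at most two that agrees off both factors with
`c (φψ - φψ')` has exactly the corresponding coefficients in the family. -/
theorem coeff_of_norm_two (hW : Cfsg.IsSelfNormalizingCyclic W₁ W₂) (hodd : Odd (Nat.card W))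
    {η : (W →* ℂˣ) → (G → ℂ)} (hη : Cfsg.IsCyclicTIFamily W₁ W₂ η) {f : G → ℂ}
    (hf : Cfsg.IsGeneralizedCharacter G f) (hnorm : (Cfsg.classInner f f).re ≤ 2) {c : ℤ}
    (hc : c = 0 ∨ c = 1 ∨ c = -1) {φ ψ ψ' : W →* ℂˣ} (hφ : OnFirst φ) (hψ : OnSecond ψ)
    (hψ' : OnSecond ψ') (hne : ψ ≠ ψ')
    (hV : ∀ w : W, (w : G) ∉ W₁ → (w : G) ∉ W₂ →
      f w = (c : ℂ) * (((φ * ψ) w : ℂ) - ((φ * ψ') w : ℂ))) :
    ∀ ω, Cfsg.classInner f (η ω) =
      (if ω = φ * ψ then (c : ℂ) else 0) - (if ω = φ * ψ' then (c : ℂ) else 0) := by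
  classical
  have := Fintype.ofFinite (W →* ℂˣ)
  obtain ⟨-, -, h3, h3', -⟩ := two_le_card_first hW hodd
  choose b hb using fun ω => Cfsg.Lib.Coherence.inner_int hf (family_gen hη ω)
  -- the square sum
  have hsq : ∑ ω, (b ω : ℝ) ^ 2 ≤ 2 := by
    obtain ⟨-, h⟩ := Cfsg.Lib.Coherence.project (univ : Finset (W →* ℂˣ)) (e := η) (n := fun _ => (1 : ℝ))
      (fun _ _ => one_ne_zero) (fun i _ j _ => by rw [hη.orthonormal]; simp)
      (a := f) (x := fun ω => (b ω : ℝ)) (fun i _ => by rw [hb]; simp)
    have h0 := Cfsg.Lib.Coherence.inner_self_re_nonneg (f - Cfsg.Lib.Coherence.comb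
      (univ : Finset (W →* ℂˣ)) η fun i => (b i : ℝ) / 1)
    simp only [div_one] at h h0
    linarith
  set θ : G → ℂ := f - (c : ℂ) • (η (φ * ψ) - η (φ * ψ')) with hθdef
  have hθc : Cfsg.IsClassFunction G θ := fun x y => by
    simp only [hθdef, Pi.sub_apply, Pi.smul_apply,
      isClassFunction_generalized hf x y, isClassFunction_generalized (family_gen hη _) x y]
  have hθV : ∀ w : W, (w : G) ∉ W₁ → (w : G) ∉ W₂ → θ w = 0 := fun w h1 h2 => by
    simp only [hθdef, Pi.sub_apply, Pi.smul_apply, smul_eq_mul, hη.eq_on _ w h1 h2, hV w h1 h2,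
      sub_self]
  have hθi : ∀ ω, Cfsg.classInner θ (η ω) =
      ((b ω - ((if ω = φ * ψ then c else 0) - (if ω = φ * ψ' then c else 0)) : ℤ) : ℂ) := by
    intro ω
    rw [hθdef, classInner_sub_left, classInner_smul_left, classInner_sub_left, hb,
      hη.orthonormal, hη.orthonormal]
    by_cases h1 : ω = φ * ψ <;> by_cases h2 : ω = φ * ψ' <;> simp [h1, h2, eq_comm, hne]
  set I := {φ : W →* ℂˣ // OnFirst φ}
  set J := {ψ : W →* ℂˣ // OnSecond ψ}
  haveI : Fintype I := Fintype.ofFinite _
  haveI : Fintype J := Fintype.ofFinite _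
  set B : I → J → ℤ := fun x y => b (x.1 * y.1) with hB
  have hiff : ∀ (x : I) (y : J) (ψ₀ : W →* ℂˣ) (hψ₀ : OnSecond ψ₀),
      x.1 * y.1 = φ * ψ₀ ↔ x = ⟨φ, hφ⟩ ∧ y = ⟨ψ₀, hψ₀⟩ := fun x y ψ₀ hψ₀ => by
    rw [mul_eq_iff hW x.2 y.2 hφ hψ₀, Subtype.ext_iff, Subtype.ext_iff]
  have hpat : ∀ (x : I) (y : J), ((if x.1 * y.1 = φ * ψ then c else 0) -
      (if x.1 * y.1 = φ * ψ' then c else 0)) = (if x = (⟨φ, hφ⟩ : I) then
      (if y = (⟨ψ, hψ⟩ : J) then c else 0) - (if y = (⟨ψ', hψ'⟩ : J) then c else 0) else 0) :=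
    fun x y => by
      simp only [hiff _ _ _ hψ, hiff _ _ _ hψ']
      by_cases h1 : x = (⟨φ, hφ⟩ : I) <;> simp [h1]
  have hgrid : ∀ x y, B x y = if x = (⟨φ, hφ⟩ : I) then
      (if y = (⟨ψ, hψ⟩ : J) then c else 0) - (if y = (⟨ψ', hψ'⟩ : J) then c else 0) else 0 := by
    refine grid_two (by rw [← Nat.card_eq_fintype_card, card_onFirst hW]; exact h3)
      (by rw [← Nat.card_eq_fintype_card, card_onSecond hW]; exact h3') B ?_ _
      (fun e => hne (congrArg Subtype.val e)) hc fun x x' y y' => ?_
    · have hR : (∑ x : I, ∑ y : J, (B x y : ℝ) ^ 2) ≤ 2 := by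
        rw [← Fintype.sum_prod_type']
        refine le_trans (le_of_eq ?_) hsq
        exact Fintype.sum_equiv (dualEquiv hW) _ _ fun p => rfl
      exact_mod_cast hR
    · have key := fun (x : I) (y : J) => coeff_add hη hθc hθV x.2 y.2
      have h4 : Cfsg.classInner θ (η (x.1 * y.1)) + Cfsg.classInner θ (η (x'.1 * y'.1)) =
          Cfsg.classInner θ (η (x.1 * y'.1)) + Cfsg.classInner θ (η (x'.1 * y.1)) := by
        rw [key x y, key x' y', key x y', key x' y]; ring
      simp only [hθi] at h4
      have h5 := h4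
      norm_cast at h5
      simp only [hpat] at h5
      simp only [hB]
      exact h5
  intro ω
  obtain ⟨⟨x, y⟩, rfl⟩ := (dualEquiv hW).surjective ω
  rw [hb]
  show ((B x y : ℤ) : ℂ) = (if x.1 * y.1 = φ * ψ then (c : ℂ) else 0) -
    (if x.1 * y.1 = φ * ψ' then (c : ℂ) else 0)
  rw [hgrid x y]
  simp only [hiff _ _ _ hψ, hiff _ _ _ hψ']
  by_cases h1 : x = (⟨φ, hφ⟩ : I)
  · simp only [h1, true_and]
    push_cast
    rfl
  · simp [h1]

end Cfsg.Agent.PF
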