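import Cfsg.Agent.OddChar.PF.S04Support
import Cfsg.Agent.OddChar.PF.S04Grid
import Cfsg.Agent.OddChar.PF.S07DadeMap

/-!
# (4.7), (4.8): the Dade images of the differences of the characters `μ ω`
-/

set_option linter.unusedSectionVars false
set_option linter.unusedVariables false
set_option linter.style.haveILetI false
set_option autoImplicit false

namespace Cfsg.Agent.PF

open Finset
open Cfsg.Lib.Chars Cfsg.Lib.CyclicTI Cfsg.Lib.Dade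
open scoped ComplexConjugate

universe u

variable {G : Type u} [Group G] [Fintype G] {L K W₁ W₂ H : Subgroup G} [Fintype L] {A A₀ : Set G}
  {R : G → Subgroup G}
  {μ : (↥(W₁ ⊔ W₂) →* ℂˣ) → (↥L → ℂ)} {δ : (↥(W₁ ⊔ W₂) →* ℂˣ) → ℂ}

theorem sameColumn_mul {φ ψ : ↥(W₁ ⊔ W₂) →* ℂˣ} (hφ : OnFirst φ) :
    SameColumn W₁ W₂ (φ * ψ) ψ := fun w hw => by
  rw [MonoidHom.mul_apply, hφ w hw, one_mul]

theorem sameColumn_one {φ : ↥(W₁ ⊔ W₂) →* ℂˣ} (hφ : OnFirst φ) :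
    SameColumn W₁ W₂ φ 1 := fun w hw => by
  rw [hφ w hw, MonoidHom.one_apply]

theorem delta_mul (hT : PrimeTIChars L K W₁ W₂ μ δ) {φ ψ : ↥(W₁ ⊔ W₂) →* ℂˣ} (hφ : OnFirst φ) :
    δ (φ * ψ) = δ ψ := hT.sign_column _ _ (sameColumn_mul hφ)

theorem delta_sq (hT : PrimeTIChars L K W₁ W₂ μ δ) (ω : ↥(W₁ ⊔ W₂) →* ℂˣ) : δ ω * δ ω = 1 := by
  rcases hT.sign ω with h | h <;> simp [h]

namespace PrimeDade

variable (d : PrimeDade L K W₁ W₂ H A A₀ R) (hT : PrimeTIChars L K W₁ W₂ μ δ)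
include d hT

/-- A character of a column other than the principal one is not constant on `W₂`. -/
theorem exists_not_ker {ψ : ↥(W₁ ⊔ W₂) →* ℂˣ} (hψ : OnSecond ψ) (hψ1 : ψ ≠ 1) :
    ∃ a : L, (a : G) ∈ W₂ ∧ μ ψ a ≠ μ ψ 1 := by
  by_contra hcon
  push Not at hcon
  apply hψ1
  obtain ⟨w, hw, hw1⟩ := (Subgroup.bot_or_exists_ne_one W₁).resolve_left d.cycTI.1
  refine MonoidHom.ext fun z => ?_
  rw [MonoidHom.one_apply, ← pr_mul d.cycTI z, map_mul, hψ _ (pr₁_mem d.cycTI z), one_mul]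
  set b := pr₂ d.cycTI z
  have hb : (b : G) ∈ W₂ := pr₂_mem d.cycTI z
  set w' : ↥(W₁ ⊔ W₂) := ⟨w, Subgroup.mem_sup_left hw⟩
  have hw2 : w ∉ W₂ := fun h => hw1 (Subgroup.mem_bot.mp (d.cycTI.2.2.1 ▸ ⟨hw, h⟩))
  have hbw : ((b * w' : ↥(W₁ ⊔ W₂)) : G) ∉ W₂ := fun h => hw2 (by
    have := mul_mem (inv_mem hb) h
    rwa [Subgroup.coe_mul, inv_mul_cancel_left] at this)
  have hker := IsCharacter.ker_mul (isCharacter_of_irr (hT.irr ψ))
    (b := (⟨w, d.W₁_le hw⟩ : L)) (hcon ⟨b, d.W₂_le_L hb⟩ hb)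
  rw [hT.apply_off ψ (⟨b, d.W₂_le_L hb⟩ * ⟨w, d.W₁_le hw⟩) (b * w') rfl hbw,
    hT.apply_off ψ ⟨w, d.W₁_le hw⟩ w' rfl hw2, map_mul, Units.val_mul] at hker
  have hψw : ψ w' = 1 := hψ _ hw
  rw [hψw, Units.val_one, mul_one, mul_one] at hker
  have h0 : δ ψ ≠ 0 := fun h => by simpa [h] using delta_sq hT ψ
  exact Units.ext (mul_left_cancel₀ h0 (by rw [hker, Units.val_one, mul_one]))

/-- (4.7): the characters of the columns other than the principal one vanish on `K` off `A ∪ 1`. -/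
theorem vanish_K {ψ : ↥(W₁ ⊔ W₂) →* ℂˣ} (hψ : OnSecond ψ) (hψ1 : ψ ≠ 1) {l : L}
    (hl : (l : G) ∈ K) (hl1 : l ≠ 1) (hlA : (l : G) ∉ A) : μ ψ l = 0 := by
  classical
  haveI : ((H.subgroupOf L).subgroupOf (K.subgroupOf L)).Normal := by
    refine ⟨fun n hn g => ?_⟩
    have := (Subgroup.mem_normalizer_iff.mp (d.H_normal ((g : L) : L).2) ((n : L) : G)).mp hn
    simpa [Subgroup.mem_subgroupOf] using this
  obtain ⟨a, ha, hne⟩ := d.exists_not_ker hT hψ hψ1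
  refine vanish_of_centralizer ((H.subgroupOf L).subgroupOf (K.subgroupOf L)) (hT.res_irr ψ)
    (g := ⟨l, hl⟩) (fun hc => hne ?_) fun n hn hcomm => ?_
  · exact hc ⟨a, d.H_le (d.W₂_le ha)⟩ (d.W₂_le ha)
  · have hc' := congrArg (fun z : ↥(K.subgroupOf L) => (((z : L) : L) : G)) hcomm
    simp only [Subgroup.coe_mul] at hc'
    exact Subtype.ext (Subtype.ext (d.cent_trivial hl (fun h => hl1 (Subtype.ext h)) hlA hn hc'))

/-- A class function of `L` vanishing on `K` off `A₀` and on `W₁ ∖ 1` vanishes off `A₀`. -/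
theorem off_A₀ {f : L → ℂ} (hf : Cfsg.IsClassFunction L f)
    (hK : ∀ l : L, (l : G) ∈ K → (l : G) ∉ A₀ → f l = 0)
    (hW₁ : ∀ l : L, ∀ w : ↥(W₁ ⊔ W₂), (l : G) = w → (w : G) ∈ W₁ → (w : G) ∉ W₂ → f l = 0)
    (l : L) (hl : (l : G) ∉ A₀) : f l = 0 := by
  by_cases hlK : (l : G) ∈ K
  · exact hK l hlK hl
  · obtain ⟨k, hk, w, hw2, he⟩ := d.exists_conj_W l.2 hlK
    have hw1 : (w : G) ∈ W₁ := by_contra fun h => hl (by
      rw [he]; exact d.V_subset k hk w w.2 h hw2)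
    have := hW₁ ⟨w, d.W_le w.2⟩ w rfl hw1 hw2
    rw [← hf _ ⟨k, hk⟩] at this
    rwa [show l = ⟨k, hk⟩ * ⟨w, d.W_le w.2⟩ * (⟨k, hk⟩ : L)⁻¹ from Subtype.ext he]

theorem isClassFunction_μ (ω : ↥(W₁ ⊔ W₂) →* ℂˣ) : Cfsg.IsClassFunction L (μ ω) :=
  isClassFunction_isChar (isCharacter_of_irr (hT.irr ω))

/-- The signs of two columns of the same degree agree. -/
theorem delta_eq {φ ψ ψ' : ↥(W₁ ⊔ W₂) →* ℂˣ} (hφ : OnFirst φ)
    (hdeg : μ (φ * ψ) 1 = μ (φ * ψ') 1) : δ ψ = δ ψ' := by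
  classical
  obtain ⟨n, hn⟩ := hT.degree (φ * ψ)
  obtain ⟨n', hn'⟩ := hT.degree (φ * ψ')
  rw [delta_mul hT hφ] at hn hn'
  obtain ⟨-, -, h3, -, -⟩ := two_le_card_first d.cycTI d.odd_W
  have e : δ ψ' - δ ψ = ((n - n') * (Nat.card W₁ : ℤ) : ℤ) := by
    push_cast
    linear_combination hn - hn' - hdeg
  rcases hT.sign ψ with a | a <;> rcases hT.sign ψ' with b | b <;> rw [a, b] at e ⊢
  · exfalso
    have e' : ((-2 : ℤ) : ℂ) = (((n - n') * (Nat.card W₁ : ℤ) : ℤ) : ℂ) := by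
      rw [← e]; norm_num
    have hd : (Nat.card W₁ : ℤ) ∣ (2 : ℤ) := ⟨-(n - n'), by
      have := Int.cast_inj.mp e'; linarith⟩
    have := Int.le_of_dvd two_pos hd
    omega
  · exfalso
    have e' : ((2 : ℤ) : ℂ) = (((n - n') * (Nat.card W₁ : ℤ) : ℤ) : ℂ) := by
      rw [← e]; norm_num
    have hd : (Nat.card W₁ : ℤ) ∣ (2 : ℤ) := ⟨n - n', by
      have := Int.cast_inj.mp e'; linarith⟩
    have := Int.le_of_dvd two_pos hd
    omega

/-- The centraliser coset of an element of `W` outside both factors is trivial. -/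
theorem R_eq_bot {w : ↥(W₁ ⊔ W₂)} (hw₁ : (w : G) ∉ W₁) (hw₂ : (w : G) ∉ W₂) :
    R (w : G) = ⊥ := by
  have hw : (w : G) ∈ A₀ := by
    have := d.V_subset 1 (one_mem L) w w.2 hw₁ hw₂
    simpa using this
  refine eq_bot_iff.mpr fun u hu => ?_
  have hc := d.dade.le_centralizer _ hw hu
  have huW : u ∈ W₁ ⊔ W₂ := by
    refine tiSet d.cycTI u w ⟨w.2, not_or.mpr ⟨hw₁, hw₂⟩⟩ ?_
    rw [Subgroup.mem_centralizer_singleton_iff.mp hc, mul_inv_cancel_right]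
    exact ⟨w.2, not_or.mpr ⟨hw₁, hw₂⟩⟩
  rw [← d.dade.inf_eq_bot _ hw]
  exact ⟨hu, d.W_le huW, hc⟩

/-- The value of a Dade image at an element of `W` outside both factors. -/
theorem dade_apply_V {f : L → ℂ} (hf : Cfsg.IsClassFunction L f) {w : ↥(W₁ ⊔ W₂)}
    (hw₁ : (w : G) ∉ W₁) (hw₂ : (w : G) ∉ W₂) :
    Cfsg.dadeIsometry A₀ L R f w = f ⟨w, d.W_le w.2⟩ := by
  refine dade_apply d.dade hf ⟨w, d.W_le w.2⟩ ?_ (u := 1) (one_mem _) (x := 1) (by simp)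
  have := d.V_subset 1 (one_mem L) w w.2 hw₁ hw₂
  simpa using this

/-- A class function vanishing on `K` and off `A₀` has for Dade image the function induced from its
restriction to `W`. -/
theorem dade_eq_ind {f : L → ℂ} (hf : Cfsg.IsClassFunction L f)
    (hK : ∀ l : L, (l : G) ∈ K → f l = 0) (hA : ∀ l : L, (l : G) ∉ A₀ → f l = 0)
    (α : ↥(W₁ ⊔ W₂) → ℂ)
    (hα : ∀ w : ↥(W₁ ⊔ W₂), (w : G) ∉ W₁ → (w : G) ∉ W₂ → f ⟨w, d.W_le w.2⟩ = α w)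
    (hα0 : ∀ w : ↥(W₁ ⊔ W₂), (w : G) ∈ W₁ ∨ (w : G) ∈ W₂ → α w = 0)
    (hW₁ : ∀ l : L, ∀ w : ↥(W₁ ⊔ W₂), (l : G) = w → (w : G) ∈ W₁ → (w : G) ∉ W₂ → f l = 0) :
    Cfsg.dadeIsometry A₀ L R f = Cfsg.indFun (W₁ ⊔ W₂) α := by
  classical
  funext g
  have hcl := isClassFunction_indFun (W₁ ⊔ W₂) α
  by_cases hex : ∃ (x : G) (w : ↥(W₁ ⊔ W₂)), (w : G) ∉ W₁ ∧ (w : G) ∉ W₂ ∧ x * g * x⁻¹ = w
  · obtain ⟨x, w, hw₁, hw₂, he⟩ := hex
    rw [← isClassFunction_dade d.dade hf g x, ← hcl g x, he, d.dade_apply_V hT hf hw₁ hw₂,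
      hα w hw₁ hw₂]
    symm
    refine indFun_TI_apply' _ ((((W₁ ⊔ W₂ : Subgroup G)) : Set G) \ (↑W₁ ∪ ↑W₂))
      (fun g hg t ht hgt => absurd (tiSet d.cycTI g t ht hgt) hg)
      (fun a b => congrArg _ (by rw [comm d.cycTI b a, mul_inv_cancel_right])) (fun x hx => ?_) w
      ⟨w.2, not_or.mpr ⟨hw₁, hw₂⟩⟩ (fun h => hw₁ (by rw [h]; exact one_mem _))
    refine hα0 x ?_
    by_contra h
    exact hx ⟨x.2, h⟩
  · have h1 : Cfsg.dadeIsometry A₀ L R f g = 0 := by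
      by_cases h : ∃ a : L, (a : G) ∈ A₀ ∧ ∃ x : G, ∃ u ∈ R (a : G), x * g * x⁻¹ = (a : G) * u
      · obtain ⟨a, ha, x, u, hu, he⟩ := h
        rw [dade_apply d.dade hf a ha hu he]
        by_contra hne
        have haK : (a : G) ∉ K := fun h => hne (hK a h)
        obtain ⟨k, hk, w, hw₂, hak⟩ := d.exists_conj_W a.2 haK
        by_cases hw₁ : (w : G) ∈ W₁
        · refine hne ?_
          have := hW₁ ⟨w, d.W_le w.2⟩ w rfl hw₁ hw₂
          rw [← hf _ ⟨k, hk⟩] at this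
          rwa [show a = ⟨k, hk⟩ * ⟨w, d.W_le w.2⟩ * (⟨k, hk⟩ : L)⁻¹ from Subtype.ext hak]
        · have hwA : (w : G) ∈ A₀ := by
            have := d.V_subset 1 (one_mem L) w w.2 hw₁ hw₂
            simpa using this
          have hku : k⁻¹ * u * k⁻¹⁻¹ ∈ R (w : G) :=
            conj_mem_H' d.dade ha hwA (y := k⁻¹) (by rw [hak]; group) hu
          rw [d.R_eq_bot hT hw₁ hw₂, Subgroup.mem_bot, inv_inv, mul_assoc, inv_mul_eq_one] at hku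
          rw [show u = 1 from (mul_eq_right.mp hku.symm), mul_one, hak] at he
          exact hex ⟨k⁻¹ * x, w, hw₁, hw₂, by
            calc k⁻¹ * x * g * (k⁻¹ * x)⁻¹ = k⁻¹ * (x * g * x⁻¹) * k := by group
              _ = w := by rw [he]; group⟩
      · push Not at h
        exact dade_eq_zero f h
    rw [h1]
    symm
    rw [indFun_apply]
    refine mul_eq_zero_of_right _ (sum_eq_zero fun x _ => ?_)
    by_cases hxW : x⁻¹ * g * x ∈ W₁ ⊔ W₂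
    · rw [extendByZero_mem α hxW]
      refine hα0 _ ?_
      by_contra h
      rw [not_or] at h
      exact hex ⟨x⁻¹, ⟨_, hxW⟩, h.1, h.2, by rw [inv_inv]⟩
    · rw [extendByZero_not_mem α hxW]

end PrimeDade

open Classical in
theorem indFun_alpha_family {η : (↥(W₁ ⊔ W₂) →* ℂˣ) → (G → ℂ)}
    (hη : Cfsg.IsCyclicTIFamily W₁ W₂ η) {φ ψ : ↥(W₁ ⊔ W₂) →* ℂˣ} (hφ : OnFirst φ)
    (hψ : OnSecond ψ) :
    Cfsg.indFun (W₁ ⊔ W₂) (Cfsg.Lib.CyclicTI.alpha φ ψ) = η 1 - η φ - η ψ + η (φ * ψ) := by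
  by_cases h1 : φ = 1
  · subst h1
    rw [show Cfsg.Lib.CyclicTI.alpha (1 : ↥(W₁ ⊔ W₂) →* ℂˣ) ψ = 0 by funext w; simp [Cfsg.Lib.CyclicTI.alpha], indFun_zero,
      hom_one_mul]
    abel
  by_cases h2 : ψ = 1
  · subst h2
    rw [show Cfsg.Lib.CyclicTI.alpha φ (1 : ↥(W₁ ⊔ W₂) →* ℂˣ) = 0 by funext w; simp [Cfsg.Lib.CyclicTI.alpha], indFun_zero,
      hom_mul_one]
    abel
  rw [show Cfsg.Lib.CyclicTI.alpha φ ψ = fun w => 1 - (φ w : ℂ) - (ψ w : ℂ) + (φ w : ℂ) * (ψ w : ℂ) from rfl,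
    hη.induced_eq φ ψ h1 h2 hφ hψ]
  funext g
  simp [hη.map_one]

open Classical in
/-- (4.8), first kind. -/
theorem image_column (d : PrimeDade L K W₁ W₂ H A A₀ R) (hT : PrimeTIChars L K W₁ W₂ μ δ)
    {η : (↥(W₁ ⊔ W₂) →* ℂˣ) → (G → ℂ)} (hη : Cfsg.IsCyclicTIFamily W₁ W₂ η)
    {φ ψ ψ' : ↥(W₁ ⊔ W₂) →* ℂˣ} (hφ : OnFirst φ) (hψ : OnSecond ψ) (hψ' : OnSecond ψ')
    (h1 : ψ ≠ 1) (h1' : ψ' ≠ 1) (hdeg : μ (φ * ψ) 1 = μ (φ * ψ') 1) :
    δ ψ = δ ψ' ∧ (∀ l : L, (l : G) ∉ A₀ → (μ (φ * ψ) - μ (φ * ψ')) l = 0) ∧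
      Cfsg.dadeIsometry A₀ L R (μ (φ * ψ) - μ (φ * ψ')) =
        δ ψ • (η (φ * ψ) - η (φ * ψ')) := by
  have hδ := d.delta_eq hT hφ hdeg
  set f : L → ℂ := μ (φ * ψ) - μ (φ * ψ') with hfdef
  have hgen : Cfsg.IsGeneralizedCharacter L f :=
    IsGeneralizedCharacter.sub (IsCharacter.isGeneralized (isCharacter_of_irr (hT.irr _)))
      (IsCharacter.isGeneralized (isCharacter_of_irr (hT.irr _)))
  have hfc := isClassFunction_generalized hgen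
  have hval : ∀ l : L, ∀ w : ↥(W₁ ⊔ W₂), (l : G) = w → (w : G) ∉ W₂ →
      f l = δ ψ * (((φ * ψ) w : ℂ) - ((φ * ψ') w : ℂ)) := fun l w hlw hw => by
    rw [hfdef, Pi.sub_apply, hT.apply_off _ l w hlw hw, hT.apply_off _ l w hlw hw,
      delta_mul hT hφ, delta_mul hT hφ, ← hδ]
    ring
  have hoff : ∀ l : L, (l : G) ∉ A₀ → f l = 0 := by
    refine d.off_A₀ hT hfc (fun l hlK hlA => ?_) fun l w hlw hw₁ hw₂ => ?_
    · by_cases hl1 : l = 1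
      · rw [hl1, hfdef, Pi.sub_apply, hdeg, sub_self]
      · have hlA' : (l : G) ∉ A := fun h => hlA (d.A_subset_A₀ h)
        rw [hfdef, Pi.sub_apply, hT.column_on_K _ ψ (sameColumn_mul hφ) l hlK,
          hT.column_on_K _ ψ' (sameColumn_mul hφ) l hlK, d.vanish_K hT hψ h1 hlK hl1 hlA',
          d.vanish_K hT hψ' h1' hlK hl1 hlA', sub_self]
    · rw [hval l w hlw hw₂]
      simp [MonoidHom.mul_apply, hψ w hw₁, hψ' w hw₁]
  refine ⟨hδ, hoff, ?_⟩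
  by_cases hne : ψ = ψ'
  · subst hne
    have h0 : f = 0 := sub_self _
    rw [h0, sub_self, smul_zero]
    funext g
    simp [Cfsg.dadeIsometry]
  set T := Cfsg.dadeIsometry A₀ L R f with hTdef
  have hTg : Cfsg.IsGeneralizedCharacter G T := isGeneralized_dade d.dade hgen hoff
  have hne' : φ * ψ ≠ φ * ψ' := fun e => hne ((mul_eq_iff d.cycTI hφ hψ hφ hψ').mp e).2
  have hnorm : Cfsg.classInner T T = 2 := by
    rw [hTdef, classInner_dade_dade d.dade hfc hoff hfc, hfdef, classInner_sub_left,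
      classInner_sub_right, classInner_sub_right, classInner_self_irr (hT.irr _),
      classInner_self_irr (hT.irr _), classInner_irrChar (hT.irr _) (hT.irr _),
      classInner_irrChar (hT.irr _) (hT.irr _), if_neg (fun e => hne' (hT.injective e)),
      if_neg (fun e => hne' (hT.injective e).symm)]
    norm_num
  obtain ⟨c, hc, hcδ⟩ : ∃ c : ℤ, (c = 0 ∨ c = 1 ∨ c = -1) ∧ (c : ℂ) = δ ψ := by
    rcases hT.sign ψ with h | h
    · exact ⟨1, Or.inr (Or.inl rfl), by simp [h]⟩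
    · exact ⟨-1, Or.inr (Or.inr rfl), by simp [h]⟩
  have hco := coeff_of_norm_two d.cycTI d.odd_W hη hTg (by rw [hnorm]; simp) hc hφ hψ hψ' hne
    fun w hw₁ hw₂ => by
      rw [hTdef, d.dade_apply_V hT hfc hw₁ hw₂, hval _ w rfl hw₂, hcδ]
  refine sub_eq_zero.mp (Cfsg.Lib.Coherence.eq_zero_of_inner_self_re (le_of_eq ?_))
  have hs : (starRingEnd ℂ) (δ ψ) = δ ψ := by rcases hT.sign ψ with h | h <;> simp [h]
  have e1 := hco (φ * ψ)
  have e2 := hco (φ * ψ')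
  rw [if_pos rfl, if_neg hne', sub_zero, hcδ] at e1
  rw [if_neg hne'.symm, if_pos rfl, zero_sub, hcδ] at e2
  have e1' : Cfsg.classInner (η (φ * ψ)) T = δ ψ := by
    rw [← classInner_conj_symm, e1, hs]
  have e2' : Cfsg.classInner (η (φ * ψ')) T = -δ ψ := by
    rw [← classInner_conj_symm, e2, map_neg, hs]
  simp only [classInner_sub_left, classInner_sub_right, classInner_smul_left,
    classInner_smul_right, e1, e2, e1', e2', hnorm, hη.orthonormal, if_neg hne', if_neg hne'.symm,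
    if_true, hs]
  rcases hT.sign ψ with h | h <;> norm_num [h]

open Classical in
/-- (4.8), second kind. -/
theorem image_four (d : PrimeDade L K W₁ W₂ H A A₀ R) (hT : PrimeTIChars L K W₁ W₂ μ δ)
    {η : (↥(W₁ ⊔ W₂) →* ℂˣ) → (G → ℂ)} (hη : Cfsg.IsCyclicTIFamily W₁ W₂ η)
    {φ φ' ψ : ↥(W₁ ⊔ W₂) →* ℂˣ} (hφ : OnFirst φ) (hφ' : OnFirst φ') (hψ : OnSecond ψ) :
    (∀ l : L, (l : G) ∉ A₀ → (δ ψ • (μ (φ * ψ) - μ (φ' * ψ)) - μ φ + μ φ') l = 0) ∧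
      Cfsg.dadeIsometry A₀ L R (δ ψ • (μ (φ * ψ) - μ (φ' * ψ)) - μ φ + μ φ') =
        η (φ * ψ) - η (φ' * ψ) - η φ + η φ' := by
  set f : L → ℂ := δ ψ • (μ (φ * ψ) - μ (φ' * ψ)) - μ φ + μ φ' with hfdef
  have hfc : Cfsg.IsClassFunction L f := fun x y => by
    simp only [hfdef, Pi.add_apply, Pi.sub_apply, Pi.smul_apply, d.isClassFunction_μ hT _ x y]
  have hK : ∀ l : L, (l : G) ∈ K → f l = 0 := fun l hl => by
    simp only [hfdef, Pi.add_apply, Pi.sub_apply, Pi.smul_apply,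
      hT.column_on_K _ ψ (sameColumn_mul hφ) l hl, hT.column_on_K _ ψ (sameColumn_mul hφ') l hl,
      hT.column_on_K _ 1 (sameColumn_one hφ) l hl, hT.column_on_K _ 1 (sameColumn_one hφ') l hl]
    simp
  have hval : ∀ l : L, ∀ w : ↥(W₁ ⊔ W₂), (l : G) = w → (w : G) ∉ W₂ →
      f l = Cfsg.Lib.CyclicTI.alpha φ ψ w - Cfsg.Lib.CyclicTI.alpha φ' ψ w := fun l w hlw hw => by
    simp only [hfdef, Pi.add_apply, Pi.sub_apply, Pi.smul_apply, smul_eq_mul,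
      hT.apply_off _ l w hlw hw, delta_mul hT hφ, delta_mul hT hφ', hT.sign_one φ (sameColumn_one hφ),
      hT.sign_one φ' (sameColumn_one hφ'), Cfsg.Lib.CyclicTI.alpha, MonoidHom.mul_apply, Units.val_mul]
    linear_combination (((φ w : ℂ) - (φ' w : ℂ)) * (ψ w : ℂ)) * delta_sq hT ψ
  have hW₁ : ∀ l : L, ∀ w : ↥(W₁ ⊔ W₂), (l : G) = w → (w : G) ∈ W₁ → (w : G) ∉ W₂ → f l = 0 :=
    fun l w hlw hw₁ hw₂ => by
      rw [hval l w hlw hw₂, alpha_zero hφ hψ w (Or.inl hw₁), alpha_zero hφ' hψ w (Or.inl hw₁),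
        sub_self]
  have hoff : ∀ l : L, (l : G) ∉ A₀ → f l = 0 := d.off_A₀ hT hfc (fun l hl _ => hK l hl) hW₁
  refine ⟨hoff, ?_⟩
  rw [d.dade_eq_ind hT hfc hK hoff (Cfsg.Lib.CyclicTI.alpha φ ψ - Cfsg.Lib.CyclicTI.alpha φ' ψ) (fun w _ hw₂ => hval _ w rfl hw₂)
    (fun w hw => by rw [Pi.sub_apply, alpha_zero hφ hψ w hw, alpha_zero hφ' hψ w hw, sub_self])
    hW₁, indFun_sub, indFun_alpha_family hη hφ hψ, indFun_alpha_family hη hφ' hψ]
  abel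

/-- Statement (4.7), (4.8) of the interface. -/
theorem s04Images (G : Type u) [Group G] [Fintype G] : S04Images G := by
  intro L K W₁ W₂ H A A₀ R d _ μ δ hT η hη
  exact ⟨fun φ h1 h2 l hl hlA => d.induced_support h1 h2 hl hlA,
    fun φ ψ ψ' hφ hψ hψ' h1 h1' hdeg => image_column d hT hη hφ hψ hψ' h1 h1' hdeg,
    fun φ φ' ψ hφ hφ' hψ => image_four d hT hη hφ hφ' hψ⟩

end Cfsg.Agent.PF
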