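import Cfsg.Agent.OddChar.PF.S10Coherent
import Cfsg.Agent.Chars.Values

/-!
# Section 10: (10.8), the family is not coherent

The counting argument: outside the support of the Dade map the coherent image of a member of degree
`q` does not vanish at elements of order prime to `q`, and the remaining elements lie in a set that
is small.
-/

set_option linter.unusedSectionVars false
set_option linter.unusedVariables false
set_option linter.style.haveILetI false
set_option autoImplicit false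

universe u

namespace Cfsg.Agent.PF

open Cfsg.Lib.Chars Cfsg.Lib.CyclicTI Cfsg.Lib.Dade Cfsg.Lib.Coherence
open scoped ComplexConjugate

/-- The Dade hypothesis passes to an invariant subset. -/
theorem dade_mono {G : Type u} [Group G] {A B : Set G} {L : Subgroup G} {H : G → Subgroup G}
    (hD : Cfsg.DadeHypothesis A L H) (hBA : B ⊆ A)
    (hconj : ∀ x ∈ L, ∀ b ∈ B, x * b * x⁻¹ ∈ B) : Cfsg.DadeHypothesis B L H :=
  ⟨fun h => hD.one_not_mem (hBA h), hBA.trans hD.subset, hconj,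
    fun a ha g hg => hD.fusion a (hBA ha) g (hBA hg), fun a ha => hD.le_centralizer a (hBA ha),
    fun a ha => hD.conj_mem_H a (hBA ha), fun a ha => hD.inf_eq_bot a (hBA ha),
    fun a ha => hD.sup_eq a (hBA ha), fun a ha b hb => hD.coprime a (hBA ha) b (hBA hb)⟩

/-- The Dade map of an invariant subset agrees on functions supported there. -/
theorem dade_restrict {G : Type u} [Group G] [Fintype G] {A B : Set G} {L : Subgroup G} [Fintype L]
    {H : G → Subgroup G} (hD : Cfsg.DadeHypothesis A L H) (hBA : B ⊆ A)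
    (hconj : ∀ x ∈ L, ∀ b ∈ B, x * b * x⁻¹ ∈ B) {f : L → ℂ} (hf : Cfsg.IsClassFunction L f)
    (hfB : ∀ l : L, (l : G) ∉ B → f l = 0) :
    Cfsg.dadeIsometry A L H f = Cfsg.dadeIsometry B L H f := by
  classical
  funext g
  by_cases hB : ∃ a : L, (a : G) ∈ B ∧ ∃ x : G, ∃ u ∈ H (a : G), x * g * x⁻¹ = (a : G) * u
  · obtain ⟨a, ha, x, u, hu, he⟩ := hB
    rw [dade_apply hD hf a (hBA ha) hu he, dade_apply (dade_mono hD hBA hconj) hf a ha hu he]
  · rw [dade_eq_zero f fun a ha x u hu he => hB ⟨a, ha, x, u, hu, he⟩]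
    by_cases hA : ∃ a : L, (a : G) ∈ A ∧ ∃ x : G, ∃ u ∈ H (a : G), x * g * x⁻¹ = (a : G) * u
    · obtain ⟨a, ha, x, u, hu, he⟩ := hA
      rw [dade_apply hD hf a ha hu he]
      exact hfB a fun h => hB ⟨a, h, x, u, hu, he⟩
    · exact dade_eq_zero f fun a ha x u hu he => hA ⟨a, ha, x, u, hu, he⟩

namespace Setup10

variable {G : Type u} [Group G] [Fintype G] {M K W₁ W₂ : Subgroup G} [Fintype M]

local notation "W" => (W₁ ⊔ W₂ : Subgroup G)

variable (c : Setup10 M K W₁ W₂) {d n : ℕ} {e : ℤ}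
include c

theorem punct_subset : (K : Set G) \ {1} ⊆ c.A₀ := c.pd.A_subset_A₀

theorem punct_conj : ∀ x ∈ M, ∀ b ∈ (K : Set G) \ {1}, x * b * x⁻¹ ∈ (K : Set G) \ {1} :=
  fun x hx b hb => ⟨(Subgroup.mem_normalizer_iff.mp (c.pd.K_normal hx) b).mp hb.1,
    fun h => hb.2 (conj_eq_one_iff.mp h)⟩

theorem punct_dade : Cfsg.DadeHypothesis ((K : Set G) \ {1}) M c.R :=
  dade_mono c.hD c.punct_subset c.punct_conj

theorem isPunctured : IsPunctured ((K : Set G) \ {1}) M (K.subgroupOf M) := fun l => by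
  simp [Subgroup.mem_subgroupOf]

/-- `(p - 1) d² ≤ |K|`. -/
theorem deg_sq_le (hd : c.Deg d n e) : (Nat.card W₂ - 1) * d ^ 2 ≤ Nat.card K := by
  classical
  set r : ↥M → ℂ := fun l => if l = 1 then (Nat.card M : ℂ) else 0 with hr
  have hsum : ∀ f : ↥M → ℂ, Cfsg.classInner r f = conj (f 1) := by
    intro f
    rw [classInner_def, Finset.sum_eq_single (1 : ↥M) (fun b _ hb => by simp [hr, hb])
      (fun h => absurd (Finset.mem_univ _) h), hr]
    simp only [if_true]
    rw [← mul_assoc, inv_mul_cancel₀ (by exact_mod_cast Nat.card_pos.ne'), one_mul]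
  have hproj := project c.cols (e := redChar c.μ) (n := fun _ => (Nat.card W₁ : ℝ))
    (fun _ _ => by exact_mod_cast Nat.card_pos.ne')
    (fun ψ hψ ψ' hψ' => by
      rw [c.redChar_inner (c.mem_cols.mp hψ).1 (c.mem_cols.mp hψ').1, Complex.ofReal_natCast]
      by_cases h : ψ = ψ'
      · rw [if_pos h, if_pos h.symm]
      · rw [if_neg h, if_neg fun e' => h e'.symm])
    (a := r) (x := fun _ => (Nat.card W₁ : ℝ) * d)
    (fun ψ hψ => by
      rw [hsum, c.redChar_one, (hd.apply ψ hψ).1, map_mul, Complex.conj_natCast,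
        Complex.conj_natCast]
      push_cast
      rfl)
  have hpos := inner_self_re_nonneg (r - comb c.cols (redChar c.μ)
    fun i => (Nat.card W₁ : ℝ) * d / (Nat.card W₁ : ℝ))
  have hrr : (Cfsg.classInner r r).re = (Nat.card M : ℝ) := by
    rw [hsum, hr]
    simp
  have h := hrr.symm.trans hproj.2
  rw [Finset.sum_const, nsmul_eq_mul, c.card_M] at h
  have hq : (Nat.card W₁ : ℝ) ≠ 0 := by exact_mod_cast Nat.card_pos.ne'
  have hle : (c.cols.card : ℝ) * (d : ℝ) ^ 2 * (Nat.card W₁ : ℝ) ≤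
      (Nat.card K : ℝ) * (Nat.card W₁ : ℝ) := by
    have e1 : ((Nat.card W₁ : ℝ) * d) ^ 2 / (Nat.card W₁ : ℝ) =
        (d : ℝ) ^ 2 * (Nat.card W₁ : ℝ) := by field_simp
    rw [e1] at h
    push_cast at h
    linarith
  have hle' := le_of_mul_le_mul_right hle (by exact_mod_cast Nat.card_pos)
  rw [show Nat.card W₂ - 1 = c.cols.card by have := c.card_cols; omega]
  exact_mod_cast hle'

/-- `d² > 8 q`. -/
theorem deg_sq_gt (hd : c.Deg d n e) : 8 * Nat.card W₁ + 1 ≤ d ^ 2 := by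
  obtain ⟨ψ, hψ⟩ := c.cols_nonempty
  have hodd : Odd d := by
    have hdeg := IsIrrCharacter.deg_dvd (c.chars.res_irr ψ)
    have h1 := IsCharacter.apply_one_eq_deg (isCharacter_of_irr (c.chars.res_irr ψ))
    simp only [OneMemClass.coe_one, (hd.apply ψ hψ).1, Nat.cast_inj] at h1
    rw [← h1] at hdeg
    exact (c.pd.odd.of_dvd_nat (Subgroup.card_subgroup_dvd_card (K.subgroupOf M))).of_dvd_nat hdeg
  have hq : (Nat.card W₁ : ℤ) ∣ (d : ℤ) ^ 2 - 1 := by
    refine ⟨(n : ℤ) * (2 * e + n * Nat.card W₁), ?_⟩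
    rcases hd.sign with rfl | rfl <;> rw [hd.eq] <;> ring
  have h8 : (8 : ℤ) ∣ (d : ℤ) ^ 2 - 1 := by
    obtain ⟨k, rfl⟩ := hodd
    obtain ⟨m, hm⟩ := Int.even_mul_succ_self (k : ℤ)
    exact ⟨m, by push_cast; linear_combination 4 * hm⟩
  have hco : IsCoprime (8 : ℤ) (Nat.card W₁ : ℤ) := by
    have : Nat.Coprime 8 (Nat.card W₁) := by
      rw [show (8 : ℕ) = 2 ^ 3 by norm_num]
      exact Nat.Coprime.pow_left 3 (Nat.coprime_two_left.mpr c.card_facts.1)
    exact_mod_cast Nat.isCoprime_iff_coprime.mpr this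
  have hdvd := Int.le_of_dvd (by have : (2 : ℤ) ≤ d := by exact_mod_cast hd.one_lt
                                 nlinarith) (hco.mul_dvd h8 hq)
  have : (8 : ℤ) * Nat.card W₁ + 1 ≤ (d : ℤ) ^ 2 := by linarith
  exact_mod_cast this

/-- The elements of `A₀` are few. -/
theorem card_A₀_le : Nat.card {a : ↥M // (a : G) ∈ c.A₀} * (Nat.card W₁ * Nat.card W₂) ≤
    Nat.card K * (Nat.card W₁ * Nat.card W₂) +
      Nat.card K * Nat.card W₁ * ((Nat.card W₁ - 1) * (Nat.card W₂ - 1)) := by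
  classical
  let V := {w : ↥M // (w : G) ∈ W ∧ (w : G) ∉ W₁ ∧ (w : G) ∉ W₂}
  let F : {a : ↥M // (a : G) ∈ c.A₀} → ↥(K.subgroupOf M) ⊕ ((↥M ⧸ (W).subgroupOf M) × V) :=
    fun a => if h : (a.1 : G) ∈ K then Sum.inl ⟨a.1, h⟩ else
      have h' := (c.A₀_le _ a.2).resolve_left h
      Sum.inr (QuotientGroup.mk (⟨h'.choose, h'.choose_spec.1⟩ : ↥M),
        ⟨⟨h'.choose_spec.2.choose, c.W_le h'.choose_spec.2.choose_spec.1⟩,
          h'.choose_spec.2.choose_spec.1, h'.choose_spec.2.choose_spec.2.1,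
          h'.choose_spec.2.choose_spec.2.2.1⟩)
  have hF : Function.Injective F := by
    intro a b hab
    by_cases ha : (a.1 : G) ∈ K <;> by_cases hb : (b.1 : G) ∈ K <;>
      simp only [F, dif_pos, dif_neg, ha, hb, not_false_eq_true, reduceCtorEq] at hab
    · exact Subtype.ext (congrArg (fun x : ↥(K.subgroupOf M) => (x : ↥M)) (Sum.inl.inj hab))
    · have hm := ((c.A₀_le _ a.2).resolve_left ha).choose_spec.2.choose_spec
      have hn := ((c.A₀_le _ b.2).resolve_left hb).choose_spec.2.choose_spec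
      have h1 := congrArg Prod.fst (Sum.inr.inj hab)
      have h2 : ((c.A₀_le _ a.2).resolve_left ha).choose_spec.2.choose =
          ((c.A₀_le _ b.2).resolve_left hb).choose_spec.2.choose :=
        congrArg (fun x : _ × V => ((x.2.1 : ↥M) : G)) (Sum.inr.inj hab)
      refine Subtype.ext (Subtype.ext ?_)
      rw [hm.2.2.2, hn.2.2.2, ← h2]
      set m := ((c.A₀_le _ a.2).resolve_left ha).choose
      set m' := ((c.A₀_le _ b.2).resolve_left hb).choose
      set w := ((c.A₀_le _ a.2).resolve_left ha).choose_spec.2.choose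
      have hmem := QuotientGroup.eq.mp h1
      rw [Subgroup.mem_subgroupOf] at hmem
      simp only [Subgroup.coe_mul, Subgroup.coe_inv] at hmem
      have hc : m⁻¹ * m' * w = w * (m⁻¹ * m') :=
        congrArg Subtype.val (comm c.hW ⟨m⁻¹ * m', hmem⟩ ⟨w, hm.1⟩)
      calc m * w * m⁻¹ = m * (w * (m⁻¹ * m')) * m'⁻¹ := by group
        _ = m * (m⁻¹ * m' * w) * m'⁻¹ := by rw [hc]
        _ = m' * w * m'⁻¹ := by group
  have hV : Nat.card V = (Nat.card W₁ - 1) * (Nat.card W₂ - 1) := by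
    let g : {a : ↥W₁ // a ≠ 1} × {b : ↥W₂ // b ≠ 1} → V := fun x =>
      ⟨⟨(x.1.1 : G) * x.2.1, c.W_le (Subgroup.mul_mem_sup x.1.1.2 x.2.1.2)⟩,
        Subgroup.mul_mem_sup x.1.1.2 x.2.1.2,
        fun h => x.2.2 (Subtype.ext (by
          have : ((x.2.1 : ↥W₂) : G) ∈ W₁ ⊓ W₂ :=
            ⟨by simpa using W₁.mul_mem (W₁.inv_mem x.1.1.2) h, x.2.1.2⟩
          rwa [c.hW.2.2.1, Subgroup.mem_bot] at this)),
        fun h => x.1.2 (Subtype.ext (by
          have : ((x.1.1 : ↥W₁) : G) ∈ W₁ ⊓ W₂ :=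
            ⟨x.1.1.2, by simpa [mul_assoc] using W₂.mul_mem h (W₂.inv_mem x.2.1.2)⟩
          rwa [c.hW.2.2.1, Subgroup.mem_bot] at this))⟩
    have hg : Function.Bijective g := by
      constructor
      · rintro ⟨a, b⟩ ⟨a', b'⟩ h
        have h' : (a.1 : G) * b.1 = a'.1 * b'.1 := congrArg (fun v : V => ((v.1 : ↥M) : G)) h
        have hz : (a'.1 : G)⁻¹ * a.1 = b'.1 * (b.1 : G)⁻¹ := by
          rw [eq_mul_inv_iff_mul_eq, mul_assoc, h', inv_mul_cancel_left]
        have hmem : (a'.1 : G)⁻¹ * a.1 ∈ W₁ ⊓ W₂ :=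
          ⟨W₁.mul_mem (W₁.inv_mem a'.1.2) a.1.2, by
            rw [hz]; exact W₂.mul_mem b'.1.2 (W₂.inv_mem b.1.2)⟩
        rw [c.hW.2.2.1, Subgroup.mem_bot, inv_mul_eq_one] at hmem
        have ha : a = a' := Subtype.ext (Subtype.ext hmem.symm)
        subst ha
        exact Prod.ext rfl (Subtype.ext (Subtype.ext (mul_left_cancel h')))
      · rintro ⟨⟨w, hwM⟩, hw, hw1, hw2⟩
        have he : (pr₁ c.hW ⟨w, hw⟩ : G) * pr₂ c.hW ⟨w, hw⟩ = w :=
          congrArg Subtype.val (pr_mul c.hW ⟨w, hw⟩)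
        refine ⟨(⟨⟨_, pr₁_mem c.hW ⟨w, hw⟩⟩, fun h => hw2 ?_⟩,
          ⟨⟨_, pr₂_mem c.hW ⟨w, hw⟩⟩, fun h => hw1 ?_⟩), Subtype.ext (Subtype.ext he)⟩
        · show w ∈ W₂
          have h' : (pr₁ c.hW ⟨w, hw⟩ : G) = 1 := congrArg Subtype.val h
          rw [h', one_mul] at he
          exact he ▸ pr₂_mem c.hW ⟨w, hw⟩
        · show w ∈ W₁
          have h' : (pr₂ c.hW ⟨w, hw⟩ : G) = 1 := congrArg Subtype.val h
          rw [h', mul_one] at he
          exact he ▸ pr₁_mem c.hW ⟨w, hw⟩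
    rw [← Nat.card_eq_of_bijective g hg, Nat.card_prod]
    congr 1 <;> rw [Nat.card_eq_fintype_card, Nat.card_eq_fintype_card,
      Fintype.card_subtype_compl, Fintype.card_subtype_eq]
  have hWc : Nat.card ↥((W).subgroupOf M) = Nat.card W₁ * Nat.card W₂ := by
    rw [Nat.card_congr (Subgroup.subgroupOfEquivOfLe c.W_le).toEquiv,
      ← Cfsg.Lib.Dual.card_hom (A := ↥W) (comm c.hW), ← Nat.card_congr (dualEquiv c.hW),
      Nat.card_prod, card_onFirst c.hW, card_onSecond c.hW]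
  have hidx : Nat.card (↥M ⧸ (W).subgroupOf M) * (Nat.card W₁ * Nat.card W₂) =
      Nat.card K * Nat.card W₁ := by
    rw [← c.card_M, ← hWc, ← Subgroup.index_eq_card, Subgroup.index_mul_card]
  refine le_trans (Nat.mul_le_mul_right _ (Nat.card_le_card_of_injective F hF)) (le_of_eq ?_)
  rw [Nat.card_sum, Nat.card_prod, c.card_K, hV, add_mul]
  congr 1
  rw [← hidx]
  ring

/-- (10.8): if the elements outside the support with order not prime to `q` are few then the family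
is not coherent. -/
theorem not_coherent {D : Set G} (hDc : 7 * Nat.card W₂ * Nat.card D ≤ 3 * Nat.card G)
    (hcov : ∀ g : G, g ∉ dadeSupp c.A₀ c.R → ¬ (orderOf g).Coprime (Nat.card W₁) → g ∈ D) :
    ¬ Cfsg.IsCoherent (Cfsg.inducedIrrAbove (K.subgroupOf M) ⊥) {1}ᶜ c.τ := by
  classical
  rintro ⟨-, τ₁, h₁, hag⟩
  haveI := c.normal
  letI : Fintype ↥(K.subgroupOf M) := Fintype.ofFinite _
  obtain ⟨d, n, e, hd⟩ := c.exists_Deg
  obtain ⟨ζ, -, hζ, hirr, hζ1⟩ := c.exists_linear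
  obtain ⟨θ, hθ, hθne, hθker, rfl⟩ := id hζ
  have hlin : θ 1 = 1 := by
    rw [indFun_one, c.index_K] at hζ1
    exact mul_left_cancel₀ (by exact_mod_cast Nat.card_pos.ne') (hζ1.trans (mul_one _).symm)
  set ζ := Cfsg.indFun (K.subgroupOf M) θ with hζdef
  set z := τ₁ ζ with hzdef
  have hzc : Cfsg.IsClassFunction G z := isClassFunction_generalized (h₁.2.2.2 _ (subset_zspan hζ))
  set A : Set G := (K : Set G) \ {1} with hAdef
  have hA := c.isPunctured
  have hDA := c.punct_dade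
  have hag' : ∀ α ∈ Cfsg.zspanOn (Cfsg.inducedIrrAbove (K.subgroupOf M) ⊥) {1}ᶜ,
      τ₁ α = Cfsg.dadeIsometry A M c.R α := fun α hα => by
    rw [hag α hα]
    exact dade_restrict c.hD c.punct_subset c.punct_conj (isClassFunction_zspan hα.1)
      fun l hl => zspanOn_off hA hα l hl
  obtain ⟨k₀, hk₀⟩ := rho_coherent hDA hA h₁ hag' (subset_zspan hζ)
  obtain ⟨k, rfl⟩ := rho_coherent_int hDA hA (h₁.2.2.2 _ (subset_zspan hζ)) hθ hθne hlin hk₀
  -- the mass on the support of `K#`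
  set q : ℝ := (Nat.card W₁ : ℝ) with hq
  set p : ℝ := (Nat.card W₂ : ℝ) with hp
  set k₁ : ℝ := (Nat.card K : ℝ) with hk₁
  have hMc : (Nat.card M : ℝ) = k₁ * q := by rw [c.card_M]; push_cast; rfl
  have hq3 : 3 ≤ q := by rw [hq]; exact_mod_cast c.q_three
  have hp3 : 3 ≤ p := by rw [hp]; exact_mod_cast c.p_three
  have hKbig : (p - 1) * (8 * q + 1) ≤ k₁ := by
    have h1 : ((Nat.card W₂ - 1) * (8 * Nat.card W₁ + 1) : ℕ) ≤ Nat.card K :=
      le_trans (Nat.mul_le_mul_left _ (c.deg_sq_gt hd)) (c.deg_sq_le hd)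
    have h2 := (Nat.cast_le (α := ℝ)).mpr h1
    rw [Nat.cast_mul, Nat.cast_sub (le_trans (by norm_num) c.p_three)] at h2
    push_cast at h2
    linarith
  have hmass : 1 - q / k₁ ≤ (Nat.card G : ℝ)⁻¹ * ∑ᶠ g ∈ dadeSupp A c.R, ‖z g‖ ^ 2 := by
    refine le_trans ?_ (rho_mass hDA hzc)
    have h := mass_shift hA hθ hθne hlin (k : ℝ)
    rw [classInner_self_irr hirr, Complex.one_re, c.index_K, c.card_K, mul_one,
      finsum_mem_eq_finite_toFinset_sum _ (Set.toFinite _)] at h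
    have hge : (Nat.card M : ℝ) - q ^ 2 ≤ ∑ a : ↥M, ‖rho A M c.R z a‖ ^ 2 := by
      refine le_trans ?_ (Finset.sum_le_sum_of_subset_of_nonneg
        (Finset.subset_univ (Set.toFinite {a : ↥M | (a : G) ∈ A}).toFinset)
        fun a _ _ => sq_nonneg _)
      refine le_trans ?_ (le_of_eq (Finset.sum_congr rfl fun a ha => by
        rw [hk₀ a (by simpa [hAdef] using ha)]))
      rw [← hζdef] at h
      rw [show ((k : ℤ) : ℂ) = (((k : ℤ) : ℝ) : ℂ) from (Complex.ofReal_intCast k).symm, h]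
      rw [← hq, ← hk₁]
      have hk1 : 2 * q ≤ k₁ - 1 := by nlinarith
      rcases le_or_gt k 0 with hk0 | hk0
      · have : (k : ℝ) ≤ 0 := by exact_mod_cast hk0
        nlinarith [mul_nonneg (sq_nonneg (k : ℝ)) (by linarith : (0:ℝ) ≤ k₁ - 1),
          mul_nonneg (by linarith : (0:ℝ) ≤ -(k : ℝ)) (by linarith : (0:ℝ) ≤ q)]
      · have : (1 : ℝ) ≤ k := by exact_mod_cast hk0
        nlinarith [mul_le_mul_of_nonneg_left hk1 (by linarith : (0:ℝ) ≤ (k : ℝ)),
          mul_le_mul_of_nonneg_left this (by nlinarith : (0:ℝ) ≤ (k : ℝ) * (k₁ - 1))]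
    have hM0 : (0 : ℝ) < Nat.card M := by exact_mod_cast Nat.card_pos
    calc 1 - q / k₁ = (Nat.card M : ℝ)⁻¹ * ((Nat.card M : ℝ) - q ^ 2) := by
          rw [mul_sub, inv_mul_cancel₀ hM0.ne', hMc]
          field_simp
      _ ≤ _ := mul_le_mul_of_nonneg_left hge (inv_nonneg.mpr hM0.le)
  -- the elements outside
  set T := (Finset.univ.filter fun g : G =>
    g ∉ dadeSupp c.A₀ c.R ∧ (orderOf g).Coprime (Nat.card W₁)) with hT
  have hG0 : (0 : ℝ) < Nat.card G := by exact_mod_cast Nat.card_pos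
  have hTle : (T.card : ℝ) ≤ (Nat.card G : ℝ) * (q / k₁) := by
    have htot : ∑ g : G, ‖z g‖ ^ 2 = Nat.card G := by
      have h := h₁.2.2.1 _ (subset_zspan hζ) _ (subset_zspan hζ)
      rw [classInner_self_irr hirr, classInner_self, Complex.ofReal_eq_one] at h
      rwa [inv_mul_eq_one₀ hG0.ne', eq_comm] at h
    rw [finsum_mem_eq_finite_toFinset_sum _ (Set.toFinite _)] at hmass
    set U := (Set.toFinite (dadeSupp A c.R)).toFinset with hU
    have hdisj : T ⊆ Finset.univ \ U := fun g hg => by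
      simp only [hT, Finset.mem_filter, Finset.mem_univ, true_and] at hg
      refine Finset.mem_sdiff.mpr ⟨Finset.mem_univ _, fun h => hg.1 ?_⟩
      obtain ⟨a, ha, rest⟩ := (Set.Finite.mem_toFinset _).mp h
      exact ⟨a, c.punct_subset ha, rest⟩
    have h1 : (T.card : ℝ) ≤ ∑ g ∈ Finset.univ \ U, ‖z g‖ ^ 2 := by
      refine le_trans ?_ (Finset.sum_le_sum_of_subset_of_nonneg hdisj fun g _ _ => sq_nonneg _)
      rw [Finset.card_eq_sum_ones, Nat.cast_sum]
      refine Finset.sum_le_sum fun g hg => ?_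
      simp only [hT, Finset.mem_filter, Finset.mem_univ, true_and] at hg
      simpa using one_le_pow₀ (n := 2) (c.values_outside hd h₁ hag hζ hirr hζ1 hg.1 hg.2)
    rw [← Finset.sum_sdiff (Finset.subset_univ U)] at htot
    have h2 : (Nat.card G : ℝ) * (1 - q / k₁) ≤ ∑ g ∈ U, ‖z g‖ ^ 2 := by
      have := mul_le_mul_of_nonneg_left hmass hG0.le
      rwa [← mul_assoc, mul_inv_cancel₀ hG0.ne', one_mul] at this
    nlinarith
  -- the support of `A₀`
  have hA0 : (Nat.card (dadeSupp c.A₀ c.R) : ℝ) * (q * p) ≤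
      (Nat.card G : ℝ) * (p + (q - 1) * (p - 1)) := by
    have h := card_dadeSupp c.hD
    have h' := (Nat.cast_le (α := ℝ)).mpr c.card_A₀_le
    simp only [Nat.cast_add, Nat.cast_mul,
      Nat.cast_sub (le_trans (by norm_num) c.p_three : 1 ≤ Nat.card W₂),
      Nat.cast_sub (le_trans (by norm_num) c.q_three : 1 ≤ Nat.card W₁), Nat.cast_one] at h'
    rw [← hq, ← hp, ← hk₁] at h'
    rw [inv_mul_eq_iff_eq_mul₀ hG0.ne', hMc] at h
    rw [h]
    have hk0 : (0 : ℝ) < k₁ := by rw [hk₁]; exact_mod_cast Nat.card_pos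
    calc (Nat.card G : ℝ) * ((k₁ * q)⁻¹ * Nat.card {a : ↥M // (a : G) ∈ c.A₀}) * (q * p)
        = (Nat.card G : ℝ) * ((k₁ * q)⁻¹ *
            (Nat.card {a : ↥M // (a : G) ∈ c.A₀} * (q * p))) := by ring
      _ ≤ (Nat.card G : ℝ) * ((k₁ * q)⁻¹ * (k₁ * (q * p) + k₁ * q * ((q - 1) * (p - 1)))) := by
          gcongr
      _ = _ := by field_simp
  -- the whole group
  have hall : (Nat.card G : ℝ) ≤ Nat.card (dadeSupp c.A₀ c.R) + T.card + Nat.card D := by
    have hsub : (Finset.univ : Finset G) ⊆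
        (Set.toFinite (dadeSupp c.A₀ c.R)).toFinset ∪ T ∪ (Set.toFinite D).toFinset := by
      intro g _
      by_cases h1 : g ∈ dadeSupp c.A₀ c.R
      · simp [h1]
      by_cases h2 : (orderOf g).Coprime (Nat.card W₁)
      · exact Finset.mem_union_left _ (Finset.mem_union_right _
          (Finset.mem_filter.mpr ⟨Finset.mem_univ _, h1, h2⟩))
      · simp [hcov g h1 h2]
    have h := (Finset.card_le_card hsub).trans ((Finset.card_union_le _ _).trans
      (Nat.add_le_add_right (Finset.card_union_le _ _) _))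
    rw [Finset.card_univ, ← Nat.card_eq_fintype_card, ← Set.ncard_eq_toFinset_card _ (Set.toFinite _),
      ← Set.ncard_eq_toFinset_card _ (Set.toFinite _), ← Nat.card_coe_set_eq,
      ← Nat.card_coe_set_eq] at h
    exact_mod_cast h
  have hD' : 7 * p * (Nat.card D : ℝ) ≤ 3 * Nat.card G := by
    rw [hp]; exact_mod_cast hDc
  have hk0 : (0 : ℝ) < k₁ := by rw [hk₁]; exact_mod_cast Nat.card_pos
  have hT' : (T.card : ℝ) * k₁ ≤ (Nat.card G : ℝ) * q := by
    have := mul_le_mul_of_nonneg_right hTle hk0.le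
    rwa [mul_assoc, div_mul_cancel₀ _ hk0.ne'] at this
  -- the contradiction
  have hqp : 0 ≤ q * p := by positivity
  have key : (Nat.card G : ℝ) * ((4 * q - 7) * k₁) ≤ (Nat.card G : ℝ) * (7 * q * q * p) := by
    have e1 := mul_le_mul_of_nonneg_left hall (by positivity : (0 : ℝ) ≤ 7 * q * p * k₁)
    have e2 := mul_le_mul_of_nonneg_left hA0 (by positivity : (0 : ℝ) ≤ 7 * k₁)
    have e3 := mul_le_mul_of_nonneg_left hT' (by positivity : (0 : ℝ) ≤ 7 * q * p)
    have e4 := mul_le_mul_of_nonneg_left hD' (by positivity : (0 : ℝ) ≤ q * k₁)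
    nlinarith [e1, e2, e3, e4]
  have key' := le_of_mul_le_mul_left key hG0
  have h5 : (4 * q - 7) * ((p - 1) * (8 * q + 1)) ≤ 7 * q * q * p :=
    le_trans (mul_le_mul_of_nonneg_left hKbig (by linarith)) key'
  nlinarith [mul_nonneg (mul_nonneg (by linarith : (0:ℝ) ≤ q - 3) (by linarith : (0:ℝ) ≤ p - 3))
    (by linarith : (0:ℝ) ≤ q), mul_nonneg (by linarith : (0:ℝ) ≤ q - 3) (by linarith : (0:ℝ) ≤ p - 3)]

end Setup10

end Cfsg.Agent.PF
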