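import Cfsg.Agent.OddChar.PF.S09Interface
import Cfsg.Agent.OddLocal.FittingHall
import Cfsg.Agent.Coprime.Action

/-!
# Section 9: elementary consequences of the setting
-/

set_option linter.unusedSectionVars false
set_option linter.unusedVariables false
set_option linter.style.haveILetI false

universe u

namespace Cfsg.Agent.PF

open Subgroup
open scoped commutatorElement

variable {G : Type u} [Group G]

/-- Conjugation by an element of the normaliser stays inside. -/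
theorem s09_conj_mem {X : Subgroup G} {g x : G} (hg : g ∈ normalizer (X : Set G)) (hx : x ∈ X) :
    g * x * g⁻¹ ∈ X :=
  (mem_normalizer_iff.mp hg x).mp hx

theorem s09_conj_mem' {X : Subgroup G} {g x : G} (hg : g ∈ normalizer (X : Set G)) (hx : x ∈ X) :
    g⁻¹ * x * g ∈ X := by
  simpa using s09_conj_mem (inv_mem hg) hx

theorem s09_le_normalizer_of_conj {X A : Subgroup G} (h : ∀ a ∈ A, ∀ x ∈ X, a * x * a⁻¹ ∈ X) :
    A ≤ normalizer (X : Set G) := fun a ha =>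
  Cfsg.Lib.Coprime.mem_normalizer_of_conj_mem (h a ha) fun x hx => by
    simpa using h a⁻¹ (inv_mem ha) x hx

theorem s09_commutator_le_normal {X A N : Subgroup G} (hN : X ⊔ A ≤ normalizer (N : Set G))
    (h : X ≤ N) : ⁅X, A⁆ ≤ N := by
  rw [commutator_le]
  intro x hx a ha
  rw [commutatorElement_def, mul_assoc, mul_assoc, ← mul_assoc a]
  exact mul_mem (h hx) (s09_conj_mem (hN (mem_sup_right ha)) (inv_mem (h hx)))

/-- `{u ∈ U | [H, u] ⊆ H₀}` -/
def cmod (U H H₀ : Subgroup G) (hH : U ≤ normalizer (H : Set G))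
    (h₀ : U ≤ normalizer (H₀ : Set G)) : Subgroup G where
  carrier := {x | x ∈ U ∧ ∀ h ∈ H, ⁅h, x⁆ ∈ H₀}
  one_mem' := ⟨one_mem _, fun h _ => by simp⟩
  mul_mem' := by
    rintro x y ⟨hx, hx'⟩ ⟨hy, hy'⟩
    refine ⟨mul_mem hx hy, fun h hh => ?_⟩
    have e : ⁅h, x * y⁆ = ⁅h, x⁆ * (x * ⁅h, y⁆ * x⁻¹) := by
      simp only [commutatorElement_def]; group
    rw [e]
    exact mul_mem (hx' h hh) (s09_conj_mem (h₀ hx) (hy' h hh))
  inv_mem' := by
    rintro x ⟨hx, hx'⟩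
    refine ⟨inv_mem hx, fun h hh => ?_⟩
    have e : ⁅h, x⁻¹⁆ = x⁻¹ * ⁅h, x⁆⁻¹ * x := by
      simp only [commutatorElement_def]; group
    rw [e]
    exact s09_conj_mem' (h₀ hx) (inv_mem (hx' h hh))

theorem mem_centMod {U H H₀ : Subgroup G} (hH : U ≤ normalizer (H : Set G))
    (h₀ : U ≤ normalizer (H₀ : Set G)) {x : G} :
    x ∈ centMod U H H₀ ↔ x ∈ U ∧ ∀ h ∈ H, ⁅h, x⁆ ∈ H₀ := by
  have e : centMod U H H₀ = cmod U H H₀ hH h₀ := by
    refine le_antisymm (sSup_le ?_) (le_sSup ⟨fun y hy => hy.1, ?_⟩)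
    · rintro V ⟨hV, hV'⟩ y hy
      exact ⟨hV hy, fun h hh => hV' (commutator_mem_commutator hh hy)⟩
    · rw [commutator_le]
      exact fun h hh y hy => hy.2 h hh
  rw [e]
  exact Iff.rfl

theorem centMod_le (U H H₀ : Subgroup G) : centMod U H H₀ ≤ U := sSup_le fun _ hV => hV.1

theorem normalizer_centMod {U H H₀ A : Subgroup G} (hH : U ≤ normalizer (H : Set G))
    (h₀ : U ≤ normalizer (H₀ : Set G)) (hAU : A ≤ normalizer (U : Set G))
    (hAH : A ≤ normalizer (H : Set G)) (hA₀ : A ≤ normalizer (H₀ : Set G)) :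
    A ≤ normalizer (centMod U H H₀ : Set G) := by
  refine s09_le_normalizer_of_conj fun a ha x hx => ?_
  obtain ⟨hxU, hx'⟩ := (mem_centMod hH h₀).mp hx
  refine (mem_centMod hH h₀).mpr ⟨s09_conj_mem (hAU ha) hxU, fun h hh => ?_⟩
  have e : ⁅h, a * x * a⁻¹⁆ = a * ⁅a⁻¹ * h * a, x⁆ * a⁻¹ := by
    simp only [commutatorElement_def]; group
  rw [e]
  exact s09_conj_mem (hA₀ ha) (hx' _ (s09_conj_mem' (hAH ha) hh))

/-- `{h ∈ H | [h, U] ⊆ N}` -/
def fmod (U H N : Subgroup G) (hN : H ≤ normalizer (N : Set G)) : Subgroup G where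
  carrier := {h | h ∈ H ∧ ∀ x ∈ U, ⁅h, x⁆ ∈ N}
  one_mem' := ⟨one_mem _, fun x _ => by simp⟩
  mul_mem' := by
    rintro a b ⟨ha, ha'⟩ ⟨hb, hb'⟩
    refine ⟨mul_mem ha hb, fun x hx => ?_⟩
    have e : ⁅a * b, x⁆ = a * ⁅b, x⁆ * a⁻¹ * ⁅a, x⁆ := by
      simp only [commutatorElement_def]; group
    rw [e]
    exact mul_mem (s09_conj_mem (hN ha) (hb' x hx)) (ha' x hx)
  inv_mem' := by
    rintro a ⟨ha, ha'⟩
    refine ⟨inv_mem ha, fun x hx => ?_⟩
    have e : ⁅a⁻¹, x⁆ = a⁻¹ * ⁅a, x⁆⁻¹ * a := by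
      simp only [commutatorElement_def]; group
    rw [e]
    exact s09_conj_mem' (hN ha) (inv_mem (ha' x hx))

variable [Finite G] {M W₁ U W₂ : Subgroup G}

namespace Hyp9

theorem H_le_derived (h : Hyp9 M W₁ U W₂) : Cfsg.fittingHallOf M ≤ ⁅M, M⁆ := h.typeP.U_compl.1

theorem U_le_derived (h : Hyp9 M W₁ U W₂) : U ≤ ⁅M, M⁆ := h.typeP.U_compl.2.1

theorem H_le (_h : Hyp9 M W₁ U W₂) : Cfsg.fittingHallOf M ≤ M :=
  Cfsg.Lib.FittingHall.fittingHallOf_le M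

theorem U_le (h : Hyp9 M W₁ U W₂) : U ≤ M :=
  h.U_le_derived.trans (Subgroup.commutator_le_self M)

theorem W₁_le (h : Hyp9 M W₁ U W₂) : W₁ ≤ M := h.typeP.W₁_compl.2.1

theorem W₂_le_H (h : Hyp9 M W₁ U W₂) : W₂ ≤ Cfsg.fittingHallOf M :=
  h.typeP.W₂_le.trans inf_le_left

theorem derived_eq (h : Hyp9 M W₁ U W₂) : Cfsg.fittingHallOf M ⊔ U = ⁅M, M⁆ := by
  refine le_antisymm (sup_le h.H_le_derived h.U_le_derived) fun x hx => ?_
  obtain ⟨a, ha, b, hb, rfl⟩ := h.typeP.U_compl.2.2.2 x hx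
  exact mul_mem_sup ha hb

theorem M_eq (h : Hyp9 M W₁ U W₂) : Cfsg.fittingHallOf M ⊔ U ⊔ W₁ = M := by
  refine le_antisymm (sup_le (sup_le h.H_le h.U_le) h.W₁_le) fun x hx => ?_
  obtain ⟨a, ha, b, hb, rfl⟩ := h.typeP.W₁_compl.2.2.2 x hx
  rw [← h.derived_eq] at ha
  exact mul_mem_sup ha hb

theorem normal_of (h : Hyp9 M W₁ U W₂) {X : Subgroup G}
    (h1 : Cfsg.fittingHallOf M ≤ normalizer (X : Set G)) (h2 : U ≤ normalizer (X : Set G))
    (h3 : W₁ ≤ normalizer (X : Set G)) : M ≤ normalizer (X : Set G) :=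
  h.M_eq.symm.le.trans (sup_le (sup_le h1 h2) h3)

theorem M_le_normalizer_H (_h : Hyp9 M W₁ U W₂) :
    M ≤ normalizer (Cfsg.fittingHallOf M : Set G) :=
  Cfsg.Lib.FittingHall.le_normalizer_fittingHallOf M

theorem W₁_le_normalizer_U (h : Hyp9 M W₁ U W₂) : W₁ ≤ normalizer (U : Set G) := h.typeP.U_normal

theorem card_derived (h : Hyp9 M W₁ U W₂) :
    Nat.card ↥⁅M, M⁆ = Nat.card (Cfsg.fittingHallOf M) * Nat.card U := by
  rw [← h.derived_eq]
  exact Cfsg.Lib.Coprime.card_sup_of_inf_eq_bot (h.U_le.trans h.M_le_normalizer_H)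
    h.typeP.U_compl.2.2.1

theorem M_le_normalizer_derived (_h : Hyp9 M W₁ U W₂) :
    M ≤ normalizer ((⁅M, M⁆ : Subgroup G) : Set G) :=
  Cfsg.Lib.Coprime.le_normalizer_commutator_right M M

theorem card_eq (h : Hyp9 M W₁ U W₂) : Nat.card M = Nat.card ↥⁅M, M⁆ * Nat.card W₁ := by
  conv_lhs => rw [← h.M_eq, h.derived_eq]
  exact Cfsg.Lib.Coprime.card_sup_of_inf_eq_bot (h.W₁_le.trans h.M_le_normalizer_derived)
    h.typeP.W₁_compl.2.2.1

theorem coprime_derived (h : Hyp9 M W₁ U W₂) :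
    (Nat.card ↥⁅M, M⁆).Coprime (Nat.card W₁) := by
  have h1 := Subgroup.card_mul_index (W₁.subgroupOf M)
  rw [Nat.card_congr (Subgroup.subgroupOfEquivOfLe h.W₁_le).toEquiv, h.card_eq,
    mul_comm (Nat.card ↥⁅M, M⁆)] at h1
  have h2 : W₁.relIndex M = Nat.card ↥⁅M, M⁆ := Nat.eq_of_mul_eq_mul_left Nat.card_pos h1
  exact h2 ▸ h.typeP.W₁_hall.symm

theorem coprime_H_UW (h : Hyp9 M W₁ U W₂) :
    (Nat.card (Cfsg.fittingHallOf M)).Coprime (Nat.card U * Nat.card W₁) :=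
  Nat.Coprime.mul_right (Cfsg.Lib.FittingHall.coprime_compl h.typeP)
    (h.coprime_derived.coprime_dvd_left (Subgroup.card_dvd_of_le h.H_le_derived))

theorem coprime_U_W (h : Hyp9 M W₁ U W₂) : (Nat.card U).Coprime (Nat.card W₁) :=
  h.coprime_derived.coprime_dvd_left (Subgroup.card_dvd_of_le h.U_le_derived)

/-- `W₁` acts without fixed points on `U`. -/
theorem fpf (h : Hyp9 M W₁ U W₂) {w : G} (hw : w ∈ W₁) (hw1 : w ≠ 1) :
    U ⊓ centralizer ({w} : Set G) = ⊥ := by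
  refine le_antisymm (fun x hx => ?_) bot_le
  have h1 : x ∈ W₂ := (h.typeP.W₂_centralizer w hw hw1).le ⟨h.U_le_derived hx.1, hx.2⟩
  exact h.typeP.U_compl.2.2.1.le ⟨h.W₂_le_H h1, hx.1⟩

theorem fpf' (h : Hyp9 M W₁ U W₂) :
    ∀ w ∈ W₁, w ≠ 1 → ∀ x ∈ U, w * x = x * w → x = 1 := by
  intro w hw hw1 x hx hc
  have : x ∈ U ⊓ centralizer ({w} : Set G) := ⟨hx, mem_centralizer_iff.mpr fun y hy => by
    rw [Set.mem_singleton_iff.mp hy]; exact hc⟩
  rwa [h.fpf hw hw1, Subgroup.mem_bot] at this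

theorem nilpotent_H (_h : Hyp9 M W₁ U W₂) : Group.IsNilpotent (Cfsg.fittingHallOf M) := by
  haveI : Group.IsNilpotent ↥(Cfsg.fittingOf M) :=
    haveI := Cfsg.Lib.Components.isNilpotent_fitting (G := M)
    Group.nilpotent_of_mulEquiv (Subgroup.equivMapOfInjective _ _ M.subtype_injective)
  exact Group.nilpotent_of_mulEquiv
    (Subgroup.subgroupOfEquivOfLe (Cfsg.Lib.FittingHall.fittingHallOf_le_fittingOf M))

theorem solvable_H (h : Hyp9 M W₁ U W₂) : Group.IsSolvable (Cfsg.fittingHallOf M) :=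
  haveI := h.nilpotent_H
  inferInstance

/-- `C_H(W₁) = W₂` -/
theorem H_inf_centralizer (h : Hyp9 M W₁ U W₂) :
    Cfsg.fittingHallOf M ⊓ centralizer (W₁ : Set G) = W₂ := by
  refine le_antisymm ?_ (le_inf h.W₂_le_H ?_)
  · rintro x ⟨hx, hx'⟩
    obtain ⟨w, hw1, hw⟩ := Subgroup.bot_or_exists_ne_one W₁ |>.resolve_left h.typeP.W₁_ne |>
      (fun ⟨w, hw, hw1⟩ => (⟨w, hw1, hw⟩ : ∃ w, w ≠ 1 ∧ w ∈ W₁))
    refine (h.typeP.W₂_centralizer w hw hw1).le ⟨h.H_le_derived hx, ?_⟩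
    exact centralizer_le (Set.singleton_subset_iff.mpr hw) hx'
  · intro x hx
    rw [mem_centralizer_iff]
    exact fun w hw => h.typeP.selfNormalizing.2.2.2.1 w hw x hx

theorem derived_U_le_centralizer (h : Hyp9 M W₁ U W₂) :
    ⁅U, U⁆ ≤ centralizer (Cfsg.fittingHallOf M : Set G) :=
  Cfsg.Lib.FittingHall.derived_le_centralizer h.typeP

end Hyp9

namespace Kernel9

variable {H₀ : Subgroup G}

theorem U_le_normalizer (h : Hyp9 M W₁ U W₂) (k : Kernel9 M U H₀) :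
    U ≤ normalizer (H₀ : Set G) := h.U_le.trans k.normal

theorem mem_C (h : Hyp9 M W₁ U W₂) (k : Kernel9 M U H₀) {x : G} :
    x ∈ centMod U (Cfsg.fittingHallOf M) H₀ ↔
      x ∈ U ∧ ∀ y ∈ Cfsg.fittingHallOf M, ⁅y, x⁆ ∈ H₀ :=
  mem_centMod (h.U_le.trans h.M_le_normalizer_H) (k.U_le_normalizer h)

theorem C_lt (h : Hyp9 M W₁ U W₂) (k : Kernel9 M U H₀) :
    centMod U (Cfsg.fittingHallOf M) H₀ < U := by
  refine lt_of_le_of_ne (centMod_le _ _ _) fun e => k.nontrivial ?_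
  rw [commutator_le]
  exact fun y hy x hx => ((k.mem_C h).mp (e.symm ▸ hx)).2 y hy

theorem derived_U_le (h : Hyp9 M W₁ U W₂) (k : Kernel9 M U H₀) :
    ⁅U, U⁆ ≤ centMod U (Cfsg.fittingHallOf M) H₀ := fun x hx =>
  (k.mem_C h).mpr ⟨Subgroup.commutator_le_self U hx, fun y hy => by
    have e := mem_centralizer_iff.mp (h.derived_U_le_centralizer hx) y hy
    have : ⁅y, x⁆ = 1 := by rw [commutatorElement_def, e]; group
    rw [this]
    exact one_mem _⟩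

theorem U_normalizes_C (h : Hyp9 M W₁ U W₂) (k : Kernel9 M U H₀) :
    U ≤ normalizer (centMod U (Cfsg.fittingHallOf M) H₀ : Set G) :=
  normalizer_centMod (h.U_le.trans h.M_le_normalizer_H) (k.U_le_normalizer h) le_normalizer
    (h.U_le.trans h.M_le_normalizer_H) (k.U_le_normalizer h)

theorem W₁_normalizes_C (h : Hyp9 M W₁ U W₂) (k : Kernel9 M U H₀) :
    W₁ ≤ normalizer (centMod U (Cfsg.fittingHallOf M) H₀ : Set G) :=
  normalizer_centMod (h.U_le.trans h.M_le_normalizer_H) (k.U_le_normalizer h)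
    h.W₁_le_normalizer_U (h.W₁_le.trans h.M_le_normalizer_H) (h.W₁_le.trans k.normal)

theorem M_normalizes_sup (h : Hyp9 M W₁ U W₂) (k : Kernel9 M U H₀) :
    M ≤ normalizer ((H₀ ⊔ centMod U (Cfsg.fittingHallOf M) H₀ : Subgroup G) : Set G) := by
  refine h.normal_of (s09_le_normalizer_of_conj fun a ha x hx => ?_)
    (Cfsg.Lib.Coprime.le_normalizer_sup (k.U_le_normalizer h) (k.U_normalizes_C h))
    (Cfsg.Lib.Coprime.le_normalizer_sup (h.W₁_le.trans k.normal) (k.W₁_normalizes_C h))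
  obtain ⟨n, hn, c, hc, rfl⟩ := (Cfsg.Lib.Coprime.mem_sup_of_le_normalizer
    ((centMod_le _ _ _).trans (k.U_le_normalizer h))).mp hx
  have e : a * (n * c) * a⁻¹ = a * n * a⁻¹ * ⁅a, c⁆ * c := by
    simp only [commutatorElement_def]; group
  rw [e]
  exact mul_mem (mul_mem (mem_sup_left (s09_conj_mem (k.normal (h.H_le ha)) hn))
    (mem_sup_left (((k.mem_C h).mp hc).2 a ha))) (mem_sup_right hc)

end Kernel9

end Cfsg.Agent.PF
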