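import Cfsg.Agent.OddChar.PF.Sec08Dade
import Cfsg.Agent.OddChar.PF.Final
import Cfsg.Agent.OddChar.PF.S09Basic
import Cfsg.Agent.OddLocal.ExceptionalBase
import Cfsg.Agent.OddChar.CyclicTI

/-!
# Section 10: the partner of a maximal subgroup of type III, IV or V

A maximal subgroup `M` of type III, IV or V has a partner `T` of type II sharing `W₁ W₂`; the
elements conjugate into `A(T)` are few and cover the elements of order not prime to `|W₁|` outside
the conjugates of `W ∖ (W₁ ∪ W₂)`.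
-/

set_option linter.unusedSectionVars false
set_option linter.unusedVariables false
set_option linter.style.haveILetI false
set_option autoImplicit false

universe u

namespace Cfsg.Agent.PF

open Subgroup
open scoped commutatorElement

theorem selfNormalizing_swap {G : Type u} [Group G] {W₁ W₂ : Subgroup G}
    (h : Cfsg.IsSelfNormalizingCyclic W₁ W₂) : Cfsg.IsSelfNormalizingCyclic W₂ W₁ := by
  obtain ⟨h1, h2, h3, h4, h5, h6⟩ := h
  refine ⟨h2, h1, by rw [inf_comm]; exact h3, fun a ha b hb => (h4 b hb a ha).symm,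
    by rw [sup_comm]; exact h5, fun X hX hne => ?_⟩
  rw [sup_comm W₂ W₁] at hX ⊢
  exact h6 X (fun x hx => by rw [Set.union_comm]; exact hX hx) hne

/-- The order of `T'` is prime to that of its complement `A`. -/
theorem coprime_derived_compl {G : Type u} [Group G] [Finite G] {T A U B : Subgroup G}
    (hP : Cfsg.IsTypePWith T A U B) :
    (Nat.card (⁅T, T⁆ : Subgroup G)).Coprime (Nat.card A) := by
  have hN : T ≤ Subgroup.normalizer ((⁅T, T⁆ : Subgroup G) : Set G) :=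
    Cfsg.Lib.Coprime.le_normalizer_commutator_right T T
  have hc : Nat.card T = Nat.card (⁅T, T⁆ : Subgroup G) * Nat.card A := by
    rw [← Cfsg.Lib.Coprime.card_sup_of_inf_eq_bot (hP.W₁_compl.2.1.trans hN) hP.W₁_compl.2.2.1]
    congr 2
    refine le_antisymm (fun m hm => ?_) (sup_le hP.W₁_compl.1 hP.W₁_compl.2.1)
    obtain ⟨a, ha, b, hb, rfl⟩ := hP.W₁_compl.2.2.2 m hm
    exact Subgroup.mul_mem_sup ha hb
  have hrel : A.relIndex T = Nat.card (⁅T, T⁆ : Subgroup G) := by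
    refine Nat.eq_of_mul_eq_mul_left (Nat.card_pos (α := A)) ?_
    rw [mul_comm _ (Nat.card (⁅T, T⁆ : Subgroup G)), ← hc,
      ← Nat.card_congr (subgroupOfEquivOfLe hP.W₁_compl.2.1).toEquiv]
    exact card_mul_index _
  rw [← hrel]
  exact hP.W₁_hall.symm

/-- Every element of `L ∖ K` is conjugate in `L` to an element of `W ∖ W₂`. -/
theorem exists_conj_W_of {G : Type u} [Group G] [Finite G] {L K W₁ W₂ : Subgroup G}
    (hcompl : Cfsg.IsComplIn K W₁ L) (hKn : L ≤ Subgroup.normalizer (K : Set G))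
    (hcop : (Nat.card K).Coprime (Nat.card W₁))
    (hcent : ∀ x ∈ W₁, x ≠ 1 → K ⊓ Subgroup.centralizer ({x} : Set G) = W₂)
    (hW : Cfsg.IsSelfNormalizingCyclic W₁ W₂) {x : G} (hx : x ∈ L) (hxK : x ∉ K) :
    ∃ l ∈ L, ∃ w : ↥(W₁ ⊔ W₂), (w : G) ∉ W₂ ∧ x = l * w * l⁻¹ := by
  obtain ⟨k₀, hk₀, w₀, hw₀, hx0⟩ := hcompl.2.2.2 _ hx
  obtain ⟨t, htn, htm⟩ := Nat.chineseRemainder hcop 0 1
  set x₁ := x ^ t with hx₁
  have hcardL : Nat.card L = Nat.card K * Nat.card W₁ := by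
    have hn : W₁ ≤ Subgroup.normalizer (K : Set G) := hcompl.2.1.trans hKn
    rw [← Cfsg.Lib.Coprime.card_sup_of_inf_eq_bot hn hcompl.2.2.1]
    congr 2
    refine le_antisymm (fun y hy => ?_) (sup_le hcompl.1 hcompl.2.1)
    obtain ⟨a, ha, b, hb, rfl⟩ := hcompl.2.2.2 y hy
    exact Subgroup.mul_mem_sup ha hb
  have hordL : x ^ (Nat.card K * Nat.card W₁) = 1 := by
    rw [← hcardL]
    exact congrArg Subtype.val (pow_card_eq_one' (x := (⟨x, hx⟩ : L)))
  obtain ⟨s, hs⟩ := Nat.modEq_zero_iff_dvd.mp htn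
  have hx₁m : x₁ ^ Nat.card W₁ = 1 := by
    rw [hx₁, ← pow_mul, hs, mul_right_comm, pow_mul, hordL, one_pow]
  have hx₁c : (Nat.card K).Coprime (Nat.card (Subgroup.zpowers x₁)) := by
    rw [Nat.card_zpowers]
    exact hcop.coprime_dvd_right (orderOf_dvd_of_pow_eq_one hx₁m)
  have hsupW : W₁ ⊔ K = L := le_antisymm (sup_le hcompl.2.1 hcompl.1) fun y hy => by
    obtain ⟨a, ha, b, hb, rfl⟩ := hcompl.2.2.2 y hy
    exact mul_mem (Subgroup.mem_sup_right ha) (Subgroup.mem_sup_left hb)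
  obtain ⟨k, hk, hle⟩ := Cfsg.Lib.Coprime.exists_conj_le_of_coprime (N := K) (H := W₁)
    (L := Subgroup.zpowers x₁) (hcompl.2.1.trans hKn) hcop
    (Or.inr (Group.isSolvable_of_comm fun a b => by
      obtain ⟨i, hi⟩ := a.2
      obtain ⟨j, hj⟩ := b.2
      exact Subtype.ext (by simp [← hi, ← hj, ← zpow_add, add_comm])))
    (by rw [Subgroup.zpowers_le, sup_comm, hsupW]; exact pow_mem hx t) hx₁c
  have ha : k⁻¹ * x₁ * k ∈ W₁ :=
    Cfsg.Lib.Coprime.mem_conjMap.mp (hle (Subgroup.mem_zpowers x₁))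
  set a := k⁻¹ * x₁ * k with hadef
  have ha1 : a ≠ 1 := by
    intro h
    apply hxK
    -- then the `W₁` component of `x` is trivial
    haveI : (K.subgroupOf L).Normal := ((Subgroup.normal_subgroupOf_iff_le_normalizer hcompl.1).mpr hKn)
    set π := QuotientGroup.mk' (K.subgroupOf L)
    have hxl : (⟨x, hx⟩ : L) = ⟨k₀, hcompl.1 hk₀⟩ * ⟨w₀, hcompl.2.1 hw₀⟩ := Subtype.ext hx0
    have hπk : π ⟨k₀, hcompl.1 hk₀⟩ = 1 := (QuotientGroup.eq_one_iff _).mpr hk₀
    have h1 : x₁ = 1 := by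
      rw [hadef, mul_assoc, inv_mul_eq_one] at h
      exact (mul_eq_right.mp h.symm)
    have h2 : π ⟨w₀, hcompl.2.1 hw₀⟩ ^ t = 1 := by
      have h3 : π ⟨x, hx⟩ ^ t = 1 := by
        rw [← map_pow, show (⟨x, hx⟩ : L) ^ t = 1 from Subtype.ext (by simpa [hx₁] using h1), map_one]
      rwa [hxl, map_mul, hπk, one_mul] at h3
    have h4 : π ⟨w₀, hcompl.2.1 hw₀⟩ ^ Nat.card W₁ = 1 := by
      have h7 : w₀ ^ Nat.card W₁ = 1 :=
        congrArg Subtype.val (pow_card_eq_one' (x := (⟨w₀, hw₀⟩ : W₁)))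
      rw [← map_pow, show (⟨w₀, hcompl.2.1 hw₀⟩ : L) ^ Nat.card W₁ = 1 from Subtype.ext h7, map_one]
    have h5 : π ⟨w₀, hcompl.2.1 hw₀⟩ = 1 := by
      rw [← pow_one (π ⟨w₀, hcompl.2.1 hw₀⟩)]
      have hd := orderOf_dvd_of_pow_eq_one h4
      exact (pow_eq_pow_iff_modEq.mpr (htm.of_dvd hd)).symm.trans h2
    have hw0K : w₀ ∈ K := (QuotientGroup.eq_one_iff (⟨w₀, hcompl.2.1 hw₀⟩ : L)).mp h5
    rw [hx0]
    exact mul_mem hk₀ hw0K
  set y := k⁻¹ * x * k with hy
  have hya : y * a = a * y := by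
    rw [hy, hadef]
    have : x * x₁ = x₁ * x := (Commute.pow_self x t).symm
    calc k⁻¹ * x * k * (k⁻¹ * x₁ * k) = k⁻¹ * (x * x₁) * k := by group
      _ = k⁻¹ * (x₁ * x) * k := by rw [this]
      _ = k⁻¹ * x₁ * k * (k⁻¹ * x * k) := by group
  have hyL : y ∈ L := mul_mem (mul_mem (inv_mem (hcompl.1 hk)) hx) (hcompl.1 hk)
  obtain ⟨k', hk', w', hw', hy'⟩ := hcompl.2.2.2 _ hyL
  have hk'c : k' ∈ W₂ := by
    rw [← hcent a ha ha1]
    refine ⟨hk', Subgroup.mem_centralizer_singleton_iff.mpr ?_⟩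
    have hwa : w' * a = a * w' := congrArg Subtype.val
      (Cfsg.Lib.CyclicTI.comm hW ⟨w', Subgroup.mem_sup_left hw'⟩ ⟨a, Subgroup.mem_sup_left ha⟩)
    apply mul_right_cancel (b := w')
    calc k' * a * w' = k' * (w' * a) := by rw [hwa, mul_assoc]
      _ = y * a := by rw [hy', mul_assoc]
      _ = a * y := hya
      _ = a * k' * w' := by rw [hy']; group
  refine ⟨k, hcompl.1 hk, ⟨y, hy' ▸ mul_mem (Subgroup.mem_sup_right hk'c) (Subgroup.mem_sup_left hw')⟩,
    fun hy2 => hxK ?_, by show x = k * y * k⁻¹; rw [hy]; group⟩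
  have hyK : y ∈ K := ((hcent a ha ha1).ge.trans inf_le_left) hy2
  have h6 := (Subgroup.mem_normalizer_iff.mp (hKn (hcompl.1 hk)) y).mp hyK
  rwa [show k * y * k⁻¹ = x by rw [hy]; group] at h6

/-- Every element of `T ∖ T'` is conjugate in `T` to an element of `W ∖ W₂`. -/
theorem typeP_off {G : Type u} [Group G] [Finite G] (hG : Cfsg.IsMinSimpleOddOrder G)
    {T A U B : Subgroup G} (hP : Cfsg.IsTypePWith T A U B) {x : G} (hx : x ∈ T)
    (hxK : x ∉ ⁅T, T⁆) : ∃ t ∈ T, ∃ w ∈ A ⊔ B, w ∉ B ∧ x = t * w * t⁻¹ := by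
  have hN : T ≤ Subgroup.normalizer ((⁅T, T⁆ : Subgroup G) : Set G) :=
    Cfsg.Lib.Coprime.le_normalizer_commutator_right T T
  obtain ⟨t, ht, w, hw, e⟩ := exists_conj_W_of hP.W₁_compl hN (coprime_derived_compl hP)
    hP.W₂_centralizer hP.selfNormalizing hx hxK
  exact ⟨t, ht, w, w.2, hw, e⟩

variable {G : Type u} [Group G] [Finite G]

/-- One of the two classes: if `M` is conjugate to `S` then `T` gives the partner. -/
theorem partner_aux (hG : Cfsg.IsMinSimpleOddOrder G) (h : TypeFacts G) {M W₁ U W₂ : Subgroup G}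
    (hM : IsCoatom M) (h345 : Cfsg.IsOfTypeIII M ∨ Cfsg.IsOfTypeIV M ∨ Cfsg.IsOfTypeV M)
    (hP : Cfsg.IsTypePWith M W₁ U W₂) {A₁ A₂ S T : Subgroup G}
    (hA : Cfsg.IsSelfNormalizingCyclic A₁ A₂) (hS : IsCoatom S) (hT : IsCoatom T)
    (hCS : Cfsg.IsComplIn ⁅S, S⁆ A₁ S) (hCT : Cfsg.IsComplIn ⁅T, T⁆ A₂ T)
    (hST : S ⊓ T = A₁ ⊔ A₂) (hII : Cfsg.IsOfTypeII S ∨ Cfsg.IsOfTypeII T) {g : G}
    (hg : M = S.map (MulAut.conj g).toMonoidHom) :
    ∃ T' V : Subgroup G, IsCoatom T' ∧ Cfsg.IsOfTypeII T' ∧ Cfsg.IsTypePWith T' W₂ V W₁ := by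
  set φ := MulAut.conj g
  have hMeq : TypeMap.im φ S = M := hg.symm
  have hTII : Cfsg.IsOfTypeII T := by
    refine hII.resolve_left fun hSII => not_typeII_of hG h hM h345 ?_
    rw [← hMeq]
    exact TypeMap.isOfTypeII_im φ hSII
  have hA2S : A₂ ≤ S := (le_sup_right.trans hST.ge).trans inf_le_left
  have hC' : Cfsg.IsComplIn ⁅M, M⁆ (TypeMap.im φ A₁) M := by
    have := TypeMap.isComplIn_im φ hCS
    rwa [TypeMap.im_comm, hMeq] at this
  have hA2M : TypeMap.im φ A₂ ≤ M := by rw [← hMeq, TypeMap.im_le]; exact hA2S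
  obtain ⟨U₀, hD⟩ := Final.exists_typeP_with hG hM (TypeMap.isSelfNormalizingCyclic_im φ hA) hC' hA2M
    (Or.inr h345)
  -- move the complement to `W₁`
  have hN : M ≤ normalizer ((⁅M, M⁆ : Subgroup G) : Set G) :=
    Cfsg.Lib.Coprime.le_normalizer_commutator_right M M
  have hcard : ∀ {V : Subgroup G}, Cfsg.IsComplIn ⁅M, M⁆ V M →
      Nat.card M = Nat.card (⁅M, M⁆ : Subgroup G) * Nat.card V := fun {V} hV => by
    rw [← Cfsg.Lib.Coprime.card_sup_of_inf_eq_bot (hV.2.1.trans hN) hV.2.2.1]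
    congr 2
    refine le_antisymm (fun m hm => ?_) (sup_le hV.1 hV.2.1)
    obtain ⟨a, ha, b, hb, rfl⟩ := hV.2.2.2 m hm
    exact mul_mem_sup ha hb
  have hsame : Nat.card W₁ = Nat.card ↥(TypeMap.im φ A₁) :=
    Nat.eq_of_mul_eq_mul_left Nat.card_pos ((hcard hP.W₁_compl).symm.trans (hcard hC'))
  have hcop : (Nat.card (⁅M, M⁆ : Subgroup G)).Coprime (Nat.card ↥(TypeMap.im φ A₁)) := by
    have hrel : W₁.relIndex M = Nat.card (⁅M, M⁆ : Subgroup G) := by
      refine Nat.eq_of_mul_eq_mul_left (Nat.card_pos (α := W₁)) ?_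
      rw [mul_comm _ (Nat.card (⁅M, M⁆ : Subgroup G)), ← hcard hP.W₁_compl,
        ← Nat.card_congr (subgroupOfEquivOfLe hP.W₁_compl.2.1).toEquiv]
      exact card_mul_index _
    rw [← hsame, ← hrel]
    exact hP.W₁_hall.symm
  obtain ⟨x, hx, he⟩ := Cfsg.Lib.Coprime.exists_conj_eq_of_coprime (hC'.2.1.trans hN) hcop
    (Or.inl (hG.2.2.2 _ fun h' => hM.1 (top_le_iff.mp (h' ▸ Subgroup.commutator_le_self M))))
    (le_trans hP.W₁_compl.2.1 fun m hm => by
      obtain ⟨a, ha, b, hb, rfl⟩ := hC'.2.2.2 m hm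
      exact mul_mem_sup ha hb) hsame
  set ψ := MulAut.conj x
  have hψM : TypeMap.im ψ M = M := conj_im_eq (Subgroup.commutator_le_self M hx)
  have hψ1 : TypeMap.im ψ (TypeMap.im φ A₁) = W₁ := he.symm
  have h2 : TypeMap.im ψ (TypeMap.im φ A₂) = W₂ := by
    have hD' := TypeMap.isTypePWith_im ψ hD
    rw [hψM, hψ1] at hD'
    obtain ⟨w, hw, hw1⟩ := (Subgroup.bot_or_exists_ne_one W₁).resolve_left hP.W₁_ne
    rw [← hP.W₂_centralizer w hw hw1, ← hD'.W₂_centralizer w hw hw1]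
  set T' := TypeMap.im ψ (TypeMap.im φ T)
  have hT' : IsCoatom T' := (TypeMap.coatom_im ψ).mpr ((TypeMap.coatom_im φ).mpr hT)
  have hT'II : Cfsg.IsOfTypeII T' := TypeMap.isOfTypeII_im ψ (TypeMap.isOfTypeII_im φ hTII)
  have hC2 : Cfsg.IsComplIn ⁅T', T'⁆ W₂ T' := by
    have := TypeMap.isComplIn_im ψ (TypeMap.isComplIn_im φ hCT)
    rwa [TypeMap.im_comm, TypeMap.im_comm, h2] at this
  have hW1T : W₁ ≤ T' := by
    rw [← hψ1]
    exact (TypeMap.im_le ψ).mpr ((TypeMap.im_le φ).mpr ((le_sup_left.trans hST.ge).trans inf_le_right))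
  obtain ⟨V, hV⟩ := Final.exists_typeP_with hG hT' (selfNormalizing_swap hP.selfNormalizing) hC2
    hW1T (Or.inl hT'II)
  exact ⟨T', V, hT', hT'II, hV⟩

/-- The partner of a maximal subgroup of type III, IV or V. -/
theorem exists_partner (hG : Cfsg.IsMinSimpleOddOrder G) (h : TypeFacts G) (h85 : P1385' G)
    {M W₁ U W₂ : Subgroup G} (hM : IsCoatom M)
    (h345 : Cfsg.IsOfTypeIII M ∨ Cfsg.IsOfTypeIV M ∨ Cfsg.IsOfTypeV M)
    (hP : Cfsg.IsTypePWith M W₁ U W₂) :
    ∃ T V : Subgroup G, IsCoatom T ∧ Cfsg.IsOfTypeII T ∧ Cfsg.IsTypePWith T W₂ V W₁ := by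
  have hI : ¬ IsTypeI' M := not_typeI_of_P hG h hM (Or.inr h345)
  rcases h85 with hall | ⟨A₁, A₂, S, T, hA, hS, hT, hCS, hCT, hST, hII, -, -, hcl⟩
  · exact absurd (hall M hM) hI
  obtain ⟨g, hg | hg⟩ := (hcl M hM).resolve_left hI
  · exact partner_aux hG h hM h345 hP hA hS hT hCS hCT hST hII hg
  · exact partner_aux hG h hM h345 hP (selfNormalizing_swap hA) hT hS hCT hCS
      (by rw [inf_comm, sup_comm]; exact hST) hII.symm hg

/-- In a maximal subgroup of type II the elements of `A(T)` are at most `3/7` of `T'`. -/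
theorem typeA_small (hG : Cfsg.IsMinSimpleOddOrder G) (h : TypeFacts G) (h90 : P1390' G)
    {T : Subgroup G} (hT : IsCoatom T) (hII : Cfsg.IsOfTypeII T) :
    7 * Nat.card (typeA' T) ≤ 3 * Nat.card ↥⁅T, T⁆ := by
  classical
  obtain ⟨W₁, U, W₂, hP, hU1, hp, -, hUab, hNU, -, -⟩ := id hII
  have h9 : Hyp9 T W₁ U W₂ := ⟨hT, hP, hU1, hp⟩
  set H := Cfsg.fittingHallOf T with hH
  have hA : typeA' T = {a | a ∈ ⁅T, T⁆ ∧ a ≠ 1 ∧ ∃ x ∈ H, x ≠ 1 ∧ a * x = x * a} := by
    rw [typeA', if_neg (not_typeI_of_P hG h hT (Or.inl hII)),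
      typeCore_of_I_II hG h hT (Or.inr hII)]
  have hHn : ∀ {v : G}, v ∈ T → ∀ y ∈ H, v * y * v⁻¹ ∈ H := fun {v} hv y hy =>
    (mem_normalizer_iff.mp (h9.M_le_normalizer_H hv) y).mp hy
  let bad : Set G := {u | u ∈ U ∧ ∃ x ∈ H, x ≠ 1 ∧ u * x = x * u}
  have hsub : typeA' T ⊆ Set.image2 (fun a b => a * b) (H : Set G) bad := by
    rw [hA]
    rintro a ⟨ha, ha1, x, hx, hx1, hax⟩
    obtain ⟨y, hy, u, hu, rfl⟩ := hP.U_compl.2.2.2 a ha
    refine ⟨y, hy, u, ⟨hu, ?_⟩, rfl⟩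
    have hu' := h9.U_le hu
    by_contra hbad
    push Not at hbad
    -- `y * u` is conjugate to `u` by an element of `H`
    have hinj : Function.Injective fun k : H =>
        (⟨k * (u * (k : G)⁻¹ * u⁻¹), mul_mem k.2 (hHn hu' _ (inv_mem k.2))⟩ : H) := by
      intro k l hkl
      have e : (k : G) * (u * (k : G)⁻¹ * u⁻¹) = l * (u * (l : G)⁻¹ * u⁻¹) :=
        congrArg Subtype.val hkl
      have hc : u * ((l : G)⁻¹ * k) = (l : G)⁻¹ * k * u := by
        have e' := congrArg (fun z => (l : G)⁻¹ * z * u * (k : G)) e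
        simp only [mul_assoc, inv_mul_cancel_left, inv_mul_cancel, mul_one, mul_inv_cancel,
          mul_inv_cancel_left] at e' ⊢
        exact e'.symm
      by_contra hne
      exact hbad _ (mul_mem (inv_mem l.2) k.2)
        (fun e1 => hne (Subtype.ext (inv_mul_eq_one.mp e1).symm)) hc
    obtain ⟨k, hk⟩ := Finite.injective_iff_surjective.mp hinj ⟨y, hy⟩
    have hk' : (k : G) * u * (k : G)⁻¹ = y * u := by
      rw [← show (k : G) * (u * (k : G)⁻¹ * u⁻¹) = y from congrArg Subtype.val hk]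
      group
    refine hbad ((k : G)⁻¹ * x * k) (mul_mem (mul_mem (inv_mem k.2) hx) k.2)
      (fun e1 => hx1 (by
        simpa [mul_assoc] using congrArg (fun z => (k : G) * z * (k : G)⁻¹) e1)) ?_
    rw [← hk'] at hax
    have e' := congrArg (fun z => (k : G)⁻¹ * z * (k : G)) hax
    simpa [mul_assoc] using e'
  have hcardA : Nat.card (typeA' T) ≤ Nat.card H * Nat.card bad := by
    rw [Nat.card_coe_set_eq, Nat.card_coe_set_eq, ← SetLike.coe_sort_coe, Nat.card_coe_set_eq]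
    exact (Set.ncard_le_ncard hsub (Set.toFinite _)).trans (by
      rw [← Set.image_prod]
      exact (Set.ncard_image_le (Set.toFinite _)).trans (le_of_eq (Set.ncard_prod)))
  -- the elements of `U` with non-trivial centraliser in `H`
  set N := normalizer (U : Set G) with hN
  have hbadT : ∀ u ∈ bad, u ≠ 1 → ∀ n ∈ N, n * u * n⁻¹ ∈ bad → n ∈ T := by
    intro u hu hu1 n hn hnu
    have key : ∀ v ∈ bad, v ≠ 1 → centralizer ({v} : Set G) ≤ T ∧
        ∀ L : Subgroup G, IsCoatom L → centralizer ({v} : Set G) ≤ L → L = T := by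
      rintro v ⟨hv, x, hx, hx1, hc⟩ hv1
      refine (h90 T hT U (Or.inr ⟨hII, hP.U_compl⟩)).2.1 {v}
        (Set.singleton_subset_iff.mpr ⟨hv, hv1⟩) (Set.singleton_nonempty v) ?_
      intro hb
      have : x ∈ H ⊓ centralizer ({v} : Set G) :=
        ⟨hx, mem_centralizer_singleton_iff.mpr hc.symm⟩
      rw [hb, mem_bot] at this
      exact hx1 this
    obtain ⟨h1, -⟩ := key _ hnu (fun e => hu1 (conj_eq_one_iff.mp e))
    obtain ⟨-, h2⟩ := key u hu hu1
    have hle : centralizer ({u} : Set G) ≤ Cfsg.Lib.Coprime.conjMap n⁻¹ T := fun z hz => by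
      rw [Cfsg.Lib.Coprime.mem_conjMap, inv_inv]
      refine h1 (mem_centralizer_singleton_iff.mpr ?_)
      calc n * z * n⁻¹ * (n * u * n⁻¹) = n * (z * u) * n⁻¹ := by group
        _ = n * (u * z) * n⁻¹ := by rw [mem_centralizer_singleton_iff.mp hz]
        _ = n * u * n⁻¹ * (n * z * n⁻¹) := by group
    have := h2 _ ((TypeMap.coatom_im (MulAut.conj n⁻¹)).mpr hT) hle
    exact inv_mem_iff.mp (Cfsg.Lib.OddLocal.RankTwoMax.eq_of_conj_fix hG hT this)
  have hidx : 3 ≤ Nat.card (↥N ⧸ T.subgroupOf N) := by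
    have hodd : Odd (Nat.card (↥N ⧸ T.subgroupOf N)) :=
      hG.1.of_dvd_nat ((Subgroup.card_quotient_dvd_card _).trans (card_subgroup_dvd_card N))
    obtain ⟨k, hk⟩ := hodd
    by_contra hlt
    exact hNU (subgroupOf_eq_top.mp (Subgroup.index_eq_one.mp (by
      rw [Subgroup.index_eq_card]; omega)))
  let F : (↥N ⧸ T.subgroupOf N) × {u : G // u ∈ bad ∧ u ≠ 1} → {u : G // u ∈ U ∧ u ≠ 1} :=
    fun p => ⟨(p.1.out : G) * p.2.1 * (p.1.out : G)⁻¹,
      (mem_normalizer_iff.mp p.1.out.2 _).mp p.2.2.1.1, fun e => p.2.2.2 (conj_eq_one_iff.mp e)⟩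
  have hF : Function.Injective F := by
    rintro ⟨a, u⟩ ⟨b, v⟩ hab
    have e : (a.out : G) * u.1 * (a.out : G)⁻¹ = b.out * v.1 * (b.out : G)⁻¹ :=
      congrArg Subtype.val hab
    have e' : ((b.out : G)⁻¹ * a.out) * u.1 * ((b.out : G)⁻¹ * a.out)⁻¹ = v.1 := by
      have := congrArg (fun z => (b.out : G)⁻¹ * z * b.out) e
      simpa [mul_assoc] using this
    have hmem := hbadT _ u.2.1 u.2.2 _ (mul_mem (inv_mem b.out.2) a.out.2) (e'.symm ▸ v.2.1)
    have hba : b = a := by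
      rw [← Quotient.out_eq b, ← Quotient.out_eq a]
      exact QuotientGroup.eq.mpr (by rw [mem_subgroupOf]; simpa using hmem)
    subst hba
    simp only [inv_mul_cancel, one_mul, inv_one, mul_one] at e'
    exact Prod.ext rfl (Subtype.ext e')
  have hcount := Nat.card_le_card_of_injective F hF
  rw [Nat.card_prod] at hcount
  have hne1 : ∀ S : Set G, Nat.card {u : G // u ∈ S ∧ u ≠ 1} + 1 ≥ Nat.card S := fun S => by
    rw [← Set.coe_ofPred, Nat.card_coe_set_eq, Nat.card_coe_set_eq]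
    refine le_trans (Set.ncard_le_ncard (t := insert 1 {u | u ∈ S ∧ u ≠ 1}) (fun u hu => ?_)
      (Set.toFinite _)) (Set.ncard_insert_le _ _)
    by_cases he : u = 1
    · exact Or.inl he
    · exact Or.inr ⟨hu, he⟩
  have hU' : Nat.card {u : G // u ∈ U ∧ u ≠ 1} + 1 = Nat.card U := by
    rw [← Set.coe_ofPred, Nat.card_coe_set_eq, ← SetLike.coe_sort_coe U, Nat.card_coe_set_eq]
    rw [← Set.ncard_insert_of_notMem (a := (1 : G)) (by simp) (Set.toFinite _)]
    congr 1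
    ext u
    by_cases he : u = 1
    · simp [he, one_mem]
    · simp [he]
  have h7 : 7 ≤ Nat.card U := by
    haveI := Fact.mk hp
    letI : MulAction ↥W₁ ↥U :=
      { smul := fun w x => ⟨w * x * (w : G)⁻¹,
          (mem_normalizer_iff.mp (h9.W₁_le_normalizer_U w.2) _).mp x.2⟩
        one_smul := fun x => Subtype.ext (show (1 : G) * x * (1 : G)⁻¹ = x by simp)
        mul_smul := fun v w x => Subtype.ext (show (v : G) * w * x * ((v : G) * w)⁻¹ =
          v * (w * x * (w : G)⁻¹) * (v : G)⁻¹ by group) }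
    have hfix : MulAction.fixedPoints ↥W₁ ↥U = {1} := by
      ext x
      constructor
      · intro hx
        obtain ⟨w, hw, hw1⟩ := (Subgroup.bot_or_exists_ne_one W₁).resolve_left hP.W₁_ne
        have e : w * x * w⁻¹ = (x : G) := congrArg Subtype.val (hx ⟨w, hw⟩)
        exact Subtype.ext (h9.fpf' w hw hw1 x x.2 (mul_inv_eq_iff_eq_mul.mp e))
      · intro hx w
        subst hx
        exact Subtype.ext (show (w : G) * 1 * (w : G)⁻¹ = 1 by group)
    have hmod := (IsPGroup.of_card (p := Nat.card W₁) (G := ↥W₁) (n := 1)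
      (pow_one _).symm).card_modEq_card_fixedPoints ↥U
    rw [hfix, Nat.card_coe_set_eq, Set.ncard_singleton] at hmod
    have hdvd : Nat.card W₁ ∣ Nat.card U - 1 :=
      (Nat.modEq_iff_dvd' Nat.card_pos).mp hmod.symm
    have hodd : Odd (Nat.card U) := hG.1.of_dvd_nat (card_subgroup_dvd_card U)
    have hpo : Odd (Nat.card W₁) := hG.1.of_dvd_nat (card_subgroup_dvd_card W₁)
    have h1 : 1 < Nat.card U := (one_lt_card_iff_ne_bot U).mpr hU1
    have h3 : 3 ≤ Nat.card W₁ := by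
      rcases hpo with ⟨k, hk⟩
      have := hp.two_le
      omega
    obtain ⟨m, hm⟩ := hdvd
    obtain ⟨j, hj⟩ := hodd
    obtain ⟨i, hi⟩ := hpo
    have hm2 : 2 ≤ m := by
      rcases Nat.lt_or_ge m 2 with hlt | hge
      · interval_cases m <;> omega
      · exact hge
    have := Nat.mul_le_mul h3 hm2
    omega
  have hbad3 : 3 * (Nat.card bad - 1) + 1 ≤ Nat.card U := by
    have h1 := hne1 bad
    have h2 : Nat.card (↥N ⧸ T.subgroupOf N) * Nat.card {u : G // u ∈ bad ∧ u ≠ 1} ≥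
        3 * (Nat.card bad - 1) := Nat.mul_le_mul hidx (by omega)
    omega
  have hcardT : Nat.card ↥⁅T, T⁆ = Nat.card H * Nat.card U := h9.card_derived
  rw [hcardT]
  calc 7 * Nat.card (typeA' T) ≤ 7 * (Nat.card H * Nat.card bad) := Nat.mul_le_mul_left _ hcardA
    _ = Nat.card H * (7 * Nat.card bad) := by ring
    _ ≤ Nat.card H * (3 * Nat.card U) := Nat.mul_le_mul_left _ (by omega)
    _ = _ := by ring

/-- The conjugates of `A(T)`. -/
def partnerSet (T : Subgroup G) : Set G := {g | ∃ x : G, x * g * x⁻¹ ∈ typeA' T}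

theorem partnerSet_small (hG : Cfsg.IsMinSimpleOddOrder G) (h : TypeFacts G) (h90 : P1390' G)
    {T W₁ W₂ V : Subgroup G} (hT : IsCoatom T) (hII : Cfsg.IsOfTypeII T)
    (hP : Cfsg.IsTypePWith T W₂ V W₁) :
    7 * Nat.card W₂ * Nat.card (partnerSet T) ≤ 3 * Nat.card G := by
  classical
  have hle : Nat.card (partnerSet T) ≤ T.index * Nat.card (typeA' T) := by
    have hsub : partnerSet T ⊆ (fun p : (G ⧸ T) × G => p.1.out * p.2 * p.1.out⁻¹) ''
        ((Set.univ : Set (G ⧸ T)) ×ˢ typeA' T) := by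
      rintro g ⟨x, hx⟩
      obtain ⟨t, ht⟩ := QuotientGroup.mk_out_eq_mul T x⁻¹
      refine ⟨((x⁻¹ : G), (t : G)⁻¹ * (x * g * x⁻¹) * t), ⟨Set.mem_univ _, ?_⟩, ?_⟩
      · have := conj_mem_typeA (inv_mem t.2) hx
        rwa [inv_inv] at this
      · simp only [ht]; group
    rw [Nat.card_coe_set_eq, Nat.card_coe_set_eq, Subgroup.index_eq_card]
    refine (Set.ncard_le_ncard hsub (Set.toFinite _)).trans
      ((Set.ncard_image_le (Set.toFinite _)).trans (le_of_eq ?_))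
    rw [Set.ncard_prod, Set.ncard_univ]
  have hTc : Nat.card T = Nat.card ↥⁅T, T⁆ * Nat.card W₂ := by
    have hN : T ≤ normalizer ((⁅T, T⁆ : Subgroup G) : Set G) :=
      Cfsg.Lib.Coprime.le_normalizer_commutator_right T T
    rw [← Cfsg.Lib.Coprime.card_sup_of_inf_eq_bot (hP.W₁_compl.2.1.trans hN) hP.W₁_compl.2.2.1]
    congr 2
    refine le_antisymm (fun m hm => ?_) (sup_le hP.W₁_compl.1 hP.W₁_compl.2.1)
    obtain ⟨a, ha, b, hb, rfl⟩ := hP.W₁_compl.2.2.2 m hm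
    exact mul_mem_sup ha hb
  calc 7 * Nat.card W₂ * Nat.card (partnerSet T)
      ≤ 7 * Nat.card W₂ * (T.index * Nat.card (typeA' T)) := Nat.mul_le_mul_left _ hle
    _ = T.index * Nat.card W₂ * (7 * Nat.card (typeA' T)) := by ring
    _ ≤ T.index * Nat.card W₂ * (3 * Nat.card ↥⁅T, T⁆) :=
        Nat.mul_le_mul_left _ (typeA_small hG h h90 hT hII)
    _ = 3 * (T.index * Nat.card T) := by rw [hTc]; ring
    _ = 3 * Nat.card G := by rw [Subgroup.index_mul_card]

/-- An element of order not prime to `q` is conjugate into `A(T)` or into `W ∖ (W₁ ∪ W₂)`. -/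
theorem partner_cover (hG : Cfsg.IsMinSimpleOddOrder G) (h : TypeFacts G) (h89 : P1389 G)
    (h91 : P1391' G) {T W₁ W₂ V : Subgroup G} (hT : IsCoatom T) (hII : Cfsg.IsOfTypeII T)
    (hP : Cfsg.IsTypePWith T W₂ V W₁) {g : G} (hg : ¬ (orderOf g).Coprime (Nat.card W₁)) :
    g ∈ partnerSet T ∨ ∃ y : G, ∃ w ∈ W₁ ⊔ W₂, w ∉ W₁ ∧ w ∉ W₂ ∧ g = y * w * y⁻¹ := by
  classical
  obtain ⟨r, hr, hrg, hrq⟩ := Nat.Prime.not_coprime_iff_dvd.mp hg
  haveI := Fact.mk hr
  set H := Cfsg.fittingHallOf T with hHdef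
  have hW1H : W₁ ≤ H := hP.W₂_le.trans inf_le_left
  -- a Sylow `r`-subgroup of `G` inside `H`
  let Q : Sylow r ↥H := default
  have hQc : Nat.card ((Q : Subgroup ↥H).map H.subtype) = r ^ (Nat.card G).factorization r := by
    rw [card_map_of_injective H.subtype_injective, Q.card_eq_multiplicity, ← H.card_mul_index,
      Nat.factorization_mul Nat.card_pos.ne' Subgroup.index_ne_zero_of_finite, Finsupp.add_apply]
    have hnd : ¬ r ∣ H.index := fun hd =>
      hr.one_lt.ne' (Nat.dvd_one.mp ((h89 T hT).2.1 ▸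
        Nat.dvd_gcd (hrq.trans (card_dvd_of_le hW1H)) hd))
    rw [Nat.factorization_eq_zero_of_not_dvd hnd, add_zero]
  let P : Sylow r G := Sylow.ofCard _ hQc
  set o := orderOf g with ho
  set y := g ^ (o / r) with hy
  have hyo : orderOf y = r := by
    rw [hy, orderOf_pow_orderOf_div (orderOf_pos g).ne' hrg]
  obtain ⟨P', hP'⟩ := IsPGroup.exists_le_sylow (p := r) (P := zpowers y)
    (IsPGroup.of_card (n := 1) (by rw [Nat.card_zpowers, hyo, pow_one]))
  obtain ⟨x, hx⟩ := MulAction.exists_smul_eq G P' P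
  have hyH : x * y * x⁻¹ ∈ H := by
    have h1 : x * y * x⁻¹ ∈ ((x • P' : Sylow r G) : Subgroup G) := by
      rw [Sylow.coe_subgroup_smul]
      exact ⟨y, hP' (mem_zpowers y), rfl⟩
    rw [hx] at h1
    exact map_subtype_le _ h1
  have hy1 : x * y * x⁻¹ ≠ 1 := fun e => by
    rw [conj_eq_one_iff] at e
    rw [e, orderOf_one] at hyo
    exact hr.one_lt.ne hyo
  have hcore : Cfsg.typeCore T = H := typeCore_of_I_II hG h hT (Or.inr hII)
  have hA0 : x * y * x⁻¹ ∈ typeA0' T := typeA_subset_typeA0 T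
    (typeA1_subset_typeA hG h hT ⟨hcore.symm ▸ hyH, hy1⟩)
  have hcomm : x * g * x⁻¹ * (x * y * x⁻¹) = x * y * x⁻¹ * (x * g * x⁻¹) := by
    rw [hy]; group
  have hgT : x * g * x⁻¹ ∈ T :=
    centralizer_le_of_typeII hG h h91 hT hII hA0 (mem_centralizer_singleton_iff.mpr hcomm)
  by_cases hder : x * g * x⁻¹ ∈ ⁅T, T⁆
  · refine Or.inl ⟨x, ?_⟩
    rw [typeA', if_neg (not_typeI_of_P hG h hT (Or.inl hII)), hcore]
    exact ⟨hder, fun e => by
      rw [conj_eq_one_iff] at e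
      rw [e, one_pow] at hy
      exact hy1 (by rw [hy]; group), _, hyH, hy1, hcomm⟩
  · obtain ⟨t, ht, w, hw, hw1, hwe⟩ :=
      typeP_off hG hP hgT hder
    refine Or.inr ⟨x⁻¹ * t, w, sup_comm W₂ W₁ ▸ hw, hw1, fun hw2 => ?_, ?_⟩
    · -- then the order of `g` divides `|W₂|`
      have hord : orderOf g ∣ Nat.card W₂ := by
        have e1 : orderOf g = orderOf w := by
          have : g = (x⁻¹ * t) * w * (x⁻¹ * t)⁻¹ := by
            calc g = x⁻¹ * (x * g * x⁻¹) * x := by group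
              _ = _ := by rw [hwe]; group
          rw [this]
          exact (MulEquiv.orderOf_eq (MulAut.conj (x⁻¹ * t)) w)
        rw [e1, ← Subgroup.orderOf_mk w hw2]
        exact orderOf_dvd_natCard _
      have hcopW : (Nat.card W₁).Coprime (Nat.card W₂) :=
        Cfsg.Lib.CyclicTI.coprime_card (selfNormalizing_swap hP.selfNormalizing)
      exact hr.one_lt.ne' (Nat.eq_one_of_dvd_coprimes hcopW hrq (hrg.trans hord))
    · calc g = x⁻¹ * (x * g * x⁻¹) * x := by group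
        _ = _ := by rw [hwe]; group

end Cfsg.Agent.PF
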