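import Cfsg.Agent.OddChar.PF.Sec08Prime
import Cfsg.Agent.OddChar.PF.S04Images
import Cfsg.Agent.OddChar.PF.S10NoCoherence
import Cfsg.Agent.OddChar.PF.S10Partner
import Cfsg.Agent.S1502

/-!
# Section 10: the setting of a maximal subgroup of type III, IV or V, and (10.8)
-/

set_option linter.unusedSectionVars false
set_option linter.unusedVariables false
set_option linter.style.haveILetI false
set_option autoImplicit false

universe u

namespace Cfsg.Agent.PF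

open Cfsg.Lib.Chars Cfsg.Lib.CyclicTI
open scoped commutatorElement

/-- Nothing is induced from a non-principal character with kernel containing the whole subgroup. -/
theorem inducedIrrAbove_self {L : Type u} [Group L] [Fintype L] (K : Subgroup L) [Fintype K] :
    Cfsg.inducedIrrAbove K K = ∅ := by
  classical
  refine Set.eq_empty_of_forall_notMem fun f hf => ?_
  obtain ⟨θ, hθ, hne, hker, -⟩ := hf
  have hc : θ = θ 1 • fun _ : K => (1 : ℂ) := funext fun k => by simpa using hker k k.2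
  have h0 := classInner_irrChar hθ (isIrrCharacter_one (G := K))
  rw [if_neg hne, hc, classInner_smul_left, classInner_self_irr isIrrCharacter_one, mul_one] at h0
  have h1 := classInner_self_irr hθ
  rw [hc, classInner_smul_left, h0, zero_mul] at h1
  exact zero_ne_one h1

section Types

variable {G : Type u} [Group G] [Finite G] {M W₁ U W₂ : Subgroup G}

/-- For type III, IV or V the core is the derived subgroup. -/
theorem typeCore_of_345 (hG : Cfsg.IsMinSimpleOddOrder G) (hM : IsCoatom M)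
    (h345 : Cfsg.IsOfTypeIII M ∨ Cfsg.IsOfTypeIV M ∨ Cfsg.IsOfTypeV M) :
    Cfsg.typeCore M = ⁅M, M⁆ := by
  by_cases h34 : Cfsg.IsOfTypeIII M ∨ Cfsg.IsOfTypeIV M
  · exact if_pos h34
  · have hV : Cfsg.IsOfTypeV M := by tauto
    obtain ⟨A, V, B, hP, hV1, -⟩ := hV
    rw [Cfsg.typeCore, if_neg h34]
    refine le_antisymm hP.U_compl.1 fun x hx => ?_
    obtain ⟨a, ha, b, hb, rfl⟩ := hP.U_compl.2.2.2 x hx
    rw [hV1, Subgroup.mem_bot] at hb
    rwa [hb, mul_one]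

/-- For type III, IV or V, `A(M) = M' ∖ 1`. -/
theorem typeA'_of_345 (hG : Cfsg.IsMinSimpleOddOrder G) (hM : IsCoatom M)
    (h345 : Cfsg.IsOfTypeIII M ∨ Cfsg.IsOfTypeIV M ∨ Cfsg.IsOfTypeV M) :
    typeA' M = (↑(⁅M, M⁆ : Subgroup G) : Set G) \ {1} := by
  rw [typeA', if_neg (not_typeI_of_P hG (typeFacts hG) hM (Or.inr h345)),
    typeCore_of_345 hG hM h345]
  refine Set.ext fun x => ⟨fun h => ⟨h.1, h.2.1⟩, fun h => ⟨h.1, h.2, x, h.1, h.2, rfl⟩⟩

/-- `|W₂|` is prime for type III, IV or V. -/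
theorem prime_W₂ (hG : Cfsg.IsMinSimpleOddOrder G) (hM : IsCoatom M)
    (h345 : Cfsg.IsOfTypeIII M ∨ Cfsg.IsOfTypeIV M ∨ Cfsg.IsOfTypeV M)
    (hP : Cfsg.IsTypePWith M W₁ U W₂) : (Nat.card W₂).Prime := by
  obtain ⟨T, V, hT, hTII, hTP⟩ := exists_partner hG (typeFacts hG) (p1385' hG) hM h345 hP
  obtain ⟨A, B, D, hA, -, hp, -⟩ := hTII
  have key : ∀ {X Y Z : Subgroup G}, Cfsg.IsTypePWith T X Y Z →
      Nat.card T = Nat.card (⁅T, T⁆ : Subgroup G) * Nat.card X := fun {X Y Z} h => by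
    rw [← Cfsg.Lib.Coprime.card_sup_of_inf_eq_bot
      (h.W₁_compl.2.1.trans (Cfsg.Lib.Coprime.le_normalizer_commutator_right T T)) h.W₁_compl.2.2.1]
    congr 2
    refine le_antisymm (fun m hm => ?_) (sup_le h.W₁_compl.1 h.W₁_compl.2.1)
    obtain ⟨a, ha, b, hb, rfl⟩ := h.W₁_compl.2.2.2 m hm
    exact Subgroup.mul_mem_sup ha hb
  rwa [Nat.eq_of_mul_eq_mul_left Nat.card_pos ((key hTP).symm.trans (key hA))]

/-- The prime Dade hypothesis with `H = M'` and `A = M' ∖ 1`. -/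
theorem primeDade_derived (hG : Cfsg.IsMinSimpleOddOrder G) (hM : IsCoatom M)
    (h345 : Cfsg.IsOfTypeIII M ∨ Cfsg.IsOfTypeIV M ∨ Cfsg.IsOfTypeV M)
    (hP : Cfsg.IsTypePWith M W₁ U W₂) :
    PrimeDade M ⁅M, M⁆ W₁ W₂ ⁅M, M⁆ ((↑(⁅M, M⁆ : Subgroup G) : Set G) \ {1})
      (typeA0' M) (Cfsg.supportR M) := by
  have h := primeDade_of_type hG hM (Or.inr h345) hP
  rw [typeCore_of_345 hG hM h345, typeA'_of_345 hG hM h345] at h
  exact h

/-- The exceptional part of `A₀(M)` is the set of conjugates of `W ∖ (W₁ ∪ W₂)` for any one choice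
of the data. -/
theorem typeA0_cases (hG : Cfsg.IsMinSimpleOddOrder G) (hM : IsCoatom M)
    (h345 : Cfsg.IsOfTypeIII M ∨ Cfsg.IsOfTypeIV M ∨ Cfsg.IsOfTypeV M)
    (hP : Cfsg.IsTypePWith M W₁ U W₂) {a : G} (ha : a ∈ typeA0' M) :
    a ∈ ⁅M, M⁆ ∨ ∃ m ∈ M, ∃ w ∈ W₁ ⊔ W₂, w ∉ W₁ ∧ w ∉ W₂ ∧ a = m * w * m⁻¹ := by
  refine or_iff_not_imp_left.mpr fun haK => ?_
  obtain ⟨m, hm, w, hw, hw2, rfl⟩ := typeP_off hG hP (typeA0_subset M ha) haK
  refine ⟨m, hm, w, hw, fun hw1 => ?_, hw2, rfl⟩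
  rcases ha with ha | ⟨-, A, V, B, hP', l, hl, v, hv, hv1, hv2, he⟩
  · rw [typeA'_of_345 hG hM h345] at ha
    exact haK ha.1
  -- `v` would have order dividing `|A|`
  have hn : (Nat.card W₁) = Nat.card A := by
    have key : ∀ {X Y Z : Subgroup G}, Cfsg.IsTypePWith M X Y Z →
        Nat.card M = Nat.card (⁅M, M⁆ : Subgroup G) * Nat.card X := fun {X Y Z} h => by
      rw [← Cfsg.Lib.Coprime.card_sup_of_inf_eq_bot
        (h.W₁_compl.2.1.trans (Cfsg.Lib.Coprime.le_normalizer_commutator_right M M)) h.W₁_compl.2.2.1]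
      congr 2
      refine le_antisymm (fun m hm => ?_) (sup_le h.W₁_compl.1 h.W₁_compl.2.1)
      obtain ⟨a, ha, b, hb, rfl⟩ := h.W₁_compl.2.2.2 m hm
      exact Subgroup.mul_mem_sup ha hb
    exact Nat.eq_of_mul_eq_mul_left Nat.card_pos ((key hP).symm.trans (key hP'))
  have hd : orderOf v ∣ Nat.card A := by
    rw [← hn, ← show orderOf w = orderOf v from ?_, ← Subgroup.orderOf_mk w hw1]
    · exact orderOf_dvd_natCard _
    rw [← MulEquiv.orderOf_eq (MulAut.conj m) w, ← MulEquiv.orderOf_eq (MulAut.conj l) v]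
    exact congrArg orderOf he
  refine hv1 ?_
  set hW' := hP'.selfNormalizing
  have h2 : (pr₂ hW' ⟨v, hv⟩ : G) = 1 := by
    have hc : Commute (pr₁ hW' ⟨v, hv⟩ : G) (pr₂ hW' ⟨v, hv⟩) :=
      hW'.2.2.2.1 _ (pr₁_mem hW' _) _ (pr₂_mem hW' _)
    have hv' : v ^ Nat.card A = 1 := orderOf_dvd_iff_pow_eq_one.mp hd
    rw [show v = (pr₁ hW' ⟨v, hv⟩ : G) * pr₂ hW' ⟨v, hv⟩ from
      (congrArg Subtype.val (pr_mul hW' ⟨v, hv⟩)).symm, hc.mul_pow,
      Cfsg.Lib.Dade.pow_card_mem (pr₁_mem hW' _), one_mul] at hv'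
    exact orderOf_eq_one_iff.mp (Nat.eq_one_of_dvd_coprimes (coprime_card hW')
      (orderOf_dvd_of_pow_eq_one hv')
      (orderOf_dvd_of_pow_eq_one (Cfsg.Lib.Dade.pow_card_mem (pr₂_mem hW' _))))
  have e : (pr₁ hW' ⟨v, hv⟩ : G) * pr₂ hW' ⟨v, hv⟩ = v := congrArg Subtype.val (pr_mul hW' ⟨v, hv⟩)
  rw [h2, mul_one] at e
  exact e ▸ pr₁_mem hW' _

end Types

variable {G : Type u} [Group G] [Fintype G] {M W₁ U W₂ : Subgroup G} [Fintype M]

/-- The setting of Section 10 exists. -/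
theorem exists_setup10 (hG : Cfsg.IsMinSimpleOddOrder G) (hM : IsCoatom M)
    (h345 : Cfsg.IsOfTypeIII M ∨ Cfsg.IsOfTypeIV M ∨ Cfsg.IsOfTypeV M)
    (hP : Cfsg.IsTypePWith M W₁ U W₂) :
    ∃ c : Setup10 M ⁅M, M⁆ W₁ W₂, c.A₀ = typeA0' M ∧ c.R = Cfsg.supportR M := by
  classical
  have pd := primeDade_derived hG hM h345 hP
  obtain ⟨μ, δ, hT, hred, hcls⟩ := s04Chars G M _ W₁ W₂ _ _ _ _ pd
  have hodd : Odd (Nat.card ↥(W₁ ⊔ W₂)) :=
    hG.1.of_dvd_nat (Subgroup.card_subgroup_dvd_card _)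
  obtain ⟨η, hη⟩ := Cfsg.Agent.S1502.result W₁ W₂ hP.selfNormalizing hodd
  obtain ⟨-, hcol, hfour⟩ := s04Images G M _ W₁ W₂ _ _ _ _ pd μ δ hT η hη
  obtain ⟨Rs, hsys, -, hirrR⟩ := s04System G M _ W₁ W₂ _ _ _ _ pd μ δ hT η hη
  letI : Fintype ↥((⁅M, M⁆ : Subgroup G).subgroupOf M) := Fintype.ofFinite _
  have hS : seqIndD ((⁅M, M⁆ : Subgroup G).subgroupOf M) ((⁅M, M⁆ : Subgroup G).subgroupOf M) ⊥ =
      Cfsg.inducedIrrAbove ((⁅M, M⁆ : Subgroup G).subgroupOf M) ⊥ := by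
    rw [seqIndD, inducedIrrAbove_self, Set.sdiff_empty]
  rw [hS] at hsys hirrR
  refine ⟨
    { A₀ := typeA0' M
      R := Cfsg.supportR M
      μ := μ
      δ := δ
      η := η
      Rs := Rs
      pd := pd
      A₀_le := fun a ha => typeA0_cases hG hM h345 hP ha
      chars := hT
      red_ind := hred
      classify := hcls
      fam := hη
      image_col := hcol
      image_four := hfour
      system := hsys
      irr_R := fun χ hχ hirr α hα ω => by
        obtain ⟨ν, -, -, h⟩ := hirrR χ hχ hirr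
        exact h α hα ω
      K_eq := rfl
      p_prime := prime_W₂ hG hM h345 hP
      solvable := ?_ }, rfl, rfl⟩
  haveI : Group.IsSolvable ↥(⁅M, M⁆ : Subgroup G) := hG.2.2.2 _ fun h =>
    hM.1 (top_le_iff.mp (h ▸ Subgroup.commutator_le_self M))
  exact Group.isSolvable_of_isSolvable_injective
    (f := (Subgroup.subgroupOfEquivOfLe (Subgroup.commutator_le_self M)).toMonoidHom)
    (Subgroup.subgroupOfEquivOfLe (Subgroup.commutator_le_self M)).injective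

/-- (10.8): in the setting of Section 10 the family is not coherent. -/
theorem not_coherent10 (hG : Cfsg.IsMinSimpleOddOrder G) (hM : IsCoatom M)
    (h345 : Cfsg.IsOfTypeIII M ∨ Cfsg.IsOfTypeIV M ∨ Cfsg.IsOfTypeV M)
    (hP : Cfsg.IsTypePWith M W₁ U W₂) (c : Setup10 M ⁅M, M⁆ W₁ W₂) :
    ¬ Cfsg.IsCoherent (Cfsg.inducedIrrAbove ((⁅M, M⁆ : Subgroup G).subgroupOf M) ⊥) {1}ᶜ c.τ := by
  have hf := typeFacts hG
  obtain ⟨T, V, hT, hTII, hTP⟩ := exists_partner hG hf (p1385' hG) hM h345 hP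
  refine c.not_coherent (D := partnerSet T) (partnerSet_small hG hf (p1390' hG) hT hTII hTP)
    fun g hg hq => (partner_cover hG hf (p1389 hG) (p1391' hG) hT hTII hTP hq).resolve_right ?_
  rintro ⟨y, w, hw, hw1, hw2, rfl⟩
  refine hg ⟨w, c.mem_A₀_of_V (w := ⟨w, hw⟩) hw1 hw2, 1, one_mem _, y⁻¹, ?_⟩
  group

end Cfsg.Agent.PF
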