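import Cfsg.Agent.OddChar.PF.S11Chars
import Cfsg.Agent.OddChar.PF.S10Build
import Cfsg.Agent.OddChar.KernelCoherence

/-!
# Section 11: the structure of a maximal subgroup of type III or IV
-/

set_option linter.unusedSectionVars false
set_option linter.unusedVariables false
set_option linter.style.haveILetI false
set_option autoImplicit false

universe u

namespace Cfsg.Agent.PF

open Subgroup
open scoped commutatorElement

namespace Ctx11

variable {G : Type u} [Group G] [Fintype G] {M W₁ U W₂ H₀ : Subgroup G} [Fintype M]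
  {c : Setup10 M ⁅M, M⁆ W₁ W₂}

/-- Everything in the structure theorem except the type. -/
theorem structure_facts (x : Ctx11 c U H₀) :
    (Nat.card W₁).Prime ∧ (Nat.card W₂).Prime ∧
      Cfsg.IsElementaryAbelian (Nat.card W₂) (Cfsg.fittingHallOf M) ∧
      Nat.card (Cfsg.fittingHallOf M) = Nat.card W₂ ^ Nat.card W₁ ∧ U ≠ ⊥ ∧ IsCyclic U ∧
      U ⊓ centralizer (Cfsg.fittingHallOf M : Set G) = ⊥ ∧
      (∀ N : Subgroup G, N ≤ Cfsg.fittingHallOf M → U ≤ normalizer (N : Set G) →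
        N = ⊥ ∨ N = Cfsg.fittingHallOf M) ∧
      Nat.card W₂ < Nat.card W₁ ∧
      Nat.card W₂ ^ Nat.card W₁ ≤ 1 + Nat.card U * (Nat.card W₁ ^ 2 + Nat.card W₂) := by
  classical
  have h0 := x.H₀_eq_bot
  subst h0
  obtain ⟨hpq, hgal, hb⟩ := x.main
  have hcard : Nat.card (Cfsg.fittingHallOf M) = Nat.card W₂ ^ Nat.card W₁ := by
    rw [x.card_H, Subgroup.card_bot, mul_one]
  have hcyc : IsCyclic U := by
    obtain ⟨-, -, F, iF, iFt, f, ψ, -, -, -, -, hψ, hψm, hψC, -⟩ :=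
      s9Galois G M W₁ U W₂ x.hyp ⊥ x.kern hgal _ x.W₂_prime x.card_H
    let Ψ : ↥U →* Fˣ :=
      { toFun := fun y => Units.mk0 (ψ (y : G)) (hψ y y.2).1
        map_one' := Units.ext (by simpa using (hψC 1 (one_mem _)).mpr (one_mem _))
        map_mul' := fun y y' => Units.ext (by simpa using hψm y y.2 y' y'.2) }
    obtain ⟨g, hg⟩ := IsCyclic.exists_generator (α := Ψ.range)
    obtain ⟨u, hu⟩ := g.2
    haveI := x.hyp.typeP.U_nilpotent
    refine (Subgroup.isCyclic_iff_exists_zpowers_eq_top U).mpr ⟨(u : G), ?_⟩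
    have htop : zpowers u = ⊤ := by
      refine Cfsg.Lib.InducedFamily.eq_top_of_sup_commutator _ (eq_top_iff.mpr fun v _ => ?_)
      obtain ⟨i, hi⟩ := mem_zpowers_iff.mp (hg ⟨Ψ v, v, rfl⟩)
      have hi' : Ψ u ^ i = Ψ v := by rw [hu]; exact congrArg Subtype.val hi
      rw [← map_zpow] at hi'
      have hker : ψ (((u ^ i)⁻¹ * v : ↥U) : G) = 1 := by
        have : Ψ ((u ^ i)⁻¹ * v) = 1 := by rw [map_mul, map_inv, hi', inv_mul_cancel]
        exact congrArg Units.val this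
      have hmem := (hψC _ ((u ^ i)⁻¹ * v : ↥U).2).mp hker
      rw [x.centMod_eq, x.CH_eq] at hmem
      have hmem' : (u ^ i)⁻¹ * v ∈ commutator ↥U := by
        rw [show (⁅U, U⁆ : Subgroup G) = (commutator ↥U).map U.subtype by
          rw [_root_.commutator_def, Subgroup.map_commutator, ← MonoidHom.range_eq_map,
            Subgroup.range_subtype]] at hmem
        obtain ⟨y, hy, e⟩ := hmem
        rwa [← Subtype.ext (a1 := y) e]
      rw [show v = u ^ i * ((u ^ i)⁻¹ * v) by group]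
      exact mul_mem_sup (zpow_mem (mem_zpowers u) i) hmem'
    have hmap := congrArg (Subgroup.map U.subtype) htop
    rwa [MonoidHom.map_zpowers, ← MonoidHom.range_eq_map, Subgroup.range_subtype] at hmap
  have hfaith : U ⊓ centralizer (Cfsg.fittingHallOf M : Set G) = ⊥ := by
    rw [x.CH_eq, commutator_eq_bot_iff_le_centralizer]
    intro a ha
    haveI := hcyc
    exact mem_centralizer_iff.mpr fun b hb =>
      congrArg Subtype.val ((IsCyclic.isMulCommutative (α := ↥U)).is_comm.comm ⟨b, hb⟩ ⟨a, ha⟩)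
  refine ⟨x.hyp.q_prime, x.W₂_prime, ⟨?_, fun a ha => ?_⟩, hcard, x.hyp.U_ne, hcyc, hfaith,
    fun N hN hUN => hgal N bot_le hN hUN, hpq, ?_⟩
  · refine ⟨⟨fun a b => Subtype.ext ?_⟩⟩
    exact commutatorElement_eq_one_iff_mul_comm.mp (Subgroup.mem_bot.mp
      (x.kern.commutator_H_le x.hyp (commutator_mem_commutator a.2 b.2)))
  · exact Subgroup.mem_bot.mp (x.prime_data.2.2.2.1 a ha)
  · exact hb.trans (Nat.add_le_add_left (Nat.mul_le_mul_right _ x.uu_le) 1)

end Ctx11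

variable {G : Type u} [Group G]

/-- Any data of type `P` of a maximal subgroup of type III or IV satisfies the hypotheses of
Section 9. -/
theorem hyp9_of_34 [Finite G] {M W₁ U W₂ : Subgroup G} (hM : IsCoatom M)
    (h34 : Cfsg.IsOfTypeIII M ∨ Cfsg.IsOfTypeIV M) (hP : Cfsg.IsTypePWith M W₁ U W₂) :
    Hyp9 M W₁ U W₂ := by
  obtain ⟨A, B, D, hA, hB, hq⟩ : ∃ A B D : Subgroup G,
      Cfsg.IsTypePWith M A B D ∧ B ≠ ⊥ ∧ (Nat.card A).Prime := by
    rcases h34 with ⟨A, B, D, h1, h2, h3, -⟩ | ⟨A, B, D, h1, h2, h3, -⟩ <;>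
      exact ⟨A, B, D, h1, h2, h3⟩
  have hH : Cfsg.fittingHallOf M ≤ M := Cfsg.Lib.FittingHall.fittingHallOf_le M
  have k1 : ∀ {X Y Z : Subgroup G}, Cfsg.IsTypePWith M X Y Z →
      Nat.card M = Nat.card (⁅M, M⁆ : Subgroup G) * Nat.card X ∧
      Nat.card (⁅M, M⁆ : Subgroup G) = Nat.card (Cfsg.fittingHallOf M) * Nat.card Y := by
    intro X Y Z h
    constructor
    · rw [← Cfsg.Lib.Coprime.card_sup_of_inf_eq_bot
        (h.W₁_compl.2.1.trans (Cfsg.Lib.Coprime.le_normalizer_commutator_right M M)) h.W₁_compl.2.2.1]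
      congr 2
      refine le_antisymm (fun m hm => ?_) (sup_le h.W₁_compl.1 h.W₁_compl.2.1)
      obtain ⟨a, ha, b, hb, rfl⟩ := h.W₁_compl.2.2.2 m hm
      exact Subgroup.mul_mem_sup ha hb
    · rw [← Cfsg.Lib.Coprime.card_sup_of_inf_eq_bot ((h.U_compl.2.1.trans
        (Subgroup.commutator_le_self M)).trans
          (Cfsg.Lib.FittingHall.le_normalizer_fittingHallOf M)) h.U_compl.2.2.1]
      congr 2
      refine le_antisymm (fun m hm => ?_) (sup_le h.U_compl.1 h.U_compl.2.1)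
      obtain ⟨a, ha, b, hb, rfl⟩ := h.U_compl.2.2.2 m hm
      exact Subgroup.mul_mem_sup ha hb
  have e1 : Nat.card W₁ = Nat.card A :=
    Nat.eq_of_mul_eq_mul_left Nat.card_pos ((k1 hP).1.symm.trans (k1 hA).1)
  have e2 : Nat.card U = Nat.card B :=
    Nat.eq_of_mul_eq_mul_left Nat.card_pos ((k1 hP).2.symm.trans (k1 hA).2)
  refine ⟨hM, hP, fun e => hB ?_, e1 ▸ hq⟩
  rw [e, Subgroup.card_bot] at e2
  exact Subgroup.card_eq_one.mp e2.symm

/-- Section 11. -/
theorem s11Facts [Finite G] (hG : Cfsg.IsMinSimpleOddOrder G) : S11Facts G := by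
  classical
  haveI := Fintype.ofFinite G
  have core : ∀ M W₁ U W₂ : Subgroup G, IsCoatom M →
      (Cfsg.IsOfTypeIII M ∨ Cfsg.IsOfTypeIV M) → Cfsg.IsTypePWith M W₁ U W₂ →
      ∀ [Fintype M], ∃ (c : Setup10 M ⁅M, M⁆ W₁ W₂) (H₀ : Subgroup G), Ctx11 c U H₀ := by
    intro M W₁ U W₂ hM h34 hP _
    have h345 : Cfsg.IsOfTypeIII M ∨ Cfsg.IsOfTypeIV M ∨ Cfsg.IsOfTypeV M := by tauto
    obtain ⟨c, -⟩ := exists_setup10 hG hM h345 hP
    have h9 := hyp9_of_34 hM h34 hP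
    obtain ⟨H₀, k⟩ := s9Exists G M W₁ U W₂ h9
    exact ⟨c, H₀, h9, k, hG.1, not_coherent10 hG hM h345 hP c⟩
  intro M W₁ U W₂ hM h34 hP
  haveI := Fintype.ofFinite ↥M
  obtain ⟨c, H₀, x⟩ := core M W₁ U W₂ hM h34 hP
  obtain ⟨f1, f2, f3, f4, f5, f6, f7, f8, f9, f10⟩ := x.structure_facts
  refine ⟨h34.resolve_right fun hIV => ?_, f1, f2, f3, f4, f5, f6, f7, f8, f9, f10⟩
  obtain ⟨A, B, D, hA, -, -, -, hn, -⟩ := id hIV
  obtain ⟨c', H₀', x'⟩ := core M A B D hM (Or.inr hIV) hA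
  haveI := x'.structure_facts.2.2.2.2.2.1
  exact hn IsCyclic.isMulCommutative

end Cfsg.Agent.PF
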