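import Cfsg.Agent.OddChar.PF.Sec08Dade
import Cfsg.Agent.OddLocal.SigmaDisjoint

/-!
# Peterfalvi, section 8: the supporting relation and the sets `Ã`
-/

set_option linter.unusedSectionVars false
set_option linter.unusedVariables false
set_option linter.style.haveILetI false
set_option autoImplicit false

namespace Cfsg.Agent.PF

open Subgroup
open Cfsg.Lib.OddLocal
open Cfsg.Lib.OddLocal.Sigma
open Cfsg.Lib.OddLocal.RankTwoMax

universe u

variable {G : Type u} [Group G] [Finite G] {M S T : Subgroup G}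

/-- The statements of the local analysis used for the supporting relation. -/
structure SupportFacts (G : Type u) [Group G] [Finite G] : Prop where
  types : TypeFacts G
  p1379 : P1379 G
  p1390 : P1390' G
  p1391 : P1391' G

/-- A complement of a normal Hall subgroup through a given element of prime-to-it order. -/
theorem exists_compl_mem {H X : Subgroup G} (hHX : H ≤ X) (hn : X ≤ normalizer (H : Set G))
    (hcop : (Nat.card H).Coprime (H.relIndex X)) (hsol : Group.IsSolvable X) {x : G} (hx : x ∈ X)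
    (hxc : (orderOf x).Coprime (Nat.card H)) :
    ∃ U : Subgroup G, x ∈ U ∧ Cfsg.IsComplIn H U X := by
  haveI := hsol
  haveI : (H.subgroupOf X).Normal := (normal_subgroupOf_iff_le_normalizer hHX).mpr hn
  set N := H.subgroupOf X with hN
  have hNc : Nat.card N = Nat.card H := Nat.card_congr (subgroupOfEquivOfLe hHX).toEquiv
  obtain ⟨S, hS, hxS⟩ := Cfsg.Lib.Coprime.exists_piHall_ge (G := X)
    (π := {r | ¬ r ∣ Nat.card H}) (K := zpowers (⟨x, hx⟩ : X)) (by
      intro p hp hd hdH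
      rw [Nat.card_zpowers, orderOf_mk] at hd
      exact hp.ne_one (Nat.eq_one_of_dvd_coprimes hxc hd hdH))
  have h1 : (Nat.card S).Coprime (Nat.card N) := by
    rw [hNc]; exact Nat.coprime_of_dvd fun r hr hd hd' => hS.1 r hr hd hd'
  have h2 : N.index.Coprime S.index := Nat.coprime_of_dvd fun r hr hd hd' =>
    hS.2 r hr (fun hdH => hr.ne_one (Nat.eq_one_of_dvd_coprimes hcop hdH hd)) hd'
  have hcard : Nat.card S = N.index := by
    refine Nat.dvd_antisymm (h1.dvd_of_dvd_mul_left ?_) (h2.dvd_of_dvd_mul_right ?_)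
    · rw [card_mul_index]; exact card_subgroup_dvd_card S
    · rw [card_mul_index]; exact index_dvd_card N
  have hc : IsComplement' N S :=
    isComplement'_of_card_mul_and_disjoint (by rw [hcard, card_mul_index])
      (disjoint_iff.mpr (Cfsg.Lib.Coprime.inf_eq_bot_of_coprime h1.symm))
  refine ⟨S.map X.subtype, ⟨⟨x, hx⟩, hxS (mem_zpowers _), rfl⟩, hHX, map_subtype_le _, ?_, ?_⟩
  · rw [eq_bot_iff]
    rintro y ⟨hy, z, hz, rfl⟩
    have : z ∈ N ⊓ S := ⟨hy, hz⟩
    rw [hc.disjoint.eq_bot, mem_bot] at this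
    simp [this]
  · intro m hm
    obtain ⟨⟨a, b⟩, hab⟩ := hc.2 ⟨m, hm⟩
    exact ⟨_, a.2, _, ⟨_, b.2, rfl⟩, (congrArg Subtype.val hab).symm⟩

theorem sigma_of_typeA1 (hG : Cfsg.IsMinSimpleOddOrder G) (h : TypeFacts G) (hM : IsCoatom M)
    {x : G} (hx : x ∈ Cfsg.typeA1 M) {r : ℕ} (hr : r.Prime) (hd : r ∣ orderOf x) :
    r ∈ Cfsg.sigma M := by
  have hx' : x ∈ Cfsg.sigmaCore M := typeCore_eq_sigmaCore hG h hM ▸ hx.1
  exact sigmaCore_isPi r hr (hd.trans (Subgroup.orderOf_dvd_natCard _ hx'))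

theorem exists_prime_of_typeA1 (hG : Cfsg.IsMinSimpleOddOrder G) (h : TypeFacts G) (hM : IsCoatom M)
    {x : G} (hx : x ∈ Cfsg.typeA1 M) : ∃ r : ℕ, r.Prime ∧ r ∣ orderOf x ∧ r ∈ Cfsg.sigma M := by
  have hx1 : orderOf x ≠ 1 := fun he => hx.2 (orderOf_eq_one_iff.mp he)
  exact ⟨_, Nat.minFac_prime hx1, Nat.minFac_dvd _,
    sigma_of_typeA1 hG h hM hx (Nat.minFac_prime hx1) (Nat.minFac_dvd _)⟩

/-- An element of `A(T)` of order prime to `σ(T)` has its centraliser in `T` alone. -/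
theorem unique_of_typeA (hG : Cfsg.IsMinSimpleOddOrder G) (h : SupportFacts G) (hT : IsCoatom T)
    {x : G} (hx : x ∈ typeA' T) (hcop : ∀ r : ℕ, r.Prime → r ∣ orderOf x → r ∉ Cfsg.sigma T) :
    centralizer ({x} : Set G) ≤ T ∧
      ∀ L : Subgroup G, IsCoatom L → centralizer ({x} : Set G) ≤ L → L = T := by
  have hxc : (orderOf x).Coprime (Nat.card (Cfsg.typeCore T)) :=
    Nat.coprime_of_dvd fun r hr hd hd' => hcop r hr hd
      (sigmaCore_isPi r hr (typeCore_eq_sigmaCore hG h.types hT ▸ hd'))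
  have hxnc : x ∉ Cfsg.typeCore T := fun hx' => one_not_mem_typeA T (by
    have := orderOf_eq_one_iff.mp (Nat.eq_one_of_dvd_coprimes hxc dvd_rfl
      (Subgroup.orderOf_dvd_natCard _ hx'))
    rwa [this] at hx)
  have hTsol : Group.IsSolvable T := hG.2.2.2 T hT.1
  have hrel : (Nat.card (Cfsg.fittingHallOf T)).Coprime ((Cfsg.fittingHallOf T).relIndex T) := by
    have e : (Cfsg.fittingHallOf T).subgroupOf T = Cfsg.fittingHall T :=
      comap_map_eq_self_of_injective T.subtype_injective _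
    show Nat.Coprime _ ((Cfsg.fittingHallOf T).subgroupOf T).index
    rw [e, Cfsg.fittingHallOf, card_map_of_injective T.subtype_injective]
    exact Cfsg.Lib.FittingHall.fittingHall_coprime
  have main : ∀ X : Subgroup G, (IsTypeI' T ∧ X = T ∨ Cfsg.IsOfTypeII T ∧ X = ⁅T, T⁆) →
      x ∈ X → centralizer ({x} : Set G) ≤ T ∧
        ∀ L : Subgroup G, IsCoatom L → centralizer ({x} : Set G) ≤ L → L = T := by
    intro X hX hxX
    have hXT : X ≤ T := by
      rcases hX with ⟨-, rfl⟩ | ⟨-, rfl⟩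
      · exact le_rfl
      · exact Subgroup.commutator_le_self T
    have hcore : Cfsg.typeCore T = Cfsg.fittingHallOf T := by
      rcases hX with ⟨hI, -⟩ | ⟨hII, -⟩
      · exact typeCore_of_I_II hG h.types hT (Or.inl hI)
      · exact typeCore_of_I_II hG h.types hT (Or.inr hII)
    have hFX : Cfsg.fittingHallOf T ≤ X := by
      rcases hX with ⟨-, rfl⟩ | ⟨-, rfl⟩
      · exact Cfsg.Lib.FittingHall.fittingHallOf_le _
      · exact (h.types.p1355 T hT).2.1.trans (h.types.p1355 T hT).2.2.1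
    rw [hcore] at hxc
    obtain ⟨U, hxU, hU⟩ := exists_compl_mem hFX
      (hXT.trans (Cfsg.Lib.FittingHall.le_normalizer_fittingHallOf T))
      (hrel.coprime_dvd_right (by
        rw [← relIndex_mul_relIndex _ X T hFX hXT]; exact dvd_mul_right _ _))
      (hG.2.2.2 X (FittingUniqueness.ne_top_of_le_coatom hT hXT)) hxX hxc
    have hU' : (IsTypeI' T ∧ Cfsg.IsComplIn (Cfsg.fittingHallOf T) U T) ∨
        (Cfsg.IsOfTypeII T ∧ Cfsg.IsComplIn (Cfsg.fittingHallOf T) U ⁅T, T⁆) := by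
      rcases hX with ⟨hI, rfl⟩ | ⟨hII, rfl⟩
      · exact Or.inl ⟨hI, hU⟩
      · exact Or.inr ⟨hII, hU⟩
    obtain ⟨-, huniq, -⟩ := h.p1390 T hT U hU'
    have hx1 : x ≠ 1 := fun he => one_not_mem_typeA T (he ▸ hx)
    obtain ⟨hy', hyT⟩ : ∃ y ∈ Cfsg.typeCore T, y ≠ 1 ∧ x * y = y * x := by
      have := hx
      unfold typeA' at this
      by_cases hI : IsTypeI' T
      · rw [if_pos hI] at this; rw [hcore]; exact this.2.2
      · rw [if_neg hI] at this; exact this.2.2
    obtain ⟨hyT, hy1, hyc⟩ := hyT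
    refine huniq {x} (Set.singleton_subset_iff.mpr ⟨hxU, hx1⟩) (Set.singleton_nonempty _) ?_
    intro hbot
    refine hy1 (mem_bot.mp (hbot ▸ mem_inf.mpr ⟨hcore ▸ hyT, ?_⟩))
    rw [mem_centralizer_singleton_iff]
    exact hyc.symm
  rcases type_cases hG h.types hT with hI | hP
  · refine main T (Or.inl ⟨hI, rfl⟩) ?_
    exact typeA_subset T hx
  have hnI := not_typeI_of_P hG h.types hT hP
  have hxd : x ∈ ⁅T, T⁆ := by
    have := hx
    unfold typeA' at this
    rw [if_neg hnI] at this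
    exact this.1
  rcases hP with hII | hIII | hIV | hV
  · exact main _ (Or.inr ⟨hII, rfl⟩) hxd
  · exact absurd hxd (by rwa [Cfsg.typeCore, if_pos (Or.inl hIII)] at hxnc)
  · exact absurd hxd (by rwa [Cfsg.typeCore, if_pos (Or.inr hIV)] at hxnc)
  · have hcV : Cfsg.typeCore T = Cfsg.fittingHallOf T :=
      if_neg fun h34 => not_typeV_of hG h.types hT h34 hV
    obtain ⟨W₁, U, W₂, hP', hU, -⟩ := hV
    exfalso
    apply hxnc
    rw [hcV]
    obtain ⟨a, ha, b, hb, rfl⟩ := hP'.U_compl.2.2.2 x hxd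
    rw [hU, mem_bot] at hb
    simpa [hb] using ha

/-- Conjugate subgroups have conjugate sets. -/
theorem typeA_conj (g : G) {x : G} (hx : x ∈ typeA' T) :
    g * x * g⁻¹ ∈ typeA' (T.map (MulAut.conj g).toMonoidHom) :=
  (TypeMap.typeA'_mem (MulAut.conj g) T x).mpr hx

theorem not_conj_sigma (hG : Cfsg.IsMinSimpleOddOrder G) (hS : IsCoatom S) (hT : IsCoatom T)
    (hnc : ∀ g : G, T.map (MulAut.conj g).toMonoidHom ≠ S) {r : ℕ} (hr : r ∈ Cfsg.sigma S) :
    r ∉ Cfsg.sigma T := fun hr' => by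
  obtain ⟨g, hg⟩ := (sigma_partition hG).2 T S hT hS ⟨r, hr', hr⟩
  exact hnc g hg.symm

/-- Peterfalvi (8.19), first part. -/
theorem centralizer_of_inter (hG : Cfsg.IsMinSimpleOddOrder G) (h : SupportFacts G)
    (hS : IsCoatom S) (hT : IsCoatom T) (hnc : ∀ g : G, T.map (MulAut.conj g).toMonoidHom ≠ S)
    {x : G} (hx : x ∈ Cfsg.typeA1 S ∩ typeA' T) :
    ¬ centralizer ({x} : Set G) ≤ S ∧ centralizer ({x} : Set G) ≤ T := by
  obtain ⟨hle, hu⟩ := unique_of_typeA hG h hT hx.2 fun r hr hd =>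
    not_conj_sigma hG hS hT hnc (sigma_of_typeA1 hG h.types hS hx.1 hr hd)
  refine ⟨fun hS' => hnc 1 ?_, hle⟩
  rw [hu S hS hS']
  exact Cfsg.Lib.Coprime.conjMap_one T

theorem supports_iff (hG : Cfsg.IsMinSimpleOddOrder G) (h : SupportFacts G)
    (hS : IsCoatom S) (hT : IsCoatom T) (hnc : ∀ g : G, T.map (MulAut.conj g).toMonoidHom ≠ S) :
    Supports' T S ↔ (Cfsg.typeA1 S ∩ typeA' T).Nonempty := by
  constructor
  · rintro ⟨-, x, hx, hnS, hle⟩
    obtain ⟨hfus, hD, hL⟩ := h.p1391 S hS _ (Or.inr rfl)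
    exact ⟨x, (hD x hx hnS).1, (hL x hx hnS T hT hle).2.2.2.2.1.1⟩
  · rintro ⟨x, hx⟩
    obtain ⟨h1, h2⟩ := centralizer_of_inter hG h hS hT hnc hx
    exact ⟨hT, x, typeA_subset_typeA0 S (typeA1_subset_typeA hG h.types hS hx.1), h1, h2⟩

theorem conj_not_conj {g : G} (hnc : ∀ k : G, T.map (MulAut.conj k).toMonoidHom ≠ S) (k : G) :
    (T.map (MulAut.conj g).toMonoidHom).map (MulAut.conj k).toMonoidHom ≠ S := by
  rw [show (T.map (MulAut.conj g).toMonoidHom).map (MulAut.conj k).toMonoidHom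
    = T.map (MulAut.conj (k * g)).toMonoidHom from Cfsg.Lib.Coprime.conjMap_mul k g T]
  exact hnc _

/-- A coset representative is a member of `Ã`. -/
theorem mem_tilde {A : Set G} {a : G} (ha : a ∈ A) (y : G) :
    y * a * y⁻¹ ∈ Cfsg.tildeOf M A :=
  ⟨a, ha, 1, one_mem _, y, by rw [mul_one]⟩

theorem supports_conj_iff (hG : Cfsg.IsMinSimpleOddOrder G) (h : SupportFacts G)
    (hS : IsCoatom S) (hT : IsCoatom T) (hnc : ∀ g : G, T.map (MulAut.conj g).toMonoidHom ≠ S) :
    (∃ g : G, Supports' (T.map (MulAut.conj g).toMonoidHom) S) ↔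
      (Cfsg.tildeOf S (Cfsg.typeA1 S) ∩ Cfsg.tildeOf T (typeA' T)).Nonempty := by
  constructor
  · rintro ⟨g, hg⟩
    obtain ⟨x, hx1, hx2⟩ := (supports_iff hG h hS hg.1 fun k => conj_not_conj hnc k).mp hg
    refine ⟨x, by simpa using mem_tilde (M := S) hx1 1, ?_⟩
    have hx3 : g⁻¹ * x * g ∈ typeA' T := by
      rw [← TypeMap.typeA'_mem (MulAut.conj g), MulAut.conj_apply,
        show g * (g⁻¹ * x * g) * g⁻¹ = x by group]
      exact hx2
    simpa [mul_assoc] using mem_tilde (M := T) hx3 g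
  · rintro ⟨z, ⟨a, ha, r, hr, y₁, rfl⟩, b, hb, s, hs, y₂, he⟩
    -- the centraliser of `b` lies in `T`
    have hbT : centralizer ({b} : Set G) ≤ T := by
      by_contra hnT
      have hb1 := ((h.p1391 T hT _ (Or.inl rfl)).2.1 b hb hnT).1
      have hdis := (h.p1379).1 S T hS hT fun g hg => hnc g⁻¹ (by
        rw [hg]; exact Cfsg.Lib.Coprime.conjMap_inv_conjMap g S)
      have : y₁ * (a * r) * y₁⁻¹ ∈
          Cfsg.tildeOf S ((Cfsg.sigmaCore S : Set G) \ {1}) ∩
            Cfsg.tildeOf T ((Cfsg.sigmaCore T : Set G) \ {1}) := by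
        rw [← typeCore_eq_sigmaCore hG h.types hS, ← typeCore_eq_sigmaCore hG h.types hT]
        exact ⟨⟨a, ha, r, hr, y₁, rfl⟩, b, hb1, s, hs, y₂, he⟩
      rw [hdis] at this
      exact this
    rw [supportR_of_le hbT, mem_bot] at hs
    subst hs
    rw [mul_one] at he
    -- `a * r` lies in `A` of a conjugate of `T`
    set g := y₁⁻¹ * y₂ with hg
    have harA : a * r ∈ typeA' (T.map (MulAut.conj g).toMonoidHom) := by
      have h1 : a * r = g * b * g⁻¹ := by
        calc a * r = y₁⁻¹ * (y₁ * (a * r) * y₁⁻¹) * y₁ := by group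
          _ = y₁⁻¹ * (y₂ * b * y₂⁻¹) * y₁ := by rw [he]
          _ = g * b * g⁻¹ := by rw [hg]; group
      rw [h1]; exact typeA_conj g hb
    have hT' : IsCoatom (T.map (MulAut.conj g).toMonoidHom) :=
      (TypeMap.coatom_im (MulAut.conj g)).mpr hT
    have hnc' := fun k => conj_not_conj (g := g) hnc k
    have ha0 : a ∈ typeA0' S :=
      typeA_subset_typeA0 S (typeA1_subset_typeA hG h.types hS ha)
    by_cases hr1 : r = 1
    · subst hr1
      rw [mul_one] at harA
      exact ⟨g, (supports_iff hG h hS hT' hnc').mpr ⟨a, ha, harA⟩⟩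
    have hnS : ¬ centralizer ({a} : Set G) ≤ S := fun hle => hr1 (by
      rwa [supportR_of_le hle, mem_bot] at hr)
    obtain ⟨-, hD, hL⟩ := h.p1391 S hS _ (Or.inr rfl)
    obtain ⟨L, hLm, hCL, hR⟩ := exists_supportR_eq hnS (hD a ha0 hnS).2
    obtain ⟨-, -, -, hcop, ⟨haL, -⟩, hLtype, -⟩ := hL a ha0 hnS L hLm hCL
    by_cases hconj : ∃ k : G, T.map (MulAut.conj k).toMonoidHom = L
    · obtain ⟨k, rfl⟩ := hconj
      exact ⟨k, hLm, a, ha0, hnS, hCL⟩
    push Not at hconj
    exfalso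
    rw [hR] at hr
    have hco : (orderOf a).Coprime (orderOf r) := by
      refine Nat.Coprime.symm ?_
      refine ((hcop a ha0).coprime_dvd_left (Subgroup.orderOf_dvd_natCard _ hr.1)).coprime_dvd_right ?_
      exact Subgroup.orderOf_dvd_natCard _
        ⟨typeA0_subset S ha0, mem_centralizer_singleton_iff.mpr rfl⟩
    have hcomm : Commute a r := ((mem_centralizer_singleton_iff.mp hr.2)).symm
    obtain ⟨hle, hu⟩ := unique_of_typeA hG h hT' harA fun t ht hd => by
      rw [hcomm.orderOf_mul_eq_mul_orderOf_of_coprime hco] at hd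
      rcases ht.dvd_mul.mp hd with hd | hd
      · exact not_conj_sigma hG hS hT' hnc' (sigma_of_typeA1 hG h.types hS ha ht hd)
      · refine not_conj_sigma hG hLm hT' (fun k => ?_) (sigmaCore_isPi t ht ?_)
        · rw [show (T.map (MulAut.conj g).toMonoidHom).map (MulAut.conj k).toMonoidHom
            = T.map (MulAut.conj (k * g)).toMonoidHom from Cfsg.Lib.Coprime.conjMap_mul k g T]
          exact hconj _
        · exact hd.trans (Subgroup.orderOf_dvd_natCard _ ((h.types.p1355 L hLm).2.1 hr.1))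
    have hCar : centralizer ({a * r} : Set G) ≤ centralizer ({a} : Set G) := by
      intro c hc
      rw [mem_centralizer_singleton_iff] at hc ⊢
      -- `a` is a power of `a * r`
      obtain ⟨i, hi1, hi2⟩ : ∃ i : ℕ, a ^ i = a ∧ r ^ i = 1 := by
        obtain ⟨i, hia, hir⟩ := Nat.chineseRemainder hco 1 0
        refine ⟨i, ?_, ?_⟩
        · exact (pow_eq_pow_iff_modEq.mpr hia).trans (pow_one a)
        · rw [← pow_zero r]
          exact pow_eq_pow_iff_modEq.mpr hir
      have hpow : (a * r) ^ i = a := by rw [hcomm.mul_pow, hi1, hi2, mul_one]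
      have := (Commute.pow_right (show Commute c (a * r) from hc) i)
      rwa [hpow] at this
    exact hconj g (hu L hLm (hCar.trans hCL)).symm

/-- Peterfalvi (8.19), last part. -/
theorem tilde_disjoint (hG : Cfsg.IsMinSimpleOddOrder G) (h : SupportFacts G)
    (hS : IsCoatom S) (hT : IsCoatom T) (hnc : ∀ g : G, T.map (MulAut.conj g).toMonoidHom ≠ S) :
    Cfsg.tildeOf S (Cfsg.typeA1 S) ∩ Cfsg.tildeOf T (typeA' T) = ∅ ∨
      Cfsg.tildeOf T (Cfsg.typeA1 T) ∩ Cfsg.tildeOf S (typeA' S) = ∅ := by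
  by_contra hcon
  push Not at hcon
  have hnc' : ∀ g : G, S.map (MulAut.conj g).toMonoidHom ≠ T := fun g hg => hnc g⁻¹ (by
    rw [← hg]; exact Cfsg.Lib.Coprime.conjMap_inv_conjMap g S)
  obtain ⟨g, hg⟩ := (supports_conj_iff hG h hS hT hnc).mpr hcon.1
  obtain ⟨k, hk⟩ := (supports_conj_iff hG h hT hS hnc').mpr hcon.2
  -- `S'` supports `L` and `L` supports `S`
  set L := T.map (MulAut.conj g).toMonoidHom with hLdef
  have hk' := TypeMap.supports'_im (MulAut.conj g) hk
  rw [show TypeMap.im (MulAut.conj g) (S.map (MulAut.conj k).toMonoidHom)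
    = S.map (MulAut.conj (g * k)).toMonoidHom from Cfsg.Lib.Coprime.conjMap_mul g k S] at hk'
  set S' := S.map (MulAut.conj (g * k)).toMonoidHom with hS'def
  obtain ⟨hLm, x, hx, hnx, hxL⟩ := hg
  obtain ⟨-, hD, hL⟩ := h.p1391 S hS _ (Or.inr rfl)
  have hx1 := (hD x hx hnx).1
  obtain ⟨-, -, -, -, ⟨hxA, -⟩, -, -⟩ := hL x hx hnx L hLm hxL
  obtain ⟨hS'm, y, hy, hny, hyS'⟩ := hk'
  obtain ⟨-, -, -, hcop, -, hS'type, -⟩ :=
    (h.p1391 L hLm _ (Or.inr rfl)).2.2 y hy hny S' hS'm hyS'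
  obtain ⟨r, hr, hrx, hrσ⟩ := exists_prime_of_typeA1 hG h.types hS hx1
  have h1 : r ∣ Nat.card ↥(L ⊓ centralizer ({x} : Set G)) :=
    hrx.trans (Subgroup.orderOf_dvd_natCard _
      ⟨typeA_subset L hxA, mem_centralizer_singleton_iff.mpr rfl⟩)
  have h2 : r ∣ Nat.card (Cfsg.fittingHallOf S') := by
    rw [← typeCore_of_I_II hG h.types hS'm hS'type, hS'def,
      show S.map (MulAut.conj (g * k)).toMonoidHom = TypeMap.im (MulAut.conj (g * k)) S from rfl,
      TypeMap.typeCore_im, TypeMap.card_im]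
    exact hrx.trans (Subgroup.orderOf_dvd_natCard _ hx1.1)
  exact hr.ne_one (Nat.eq_one_of_dvd_coprimes (hcop x (typeA_subset_typeA0 L hxA)) h2 h1)

/-- Statement 1539 for the primed sets. -/
def P1539' (G : Type u) [Group G] [Finite G] : Prop :=
  ∀ (S T : Subgroup G), IsCoatom S → IsCoatom T →
    (∀ g : G, T.map (MulAut.conj g).toMonoidHom ≠ S) →
    (Supports' T S ↔ (Cfsg.typeA1 S ∩ typeA' T).Nonempty) ∧
    (∀ x ∈ Cfsg.typeA1 S ∩ typeA' T,
      ¬ Subgroup.centralizer ({x} : Set G) ≤ S ∧ Subgroup.centralizer ({x} : Set G) ≤ T) ∧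
    ((∃ g : G, Supports' (T.map (MulAut.conj g).toMonoidHom) S) ↔
      (Cfsg.tildeOf S (Cfsg.typeA1 S) ∩ Cfsg.tildeOf T (typeA' T)).Nonempty) ∧
    (Cfsg.tildeOf S (Cfsg.typeA1 S) ∩ Cfsg.tildeOf T (typeA' T) = ∅ ∨
      Cfsg.tildeOf T (Cfsg.typeA1 T) ∩ Cfsg.tildeOf S (typeA' S) = ∅)

theorem P1539'.frozen (h : P1539' G) (hg : NoGap G) : P1539 G := by
  intro S T hS hT hnc
  have h' := h S T hS hT hnc
  simp only [hg.supports_iff hS, hg.typeA_eq hS, hg.typeA_eq hT] at h'
  exact h'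

/-- Statement 1539 from the local analysis. -/
theorem p1539_of (hG : Cfsg.IsMinSimpleOddOrder G) (h : SupportFacts G) : P1539' G :=
  fun S T hS hT hnc => ⟨supports_iff hG h hS hT hnc,
    fun x hx => centralizer_of_inter hG h hS hT hnc hx,
    supports_conj_iff hG h hS hT hnc, tilde_disjoint hG h hS hT hnc⟩

end Cfsg.Agent.PF
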