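import Cfsg.Prelude.Def_OddOrderLocal
import Cfsg.Agent.OddChar.PF.TypeI
import Cfsg.Agent.Components.PComponents
import Cfsg.Agent.Components.GenFitting

/-!
# The vocabulary of types is carried along by isomorphisms

Everything attached to a maximal subgroup (`M_F`, `M_s`, the five types, the sets `A₁`, `A`, `A₀`,
`R`, the supporting relation and the sets `Ã`) is transported by an isomorphism of the ambient group.
-/

set_option linter.unusedSectionVars false
set_option autoImplicit false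

namespace Cfsg.Agent.PF.TypeMap

open Subgroup
open scoped commutatorElement

variable {G G' : Type*} [Group G] [Group G'] (φ : G ≃* G')

/-- The image of a subgroup under an isomorphism. -/
abbrev im (H : Subgroup G) : Subgroup G' := H.map φ.toMonoidHom

theorem mem_im {H : Subgroup G} {x : G} : φ x ∈ im φ H ↔ x ∈ H :=
  Subgroup.mem_map_iff_mem φ.injective

theorem mem_im' {H : Subgroup G} {y : G'} : y ∈ im φ H ↔ φ.symm y ∈ H :=
  Subgroup.mem_map_equiv

theorem im_symm_im (H : Subgroup G) : im φ.symm (im φ H) = H := by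
  ext x; rw [mem_im', MulEquiv.symm_symm, mem_im]

theorem im_im_symm (H : Subgroup G') : im φ (im φ.symm H) = H := im_symm_im φ.symm H

theorem im_le {H K : Subgroup G} : im φ H ≤ im φ K ↔ H ≤ K :=
  map_le_map_iff_of_injective φ.injective

theorem im_inj {H K : Subgroup G} : im φ H = im φ K ↔ H = K :=
  (Subgroup.map_injective φ.injective).eq_iff

theorem im_eq_bot {H : Subgroup G} : im φ H = ⊥ ↔ H = ⊥ :=
  map_eq_bot_iff_of_injective _ φ.injective

theorem im_inf (H K : Subgroup G) : im φ (H ⊓ K) = im φ H ⊓ im φ K :=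
  map_inf H K _ φ.injective

theorem im_sup (H K : Subgroup G) : im φ (H ⊔ K) = im φ H ⊔ im φ K := map_sup H K _

theorem im_comm (H K : Subgroup G) : im φ ⁅H, K⁆ = ⁅im φ H, im φ K⁆ := map_commutator H K _

theorem coe_im (H : Subgroup G) : (im φ H : Set G') = φ '' (H : Set G) := coe_map _ _

theorem im_normalizer (X : Set G) :
    im φ (normalizer X) = normalizer (φ '' X) := by
  ext y
  obtain ⟨x, rfl⟩ := φ.surjective y
  rw [mem_im, mem_set_normalizer_iff, mem_set_normalizer_iff]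
  constructor
  · intro h z
    obtain ⟨z, rfl⟩ := φ.surjective z
    simp only [← map_mul, ← map_inv, φ.injective.mem_set_image]
    exact h z
  · intro h z
    have := h (φ z)
    simpa only [← map_mul, ← map_inv, φ.injective.mem_set_image] using this

theorem im_normalizer' (H : Subgroup G) :
    im φ (normalizer (H : Set G)) = normalizer (im φ H : Set G') := by
  rw [im_normalizer, coe_im]

theorem im_centralizer (X : Set G) : im φ (centralizer X) = centralizer (φ '' X) := by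
  ext y
  obtain ⟨x, rfl⟩ := φ.surjective y
  simp only [mem_im, mem_centralizer_iff, Set.forall_mem_image, ← map_mul, φ.injective.eq_iff]

theorem im_centralizer' (H : Subgroup G) :
    im φ (centralizer (H : Set G)) = centralizer (im φ H : Set G') := by
  rw [im_centralizer, coe_im]

theorem im_centralizer_singleton (x : G) :
    im φ (centralizer ({x} : Set G)) = centralizer ({φ x} : Set G') := by
  rw [im_centralizer, Set.image_singleton]

theorem card_im (H : Subgroup G) : Nat.card (im φ H) = Nat.card H :=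
  card_map_of_injective φ.injective

theorem relIndex_im (H K : Subgroup G) : (im φ H).relIndex (im φ K) = H.relIndex K :=
  relIndex_map_map_of_injective H K φ.injective

theorem coatom_im {M : Subgroup G} : IsCoatom (im φ M) ↔ IsCoatom M := by
  rw [show im φ M = (MulEquiv.mapSubgroup φ) M from rfl, OrderIso.isCoatom_iff]

theorem isComplIn_im {A B M : Subgroup G} (h : Cfsg.IsComplIn A B M) :
    Cfsg.IsComplIn (im φ A) (im φ B) (im φ M) := by
  obtain ⟨hA, hB, hinf, hprod⟩ := h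
  refine ⟨(im_le φ).mpr hA, (im_le φ).mpr hB, by rw [← im_inf, hinf, im_eq_bot], ?_⟩
  rintro - ⟨m, hm, rfl⟩
  obtain ⟨a, ha, b, hb, rfl⟩ := hprod m hm
  exact ⟨φ a, (mem_im φ).mpr ha, φ b, (mem_im φ).mpr hb, map_mul φ a b⟩

theorem isTISubset_im {X : Set G} (h : Cfsg.IsTISubset X) : Cfsg.IsTISubset (φ '' X) := by
  intro g hg
  obtain ⟨g, rfl⟩ := φ.surjective g
  rw [← im_normalizer, mem_im] at hg
  rintro - ⟨x, hx, rfl⟩ hmem
  rw [← map_mul, ← map_inv, ← map_mul, φ.injective.mem_set_image] at hmem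
  rw [h g hg x hx hmem, map_one]

theorem isTISubset_im' {H : Subgroup G} (h : Cfsg.IsTISubset (H : Set G)) :
    Cfsg.IsTISubset (im φ H : Set G') := coe_im φ H ▸ isTISubset_im φ h

/-- The restriction of an isomorphism to a subgroup. -/
noncomputable def res (H : Subgroup G) : H ≃* im φ H :=
  H.equivMapOfInjective φ.toMonoidHom φ.injective

theorem pRankLE_equiv (e : G ≃* G') {p k : ℕ} (h : Cfsg.PRankLE p k G) : Cfsg.PRankLE p k G' := by
  intro A hA hp
  have hc := h (im e.symm A) (map_isMulCommutative A _) (fun a ha => by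
    obtain ⟨b, hb, rfl⟩ := ha
    rw [← map_pow, hp b hb, map_one])
  rwa [card_im] at hc

theorem rankLE_equiv (e : G ≃* G') {k : ℕ} (h : Cfsg.RankLE k G) : Cfsg.RankLE k G' :=
  fun p hp => pRankLE_equiv e (h p hp)

theorem rankLE_equiv_iff (e : G ≃* G') {k : ℕ} : Cfsg.RankLE k G ↔ Cfsg.RankLE k G' :=
  ⟨rankLE_equiv e, rankLE_equiv e.symm⟩

/-- `M_F` is intrinsic. -/
theorem map_fittingHall (e : G ≃* G') :
    (Cfsg.fittingHall G).map e.toMonoidHom = Cfsg.fittingHall G' := by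
  have hidx : ∀ N : Subgroup G, (im e N).index = N.index := fun N =>
    Subgroup.index_map_of_bijective e.bijective N
  refine le_antisymm ?_ (sSup_le fun K hK => ?_)
  · rw [Cfsg.fittingHall, sSup_eq_iSup, Subgroup.map_iSup]
    refine iSup_le fun K => ?_
    rw [Subgroup.map_iSup]
    exact iSup_le fun hK => le_sSup ⟨hK.1.map _ e.surjective,
      Cfsg.Lib.Components.isNilpotent_map hK.2.1 _,
      by rw [card_im, hidx]; exact hK.2.2⟩
  · have h2 : im e.symm K ≤ Cfsg.fittingHall G :=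
      le_sSup ⟨hK.1.map _ e.symm.surjective, Cfsg.Lib.Components.isNilpotent_map hK.2.1 _,
        by rw [card_im, ← hidx, im_im_symm]; exact hK.2.2⟩
    calc K = im e (im e.symm K) := (im_im_symm e K).symm
      _ ≤ _ := (im_le e).mpr h2

theorem map_subtype_comm {H : Subgroup G} (S : Subgroup H) :
    im φ (S.map H.subtype) = (S.map (res φ H).toMonoidHom).map (im φ H).subtype := by
  simp only [im, map_map]
  rfl

theorem fittingHallOf_im (M : Subgroup G) :
    Cfsg.fittingHallOf (im φ M) = im φ (Cfsg.fittingHallOf M) := by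
  rw [Cfsg.fittingHallOf, Cfsg.fittingHallOf, map_subtype_comm, map_fittingHall]

theorem fittingOf_im (M : Subgroup G) : Cfsg.fittingOf (im φ M) = im φ (Cfsg.fittingOf M) := by
  rw [Cfsg.fittingOf, Cfsg.fittingOf, map_subtype_comm, Cfsg.Lib.Components.fitting_map_equiv]

theorem isSelfNormalizingCyclic_im {W₁ W₂ : Subgroup G}
    (h : Cfsg.IsSelfNormalizingCyclic W₁ W₂) :
    Cfsg.IsSelfNormalizingCyclic (im φ W₁) (im φ W₂) := by
  obtain ⟨h1, h2, h3, h4, h5, h6⟩ := h
  refine ⟨by rwa [Ne, im_eq_bot], by rwa [Ne, im_eq_bot], by rw [← im_inf, h3, im_eq_bot], ?_, ?_, ?_⟩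
  · rintro - ⟨a, ha, rfl⟩ - ⟨b, hb, rfl⟩
    simp only [MulEquiv.coe_toMonoidHom, ← map_mul, h4 a ha b hb]
  · rw [← im_sup]; exact (MulEquiv.isCyclic (res φ _)).mp h5
  · intro X hX hne
    have hX' : φ ⁻¹' X ⊆ (↑(W₁ ⊔ W₂) : Set G) \ (↑W₁ ∪ ↑W₂) := by
      intro x hx
      have := hX hx
      rw [← im_sup] at this
      simpa only [Set.mem_diff, Set.mem_union, SetLike.mem_coe, mem_im] using this
    have hXne : (φ ⁻¹' X).Nonempty := hne.preimage φ.surjective
    rw [← im_sup, ← h6 _ hX' hXne, im_normalizer, Set.image_preimage_eq X φ.surjective]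

theorem isTypePWith_im {M W₁ U W₂ : Subgroup G} (h : Cfsg.IsTypePWith M W₁ U W₂) :
    Cfsg.IsTypePWith (im φ M) (im φ W₁) (im φ U) (im φ W₂) where
  W₁_ne := by rw [Ne, im_eq_bot]; exact h.W₁_ne
  W₁_cyclic := (MulEquiv.isCyclic (res φ _)).mp h.W₁_cyclic
  W₁_hall := by rw [card_im, relIndex_im]; exact h.W₁_hall
  W₁_compl := by rw [← im_comm]; exact isComplIn_im φ h.W₁_compl
  U_nilpotent := Cfsg.Lib.Components.isNilpotent_map h.U_nilpotent _
  U_normal := by rw [← im_normalizer', im_le]; exact h.U_normal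
  U_compl := by rw [← im_comm, fittingHallOf_im]; exact isComplIn_im φ h.U_compl
  H_not_cyclic := by
    rw [fittingHallOf_im]; exact fun hc => h.H_not_cyclic ((MulEquiv.isCyclic (res φ _)).mpr hc)
  derived_two_le := by
    simp only [← im_comm, fittingHallOf_im, ← im_centralizer', ← im_inf, ← im_sup, im_le]
    exact h.derived_two_le
  fitting_eq := by
    simp only [fittingHallOf_im, fittingOf_im, ← im_centralizer', ← im_inf, ← im_sup, h.fitting_eq]
  fitting_le := by rw [← im_comm, fittingOf_im, im_le]; exact h.fitting_le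
  W₂_le := by
    simp only [← im_comm, fittingHallOf_im, ← im_inf, im_le]; exact h.W₂_le
  W₂_centralizer := by
    rintro - ⟨x, hx, rfl⟩ hx1
    have hx1' : x ≠ 1 := fun e => hx1 (by simp [e])
    simp only [MulEquiv.coe_toMonoidHom]
    rw [← im_comm, ← im_centralizer_singleton, ← im_inf, h.W₂_centralizer x hx hx1']
  selfNormalizing := isSelfNormalizingCyclic_im φ h.selfNormalizing

theorem isOfTypeP_im {M : Subgroup G} (h : Cfsg.IsOfTypeP M) : Cfsg.IsOfTypeP (im φ M) := by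
  obtain ⟨W₁, U, W₂, h⟩ := h
  exact ⟨_, _, _, isTypePWith_im φ h⟩

theorem isOfTypeF_equiv (e : G ≃* G') (h : Cfsg.IsOfTypeF G) : Cfsg.IsOfTypeF G' := by
  obtain ⟨hsol, hodd, hb, ht, U, hU1, hUc, ⟨U₁, h11, h12, h13, h14⟩, ⟨U₀, h01, h02, h03⟩⟩ := h
  haveI := hsol
  have hF := map_fittingHall e
  refine ⟨solvable_of_surjective (f := e.toMonoidHom) e.surjective,
    Nat.card_congr e.toEquiv ▸ hodd, ?_, ?_, im e U, by rwa [Ne, im_eq_bot], ?_,
    ⟨im e U₁, (im_le e).mpr h11, ?_, ?_, ?_⟩, ⟨im e U₀, (im_le e).mpr h01, ?_, ?_⟩⟩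
  · rw [← hF]; exact fun h' => hb ((im_eq_bot e).mp h')
  · rw [← hF]; intro h'
    exact ht ((im_inj e).mp (h'.trans (map_top_of_surjective e.toMonoidHom e.surjective).symm))
  · rw [← hF]
    haveI : Finite G := Nat.finite_of_card_ne_zero fun h0 => by simp [h0] at hodd
    haveI : Finite G' := Finite.of_equiv G e.toEquiv
    refine isComplement'_of_card_mul_and_disjoint ?_ ?_
    · rw [card_im, card_im, hUc.card_mul, Nat.card_congr e.toEquiv]
    · rw [disjoint_iff, ← im_inf, im_eq_bot]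
      exact hUc.disjoint.eq_bot
  · rw [← im_normalizer', im_le]; exact h12
  · exact map_isMulCommutative _ _
  · rw [← hF]
    rintro - ⟨x, hx, rfl⟩ hx1
    have hx1' : x ≠ 1 := fun h' => hx1 (by simp [h'])
    simp only [MulEquiv.coe_toMonoidHom]
    rw [← im_centralizer_singleton, ← im_inf, im_le]
    exact h14 x hx hx1'
  · rw [← Monoid.exponent_eq_of_mulEquiv (res e U₀), h02, Monoid.exponent_eq_of_mulEquiv (res e U)]
  · rw [← hF]
    rintro - ⟨u, hu, rfl⟩ hu1 - ⟨x, hx, rfl⟩ hc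
    have hu1' : u ≠ 1 := fun h' => hu1 (by simp [h'])
    simp only [MulEquiv.coe_toMonoidHom, ← map_mul, e.injective.eq_iff] at hc
    simp [h03 u hu hu1' x hx hc]

theorem pPrimeCore_cyclic_equiv (e : G ≃* G') {p : ℕ} (h : IsCyclic (Cfsg.pPrimeCore p G)) :
    IsCyclic (Cfsg.pPrimeCore p G') :=
  Cfsg.Lib.Components.pPrimeCore_map_equiv (p := p) e ▸ (MulEquiv.isCyclic (res e _)).mp h

theorem pCore_card_equiv (e : G ≃* G') (p : ℕ) :
    Nat.card (Cfsg.pCore p G') = Nat.card (Cfsg.pCore p G) := by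
  rw [← Cfsg.Lib.Components.pCore_map_equiv e]; exact card_im e _

theorem isOfTypeI_im {M : Subgroup G} (h : Cfsg.IsOfTypeI M) : Cfsg.IsOfTypeI (im φ M) := by
  obtain ⟨hF, hcase⟩ := h
  refine ⟨isOfTypeF_equiv (res φ M) hF, ?_⟩
  rw [fittingHallOf_im]
  rcases hcase with h | ⟨ha, hb, hc⟩ | ⟨he, p, hp, hd, hcy⟩
  · exact Or.inl (isTISubset_im' φ h)
  · exact Or.inr (Or.inl ⟨haveI := ha; map_isMulCommutative _ _, rankLE_equiv (res φ _) hb,
      fun h' => hc (rankLE_equiv (res φ _).symm h')⟩)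
  · refine Or.inr (Or.inr ⟨fun q hq hd' => ?_, p, hp, by rwa [card_im],
      pPrimeCore_cyclic_equiv (res φ M) hcy⟩)
    rw [card_im] at hd'
    rw [← Monoid.exponent_eq_of_mulEquiv
      (QuotientGroup.congr (Cfsg.fittingHall M) (Cfsg.fittingHall (im φ M)) (res φ M)
        (map_fittingHall (res φ M)))]
    exact he q hq hd'

theorem normalizer_im_le {U M : Subgroup G} :
    normalizer (im φ U : Set G') ≤ im φ M ↔ normalizer (U : Set G) ≤ M := by
  rw [← im_normalizer', im_le]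

theorem isMulCommutative_im {U : Subgroup G} : IsMulCommutative (im φ U) ↔ IsMulCommutative U := by
  refine ⟨fun h => ?_, fun h => map_isMulCommutative _ _⟩
  rw [← im_symm_im φ U]
  exact map_isMulCommutative _ _

theorem isOfTypeII_im {M : Subgroup G} (h : Cfsg.IsOfTypeII M) : Cfsg.IsOfTypeII (im φ M) := by
  obtain ⟨W₁, U, W₂, hP, hU, hp, hTI, hab, hN, hF, hFe⟩ := h
  refine ⟨_, _, _, isTypePWith_im φ hP, by rwa [Ne, im_eq_bot], by rwa [card_im],
    by rw [fittingOf_im]; exact isTISubset_im' φ hTI, (isMulCommutative_im φ).mpr hab,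
    fun h' => hN ((normalizer_im_le φ).mp h'), ?_, ?_⟩
  · rw [← im_comm]; exact isOfTypeF_equiv (res φ _) hF
  · rw [← im_comm, fittingHallOf_im, fittingHallOf_im, hFe]

theorem isOfTypeIII_im {M : Subgroup G} (h : Cfsg.IsOfTypeIII M) : Cfsg.IsOfTypeIII (im φ M) := by
  obtain ⟨W₁, U, W₂, hP, hU, hp, hTI, hab, hN⟩ := h
  exact ⟨_, _, _, isTypePWith_im φ hP, by rwa [Ne, im_eq_bot], by rwa [card_im],
    by rw [fittingOf_im]; exact isTISubset_im' φ hTI, (isMulCommutative_im φ).mpr hab,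
    (normalizer_im_le φ).mpr hN⟩

theorem isOfTypeIV_im {M : Subgroup G} (h : Cfsg.IsOfTypeIV M) : Cfsg.IsOfTypeIV (im φ M) := by
  obtain ⟨W₁, U, W₂, hP, hU, hp, hTI, hab, hN⟩ := h
  exact ⟨_, _, _, isTypePWith_im φ hP, by rwa [Ne, im_eq_bot], by rwa [card_im],
    by rw [fittingOf_im]; exact isTISubset_im' φ hTI, fun h' => hab ((isMulCommutative_im φ).mp h'),
    (normalizer_im_le φ).mpr hN⟩

theorem isOfTypeV_im {M : Subgroup G} (h : Cfsg.IsOfTypeV M) : Cfsg.IsOfTypeV (im φ M) := by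
  obtain ⟨W₁, U, W₂, hP, hU, hcase⟩ := h
  refine ⟨_, _, _, isTypePWith_im φ hP, (im_eq_bot φ).mpr hU, ?_⟩
  rw [fittingHallOf_im]
  rcases hcase with h | ⟨p, hp, hd, hq, hc⟩ | ⟨p, hp, hd, h3, hq, hc⟩
  · exact Or.inl (isTISubset_im' φ h)
  · exact Or.inr (Or.inl ⟨p, hp, by rwa [card_im], by rwa [card_im],
      pPrimeCore_cyclic_equiv (res φ _) hc⟩)
  · exact Or.inr (Or.inr ⟨p, hp, by rwa [card_im], by rwa [pCore_card_equiv (res φ _)],
      by rwa [card_im], pPrimeCore_cyclic_equiv (res φ _) hc⟩)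


theorem typeI_iff {M : Subgroup G} : Cfsg.IsOfTypeI (im φ M) ↔ Cfsg.IsOfTypeI M :=
  ⟨fun h => by simpa only [im_symm_im] using isOfTypeI_im φ.symm h, isOfTypeI_im φ⟩

theorem typeII_iff {M : Subgroup G} : Cfsg.IsOfTypeII (im φ M) ↔ Cfsg.IsOfTypeII M :=
  ⟨fun h => by simpa only [im_symm_im] using isOfTypeII_im φ.symm h, isOfTypeII_im φ⟩

theorem typeIII_iff {M : Subgroup G} : Cfsg.IsOfTypeIII (im φ M) ↔ Cfsg.IsOfTypeIII M :=
  ⟨fun h => by simpa only [im_symm_im] using isOfTypeIII_im φ.symm h, isOfTypeIII_im φ⟩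

theorem typeIV_iff {M : Subgroup G} : Cfsg.IsOfTypeIV (im φ M) ↔ Cfsg.IsOfTypeIV M :=
  ⟨fun h => by simpa only [im_symm_im] using isOfTypeIV_im φ.symm h, isOfTypeIV_im φ⟩

theorem typeV_iff {M : Subgroup G} : Cfsg.IsOfTypeV (im φ M) ↔ Cfsg.IsOfTypeV M :=
  ⟨fun h => by simpa only [im_symm_im] using isOfTypeV_im φ.symm h, isOfTypeV_im φ⟩

theorem typeCore_im (M : Subgroup G) : Cfsg.typeCore (im φ M) = im φ (Cfsg.typeCore M) := by
  unfold Cfsg.typeCore
  by_cases h : Cfsg.IsOfTypeIII M ∨ Cfsg.IsOfTypeIV M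
  · rw [if_pos h, if_pos ((typeIII_iff φ).symm.or (typeIV_iff φ).symm |>.mp h), im_comm]
  · rw [if_neg h, if_neg (fun h' => h ((typeIII_iff φ).or (typeIV_iff φ) |>.mp h')), fittingHallOf_im]

theorem typeA1_im (M : Subgroup G) : Cfsg.typeA1 (im φ M) = φ '' Cfsg.typeA1 M := by
  rw [Cfsg.typeA1, Cfsg.typeA1, typeCore_im, Set.image_sdiff φ.injective, Set.image_singleton,
    map_one, coe_im]

theorem typeA_mem (M : Subgroup G) (x : G) :
    φ x ∈ Cfsg.typeA (im φ M) ↔ x ∈ Cfsg.typeA M := by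
  have key : ∀ (S : Subgroup G) (T : Subgroup G),
      (φ x ∈ im φ S ∧ φ x ≠ 1 ∧ ∃ y ∈ im φ T, y ≠ 1 ∧ φ x * y = y * φ x) ↔
      (x ∈ S ∧ x ≠ 1 ∧ ∃ y ∈ T, y ≠ 1 ∧ x * y = y * x) := by
    intro S T
    rw [mem_im, φ.surjective.exists]
    simp only [mem_im, ne_eq, EmbeddingLike.map_eq_one_iff, ← map_mul, φ.injective.eq_iff]
  unfold Cfsg.typeA
  by_cases h : Cfsg.IsOfTypeI M
  · rw [if_pos h, if_pos ((typeI_iff φ).mpr h), fittingHallOf_im]
    exact key M _
  · rw [if_neg h, if_neg (fun h' => h ((typeI_iff φ).mp h')), typeCore_im, ← im_comm]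
    exact key _ _

theorem typeA0_mem' {M : Subgroup G} {x : G} (hx : x ∈ Cfsg.typeA0 M) :
    φ x ∈ Cfsg.typeA0 (im φ M) := by
  rcases hx with hx | ⟨hI, W₁, U, W₂, hP, m, hm, w, hw, h1, h2, rfl⟩
  · exact Or.inl ((typeA_mem φ M x).mpr hx)
  · refine Or.inr ⟨fun h => hI ((typeI_iff φ).mp h), _, _, _, isTypePWith_im φ hP, φ m,
      (mem_im φ).mpr hm, φ w, by rw [← im_sup, mem_im]; exact hw, fun h => h1 ((mem_im φ).mp h),
      fun h => h2 ((mem_im φ).mp h), by rw [map_mul, map_mul, map_inv]⟩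

theorem typeA0_mem (M : Subgroup G) (x : G) : φ x ∈ Cfsg.typeA0 (im φ M) ↔ x ∈ Cfsg.typeA0 M :=
  ⟨fun h => by simpa [im_symm_im] using typeA0_mem' φ.symm h, typeA0_mem' φ⟩

theorem supportR_im (M : Subgroup G) (x : G) :
    Cfsg.supportR (im φ M) (φ x) = im φ (Cfsg.supportR M x) := by
  have hC := im_centralizer_singleton φ x
  have hiff : (∃! L : Subgroup G', IsCoatom L ∧ centralizer ({φ x} : Set G') ≤ L) ↔
      ∃! L : Subgroup G, IsCoatom L ∧ centralizer ({x} : Set G) ≤ L :=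
    (MulEquiv.mapSubgroup φ).toEquiv.existsUnique_congr (fun {L} => by
      show _ ↔ _
      rw [show (MulEquiv.mapSubgroup φ).toEquiv L = im φ L from rfl, ← hC, im_le, coatom_im]) |>.symm
  unfold Cfsg.supportR
  by_cases h : ¬ centralizer ({x} : Set G) ≤ M ∧
      ∃! L : Subgroup G, IsCoatom L ∧ centralizer ({x} : Set G) ≤ L
  · have h' : ¬ centralizer ({φ x} : Set G') ≤ im φ M ∧
        ∃! L : Subgroup G', IsCoatom L ∧ centralizer ({φ x} : Set G') ≤ L :=
      ⟨by rw [← hC, im_le]; exact h.1, hiff.mpr h.2⟩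
    rw [dif_pos h, dif_pos h']
    have hs := Classical.choose_spec h.2.exists
    have hs' := Classical.choose_spec h'.2.exists
    have e : Classical.choose h'.2.exists = im φ (Classical.choose h.2.exists) :=
      h'.2.unique hs' ⟨(coatom_im φ).mpr hs.1, by rw [← hC, im_le]; exact hs.2⟩
    rw [e, fittingHallOf_im, im_inf, hC]
  · rw [dif_neg h, dif_neg (fun h' => h ⟨fun hle => h'.1 (by rw [← hC, im_le]; exact hle),
      hiff.mp h'.2⟩)]
    exact (Subgroup.map_bot _).symm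

theorem tildeOf_im (M : Subgroup G) (A : Set G) :
    Cfsg.tildeOf (im φ M) (φ '' A) = φ '' Cfsg.tildeOf M A := by
  ext g
  obtain ⟨g, rfl⟩ := φ.surjective g
  rw [φ.injective.mem_set_image]
  simp only [Cfsg.tildeOf, Set.mem_setOf_eq, Set.exists_mem_image, supportR_im]
  constructor
  · rintro ⟨a, ha, -, ⟨r, hr, rfl⟩, y, hy⟩
    obtain ⟨y, rfl⟩ := φ.surjective y
    simp only [MulEquiv.coe_toMonoidHom, ← map_mul, ← map_inv, φ.injective.eq_iff] at hy
    exact ⟨a, ha, r, hr, y, hy⟩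
  · rintro ⟨a, ha, r, hr, y, rfl⟩
    exact ⟨a, ha, φ r, (mem_im φ).mpr hr, φ y, by simp⟩

theorem supports_im {L M : Subgroup G} (h : Cfsg.Supports L M) :
    Cfsg.Supports (im φ L) (im φ M) := by
  obtain ⟨hL, x, hx, h1, h2⟩ := h
  exact ⟨(coatom_im φ).mpr hL, φ x, typeA0_mem' φ hx,
    by rw [← im_centralizer_singleton, im_le]; exact h1,
    by rw [← im_centralizer_singleton, im_le]; exact h2⟩

theorem isTypeI'_im [Finite G] {M : Subgroup G} (h : IsTypeI' M) : IsTypeI' (im φ M) := by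
  obtain ⟨hF, hcase⟩ := h
  refine ⟨isOfTypeF_equiv (res φ M) hF, ?_⟩
  rw [fittingHallOf_im]
  rcases hcase with h | ⟨ha, hb, hc⟩ | ⟨he, p, hp, hd, hcy⟩
  · exact Or.inl (isTISubset_im' φ h)
  · exact Or.inr (Or.inl ⟨haveI := ha; map_isMulCommutative _ _, rankLE_equiv (res φ _) hb,
      fun h' => hc (rankLE_equiv (res φ _).symm h')⟩)
  · refine Or.inr (Or.inr ⟨fun q hq hd' => ?_, p, hp, by rwa [card_im],
      pPrimeCore_cyclic_equiv (res φ _) hcy⟩)
    rw [card_im] at hd'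
    rw [← Monoid.exponent_eq_of_mulEquiv
      (QuotientGroup.congr (Cfsg.fittingHall M) (Cfsg.fittingHall (im φ M)) (res φ M)
        (map_fittingHall (res φ M)))]
    exact he q hq hd'

theorem typeI'_iff [Finite G] [Finite G'] {M : Subgroup G} : IsTypeI' (im φ M) ↔ IsTypeI' M :=
  ⟨fun h => by simpa only [im_symm_im] using isTypeI'_im φ.symm h, isTypeI'_im φ⟩

theorem typeA'_mem [Finite G] [Finite G'] (M : Subgroup G) (x : G) :
    φ x ∈ typeA' (im φ M) ↔ x ∈ typeA' M := by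
  have key : ∀ (S : Subgroup G) (T : Subgroup G),
      (φ x ∈ im φ S ∧ φ x ≠ 1 ∧ ∃ y ∈ im φ T, y ≠ 1 ∧ φ x * y = y * φ x) ↔
      (x ∈ S ∧ x ≠ 1 ∧ ∃ y ∈ T, y ≠ 1 ∧ x * y = y * x) := by
    intro S T
    rw [mem_im, φ.surjective.exists]
    simp only [mem_im, ne_eq, EmbeddingLike.map_eq_one_iff, ← map_mul, φ.injective.eq_iff]
  unfold typeA'
  by_cases h : IsTypeI' M
  · rw [if_pos h, if_pos ((typeI'_iff φ).mpr h), fittingHallOf_im]
    exact key M _
  · rw [if_neg h, if_neg (fun h' => h ((typeI'_iff φ).mp h')), typeCore_im, ← im_comm]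
    exact key _ _

theorem typeA0'_mem' [Finite G] [Finite G'] {M : Subgroup G} {x : G} (hx : x ∈ typeA0' M) :
    φ x ∈ typeA0' (im φ M) := by
  rcases hx with hx | ⟨hI, W₁, U, W₂, hP, m, hm, w, hw, h1, h2, rfl⟩
  · exact Or.inl ((typeA'_mem φ M x).mpr hx)
  · refine Or.inr ⟨fun h => hI ((typeI'_iff φ).mp h), _, _, _, isTypePWith_im φ hP, φ m,
      (mem_im φ).mpr hm, φ w, by rw [← im_sup, mem_im]; exact hw, fun h => h1 ((mem_im φ).mp h),
      fun h => h2 ((mem_im φ).mp h), by rw [map_mul, map_mul, map_inv]⟩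

theorem typeA0'_mem [Finite G] [Finite G'] (M : Subgroup G) (x : G) :
    φ x ∈ typeA0' (im φ M) ↔ x ∈ typeA0' M :=
  ⟨fun h => by simpa [im_symm_im] using typeA0'_mem' φ.symm h, typeA0'_mem' φ⟩

theorem supports'_im [Finite G] [Finite G'] {L M : Subgroup G} (h : Supports' L M) :
    Supports' (im φ L) (im φ M) := by
  obtain ⟨hL, x, hx, h1, h2⟩ := h
  exact ⟨(coatom_im φ).mpr hL, φ x, typeA0'_mem' φ hx,
    by rw [← im_centralizer_singleton, im_le]; exact h1,
    by rw [← im_centralizer_singleton, im_le]; exact h2⟩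

end Cfsg.Agent.PF.TypeMap
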