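import Cfsg.Agent.OddChar.PF.S13Norm
import Cfsg.Agent.OddChar.PF.Sec08Support
import Cfsg.Agent.OddChar.PF.TypeMap
import Cfsg.Agent.OddChar.PF.Local1385
import Cfsg.Agent.OddLocal.CNSolvable
import Cfsg.Agent.OddChar.PF.Final

/-!
# (13.17): the maximal subgroup containing `N(U)`

It is conjugate neither to `S` nor to `T`, so it is a Frobenius group with kernel `H = L_F`.  In a
complement `E` containing `W₁` the subgroup `W₁` is normal, whence `U ≤ H` and `E ≤ T_F W₂`.
-/

set_option linter.unusedSectionVars false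
set_option linter.unusedVariables false
set_option linter.style.haveILetI false
set_option autoImplicit false

namespace Cfsg.Agent.PF

open Subgroup
open Cfsg.Lib.Coprime (conjMap mem_conjMap)
open scoped commutatorElement

universe u

variable {G : Type u} [Group G] [Finite G] {M N X S T L W₁ W₂ U V E H : Subgroup G}

/-- A subgroup of order prime to the index of a normal subgroup lies in it. -/
theorem le_of_coprime_relIndex (hNM : N ≤ M) (hn : M ≤ normalizer (N : Set G)) (hX : X ≤ M)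
    (hcop : (Nat.card X).Coprime (N.relIndex M)) : X ≤ N := by
  intro x hx
  haveI : (N.subgroupOf M).Normal := (normal_subgroupOf_iff_le_normalizer hNM).mpr hn
  set π := QuotientGroup.mk' (N.subgroupOf M)
  have h1 : orderOf (π ⟨x, hX hx⟩) ∣ Nat.card X := by
    refine (orderOf_map_dvd π _).trans ?_
    rw [orderOf_mk]
    exact orderOf_dvd_natCard X hx
  have h2 : orderOf (π ⟨x, hX hx⟩) ∣ N.relIndex M := orderOf_dvd_natCard _
  have h3 := Nat.eq_one_of_dvd_coprimes hcop h1 h2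
  exact (QuotientGroup.eq_one_iff (⟨x, hX hx⟩ : M)).mp (orderOf_eq_one_iff.mp h3)

theorem relIndex_compl {A B : Subgroup G} (h : Cfsg.IsComplIn A B M)
    (hn : M ≤ normalizer (A : Set G)) : A.relIndex M = Nat.card B := by
  have h1 := Subgroup.card_mul_index (A.subgroupOf M)
  rw [Nat.card_congr (subgroupOfEquivOfLe h.1).toEquiv, card_complIn h hn] at h1
  exact Nat.eq_of_mul_eq_mul_left Nat.card_pos h1

theorem card_sup_ne (hM : IsCoatom M) (hM' : IsCoatom N) {A₁ B₁ A₂ B₂ : Subgroup G}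
    (hP : Cfsg.IsTypePWith M A₁ B₁ A₂) (hQ : Cfsg.IsTypePWith N A₂ B₂ A₁)
    (hne : Nat.card A₁ ≠ Nat.card A₂) (g : G) :
    TypeMap.im (MulAut.conj g) M ≠ N := by
  intro he
  have h1 := TypeMap.relIndex_im (MulAut.conj g) (⁅M, M⁆ : Subgroup G) M
  rw [TypeMap.im_comm, he, relIndex_compl hQ.W₁_compl
      (Cfsg.Lib.Coprime.le_normalizer_commutator_right N N),
    relIndex_compl hP.W₁_compl (Cfsg.Lib.Coprime.le_normalizer_commutator_right M M)] at h1
  exact hne h1.symm

theorem fittingHallOf_relIndex (M : Subgroup G) :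
    (Nat.card (Cfsg.fittingHallOf M)).Coprime ((Cfsg.fittingHallOf M).relIndex M) := by
  have e : (Cfsg.fittingHallOf M).subgroupOf M = Cfsg.fittingHall M :=
    comap_map_eq_self_of_injective M.subtype_injective _
  show Nat.Coprime _ ((Cfsg.fittingHallOf M).subgroupOf M).index
  rw [e, Cfsg.fittingHallOf, card_map_of_injective M.subtype_injective]
  exact Cfsg.Lib.FittingHall.fittingHall_coprime

theorem fittingHallOf_nilpotent (M : Subgroup G) : Group.IsNilpotent (Cfsg.fittingHallOf M) := by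
  haveI : Group.IsNilpotent ↥(Cfsg.fittingOf M) :=
    haveI := Cfsg.Lib.Components.isNilpotent_fitting (G := M)
    Group.nilpotent_of_mulEquiv (Subgroup.equivMapOfInjective _ _ M.subtype_injective)
  exact Group.nilpotent_of_mulEquiv
    (Subgroup.subgroupOfEquivOfLe (Cfsg.Lib.FittingHall.fittingHallOf_le_fittingOf M))

/-- In a fixed-point-free group of odd order a subgroup of prime order is normal. -/
theorem prime_subgroup_normal (hEH : E ≤ normalizer (H : Set G))
    (hfpf : Cfsg.Lib.Frobenius.Fpf E H) (hH : H ≠ ⊥) (hHsol : Group.IsSolvable H)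
    (hodd : ¬ 2 ∣ Nat.card E) {q : ℕ} (hq : q.Prime) {w : G} (hw : w ∈ E) (hwo : orderOf w = q) :
    E ≤ normalizer ((zpowers w : Subgroup G) : Set G) := by
  classical
  haveI := Fact.mk hq
  haveI := Cfsg.Lib.CN.isZGroup_of_fpf_odd hEH hfpf hH hodd
  set D : Subgroup G := ⁅E, E⁆ with hDdef
  have hDE : D ≤ E := Subgroup.commutator_le_self E
  have hEn : E ≤ normalizer (D : Set G) := Cfsg.Lib.Coprime.le_normalizer_commutator_right E E
  haveI hDc : IsCyclic D := by
    have e : D = (commutator E).map E.subtype := by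
      rw [hDdef, commutator_def, map_commutator, ← MonoidHom.range_eq_map, range_subtype]
    rw [e]
    haveI : IsCyclic (commutator E) := IsZGroup.isCyclic_commutator E
    exact ((commutator E).equivMapOfInjective _ E.subtype_injective).isCyclic.mp inferInstance
  haveI : IsMulCommutative D := IsCyclic.isMulCommutative
  by_cases hqD : q ∣ Nat.card D
  · -- the subgroup of order `q` of the cyclic commutator subgroup
    obtain ⟨⟨y, hy⟩, hyo⟩ := exists_prime_orderOf_dvd_card' (G := D) q hqD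
    rw [orderOf_mk] at hyo
    have hny : E ≤ normalizer ((zpowers y : Subgroup G) : Set G) := by
      refine s09_le_normalizer_of_conj fun e he x hx => ?_
      obtain ⟨i, rfl⟩ := mem_zpowers_iff.mp hx
      rw [← conj_zpow]
      refine zpow_mem ?_ i
      have hey : e * y * e⁻¹ ∈ D := (mem_normalizer_iff.mp (hEn he) y).mp hy
      refine hfpf.mem_zpowers_of_commute hEH hH hq (hDE hy) (hDE hey) hyo ?_ ?_
      · rw [← MulAut.conj_apply, MulEquiv.orderOf_eq, hyo]
      · exact congrArg Subtype.val (mul_comm' (⟨y, hy⟩ : D) ⟨_, hey⟩)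
    suffices hwy : w ∈ zpowers y by
      rw [eq_of_le_of_card_ge (zpowers_le.mpr hwy)
        (by rw [Nat.card_zpowers, Nat.card_zpowers, hwo, hyo])]
      exact hny
    by_contra hwy
    have hinf : zpowers y ⊓ zpowers w = ⊥ := by
      refine (Nat.card_zpowers w ▸ hwo ▸ hq : (Nat.card (zpowers w)).Prime) |> fun hpr => ?_
      rcases hpr.eq_one_or_self_of_dvd _ (card_dvd_of_le inf_le_right :
          Nat.card ↥(zpowers y ⊓ zpowers w) ∣ _) with h1 | h1
      · exact card_eq_one.mp h1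
      · exact absurd ((eq_of_le_of_card_ge inf_le_right h1.ge).ge (mem_zpowers w)).1 hwy
    have hA : Group.IsNilpotent ↥(zpowers y ⊔ zpowers w) := by
      refine (IsPGroup.of_card (p := q) (n := 2) ?_).isNilpotent
      rw [Cfsg.Lib.Coprime.card_sup_of_inf_eq_bot ((zpowers_le.mpr hw).trans hny) hinf,
        Nat.card_zpowers, Nat.card_zpowers, hyo, hwo]
      exact (pow_two q).symm
    have hAE : zpowers y ⊔ zpowers w ≤ E := sup_le (zpowers_le.mpr (hDE hy)) (zpowers_le.mpr hw)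
    exact hwy (Cfsg.Lib.CN.mem_zpowers_of_prime_order hA (hAE.trans hEH) (hfpf.mono hAE) hH hq
      (mem_sup_left (mem_zpowers y)) (mem_sup_right (mem_zpowers w)) hyo hwo)
  · -- otherwise it is central
    set Z := zpowers w with hZdef
    have hZE : Z ≤ E := zpowers_le.mpr hw
    have hZD : Z ≤ normalizer (D : Set G) := hZE.trans hEn
    have hcop : (Nat.card Z).Coprime (Nat.card D) := by
      rw [hZdef, Nat.card_zpowers, hwo]; exact hq.coprime_iff_not_dvd.mpr hqD
    obtain ⟨hd, -⟩ := Cfsg.Lib.Coprime.abelian_coprime_decomp hZD hcop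
    set D₁ : Subgroup G := ⁅D, Z⁆ with hD₁def
    have hD₁ : D₁ ≤ D := by
      refine (Subgroup.commutator_le).mpr fun a ha b hb => ?_
      rw [commutatorElement_def]
      have := (mem_normalizer_iff.mp (hZD hb) a⁻¹).mp (inv_mem ha)
      simpa [mul_assoc] using mul_mem ha this
    have hD₁0 : D₁ = ⊥ := by
      by_contra hne
      have hZne : Z ≠ ⊥ := by
        rw [hZdef, Ne, ← card_eq_one, Nat.card_zpowers, hwo]; exact hq.ne_one
      have hZn : Z ≤ normalizer (D₁ : Set G) := by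
        rw [hD₁def]
        exact Cfsg.Lib.Coprime.le_normalizer_commutator_right Z D
      have hfix : ∀ e ∈ Z, e ≠ 1 → ∀ u ∈ D₁, e * u = u * e → u = 1 := by
        intro e he he1 u hu hc
        refine mem_bot.mp (hd ▸ ⟨⟨hD₁ hu, ?_⟩, hu⟩)
        have hze : zpowers e = Z := eq_of_le_of_card_ge (zpowers_le.mpr he) (by
          rcases (Nat.card_zpowers w ▸ hwo ▸ hq : (Nat.card Z).Prime).eq_one_or_self_of_dvd _
            (card_dvd_of_le (zpowers_le.mpr he)) with h1 | h1
          · exact absurd (zpowers_eq_bot.mp (card_eq_one.mp h1)) he1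
          · exact h1.ge)
        have hle : Z ≤ centralizer ({u} : Set G) :=
          hze ▸ zpowers_le.mpr (mem_centralizer_singleton_iff.mpr hc)
        exact mem_centralizer_iff.mpr fun z hz => mem_centralizer_singleton_iff.mp (hle hz)
      have hsup : D₁ ⊔ Z ≤ E := sup_le (hD₁.trans hDE) hZE
      have key := Cfsg.Lib.FixedDim.frobenius_fixed_solvable D₁ Z
        (Cfsg.Lib.Coprime.inf_eq_bot_of_coprime
          (hcop.symm.coprime_dvd_left (card_dvd_of_le hD₁))) hZn hfix _ H le_rfl (hsup.trans hEH) hHsol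
        ((hfpf.coprime hEH).symm.coprime_dvd_right (card_dvd_of_le hsup))
      have hz : ∀ A : Subgroup G, A ≤ E → A ≠ ⊥ → H ⊓ centralizer (A : Set G) = ⊥ := by
        intro A hA hA0
        obtain ⟨a, ha, ha1⟩ := (Subgroup.bot_or_exists_ne_one A).resolve_left hA0
        refine le_bot_iff.mp (le_trans (inf_le_inf_left _ ?_) (hfpf a (hA ha) ha1).le)
        exact centralizer_le (Set.singleton_subset_iff.mpr ha)
      rw [hz _ hsup (fun h => hne (le_bot_iff.mp (h ▸ le_sup_left))), hz _ hZE hZne,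
        hz _ (hD₁.trans hDE) hne, Subgroup.card_bot, one_pow, one_mul, one_mul] at key
      exact hH (card_eq_one.mp key)
    have hwD : ∀ c ∈ D, w * c = c * w := fun c hc => by
      rw [hD₁def, commutator_eq_bot_iff_le_centralizer] at hD₁0
      exact mem_centralizer_iff.mp (hD₁0 hc) w (mem_zpowers w)
    refine fun e he => Cfsg.Lib.Thompson.centralizer_le_normalizer Z ?_
    rw [mem_centralizer_iff]
    intro z hz
    obtain ⟨i, rfl⟩ := mem_zpowers_iff.mp hz
    refine (Commute.zpow_left ?_ i).eq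
    have hc : e * w * e⁻¹ * w⁻¹ ∈ D := commutator_mem_commutator he hw
    have hc1 : e * w * e⁻¹ * w⁻¹ = 1 := by
      set c := e * w * e⁻¹ * w⁻¹ with hcdef
      have hcm : Commute c w := (hwD c hc).symm
      have hcw : c * w = e * w * e⁻¹ := by rw [hcdef]; group
      have hpow : c ^ q = 1 := by
        have := hcm.mul_pow q
        rw [hcw, conj_pow, ← hwo, pow_orderOf_eq_one, mul_one, mul_inv_cancel, mul_one] at this
        rw [← hwo]; exact this.symm
      by_contra hne
      refine hqD ?_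
      rw [← orderOf_eq_prime hpow hne]
      exact orderOf_dvd_natCard D hc
    show w * e = e * w
    calc w * e = (e * w * e⁻¹ * w⁻¹) * w * e := by rw [hc1, one_mul]
      _ = e * w := by group

variable (hG : Cfsg.IsMinSimpleOddOrder G)
include hG

/-- A maximal subgroup containing `N(U)` is not conjugate to `S`. -/
theorem not_conj_S (hS : IsCoatom S) (h9 : Hyp9 S W₁ U W₂) (hII : Cfsg.IsOfTypeII S)
    (hNU : normalizer (U : Set G) ≤ L) (g : G) : L ≠ TypeMap.im (MulAut.conj g) S := by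
  intro he
  have hnS : ¬ normalizer (U : Set G) ≤ S := by
    obtain ⟨A₁, U', A₂, hQ, -, -, -, -, hN, -⟩ := hII
    intro hle
    apply hN
    have hcard : Nat.card U = Nat.card U' := by
      have hn : ⁅S, S⁆ ≤ normalizer (Cfsg.fittingHallOf S : Set G) :=
        (Subgroup.commutator_le_self S).trans h9.M_le_normalizer_H
      exact Nat.eq_of_mul_eq_mul_left Nat.card_pos
        ((card_complIn h9.typeP.U_compl hn).symm.trans (card_complIn hQ.U_compl hn))
    obtain ⟨x, hx, hxe⟩ := Cfsg.Lib.Coprime.exists_conj_eq_of_coprime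
      (h9.U_le.trans h9.M_le_normalizer_H) (Cfsg.Lib.FittingHall.coprime_compl h9.typeP)
      (Or.inl h9.solvable_H) (K := U') (by rw [h9.derived_eq]; exact hQ.U_compl.2.1) hcard.symm
    have hxS : x ∈ S := h9.H_le hx
    intro y hy
    rw [hxe] at hy
    have h1 : y ∈ TypeMap.im (MulAut.conj x) (normalizer (U : Set G)) := by
      rw [TypeMap.im_normalizer']; exact hy
    obtain ⟨z, hz, rfl⟩ := h1
    show x * z * x⁻¹ ∈ S
    exact mul_mem (mul_mem hxS (hle hz)) (inv_mem hxS)
  subst he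
  set φ := MulAut.conj g
  have hUL : U ≤ TypeMap.im φ S := Subgroup.le_normalizer.trans hNU
  have hUd : U ≤ ⁅TypeMap.im φ S, TypeMap.im φ S⁆ := by
    refine le_of_coprime_relIndex (Subgroup.commutator_le_self _)
      (Cfsg.Lib.Coprime.le_normalizer_commutator_right _ _) hUL ?_
    rw [← TypeMap.im_comm, TypeMap.relIndex_im,
      relIndex_compl h9.typeP.W₁_compl h9.M_le_normalizer_derived]
    exact h9.coprime_U_W
  obtain ⟨x, hx, hle⟩ := Cfsg.Lib.Coprime.exists_conj_le_of_coprime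
    (N := TypeMap.im φ (Cfsg.fittingHallOf S)) (H := TypeMap.im φ U) (L := U)
    (by rw [← TypeMap.im_normalizer']; exact (TypeMap.im_le φ).mpr (h9.U_le.trans h9.M_le_normalizer_H))
    (by rw [TypeMap.card_im, TypeMap.card_im]; exact Cfsg.Lib.FittingHall.coprime_compl h9.typeP)
    (Or.inr (hG.2.2.2 U fun h => hS.1 (top_le_iff.mp (h ▸ h9.U_le))))
    (by rw [← TypeMap.im_sup, h9.derived_eq, TypeMap.im_comm]; exact hUd)
    (by rw [TypeMap.card_im]; exact Cfsg.Lib.FittingHall.coprime_compl h9.typeP)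
  have heq : U = conjMap x (TypeMap.im φ U) := eq_of_le_of_card_ge hle (by
    rw [conjMap, card_map_of_injective (MulAut.conj x).injective, TypeMap.card_im])
  have hy : x * g ∈ normalizer (U : Set G) := by
    rw [← Cfsg.Lib.Coprime.conjMap_eq_self_iff]
    conv_rhs => rw [heq]
    show U.map (MulAut.conj (x * g)).toMonoidHom = (U.map φ.toMonoidHom).map (MulAut.conj x).toMonoidHom
    rw [Subgroup.map_map, map_mul]
    rfl
  have hxL : x ∈ TypeMap.im φ S := (TypeMap.im_le φ).mpr h9.H_le hx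
  have hgL : g ∈ TypeMap.im φ S := by
    have := mul_mem (inv_mem hxL) (hNU hy)
    rwa [inv_mul_cancel_left] at this
  have hgS : g ∈ S := by
    obtain ⟨z, hz, hze⟩ := hgL
    change g * z * g⁻¹ = g at hze
    rw [mul_inv_eq_iff_eq_mul] at hze
    exact mul_left_cancel hze ▸ hz
  refine hnS (hNU.trans (le_of_eq ?_))
  exact Cfsg.Lib.Coprime.conjMap_eq_self (Subgroup.le_normalizer hgS)

/-- A maximal subgroup containing `N(U)` is not conjugate to `T`. -/
theorem not_conj_T (h9 : Hyp9 S W₁ U W₂) (h9T : Hyp9 T W₂ V W₁)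
    (hcard : Nat.card (Cfsg.fittingHallOf T) = Nat.card W₁ ^ Nat.card W₂)
    (hNU : normalizer (U : Set G) ≤ L) (g : G) : L ≠ TypeMap.im (MulAut.conj g) T := by
  intro he
  have hUL : U ≤ L := Subgroup.le_normalizer.trans hNU
  have hWL : W₁ ≤ L := h9.W₁_le_normalizer_U.trans hNU
  have hWQ : W₁ ≤ Cfsg.fittingHallOf L := by
    refine le_of_coprime_relIndex (Cfsg.Lib.FittingHall.fittingHallOf_le L)
      (Cfsg.Lib.FittingHall.le_normalizer_fittingHallOf L) hWL ?_
    refine (fittingHallOf_relIndex L).coprime_dvd_left ?_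
    rw [he, TypeMap.fittingHallOf_im, TypeMap.card_im]
    exact card_dvd_of_le h9T.W₂_le_H
  obtain ⟨u, hu, hu1⟩ := (Subgroup.bot_or_exists_ne_one U).resolve_left h9.U_ne
  obtain ⟨w, hw, hw1⟩ := (Subgroup.bot_or_exists_ne_one W₁).resolve_left h9.typeP.W₁_ne
  obtain ⟨x, hx, he'⟩ := exists_eq_inv_mul_conj (h9.W₁_le_normalizer_U hw)
    (fun x hx hc => h9.fpf' w hw hw1 x hx hc) hu
  have hin : u ∈ U ⊓ Cfsg.fittingHallOf L := by
    refine ⟨hu, ?_⟩
    show u ∈ Cfsg.fittingHallOf L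
    rw [he', show x⁻¹ * (w * x * w⁻¹) = x⁻¹ * w * x * w⁻¹ by group]
    refine mul_mem ?_ (inv_mem (hWQ hw))
    have := (mem_normalizer_iff.mp
      (Cfsg.Lib.FittingHall.le_normalizer_fittingHallOf L (inv_mem (hUL hx))) w).mp (hWQ hw)
    simpa using this
  have hcop : (Nat.card U).Coprime (Nat.card (Cfsg.fittingHallOf L)) := by
    rw [he, TypeMap.fittingHallOf_im, TypeMap.card_im, hcard]
    exact h9.coprime_U_W.pow_right _
  exact hu1 (mem_bot.mp (Cfsg.Lib.Coprime.inf_eq_bot_of_coprime hcop ▸ hin))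

/-- (13.17) -/
theorem support_of_typeII (hF : Facts13 G) (h47 : P1547 G) (h : Hyp13 S T W₁ W₂ U V)
    (hSII : Cfsg.IsOfTypeII S) (hL : IsCoatom L) (hNU : normalizer (U : Set G) ≤ L) :
    (∀ x ∈ Cfsg.fittingHallOf L, x ≠ 1 →
        L ⊓ centralizer ({x} : Set G) ≤ Cfsg.fittingHallOf L) ∧
      U ≤ Cfsg.fittingHallOf L ∧
      ((Cfsg.fittingHallOf L ⊓ W₁ = ⊥ ∧ Cfsg.fittingHallOf L ⊔ W₁ = L) ∨
        ∃ y ∈ Cfsg.fittingHallOf T,
          Cfsg.fittingHallOf L ⊓ (W₁ ⊔ W₂.map (MulAut.conj y).toMonoidHom) = ⊥ ∧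
          Cfsg.fittingHallOf L ⊔ (W₁ ⊔ W₂.map (MulAut.conj y).toMonoidHom) = L) := by
  obtain ⟨-, hp, hq, -, hel, hcard, -, -⟩ := structure_S hG hF h.symm
  have h9 : Hyp9 S W₁ U W₂ := hyp9_of h.maxS h.dataS (Or.inl hSII)
  have h9T : Hyp9 T W₂ V W₁ := hyp9_of h.maxT h.dataT (typeT' hF h)
  have hnc : ∀ g : G, TypeMap.im (MulAut.conj g) S ≠ T := card_sup_ne h.maxS h.maxT h.dataS h.dataT
    ((Final.card_ne _ _ h.dataS.selfNormalizing))
  -- `L` is of Type I
  have hI : IsTypeI' L := by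
    rcases p1385' hG with hall | ⟨A, B, S₀, T₀, -, -, -, -, -, -, -, -, -, hcl⟩
    · exact hall L hL
    by_contra hnI
    obtain ⟨g, hg⟩ := (hcl L hL).resolve_left hnI
    obtain ⟨a, ha⟩ := (hcl S h.maxS).resolve_left
      (not_typeI_of_P hG hF.types h.maxS h.typeS)
    obtain ⟨b, hb⟩ := (hcl T h.maxT).resolve_left
      (not_typeI_of_P hG hF.types h.maxT h.typeT)
    have tr : ∀ {X Y Z : Subgroup G} {s t : G}, X = TypeMap.im (MulAut.conj s) Z →
        Y = TypeMap.im (MulAut.conj t) Z → X = TypeMap.im (MulAut.conj (s * t⁻¹)) Y := by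
      intro X Y Z s t hX hY
      subst hX hY
      show _ = (Z.map (MulAut.conj t).toMonoidHom).map (MulAut.conj (s * t⁻¹)).toMonoidHom
      rw [Subgroup.map_map]
      show Z.map (MulAut.conj s).toMonoidHom = _
      congr 1
      ext z
      simp [mul_assoc]
    rcases ha with ha | ha <;> rcases hb with hb | hb
    · exact hnc _ (tr hb ha).symm
    · rcases hg with hg | hg
      · exact not_conj_S hG h.maxS h9 hSII hNU _ (tr hg ha)
      · exact not_conj_T hG h9 h9T hcard hNU _ (tr hg hb)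
    · rcases hg with hg | hg
      · exact not_conj_T hG h9 h9T hcard hNU _ (tr hg hb)
      · exact not_conj_S hG h.maxS h9 hSII hNU _ (tr hg ha)
    · exact hnc _ (tr hb ha).symm
  have hreg := hF.p1540 L hL hI
  refine ⟨hreg, ?_⟩
  set H := Cfsg.fittingHallOf L with hHdef
  have hHL : H ≤ L := Cfsg.Lib.FittingHall.fittingHallOf_le L
  have hHn : L ≤ normalizer (H : Set G) := Cfsg.Lib.FittingHall.le_normalizer_fittingHallOf L
  have hH : H ≠ ⊥ := fun e => hI.1.2.2.1
    ((map_eq_bot_iff_of_injective _ L.subtype_injective).mp e)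
  have hLsol : Group.IsSolvable L := hG.2.2.2 L hL.1
  have hUL : U ≤ L := Subgroup.le_normalizer.trans hNU
  have hWL : W₁ ≤ L := h9.W₁_le_normalizer_U.trans hNU
  obtain ⟨w, hw, hw1⟩ := (Subgroup.bot_or_exists_ne_one W₁).resolve_left h9.typeP.W₁_ne
  have hzw : zpowers w = W₁ := eq_of_le_of_card_ge (zpowers_le.mpr hw) (by
    rcases h9.q_prime.eq_one_or_self_of_dvd _ (card_dvd_of_le (zpowers_le.mpr hw)) with h1 | h1
    · exact absurd (zpowers_eq_bot.mp (card_eq_one.mp h1)) hw1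
    · exact h1.ge)
  have hwo : orderOf w = Nat.card W₁ := by rw [← Nat.card_zpowers, hzw]
  -- `U` is made of commutators with `w`
  have hUcomm : ∀ u ∈ U, ∃ x ∈ U, u = x⁻¹ * w * x * w⁻¹ := by
    intro u hu
    obtain ⟨x, hx, he⟩ := exists_eq_inv_mul_conj (h9.W₁_le_normalizer_U hw)
      (fun x hx hc => h9.fpf' w hw hw1 x hx hc) hu
    exact ⟨x, hx, he.trans (by group)⟩
  have hqH : ¬ Nat.card W₁ ∣ Nat.card H := by
    intro hd
    have hWH : W₁ ≤ H := le_of_coprime_relIndex hHL hHn hWL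
      ((fittingHallOf_relIndex L).coprime_dvd_left hd)
    have hUH : U ≤ H := fun u hu => by
      obtain ⟨x, hx, rfl⟩ := hUcomm u hu
      refine mul_mem ?_ (inv_mem (hWH hw))
      have := (mem_normalizer_iff.mp (hHn (inv_mem (hUL hx))) w).mp (hWH hw)
      simpa using this
    haveI := fittingHallOf_nilpotent L
    obtain ⟨u, hu, hu1⟩ := (Subgroup.bot_or_exists_ne_one U).resolve_left h9.U_ne
    refine hu1 (h9.fpf' w hw hw1 u hu ?_)
    have hc : (orderOf (⟨w, hWH hw⟩ : H)).Coprime (orderOf (⟨u, hUH hu⟩ : H)) := by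
      rw [orderOf_mk, orderOf_mk, hwo]
      exact h9.coprime_U_W.symm.coprime_dvd_right (orderOf_dvd_natCard U hu)
    exact congrArg Subtype.val (Cfsg.Lib.FittingHall.commute_coprime hc).eq
  obtain ⟨E, hwE, hE⟩ := exists_compl_mem hHL hHn (fittingHallOf_relIndex L) hLsol (hWL hw)
    (by rw [hwo]; exact h9.q_prime.coprime_iff_not_dvd.mpr hqH)
  have hWE : W₁ ≤ E := hzw ▸ zpowers_le.mpr hwE
  have hEL : E ≤ L := hE.2.1
  have hfpf : Cfsg.Lib.Frobenius.Fpf E H := fun a ha ha1 => by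
    refine le_bot_iff.mp fun y hy => ?_
    by_contra hy1
    refine ha1 (mem_bot.mp (hE.2.2.1 ▸ ⟨hreg y hy.1 hy1 (mem_inf.mpr ⟨hEL ha,
      mem_centralizer_singleton_iff.mpr (mem_centralizer_singleton_iff.mp hy.2).symm⟩), ha⟩))
  have hodd : ¬ 2 ∣ Nat.card E :=
    (hG.1.of_dvd_nat (card_subgroup_dvd_card E)).not_two_dvd_nat
  have hWn : E ≤ normalizer (W₁ : Set G) := hzw ▸
    prime_subgroup_normal (hEL.trans hHn) hfpf hH
      (haveI := fittingHallOf_nilpotent L; inferInstance) hodd h9.q_prime hwE hwo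
  -- `U ≤ H`
  have hUH : U ≤ H := fun u hu => by
    obtain ⟨x, hx, he⟩ := hUcomm u hu
    obtain ⟨a, ha, e, he', hxe⟩ := hE.2.2.2 x⁻¹ (inv_mem (hUL hx))
    have hu' : u ∈ H ⊔ W₁ := by
      rw [he, show x = (x⁻¹)⁻¹ from (inv_inv x).symm, hxe]
      have h1 : a * e * w * (a * e)⁻¹ * w⁻¹ = a * (e * w * e⁻¹) * a⁻¹ * w⁻¹ := by group
      rw [inv_inv, h1]
      exact mul_mem (mul_mem (mul_mem (mem_sup_left ha)
        (mem_sup_right ((mem_normalizer_iff.mp (hWn he') w).mp hw))) (inv_mem (mem_sup_left ha)))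
        (inv_mem (mem_sup_right hw))
    have hsupL : H ⊔ W₁ ≤ L := sup_le hHL hWL
    have hrel : H.relIndex (H ⊔ W₁) = Nat.card W₁ := by
      refine relIndex_compl ⟨le_sup_left, le_sup_right, le_bot_iff.mp (hE.2.2.1 ▸ inf_le_inf_left H hWE),
        fun m hm => ?_⟩ (hsupL.trans hHn)
      obtain ⟨r, hr, s, hs, rfl⟩ :=
        (Cfsg.Lib.Coprime.mem_sup_of_le_normalizer (hWL.trans hHn)).mp hm
      exact ⟨r, hr, s, hs, rfl⟩
    refine le_of_coprime_relIndex le_sup_left (hsupL.trans hHn)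
      (zpowers_le.mpr hu') ?_ (mem_zpowers u)
    rw [hrel, Nat.card_zpowers]
    exact h9.coprime_U_W.coprime_dvd_left (orderOf_dvd_natCard U hu)
  refine ⟨hUH, ?_⟩
  -- the complement
  obtain ⟨hNC, hC⟩ := normalizer_W₁ hG hF h47 h
  set Q := Cfsg.fittingHallOf T with hQdef
  have hEQ : E ≤ Q ⊔ W₂ := hWn.trans (hNC.le.trans hC.le)
  haveI : Fact (Nat.card W₁).Prime := ⟨h9.q_prime⟩
  have hA : E ⊓ Q = W₁ := by
    haveI : IsMulCommutative ↥(E ⊓ Q) := ⟨⟨fun a b => by
      have := congrArg Subtype.val (hel.1.is_comm.comm ⟨(a : G), a.2.2⟩ ⟨(b : G), b.2.2⟩)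
      exact Subtype.ext this⟩⟩
    haveI := (hfpf.mono (inf_le_left : E ⊓ Q ≤ E)).isCyclic_of_comm
      ((inf_le_left : E ⊓ Q ≤ E).trans (hEL.trans hHn)) hH
    refine (eq_of_le_of_card_ge (le_inf hWE h9T.W₂_le_H) ?_).symm
    refine Nat.le_of_dvd Nat.card_pos ?_
    rw [← IsCyclic.exponent_eq_card]
    refine Monoid.exponent_dvd_of_forall_pow_eq_one fun a => Subtype.ext ?_
    simpa using hel.2 (a : G) a.2.2
  have hQn : Q ⊔ W₂ ≤ normalizer (Q : Set G) :=
    (sup_le h9T.H_le h9T.W₁_le).trans h9T.M_le_normalizer_H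
  have hQW : Cfsg.IsComplIn Q W₂ (Q ⊔ W₂) := by
    refine ⟨le_sup_left, le_sup_right, Cfsg.Lib.Coprime.inf_eq_bot_of_coprime
      (h9T.coprime_H_UW.coprime_dvd_right (dvd_mul_left _ _)), fun m hm => ?_⟩
    obtain ⟨r, hr, s, hs, rfl⟩ :=
      (Cfsg.Lib.Coprime.mem_sup_of_le_normalizer (le_sup_right.trans hQn)).mp hm
    exact ⟨r, hr, s, hs, rfl⟩
  by_cases hpE : Nat.card W₂ ∣ Nat.card E
  · right
    haveI : Fact (Nat.card W₂).Prime := ⟨hp⟩
    obtain ⟨⟨x, hx⟩, hxo⟩ := exists_prime_orderOf_dvd_card' (G := E) _ hpE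
    rw [orderOf_mk] at hxo
    obtain ⟨y, hy, hle⟩ := Cfsg.Lib.Coprime.exists_conj_le_of_coprime (N := Q) (H := W₂)
      (L := zpowers x) (le_sup_right.trans hQn)
      (h9T.coprime_H_UW.coprime_dvd_right (dvd_mul_left _ _)) (Or.inl h9T.solvable_H)
      (zpowers_le.mpr (hEQ hx))
      (by rw [Nat.card_zpowers, hxo]; exact h9T.coprime_H_UW.coprime_dvd_right (dvd_mul_left _ _))
    have heq : zpowers x = W₂.map (MulAut.conj y).toMonoidHom := eq_of_le_of_card_ge hle (by
      rw [card_map_of_injective (MulAut.conj y).injective, Nat.card_zpowers, hxo])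
    have hE' : W₁ ⊔ W₂.map (MulAut.conj y).toMonoidHom = E := by
      refine le_antisymm (sup_le hWE (heq ▸ zpowers_le.mpr hx)) fun e he => ?_
      obtain ⟨r, hr, s, hs, rfl⟩ := hQW.2.2.2 e (hEQ he)
      have hs' : y * s * y⁻¹ ∈ W₂.map (MulAut.conj y).toMonoidHom := ⟨s, hs, rfl⟩
      have hsE : y * s * y⁻¹ ∈ E := heq ▸ hs' |> fun h => (zpowers_le.mpr hx) h
      have hrQ : r * s * (y * s * y⁻¹)⁻¹ ∈ Q := by
        rw [show r * s * (y * s * y⁻¹)⁻¹ = r * (s * y * s⁻¹) * y⁻¹ by group]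
        exact mul_mem (mul_mem hr ((mem_normalizer_iff.mp (hQn (mem_sup_right hs)) y).mp hy))
          (inv_mem hy)
      have : r * s * (y * s * y⁻¹)⁻¹ ∈ W₁ :=
        hA ▸ mem_inf.mpr ⟨E.mul_mem he (E.inv_mem hsE), hrQ⟩
      have h2 := mul_mem_sup this hs'
      rwa [inv_mul_cancel_right] at h2
    refine ⟨y, hy, ?_, ?_⟩
    · rw [hE']; exact hE.2.2.1
    · rw [hE']
      exact le_antisymm (sup_le hHL hEL) fun m hm => by
        obtain ⟨r, hr, s, hs, rfl⟩ := hE.2.2.2 m hm
        exact mul_mem_sup hr hs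
  · left
    have hE' : E = W₁ := le_antisymm (hA ▸ le_inf le_rfl (le_of_coprime_relIndex le_sup_left hQn hEQ
      (by rw [relIndex_compl hQW hQn]; exact (hp.coprime_iff_not_dvd.mpr hpE).symm))) hWE
    rw [← hE']
    refine ⟨hE.2.2.1, le_antisymm (sup_le hHL hEL) fun m hm => ?_⟩
    obtain ⟨r, hr, s, hs, rfl⟩ := hE.2.2.2 m hm
    exact mul_mem_sup hr hs

/-- Statement 1549 from the sections before. -/
theorem p1549_of (hF : Facts13 G) (h47 : P1547 G) : P1549 G :=
  fun _ _ _ _ _ _ hS hT hSP hTP hST hII hS25 hT25 hSII _ hL hNU =>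
    support_of_typeII hG hF h47 ⟨hS, hT, hSP, hTP, hST, hS25, hT25, hII⟩ hSII hL hNU

end Cfsg.Agent.PF
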