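import Cfsg.Agent.OddChar.PF.S12Final
import Cfsg.Agent.OddChar.PF.S11Facts
import Cfsg.Agent.OddChar.PF.S13Support
import Cfsg.Agent.OddChar.PF.Final
import Cfsg.Agent.OddChar.PF.Gap

/-!
# Assembly of Sections 8-14
-/

set_option linter.unusedVariables false
set_option autoImplicit false

universe u

namespace Cfsg.Agent.PF

variable {G : Type u} [Group G] [Finite G]

/-- The inputs of Section 13 from Sections 10 and 11. -/
theorem facts13_of (hG : Cfsg.IsMinSimpleOddOrder G) (h10 : S10NoTypeV G) : Facts13 G where
  types := typeFacts hG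
  p1391 := p1391' hG
  p1540 := p1540'_of_s11 hG h10 (s11Facts hG)
  s9ex := s9Exists G
  s9 := s9Facts G hG.1
  noV := h10
  s11 := s11Facts hG

/-- No minimal simple group of odd order exists, given the ends of Sections 10, 11, 13 and 14. -/
theorem false_of_sections (hG : Cfsg.IsMinSimpleOddOrder G) (h10 : S10NoTypeV G)
    (h44 : P1544 G) : False :=
  Final.false_of hG (p1385_of hG (p1540'_of_s11 hG h10 (s11Facts hG)))
    (p1541_of_s11 hG h10 (s11Facts hG)) h44

end Cfsg.Agent.PF
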