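import Cfsg.Agent.OddChar.PF.S09Interface

/-!
# Sections 10 and 11: what the later sections consume

`S10NoTypeV` is the end of Section 10 (no maximal subgroup of type V) and `S11Facts` the end of
Section 11 (the structure of a maximal subgroup of type III or IV, whatever data of type `P` is
chosen for it).
-/

set_option linter.unusedVariables false
set_option autoImplicit false

universe u

namespace Cfsg.Agent.PF

/-- (10.10): no maximal subgroup is of type V. -/
def S10NoTypeV (G : Type u) [Group G] [Finite G] : Prop :=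
  ∀ M : Subgroup G, IsCoatom M → ¬ Cfsg.IsOfTypeV M

/-- The conclusions of Section 11 for the data `W₁, U, W₂` of a maximal subgroup `M`, with
`p = |W₂|` and `q = |W₁|`: `M` is of type III, `M_F` is elementary abelian of order `p ^ q`, `U` is
cyclic, acts faithfully and irreducibly on it, `p < q` and `(p ^ q - 1) / |U| ≤ q ^ 2 + p`. -/
structure S11Struct {G : Type u} [Group G] (M W₁ U W₂ : Subgroup G) : Prop where
  typeIII : Cfsg.IsOfTypeIII M
  q_prime : (Nat.card W₁).Prime
  p_prime : (Nat.card W₂).Prime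
  elementary : Cfsg.IsElementaryAbelian (Nat.card W₂) (Cfsg.fittingHallOf M)
  card_H : Nat.card (Cfsg.fittingHallOf M) = Nat.card W₂ ^ Nat.card W₁
  U_ne : U ≠ ⊥
  U_cyclic : IsCyclic U
  U_faithful : U ⊓ Subgroup.centralizer (Cfsg.fittingHallOf M : Set G) = ⊥
  irreducible : ∀ N : Subgroup G, N ≤ Cfsg.fittingHallOf M →
    U ≤ Subgroup.normalizer (N : Set G) → N = ⊥ ∨ N = Cfsg.fittingHallOf M
  p_lt_q : Nat.card W₂ < Nat.card W₁
  bound : Nat.card W₂ ^ Nat.card W₁ ≤
    1 + Nat.card U * (Nat.card W₁ ^ 2 + Nat.card W₂)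

/-- Section 11: every maximal subgroup of type III or IV, with any data of type `P`. -/
def S11Facts (G : Type u) [Group G] [Finite G] : Prop :=
  ∀ M W₁ U W₂ : Subgroup G, IsCoatom M → (Cfsg.IsOfTypeIII M ∨ Cfsg.IsOfTypeIV M) →
    Cfsg.IsTypePWith M W₁ U W₂ → S11Struct M W₁ U W₂

namespace S11Facts

variable {G : Type u} [Group G] [Finite G]

/-- No maximal subgroup is of type IV. -/
theorem not_typeIV (h : S11Facts G) {M : Subgroup G} (hM : IsCoatom M) :
    ¬ Cfsg.IsOfTypeIV M := by
  rintro hIV
  obtain ⟨W₁, U, W₂, hP, -, -, -, hn, -⟩ := id hIV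
  have := (h M W₁ U W₂ hM (Or.inr hIV) hP).U_cyclic
  exact hn IsCyclic.isMulCommutative

end S11Facts

end Cfsg.Agent.PF
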