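import Cfsg.Agent.OddChar.PF.S10Family
import Cfsg.Agent.OddChar.PF.S10Build
import Cfsg.Agent.Coprime.Action
import Cfsg.Agent.OddLocal.ExceptionalBase
import Cfsg.Agent.S1521
import Cfsg.Agent.OddChar.PF.S11Interface

/-!
# (10.10): no maximal subgroup is of type V
-/

set_option linter.unusedSectionVars false
set_option linter.unusedVariables false
set_option linter.style.haveILetI false
set_option autoImplicit false

universe u

namespace Cfsg.Agent.PF

open Cfsg.Lib.Chars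
open scoped commutatorElement

namespace Setup10

variable {G : Type u} [Group G] [Fintype G] {M K W₁ W₂ : Subgroup G} [Fintype M]
variable (c : Setup10 M K W₁ W₂)
include c

theorem derived_map :
    (⁅K.subgroupOf M, K.subgroupOf M⁆ : Subgroup ↥M).map M.subtype = ⁅K, K⁆ := by
  rw [Subgroup.map_commutator, Subgroup.map_subgroupOf_eq_of_le c.K_le]

theorem mem_derived {x : ↥M} :
    x ∈ (⁅K.subgroupOf M, K.subgroupOf M⁆ : Subgroup ↥M) ↔ (x : G) ∈ (⁅K, K⁆ : Subgroup G) := by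
  rw [← c.derived_map]
  exact (Subgroup.mem_map_iff_mem M.subtype_injective).symm

/-- Outside `K` nothing centralises a non-identity element of `K / K'`. -/
theorem frob_mod_derived (hW : W₂ ≤ ⁅K, K⁆) {k : ↥M} (hk : k ∈ K.subgroupOf M)
    (hk1 : k ∉ (⁅K.subgroupOf M, K.subgroupOf M⁆ : Subgroup ↥M)) {x : ↥M}
    (hx : x * k * x⁻¹ * k⁻¹ ∈ (⁅K.subgroupOf M, K.subgroupOf M⁆ : Subgroup ↥M)) :
    x ∈ K.subgroupOf M := by
  classical
  by_contra hxK
  haveI := c.normal
  set D : Subgroup ↥M := ⁅K.subgroupOf M, K.subgroupOf M⁆ with hD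
  haveI : D.Normal := by rw [hD]; infer_instance
  obtain ⟨m, hm, w, hw, hw2, he⟩ := c.exists_conj_off x.2 fun h => hxK h
  have hn12 : W₁ ≤ Subgroup.normalizer (W₂ : Set G) := fun a ha => by
    refine Subgroup.mem_normalizer_iff.mpr fun b => ?_
    constructor
    · intro hb
      rwa [c.hW.2.2.2.1 a ha b hb, mul_inv_cancel_right]
    · intro hb
      have h := c.hW.2.2.2.1 a ha _ hb
      have : b = a * b * a⁻¹ := by
        calc b = a⁻¹ * (a * b * a⁻¹ * a) := by group
          _ = a⁻¹ * (a * (a * b * a⁻¹)) := by rw [h]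
          _ = a * b * a⁻¹ := by group
      rwa [this]
  rw [← SetLike.mem_coe, Subgroup.coe_mul_of_left_le_normalizer_right W₁ W₂ hn12] at hw
  obtain ⟨a, ha, b, hb, rfl⟩ := hw
  replace hw2 : a * b ∉ W₂ := hw2
  have ha1 : a ≠ 1 := fun h => hw2 (by rwa [h, one_mul])
  let m' : ↥M := ⟨m, hm⟩
  let a' : ↥M := ⟨a, c.W₁_le ha⟩
  let b' : ↥M := ⟨b, c.K_le (c.W₂_le_K hb)⟩
  have hbD : b' ∈ D := c.mem_derived.mpr (hW hb)
  have hxe : x = m' * (a' * b') * m'⁻¹ := Subtype.ext he
  set π := QuotientGroup.mk' D with hπ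
  have hπb : π b' = 1 := (QuotientGroup.eq_one_iff _).mpr hbD
  set k' : ↥M := m'⁻¹ * k * m' with hk'
  have hk'K : k' ∈ K.subgroupOf M := by
    have := (inferInstance : (K.subgroupOf M).Normal).conj_mem k hk m'⁻¹
    simpa [hk'] using this
  have hcomm : Commute (π a') (π k') := by
    have h1 : π (x * k * x⁻¹ * k⁻¹) = 1 := (QuotientGroup.eq_one_iff _).mpr hx
    simp only [hxe, map_mul, map_inv, hπb, mul_one] at h1
    rw [mul_inv_eq_one] at h1
    show π a' * π k' = π k' * π a'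
    simp only [hk', map_mul, map_inv]
    calc π a' * ((π m')⁻¹ * π k * π m')
        = (π m')⁻¹ * (π m' * π a' * (π m')⁻¹ * π k * (π m' * π a' * (π m')⁻¹)⁻¹) * π m' * π a' := by
          group
      _ = (π m')⁻¹ * π k * π m' * π a' := by rw [h1]
  have hstab : ∀ y ∈ Subgroup.zpowers a', k'⁻¹ * y * k' * y⁻¹ ∈ D := by
    intro y hy
    obtain ⟨i, rfl⟩ := Subgroup.mem_zpowers_iff.mp hy
    refine (QuotientGroup.eq_one_iff _).mp ?_
    show π _ = 1
    rw [map_mul, map_mul, map_mul, map_inv, map_inv, map_zpow]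
    rw [mul_inv_eq_one, mul_assoc, (hcomm.zpow_left i).eq, inv_mul_cancel_left]
  have hcop : (Nat.card (Subgroup.zpowers a')).Coprime (Nat.card D) := by
    refine Nat.Coprime.coprime_dvd_left ?_ (Nat.Coprime.coprime_dvd_right
      ((Subgroup.card_dvd_of_le (show D ≤ K.subgroupOf M from Subgroup.commutator_le_self _)).trans
        (c.card_K ▸ dvd_rfl)) c.pd.coprime.symm)
    rw [Nat.card_zpowers, ← Subgroup.orderOf_coe a', ← Subgroup.orderOf_mk a ha]
    exact orderOf_dvd_natCard _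
  haveI := c.solvable
  obtain ⟨d, hd, hcent⟩ := Cfsg.Lib.Coprime.exists_fixed_in_coset
    (A := Subgroup.zpowers a') (D := D) (Subgroup.normalizer_eq_top D ▸ le_top) hcop
    (Or.inr (Group.isSolvable_of_isSolvable_injective
      (f := Subgroup.inclusion (show D ≤ K.subgroupOf M from Subgroup.commutator_le_self _))
      (Subgroup.inclusion_injective _))) hstab
  have hmemW : ((k' * d : ↥M) : G) ∈ W₂ := by
    rw [← c.pd.cent a ha ha1]
    refine ⟨(show k' * d ∈ K.subgroupOf M from mul_mem hk'K (Subgroup.commutator_le_self _ hd)), ?_⟩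
    exact Subgroup.mem_centralizer_singleton_iff.mpr
      (congrArg Subtype.val ((Subgroup.mem_centralizer_iff.mp hcent) a'
        (Subgroup.mem_zpowers a'))).symm
  have hk'D : k' ∈ D := by
    have : k' * d ∈ D := c.mem_derived.mpr (hW hmemW)
    simpa using mul_mem this (inv_mem hd)
  have := (inferInstance : D.Normal).conj_mem k' hk'D m'
  exact hk1 (by simpa [hk', mul_assoc] using this)

/-- Away from the small exceptions the family is coherent. -/
theorem coherent_or_pgroup (hW : W₂ ≤ ⁅K, K⁆) (hnil : Group.IsNilpotent K) :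
    Cfsg.IsCoherent (Cfsg.inducedIrrAbove (K.subgroupOf M) ⊥) {1}ᶜ c.τ ∨
      IsPGroup (Nat.card W₂) K ∧ ¬ Nat.card W₁ ∣ Nat.card W₂ - 1 := by
  classical
  refine or_iff_not_imp_right.mpr fun hcase => ?_
  haveI := c.normal
  haveI : Group.IsNilpotent ↥(K.subgroupOf M) :=
    (Group.isNilpotent_congr (Subgroup.subgroupOfEquivOfLe c.K_le).symm).mp hnil
  haveI : Fact (Nat.card W₂).Prime := ⟨c.p_prime⟩
  refine Cfsg.Agent.S1521.result (K.subgroupOf M) c.solvable c.τ c.Rs c.system c.pd.odd ⊥ bot_le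
    inferInstance ⁅K.subgroupOf M, K.subgroupOf M⁆ (by rw [sup_bot_eq]) c.derived_lt
    (lt_top_iff_ne_top.mpr fun h => ?_) (fun k hk hk1 x hx => c.frob_mod_derived hW hk hk1 hx) ?_
  · have := c.index_K
    rw [h, Subgroup.index_top] at this
    have := c.q_three
    omega
  · by_cases hpow : ∃ r m : ℕ, r.Prime ∧ (⊥ : Subgroup ↥M).relIndex (K.subgroupOf M) = r ^ m
    · obtain ⟨r, m, hr, hm⟩ := hpow
      right; right; right; right
      refine ⟨r, m, hr, hm, ?_⟩
      rw [Subgroup.relIndex_bot_left, c.card_K] at hm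
      have hpr : Nat.card W₂ = r := (Nat.prime_dvd_prime_iff_eq c.p_prime hr).mp
        (c.p_prime.dvd_of_dvd_pow (hm ▸ Subgroup.card_dvd_of_le c.W₂_le_K))
      rw [c.index_K, ← hpr]
      by_contra hdvd
      exact hcase ⟨IsPGroup.of_card (n := m) (hpr.symm ▸ hm), hdvd⟩
    · right; right; left
      exact hpow

end Setup10

variable {G : Type u} [Group G] [Finite G]

/-- The shape of Sibley's theorem consumed here. -/
def TICoherence (G : Type u) [Group G] [Fintype G] : Prop :=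
  ∀ (M K W₁ W₂ : Subgroup G) [Fintype M] (c : Setup10 M K W₁ W₂), Group.IsNilpotent K →
    Cfsg.IsTISubset (K : Set G) → W₂ ≤ ⁅K, K⁆ → Subgroup.normalizer (K : Set G) = M →
    Cfsg.IsCoherent (Cfsg.inducedIrrAbove (K.subgroupOf M) ⊥) {1}ᶜ c.τ

/-- (10.10): no maximal subgroup is of type V, given coherence in the trivial-intersection case. -/
theorem noTypeV_of (hG : Cfsg.IsMinSimpleOddOrder G)
    (hti : ∀ [Fintype G], TICoherence G) : S10NoTypeV G := by
  classical
  letI := Fintype.ofFinite G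
  intro M hM hV
  obtain ⟨W₁, U, W₂, hP, hU, hcases⟩ := id hV
  letI : Fintype M := Fintype.ofFinite _
  have h345 : Cfsg.IsOfTypeIII M ∨ Cfsg.IsOfTypeIV M ∨ Cfsg.IsOfTypeV M := Or.inr (Or.inr hV)
  obtain ⟨c, -, -⟩ := exists_setup10 hG hM h345 hP
  refine not_coherent10 hG hM h345 hP c ?_
  have hKF : (⁅M, M⁆ : Subgroup G) = Cfsg.fittingHallOf M := by
    refine le_antisymm (fun x hx => ?_) hP.U_compl.1
    obtain ⟨a, ha, b, hb, rfl⟩ := hP.U_compl.2.2.2 x hx
    rw [hU, Subgroup.mem_bot] at hb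
    rwa [hb, mul_one]
  have hnil : Group.IsNilpotent ↥(⁅M, M⁆ : Subgroup G) :=
    hKF.symm ▸ Cfsg.Lib.OddLocal.RankTwoMax.fittingHallOf_nilpotent M
  have hW : W₂ ≤ ⁅(⁅M, M⁆ : Subgroup G), ⁅M, M⁆⁆ := (hP.W₂_le).trans inf_le_right
  rcases c.coherent_or_pgroup hW hnil with h | ⟨hp, hnd⟩
  · exact h
  rw [← hKF] at hcases
  have hle : (⁅M, M⁆ : Subgroup G) ≤ M := Subgroup.commutator_le_self M
  haveI : Fact (Nat.card W₂).Prime := ⟨c.p_prime⟩
  obtain ⟨n, hn⟩ := IsPGroup.iff_card.mp hp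
  have hr : ∀ {r : ℕ}, r.Prime → r ∣ Nat.card ↥(⁅M, M⁆ : Subgroup G) → r = Nat.card W₂ :=
    fun hr h => (Nat.prime_dvd_prime_iff_eq hr c.p_prime).mp (hr.dvd_of_dvd_pow (hn ▸ h))
  rcases hcases with hTI | ⟨r, hr1, hr2, hr3, -⟩ | ⟨r, hr1, hr2, hr3, hr4, -⟩
  · refine hti M _ W₁ W₂ c hnil hTI hW ?_
    have hne : (⁅M, M⁆ : Subgroup G) ≠ ⊥ := fun h => by
      refine hP.W₂_le.trans inf_le_left |>.trans (hKF ▸ h.le) |> fun hb => ?_
      have := c.p_three
      rw [le_bot_iff.mp hb, Subgroup.card_bot] at this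
      omega
    exact Cfsg.Lib.OddLocal.RankTwoMax.normalizer_eq hG hM hne hle
      (hKF ▸ Cfsg.Lib.FittingHall.le_normalizer_fittingHallOf M)
  · exact absurd ((hr hr1 hr2) ▸ hr3) hnd
  · obtain rfl := hr hr1 hr2
    refine c.coherent_small ?_ hr4
    rw [← hr3]
    have htop : Cfsg.pCore (Nat.card W₂) ↥(⁅M, M⁆ : Subgroup G) = ⊤ :=
      top_le_iff.mp (le_sSup ⟨inferInstance, hp.to_subgroup ⊤⟩)
    rw [htop, Subgroup.card_top]

end Cfsg.Agent.PF
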