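import Cfsg.Agent.OddChar.PF.S06SibleyTI
import Cfsg.Agent.OddChar.PF.S10NoTypeV

/-!
# Section 10: (10.10), no maximal subgroup is of type V
-/

set_option autoImplicit false

universe u

namespace Cfsg.Agent.PF

theorem s06_tiCoherence (G : Type u) [Group G] [Fintype G] : TICoherence G :=
  fun M K W₁ W₂ _ c hnil hTI hW hN => c.coherent_of_ti hnil hTI hW hN

/-- (10.10): no maximal subgroup is of type V. -/
theorem s10NoTypeV {G : Type u} [Group G] [Finite G] (hG : Cfsg.IsMinSimpleOddOrder G) :
    S10NoTypeV G :=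
  noTypeV_of hG (fun {_} => s06_tiCoherence G)

end Cfsg.Agent.PF
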