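import Mathlib

/-!
# Section 13: the arithmetic of the regularity of `U` on `P`
-/

set_option linter.unusedVariables false
set_option autoImplicit false

namespace Cfsg.Agent.PF

/-- The two bounds on `v / (q ^ p - 1) + 1 / v`. -/
theorem s13_weight_le {p q v : ℕ} (hq : 3 ≤ q) (hp : 3 ≤ p)
    (hv : v * (q - 1) ≤ q ^ p - 1) (hv1 : 2 * p + 1 ≤ v) :
    (v : ℝ) / ((q : ℝ) ^ p - 1) + 1 / (v : ℝ) ≤ 1 / (2 * ((q : ℝ) - 1)) + 1 / (2 * (p : ℝ) + 1) ∨
    (v : ℝ) / ((q : ℝ) ^ p - 1) + 1 / (v : ℝ) ≤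
      1 / ((q : ℝ) - 1) + 2 * ((q : ℝ) - 1) / ((q : ℝ) ^ p - 1) := by
  have hq' : (3 : ℝ) ≤ q := by exact_mod_cast hq
  have hvr : (2 * (p : ℝ) + 1) ≤ v := by exact_mod_cast hv1
  have hp' : (3 : ℝ) ≤ p := by exact_mod_cast hp
  have hQ : (1 : ℝ) < (q : ℝ) ^ p := one_lt_pow₀ (by linarith) (by omega)
  have hvb : (v : ℝ) * ((q : ℝ) - 1) ≤ (q : ℝ) ^ p - 1 := by
    have h : ((v * (q - 1) : ℕ) : ℝ) ≤ ((q ^ p - 1 : ℕ) : ℝ) := by exact_mod_cast hv
    rwa [Nat.cast_mul, Nat.cast_sub (show 1 ≤ q by omega), Nat.cast_sub (Nat.one_le_pow _ _ (by omega)),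
      Nat.cast_one, Nat.cast_pow] at h
  rcases le_or_gt (2 * ((v : ℝ) * ((q : ℝ) - 1))) ((q : ℝ) ^ p - 1) with h | h
  · refine Or.inl (add_le_add ?_ (one_div_le_one_div_of_le (by linarith) hvr))
    rw [div_le_div_iff₀ (by linarith) (by linarith)]
    linarith
  · refine Or.inr (add_le_add ?_ ?_)
    · rw [div_le_div_iff₀ (by linarith) (by linarith)]
      linarith
    · rw [div_le_div_iff₀ (by linarith) (by linarith)]
      linarith

set_option maxHeartbeats 2000000 in
/-- The inequality of the section has no solution with `c > 1`. -/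
theorem s13_no_solution {p q u v c d : ℕ} (hp : p.Prime) (hq : q.Prime) (hpo : Odd p) (hqo : Odd q)
    (hne : p ≠ q) (hu : u * (p - 1) ≤ p ^ q - 1) (huo : Odd u)
    (hv : v * (q - 1) ≤ q ^ p - 1) (hv1 : 2 * p + 1 ≤ v) (hd : 1 ≤ d)
    (hc : 1 < c) (hco : Odd c) (hcq : q ∣ c - 1) (hcp : c.Coprime p)
    (hru : ∀ r : ℕ, r.Prime → r ∣ c → r ∣ u)
    (h : 1 / (p : ℝ) < (u : ℝ) * q / (((p : ℝ) ^ q - 1) * c) +
      (v : ℝ) / (((q : ℝ) ^ p - 1) * d * p) + 1 / ((v : ℝ) * p)) : False := by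
  have hp3 : 3 ≤ p := by
    rcases hpo with ⟨k, rfl⟩
    have := hp.two_le
    omega
  have hq3 : 3 ≤ q := by
    rcases hqo with ⟨k, rfl⟩
    have := hq.two_le
    omega
  have hp' : (3 : ℝ) ≤ p := by exact_mod_cast hp3
  have hq' : (3 : ℝ) ≤ q := by exact_mod_cast hq3
  have hP : (1 : ℝ) < (p : ℝ) ^ q := one_lt_pow₀ (by linarith) (by omega)
  have hQ : (1 : ℝ) < (q : ℝ) ^ p := one_lt_pow₀ (by linarith) (by omega)
  have hv' : (0 : ℝ) < v := by exact_mod_cast (by omega : 0 < v)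
  have hc' : (0 : ℝ) < c := by exact_mod_cast (by omega : 0 < c)
  have hd' : (1 : ℝ) ≤ d := by exact_mod_cast hd
  have hub : (u : ℝ) * ((p : ℝ) - 1) ≤ (p : ℝ) ^ q - 1 := by
    have h : ((u * (p - 1) : ℕ) : ℝ) ≤ ((p ^ q - 1 : ℕ) : ℝ) := by exact_mod_cast hu
    rwa [Nat.cast_mul, Nat.cast_sub (show 1 ≤ p by omega), Nat.cast_sub (Nat.one_le_pow _ _ (by omega)),
      Nat.cast_one, Nat.cast_pow] at h
  set K : ℝ := (v : ℝ) / ((q : ℝ) ^ p - 1) + 1 / (v : ℝ) with hK
  -- the inequality multiplied by `p`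
  have hmain : 1 < (u : ℝ) * q * p / (((p : ℝ) ^ q - 1) * c) + K := by
    have h1 : (v : ℝ) / (((q : ℝ) ^ p - 1) * d * p) ≤ (v : ℝ) / (((q : ℝ) ^ p - 1) * p) := by
      refine div_le_div_of_nonneg_left hv'.le (by nlinarith) ?_
      have : 0 ≤ ((q : ℝ) ^ p - 1) * p * ((d : ℝ) - 1) := by
        have : (0 : ℝ) ≤ (d : ℝ) - 1 := by linarith
        positivity
      nlinarith
    have h2 : 1 / (p : ℝ) * p <
        ((u : ℝ) * q / (((p : ℝ) ^ q - 1) * c) + (v : ℝ) / (((q : ℝ) ^ p - 1) * p) +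
          1 / ((v : ℝ) * p)) * p := mul_lt_mul_of_pos_right (by linarith) (by linarith)
    rw [one_div_mul_cancel (by linarith : (p : ℝ) ≠ 0)] at h2
    refine h2.trans_le (le_of_eq ?_)
    rw [hK]
    have : (q : ℝ) ^ p - 1 ≠ 0 := by linarith
    have : (p : ℝ) ^ q - 1 ≠ 0 := by linarith
    field_simp
    ring
  have hR : (u : ℝ) * q * p / (((p : ℝ) ^ q - 1) * c) ≤ (q : ℝ) * p / (((p : ℝ) - 1) * c) := by
    rw [div_le_div_iff₀ (by nlinarith) (by nlinarith)]
    have : 0 ≤ (q : ℝ) * p * c := by positivity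
    nlinarith
  have hQ1 : (q : ℝ) ^ 3 - 1 ≤ (q : ℝ) ^ p - 1 :=
    sub_le_sub_right (pow_le_pow_right₀ (by linarith) hp3) 1
  have hw := s13_weight_le hq3 hp3 hv hv1
  rw [← hK] at hw
  -- the bounds on `K`
  have hK2 : 2 * ((q : ℝ) - 1) / ((q : ℝ) ^ p - 1) ≤ 2 / ((q : ℝ) ^ 2 + q + 1) := by
    rw [div_le_div_iff₀ (by linarith) (by positivity)]
    nlinarith
  have hq5 : q ≠ 3 → (5 : ℝ) ≤ q := fun h => by
    have : 5 ≤ q := by
      rcases hqo with ⟨k, rfl⟩
      omega
    exact_mod_cast this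
  have hp5 : p ≠ 3 → (5 : ℝ) ≤ p := fun h => by
    have : 5 ≤ p := by
      rcases hpo with ⟨k, rfl⟩
      omega
    exact_mod_cast this
  have hKsmall : K ≤ 5 / 8 := by
    by_cases h3 : q = 3
    · subst h3
      have hp5' : (5 : ℝ) ≤ p := hp5 (by omega)
      have hbig : (243 : ℝ) ≤ (3 : ℝ) ^ p :=
        le_trans (by norm_num) (pow_le_pow_right₀ (by norm_num) (show 5 ≤ p by exact_mod_cast hp5'))
      rcases hw with h | h
      · have : 1 / (2 * (p : ℝ) + 1) ≤ 1 / 11 := one_div_le_one_div_of_le (by norm_num) (by linarith)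
        norm_num at h this ⊢
        linarith
      · have : 2 * (((3 : ℕ) : ℝ) - 1) / (((3 : ℕ) : ℝ) ^ p - 1) ≤ 4 / 242 := by
          push_cast
          rw [div_le_div_iff₀ (by linarith) (by norm_num)]
          linarith
        norm_num at h this ⊢
        linarith
    · have h5 := hq5 h3
      rcases hw with h | h
      · have h1 : 1 / (2 * (p : ℝ) + 1) ≤ 1 / 7 := one_div_le_one_div_of_le (by norm_num) (by linarith)
        have h2 : 1 / (2 * ((q : ℝ) - 1)) ≤ 1 / 8 := one_div_le_one_div_of_le (by norm_num) (by linarith)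
        linarith
      · have h1 : 1 / ((q : ℝ) - 1) ≤ 1 / 4 := one_div_le_one_div_of_le (by norm_num) (by linarith)
        have h2 : 2 / ((q : ℝ) ^ 2 + q + 1) ≤ 2 / 31 :=
          div_le_div_of_nonneg_left (by norm_num) (by norm_num) (by nlinarith)
        linarith
  -- `c` is `2 q + 1` or at least `4 q + 1`
  obtain ⟨k, hk⟩ := hcq
  have hk2 : Even k := by
    rcases Nat.even_or_odd k with hk2 | hk2
    · exact hk2
    · exfalso
      have : Odd (q * k) := hqo.mul hk2
      rw [← hk] at this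
      obtain ⟨a, ha⟩ := this
      obtain ⟨b, hb⟩ := hco
      omega
  obtain ⟨j, rfl⟩ := hk2
  rcases Nat.lt_or_ge j 2 with hj | hj
  swap
  · have hcb : 4 * q + 1 ≤ c := by
      have : q * 4 ≤ q * (j + j) := Nat.mul_le_mul_left _ (by omega)
      omega
    have hcb' : 4 * (q : ℝ) + 1 ≤ c := by exact_mod_cast hcb
    have : (q : ℝ) * p / (((p : ℝ) - 1) * c) < 3 / 8 := by
      rw [div_lt_div_iff₀ (by nlinarith) (by norm_num)]
      nlinarith
    linarith
  obtain rfl : j = 1 := by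
    rcases Nat.eq_zero_or_pos j with rfl | hj0
    · simp at hk
      omega
    · omega
  have hceq : c = 2 * q + 1 := by omega
  have hcr : (c : ℝ) = 2 * q + 1 := by exact_mod_cast hceq
  by_cases h3 : q = 3
  · subst h3
    have hc7 : c = 7 := by omega
    have hp7 : p ≠ 7 := fun e => by
      subst e
      rw [hc7] at hcp
      norm_num at hcp
    have hpn : p ≠ 3 := hne
    by_cases hp5e : p = 5
    · -- `u` is at most `21`
      subst hp5e
      have h7 := hru 7 (by norm_num) (hc7 ▸ dvd_rfl)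
      have hu21 : u ≤ 21 := by
        obtain ⟨a, rfl⟩ := h7
        obtain ⟨b, hb⟩ := huo
        norm_num at hu
        omega
      have hu21' : (u : ℝ) ≤ 21 := by exact_mod_cast hu21
      rw [hcr] at hmain
      norm_num at hmain hKsmall
      linarith
    have h11 : 11 ≤ p := by
      by_contra hlt
      push Not at hlt
      interval_cases p <;> first | omega | exact absurd hp (by norm_num)
    have h11' : (11 : ℝ) ≤ p := by exact_mod_cast h11
    have hK' : K ≤ 0.52 := by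
      have hbig : (243 : ℝ) ≤ (3 : ℝ) ^ p :=
        le_trans (by norm_num) (pow_le_pow_right₀ (by norm_num) (show 5 ≤ p by omega))
      rcases hw with h | h
      · have : 1 / (2 * (p : ℝ) + 1) ≤ 1 / 23 := one_div_le_one_div_of_le (by norm_num) (by linarith)
        norm_num at h this ⊢
        linarith
      · have : 2 * (((3 : ℕ) : ℝ) - 1) / (((3 : ℕ) : ℝ) ^ p - 1) ≤ 4 / 242 := by
          push_cast
          rw [div_le_div_iff₀ (by linarith) (by norm_num)]
          linarith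
        norm_num at h this ⊢
        linarith
    have : ((3 : ℕ) : ℝ) * p / (((p : ℝ) - 1) * c) ≤ 0.48 := by
      rw [hcr, div_le_iff₀ (by push_cast; nlinarith)]
      push_cast
      nlinarith
    linarith
  have h5 := hq5 h3
  by_cases h3p : p = 3
  swap
  · have h5p := hp5 h3p
    have : (q : ℝ) * p / (((p : ℝ) - 1) * c) < 0.625 := by
      rw [hcr, div_lt_iff₀ (by nlinarith)]
      nlinarith
    have hK3 : K ≤ 0.375 := by
      rcases hw with h | h
      · have h1 : 1 / (2 * (p : ℝ) + 1) ≤ 1 / 11 := one_div_le_one_div_of_le (by norm_num) (by linarith)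
        have h2 : 1 / (2 * ((q : ℝ) - 1)) ≤ 1 / 8 := one_div_le_one_div_of_le (by norm_num) (by linarith)
        norm_num at h h1 h2 ⊢
        linarith
      · have h1 : 1 / ((q : ℝ) - 1) ≤ 1 / 4 := one_div_le_one_div_of_le (by norm_num) (by linarith)
        have h2 : 2 / ((q : ℝ) ^ 2 + q + 1) ≤ 2 / 31 :=
          div_le_div_of_nonneg_left (by norm_num) (by norm_num) (by nlinarith)
        norm_num at h h1 h2 hK2 ⊢
        linarith
    linarith
  subst h3p
  by_cases hq7 : q = 5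
  · subst hq7
    have hu121 : (u : ℝ) ≤ 121 := by
      norm_num at hub
      linarith
    have hK4 : K ≤ 0.315 := by
      rcases hw with h | h <;> norm_num at h ⊢ <;> linarith
    rw [hcr] at hmain
    norm_num at hmain hK4
    linarith
  have h7 : (7 : ℝ) ≤ q := by
    have : 7 ≤ q := by
      rcases hqo with ⟨k, rfl⟩
      omega
    exact_mod_cast this
  have hK5 : K ≤ 0.25 := by
    rcases hw with h | h
    · have h2 : 1 / (2 * ((q : ℝ) - 1)) ≤ 1 / 12 := one_div_le_one_div_of_le (by norm_num) (by linarith)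
      norm_num at h h2 ⊢
      linarith
    · have h1 : 1 / ((q : ℝ) - 1) ≤ 1 / 6 := one_div_le_one_div_of_le (by norm_num) (by linarith)
      have h2 : 2 / ((q : ℝ) ^ 2 + q + 1) ≤ 2 / 57 :=
        div_le_div_of_nonneg_left (by norm_num) (by norm_num) (by nlinarith)
      norm_num at h h1 h2 hK2 ⊢
      linarith
  have : (q : ℝ) * ((3 : ℕ) : ℝ) / ((((3 : ℕ) : ℝ) - 1) * c) < 0.75 := by
    rw [hcr, div_lt_iff₀ (by push_cast; nlinarith)]
    push_cast
    nlinarith
  linarith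

end Cfsg.Agent.PF
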