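import Cfsg.Agent.OddChar.PF.S13Ineq
import Cfsg.Agent.OddChar.PF.S13Arith
import Cfsg.Agent.OddChar.PF.Interface

/-!
# (13.12): `U` acts faithfully on `S_F`
-/

set_option linter.unusedSectionVars false
set_option linter.unusedVariables false
set_option linter.style.haveILetI false
set_option autoImplicit false

namespace Cfsg.Agent.PF

open Subgroup

universe u

variable {G : Type u} [Group G] [Finite G] {S T W₁ W₂ U V : Subgroup G}

/-- (13.12) -/
theorem cent13_eq_bot (hG : Cfsg.IsMinSimpleOddOrder G) (hF : Facts13 G)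
    (h : Hyp13 S T W₁ W₂ U V) : cent13 S U = ⊥ := by
  classical
  haveI := Fintype.ofFinite G
  haveI : Fintype S := Fintype.ofFinite _
  haveI : Fintype T := Fintype.ofFinite _
  have dS := side13 hG hF h
  have dT := side13 hG hF h.symm
  rcases dS.type with hII | hIII
  swap
  · exact dS.faith_III hIII
  by_contra hC
  obtain ⟨hqo, hpo, hco, huo⟩ := dS.odd_pieces hG
  obtain ⟨-, -, hdo, hvo⟩ := dT.odd_pieces hG
  have hc1 : 1 < Nat.card (cent13 S U) := by
    have h1 : Nat.card (cent13 S U) ≠ 1 := fun e => hC (Subgroup.card_eq_one.mp e)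
    have := Nat.card_pos (α := cent13 S U)
    omega
  have hne : Nat.card W₂ ≠ Nat.card W₁ := fun e => dS.p_prime.ne_one (by
    have := Cfsg.Lib.CyclicTI.coprime_card dS.nine.typeP.selfNormalizing
    rwa [← e, Nat.coprime_self] at this)
  have hcard : Nat.card (Cfsg.fittingHallOf S) =
      Nat.card W₂ ^ Nat.card W₁ * Nat.card (⊥ : Subgroup G) := by
    rw [card_bot, mul_one, dS.card_H]
  obtain ⟨ζ, hζ, hirr, hdeg⟩ : ∃ ζ ∈ calS9 S ⊥, Cfsg.IsIrrCharacter ↥S ζ ∧
      ζ 1 = ((Nat.card W₁ * (cent13 S U).relIndex U : ℕ) : ℂ) := by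
    rcases s9Cases G hG.1 S W₁ U W₂ dS.nine ⊥ dS.kernel _ dS.p_prime hcard with
      ⟨ζ, h1, h2, h3⟩ | ⟨-, h2, -⟩
    · rw [dS.cent_commutator, bot_sup_eq] at h1
      exact ⟨ζ, h1, h2, by rw [h3, dS.centMod_eq]⟩
    · exact absurd (dS.centMod_eq.symm.trans h2) hC
  refine s13_no_solution dS.p_prime dS.nine.q_prime hpo hqo hne
    (dS.u_bound (s9Galois G) (s9NonGalois G hG.1)) huo
    (dT.u_bound (s9Galois G) (s9NonGalois G hG.1))
    (two_mul_add_one_le hpo dT.u_modEq hvo (dT.one_lt_u hF))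
    (Nat.card_pos (α := cent13 T V)) hc1 hco
    ((Nat.modEq_iff_dvd' hc1.le).mp dS.card_C_modEq.symm) ?_
    (fun r hr hrc => dS.prime_dvd hII hr hrc)
    (s13_inequality hG dS dT hζ hirr hdeg)
  refine Nat.Coprime.coprime_dvd_left (card_dvd_of_le dS.C_le) ?_
  exact ((dS.nine.coprime_H_UW.coprime_mul_right_right).coprime_dvd_left
    (card_dvd_of_le dS.nine.W₂_le_H)).symm

/-- Statement 1547 from the sections before. -/
theorem p1547_of (hG : Cfsg.IsMinSimpleOddOrder G) (hF : Facts13 G) : P1547 G :=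
  fun _ _ _ _ _ _ hS hT hSP hTP hST hII hS25 hT25 =>
    cent13_eq_bot hG hF ⟨hS, hT, hSP, hTP, hST, hS25, hT25, hII⟩

end Cfsg.Agent.PF
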