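import Cfsg.Agent.OddChar.PF.Assembly
import Cfsg.Agent.OddChar.PF.S10Final
import Cfsg.Agent.OddChar.PF.S13Reg

/-!
# The statements of Sections 8, 12 and 13 without hypotheses
-/

set_option linter.unusedVariables false
set_option autoImplicit false

universe u

namespace Cfsg.Agent.PF

variable {G : Type u} [Group G] [Finite G]

/-- The inputs of Section 13. -/
theorem facts13 (hG : Cfsg.IsMinSimpleOddOrder G) : Facts13 G :=
  facts13_of hG (s10NoTypeV hG)

theorem p1540' (hG : Cfsg.IsMinSimpleOddOrder G) : P1540' G :=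
  p1540'_of_s11 hG (s10NoTypeV hG) (s11Facts hG)

theorem noGap (hG : Cfsg.IsMinSimpleOddOrder G) : NoGap G :=
  noGap_of (p1540' hG)

theorem p1540 (hG : Cfsg.IsMinSimpleOddOrder G) : P1540 G :=
  p1540_of_s11 hG (s10NoTypeV hG) (s11Facts hG)

theorem p1541 (hG : Cfsg.IsMinSimpleOddOrder G) : P1541 G :=
  p1541_of_s11 hG (s10NoTypeV hG) (s11Facts hG)

theorem p1547 (hG : Cfsg.IsMinSimpleOddOrder G) : P1547 G :=
  p1547_of hG (facts13 hG)

theorem p1543 (hG : Cfsg.IsMinSimpleOddOrder G) : P1543 G :=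
  p1543_of hG (facts13 hG)

theorem p1548 (hG : Cfsg.IsMinSimpleOddOrder G) : P1548 G :=
  p1548_of hG (facts13 hG) (p1547 hG)

theorem p1549 (hG : Cfsg.IsMinSimpleOddOrder G) : P1549 G :=
  p1549_of hG (facts13 hG) (p1547 hG)

end Cfsg.Agent.PF
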