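import Cfsg.Agent.OddChar.PF.S04Interface
import Cfsg.Agent.OddChar.PrimeCyclicChars
import Cfsg.Agent.S1513

/-!
# (4.3), (4.5): the characters `μ ω` of a prime action group, seen inside the ambient group
-/

set_option linter.unusedSectionVars false
set_option linter.unusedVariables false
set_option linter.style.haveILetI false
set_option autoImplicit false

namespace Cfsg.Agent.PF

open Finset
open Cfsg.Lib.Chars Cfsg.Lib.CyclicTI Cfsg.Lib.PrimeCyclic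
open scoped ComplexConjugate

universe u

variable {G : Type u} [Group G] [Fintype G] {L K W₁ W₂ H : Subgroup G} [Fintype L] {A A₀ : Set G}
  {R : G → Subgroup G}

namespace PrimeDade

variable (d : PrimeDade L K W₁ W₂ H A A₀ R)
include d

theorem K_le : K ≤ L := d.compl.1

theorem W₁_le : W₁ ≤ L := d.compl.2.1

theorem W₂_le_K : W₂ ≤ K := d.W₂_le.trans d.H_le

theorem W₂_le_L : W₂ ≤ L := d.W₂_le_K.trans d.K_le

theorem W_le : W₁ ⊔ W₂ ≤ L := sup_le d.W₁_le d.W₂_le_L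

theorem odd_W : Odd (Nat.card ↥(W₁ ⊔ W₂)) := d.odd.of_dvd_nat (Subgroup.card_dvd_of_le d.W_le)

theorem normal_K : (K.subgroupOf L).Normal :=
  (Subgroup.normal_subgroupOf_iff_le_normalizer d.K_le).mpr d.K_normal

theorem subgroupOf_sup_eq : W₁.subgroupOf L ⊔ W₂.subgroupOf L = (W₁ ⊔ W₂).subgroupOf L :=
  (Subgroup.subgroupOf_sup d.W₁_le d.W₂_le_L).symm

theorem coe_mem_W {x : L} (hx : x ∈ W₁.subgroupOf L ⊔ W₂.subgroupOf L) : (x : G) ∈ W₁ ⊔ W₂ := by
  rw [d.subgroupOf_sup_eq] at hx; exact hx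

/-- `W` inside `L` and in `G`. -/
def eW : ↥(W₁.subgroupOf L ⊔ W₂.subgroupOf L) ≃* ↥(W₁ ⊔ W₂) where
  toFun x := ⟨((x : L) : G), d.coe_mem_W x.2⟩
  invFun w := ⟨⟨(w : G), d.W_le w.2⟩, d.subgroupOf_sup_eq ▸ w.2⟩
  left_inv x := Subtype.ext (Subtype.ext rfl)
  right_inv w := Subtype.ext rfl
  map_mul' x y := Subtype.ext rfl

theorem eW_coe (x : ↥(W₁.subgroupOf L ⊔ W₂.subgroupOf L)) : (d.eW x : G) = ((x : L) : G) := rfl

theorem hyp : Hyp (K.subgroupOf L) (W₁.subgroupOf L) (W₂.subgroupOf L) where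
  normal := d.normal_K
  disj := by
    rw [eq_bot_iff]
    rintro ⟨x, hxL⟩ ⟨hx, hx'⟩
    have : x ∈ K ⊓ W₁ := ⟨hx, hx'⟩
    rw [d.compl.2.2.1, Subgroup.mem_bot] at this
    exact Subgroup.mem_bot.mpr (Subtype.ext this)
  top := by
    rw [← Subgroup.subgroupOf_sup d.K_le d.W₁_le, Subgroup.subgroupOf_eq_top]
    intro x hx
    obtain ⟨a, ha, b, hb, rfl⟩ := d.compl.2.2.2 x hx
    exact Subgroup.mul_mem_sup ha hb
  ne := by
    rw [Ne, Subgroup.subgroupOf_eq_bot, disjoint_iff, inf_eq_left.mpr d.W₁_le]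
    exact d.cycTI.1
  cyc₁ := (MulEquiv.isCyclic (Subgroup.subgroupOfEquivOfLe d.W₁_le)).mpr d.W₁_cyclic
  cop := by
    rw [Nat.card_congr (Subgroup.subgroupOfEquivOfLe d.W₁_le).toEquiv,
      Nat.card_congr (Subgroup.subgroupOfEquivOfLe d.W₂_le_L).toEquiv]
    exact coprime_card d.cycTI
  le := fun x hx => d.W₂_le_K hx
  fix := fun x hx hx1 => by
    ext y
    have := SetLike.ext_iff.mp (d.cent x hx fun e => hx1 (Subtype.ext e)) (y : G)
    simp only [Subgroup.mem_inf, Subgroup.mem_centralizer_singleton_iff] at this ⊢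
    rw [Subgroup.mem_subgroupOf, Subgroup.mem_subgroupOf, Subtype.ext_iff]
    exact this
  comm := fun a ha b hb => Subtype.ext (by
    have := congrArg Subtype.val
      (Cfsg.Lib.CyclicTI.comm d.cycTI ⟨(a : G), d.coe_mem_W ha⟩ ⟨(b : G), d.coe_mem_W hb⟩)
    simpa using this)
  odd := (Nat.card_congr d.eW.toEquiv).symm ▸ d.odd_W

theorem W_eq_mul {x : G} (hx : x ∈ L) :
    ∃ k ∈ K, ∃ w ∈ W₁, x = k * w := d.compl.2.2.2 x hx

end PrimeDade

/-- The twist of a character of `L` by a character of `W` trivial on `W₂`. -/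
noncomputable def linOf (d : PrimeDade L K W₁ W₂ H A A₀ R) (φ : ↥(W₁ ⊔ W₂) →* ℂˣ) :
    ↥L →* ℂˣ :=
  ((φ.comp d.eW.toMonoidHom).comp (Subgroup.inclusion le_sup_left)).comp d.hyp.proj

theorem linOf_K (d : PrimeDade L K W₁ W₂ H A A₀ R) (φ : ↥(W₁ ⊔ W₂) →* ℂˣ) {l : L}
    (hl : (l : G) ∈ K) : linOf d φ l = 1 := by
  simp [linOf, d.hyp.proj_ker hl]

theorem linOf_W (d : PrimeDade L K W₁ W₂ H A A₀ R) {φ : ↥(W₁ ⊔ W₂) →* ℂˣ} (hφ : OnFirst φ)
    {l : L} {w : ↥(W₁ ⊔ W₂)} (hlw : (l : G) = w) : linOf d φ l = φ w := by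
  have hl : l ∈ W₁.subgroupOf L ⊔ W₂.subgroupOf L := by
    rw [d.subgroupOf_sup_eq, Subgroup.mem_subgroupOf, hlw]; exact w.2
  obtain ⟨a, ha, b, hb, rfl⟩ := d.hyp.decomp hl
  have hp : (d.hyp.proj (a * b) : L) = a := d.hyp.proj_mul ha hb
  have hbG : (b : G) ∈ W₂ := hb
  have hw : w = d.eW ⟨a, Subgroup.mem_sup_left ha⟩ *
      (⟨(b : G), Subgroup.mem_sup_right hbG⟩ : ↥(W₁ ⊔ W₂)) :=
    Subtype.ext hlw.symm
  rw [hw, map_mul φ, hφ (⟨(b : G), Subgroup.mem_sup_right hbG⟩ : ↥(W₁ ⊔ W₂)) hbG, mul_one]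
  simp only [linOf, MonoidHom.comp_apply, MulEquiv.coe_toMonoidHom]
  exact congrArg φ (congrArg d.eW (Subtype.ext hp))

/-- (4.3), (4.5). -/
theorem exists_chars (d : PrimeDade L K W₁ W₂ H A A₀ R) :
    ∃ (μ : (↥(W₁ ⊔ W₂) →* ℂˣ) → (↥L → ℂ)) (δ : (↥(W₁ ⊔ W₂) →* ℂˣ) → ℂ),
      PrimeTIChars L K W₁ W₂ μ δ ∧
      (∀ ψ, OnSecond ψ → redChar μ ψ =
        Cfsg.indFun (K.subgroupOf L) (fun k : ↥(K.subgroupOf L) => μ ψ k)) ∧
      ∀ θ : ↥(K.subgroupOf L) → ℂ, Cfsg.IsIrrCharacter _ θ →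
        Cfsg.IsIrrCharacter ↥L (Cfsg.indFun (K.subgroupOf L) θ) ∨
          ∃ ψ, OnSecond ψ ∧ θ = fun k : ↥(K.subgroupOf L) => μ ψ k := by
  classical
  haveI : Fintype ↥(W₁ ⊔ W₂) := Fintype.ofFinite _
  haveI : Fintype ↥(W₁.subgroupOf L ⊔ W₂.subgroupOf L) := Fintype.ofFinite _
  haveI := d.normal_K
  set h := d.hyp with hh
  obtain ⟨μ₀, δ₀, hinj, hirr, hsign, hcol, hoff, hvan, hdeg⟩ := h.main
  set pb : (↥(W₁ ⊔ W₂) →* ℂˣ) → (↥(W₁.subgroupOf L ⊔ W₂.subgroupOf L) →* ℂˣ) :=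
    fun ω => ω.comp d.eW.toMonoidHom with hpb
  have pb_inj : Function.Injective pb := fun ω ω' e => MonoidHom.ext fun w => by
    have := DFunLike.congr_fun e (d.eW.symm w)
    simpa [hpb] using this
  have pb_surj : ∀ ω₀, ∃ ω, pb ω = ω₀ := fun ω₀ => ⟨ω₀.comp d.eW.symm.toMonoidHom,
    MonoidHom.ext fun x => by simp [hpb]⟩
  set μ : (↥(W₁ ⊔ W₂) →* ℂˣ) → (↥L → ℂ) := fun ω => μ₀ (pb ω) with hμ
  set δ : (↥(W₁ ⊔ W₂) →* ℂˣ) → ℂ := fun ω => δ₀ (pb ω) with hδ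
  have happ : ∀ ω, ∀ l : L, ∀ w : ↥(W₁ ⊔ W₂), (l : G) = (w : G) → (w : G) ∉ W₂ →
      μ ω l = δ ω * (ω w : ℂ) := by
    intro ω l w hlw hw
    have hl : l = ((d.eW.symm w : ↥(W₁.subgroupOf L ⊔ W₂.subgroupOf L)) : L) := Subtype.ext hlw
    rw [hl]
    show μ₀ (pb ω) _ = δ₀ (pb ω) * _
    rw [hoff (pb ω) (d.eW.symm w) (fun hh' => hw hh')]
    simp [hpb]
  have hvan' : ∀ θ : ↥L → ℂ, Cfsg.IsIrrCharacter ↥L θ → (∀ ω, θ ≠ μ ω) →
      ∀ l : L, (l : G) ∈ W₁ ⊔ W₂ → (l : G) ∉ W₂ → θ l = 0 := by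
    intro θ hθ hne l hl hl2
    refine hvan θ hθ (fun ω₀ => ?_) ⟨l, d.subgroupOf_sup_eq ▸ hl⟩ hl2
    obtain ⟨ω, rfl⟩ := pb_surj ω₀
    exact hne ω
  -- a witness off `W₂`
  obtain ⟨a, ha, ha1⟩ := (Subgroup.bot_or_exists_ne_one W₁).resolve_left d.cycTI.1
  have ha2 : a ∉ W₂ := fun hh' => ha1 (Subgroup.mem_bot.mp (d.cycTI.2.2.1 ▸ ⟨ha, hh'⟩))
  -- recognition by the values off `W₂`
  have ident : ∀ (θ : ↥L → ℂ), Cfsg.IsIrrCharacter ↥L θ → ∀ (ω : ↥(W₁ ⊔ W₂) →* ℂˣ) (e : ℂ),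
      (e = 1 ∨ e = -1) → (∀ l : L, ∀ w : ↥(W₁ ⊔ W₂), (l : G) = (w : G) → (w : G) ∉ W₂ →
        θ l = e * (ω w : ℂ)) → θ = μ ω ∧ e = δ ω := by
    intro θ hθ ω e he hval
    have he0 : e ≠ 0 := by rcases he with rfl | rfl <;> simp
    obtain ⟨ω', hω'⟩ : ∃ ω', θ = μ ω' := by
      by_contra! hne
      have h0 := hvan' θ hθ hne ⟨a, d.W₁_le ha⟩ (Subgroup.mem_sup_left ha) ha2
      rw [hval ⟨a, d.W₁_le ha⟩ ⟨a, Subgroup.mem_sup_left ha⟩ rfl ha2] at h0
      exact mul_ne_zero he0 (Units.ne_zero _) h0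
    have key := h.eq_of_off (ω := pb ω) (ω' := pb ω') (d := e) (d' := δ₀ (pb ω')) he0 fun x hx => by
      have hx2 : ((x : L) : G) ∉ W₂ := h.mem_offSet.mp hx
      have h1 := hval (x : L) (d.eW x) rfl hx2
      have h2 := happ ω' (x : L) (d.eW x) rfl hx2
      rw [hω'] at h1
      exact h1.symm.trans h2
    obtain rfl := pb_inj key.1
    exact ⟨hω', key.2⟩
  have htwist : ∀ φ, OnFirst φ → ∀ ω, μ (φ * ω) = fun l => (linOf d φ l : ℂ) * μ ω l := by
    intro φ hφ ω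
    refine ((ident _ (IsIrrCharacter.mul_linear (hirr (pb ω)) (linOf d φ)) (φ * ω) (δ ω)
      (hsign _) fun l w hlw hw => ?_).1).symm
    show (linOf d φ l : ℂ) * μ ω l = _
    rw [linOf_W d hφ hlw, happ ω l w hlw hw, MonoidHom.mul_apply, Units.val_mul]
    ring
  have hcolK : ∀ ω ω', SameColumn W₁ W₂ ω ω' → ∀ l : L, (l : G) ∈ K → μ ω l = μ ω' l := by
    intro ω ω' hsc l hl
    have hfirst : OnFirst (ω * ω'⁻¹) := fun w hw => by
      rw [MonoidHom.mul_apply, MonoidHom.inv_apply, hsc w hw, mul_inv_cancel]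
    conv_lhs => rw [show ω = (ω * ω'⁻¹) * ω' from (inv_mul_cancel_right ω ω').symm]
    rw [htwist _ hfirst]
    show (linOf d (ω * ω'⁻¹) l : ℂ) * μ ω' l = _
    rw [linOf_K d _ hl, Units.val_one, one_mul]
  have hT : ∀ ψ, OnSecond ψ → redChar μ ψ =
      Cfsg.indFun (K.subgroupOf L) (fun k : ↥(K.subgroupOf L) => μ ψ k) := by
    intro ψ hψ
    funext l
    have hfin : redChar μ ψ l = ∑ φ ∈ univ.filter (fun φ : ↥(W₁ ⊔ W₂) →* ℂˣ => OnFirst φ),
        (linOf d φ l : ℂ) * μ ψ l := by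
      rw [redChar, finsum_mem_eq_sum_of_inter_support_eq _
        (t := univ.filter fun φ : ↥(W₁ ⊔ W₂) →* ℂˣ => OnFirst φ) (by ext; simp), Finset.sum_apply]
      refine sum_congr rfl fun φ hφ => ?_
      rw [htwist φ (mem_filter.mp hφ).2]
    rw [hfin, ← sum_mul]
    have hcard : (univ.filter fun φ : ↥(W₁ ⊔ W₂) →* ℂˣ => OnFirst φ).card = Nat.card W₁ := by
      rw [← card_onFirst d.cycTI, Nat.card_eq_fintype_card, Fintype.card_subtype]
    have hKc : Nat.card L = Nat.card (K.subgroupOf L) * Nat.card W₁ := by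
      rw [← Subgroup.card_mul_index (K.subgroupOf L)]
      congr 1
      rw [(Subgroup.isComplement'_of_disjoint_and_mul_eq_univ (disjoint_iff.mpr h.disj)
        (by rw [← Subgroup.normal_mul (K.subgroupOf L), h.top, Subgroup.coe_top])).symm.index_eq_card]
      exact Nat.card_congr (Subgroup.subgroupOfEquivOfLe d.W₁_le).toEquiv
    by_cases hl : (l : G) ∈ K
    · rw [sum_congr rfl fun φ _ => by rw [linOf_K d φ hl, Units.val_one], sum_const, hcard,
        nsmul_eq_mul, mul_one]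
      have hmem : l ∈ K.subgroupOf L := hl
      rw [show l = ((⟨l, hmem⟩ : ↥(K.subgroupOf L)) : L) from rfl, indFun_normal_mem,
        sum_congr rfl fun g _ => show μ ψ (g * l * g⁻¹) = μ ψ l from
          isClassFunction_isChar (isCharacter_of_irr (hirr (pb ψ))) l g, sum_const, card_univ, ← Nat.card_eq_fintype_card,
        nsmul_eq_mul, hKc, Nat.cast_mul, mul_assoc (Nat.card (K.subgroupOf L) : ℂ), ← mul_assoc,
        inv_mul_cancel₀ (Nat.cast_ne_zero.mpr Nat.card_pos.ne'), one_mul]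
    · rw [indFun_normal_not_mem (K.subgroupOf L) _ (show l ∉ K.subgroupOf L from hl), mul_eq_zero]
      left
      -- a character of `W₁` separates `proj l`
      obtain ⟨k, hk, w, hw, he⟩ := d.W_eq_mul l.2
      have hw1 : w ≠ 1 := fun e => hl (by rw [he, e, mul_one]; exact hk)
      have hlin : ∀ φ, OnFirst φ → linOf d φ l = φ ⟨w, Subgroup.mem_sup_left hw⟩ := fun φ hφ => by
        rw [show l = (⟨k, d.K_le hk⟩ : L) * ⟨w, d.W₁_le hw⟩ from Subtype.ext he, map_mul,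
          linOf_K d φ (show ((⟨k, d.K_le hk⟩ : L) : G) ∈ K from hk), one_mul]
        exact linOf_W d hφ rfl
      rw [sum_congr rfl fun φ hφ => by rw [hlin φ (mem_filter.mp hφ).2]]
      obtain ⟨ω, hω⟩ := exists_lin_ne_one (A := ↥(W₁ ⊔ W₂)) (Cfsg.Lib.CyclicTI.comm d.cycTI)
        (a := ⟨w, Subgroup.mem_sup_left hw⟩) (fun e => hw1 (congrArg Subtype.val e))
      set φ₀ := ω.comp (pr₁ d.cycTI) with hφ₀
      have hφ₀1 : OnFirst φ₀ := onFirst_comp d.cycTI ω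
      have hne : (φ₀ ⟨w, Subgroup.mem_sup_left hw⟩ : ℂ) ≠ 1 := by
        rw [hφ₀, MonoidHom.comp_apply,
          (pr_of_mem₁ d.cycTI (w := ⟨w, Subgroup.mem_sup_left hw⟩) hw).1]
        exact fun e => hω (Units.ext e)
      refine eq_zero_of_mul_eq_self_left hne ?_
      rw [mul_sum]
      refine sum_nbij' (fun φ => φ₀ * φ) (fun φ => φ₀⁻¹ * φ) ?_ ?_ (fun φ _ => inv_mul_cancel_left φ₀ φ)
        (fun φ _ => mul_inv_cancel_left φ₀ φ) (fun φ _ => by rw [MonoidHom.mul_apply, Units.val_mul])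
      · intro φ hφ
        refine mem_filter.mpr ⟨mem_univ _, fun w' hw' => ?_⟩
        rw [MonoidHom.mul_apply, hφ₀1 w' hw', (mem_filter.mp hφ).2 w' hw', one_mul]
      · intro φ hφ
        refine mem_filter.mpr ⟨mem_univ _, fun w' hw' => ?_⟩
        rw [MonoidHom.mul_apply, MonoidHom.inv_apply, hφ₀1 w' hw', (mem_filter.mp hφ).2 w' hw',
          inv_one, one_mul]
  have hresK : ∀ ψ, OnSecond ψ → Cfsg.IsIrrCharacter ↥(K.subgroupOf L)
      (fun k : ↥(K.subgroupOf L) => μ ψ k) := by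
    intro ψ hψ
    set r : ↥(K.subgroupOf L) → ℂ := fun k => μ ψ k with hr
    have hrc : Cfsg.IsCharacter ↥(K.subgroupOf L) r :=
      IsCharacter.restrict (isCharacter_of_irr (hirr (pb ψ))) _
    refine isIrrCharacter_of_norm_one hrc ?_
    -- `(r, r) = (Ind r, μ ψ)`
    rw [← frobenius_reciprocity (K.subgroupOf L) r
      (isClassFunction_isChar (isCharacter_of_irr (hirr (pb ψ)))), ← hT ψ hψ, redChar,
      finsum_mem_eq_sum_of_inter_support_eq _
        (t := univ.filter fun φ : ↥(W₁ ⊔ W₂) →* ℂˣ => OnFirst φ) (by ext; simp),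
      classInner_sum_left, sum_eq_single (1 : ↥(W₁ ⊔ W₂) →* ℂˣ)]
    · rw [hom_one_mul]
      exact classInner_self_irr (hirr _)
    · intro φ hφ hne
      rw [classInner_irrChar (hirr _) (hirr _), if_neg]
      exact fun e => hne (mul_eq_right.mp (pb_inj (hinj e)))
    · intro h1
      exact absurd (mem_filter.mpr ⟨mem_univ _, onFirst_one⟩) h1
  have hTI : PrimeTIChars L K W₁ W₂ μ δ := by
    refine ⟨fun ω ω' e => pb_inj (hinj e), fun ω => hirr _, fun ω => hsign _, ?_, ?_, happ, hvan',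
      fun ω => ?_, ?_, hcolK, fun ω => ?_⟩
    · intro ω ω' hsc
      refine (hcol (pb ω) (pb ω') fun w hw => ?_).1
      exact hsc (d.eW w) hw
    · intro ω hsc
      have hfirst : OnFirst ω := fun w hw => by rw [hsc w hw, MonoidHom.one_apply]
      exact ((ident _ (isIrrCharacter_linear (linOf d ω)) ω 1 (Or.inl rfl) fun l w hlw hw => by
        show (linOf d ω l : ℂ) = _
        rw [linOf_W d hfirst hlw, one_mul]).2).symm
    · obtain ⟨n, hn⟩ := hdeg (pb ω)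
      exact ⟨n, by rw [← Nat.card_congr (Subgroup.subgroupOfEquivOfLe d.W₁_le).toEquiv]; exact hn⟩
    · intro ω
      refine (ident _ (IsIrrCharacter.conjugate (hirr (pb ω))) ω⁻¹ (δ ω) (hsign _) fun l w hlw hw => ?_).1
      show conj (μ ω l) = _
      rw [happ ω l w hlw hw, map_mul, MonoidHom.inv_apply, ← map_inv,
        IsCharacter.conj_inv (isCharacter_linear ω) w]
      congr 1
      rcases hsign (pb ω) with e | e <;> simp [hδ, e]
    · have hsecond : OnSecond (ω.comp (pr₂ d.cycTI)) := onSecond_comp d.cycTI ω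
      have e : (fun k : ↥(K.subgroupOf L) => μ ω k) =
          fun k : ↥(K.subgroupOf L) => μ (ω.comp (pr₂ d.cycTI)) k := funext fun k =>
        hcolK _ _ (fun w hw => by
          rw [MonoidHom.comp_apply, (pr_of_mem₂ d.cycTI hw).2]) k k.2
      rw [e]
      exact hresK _ hsecond
  refine ⟨μ, δ, hTI, hT, fun θ hθ => ?_⟩
  obtain ⟨h1, h2, -⟩ := Cfsg.Agent.S1513.result (K.subgroupOf L) (W₁.subgroupOf L) (W₂.subgroupOf L)
    h.disj h.top h.ne h.cyc₁ (by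
      rw [(Subgroup.isComplement'_of_disjoint_and_mul_eq_univ (disjoint_iff.mpr h.disj)
        (by rw [← Subgroup.normal_mul (K.subgroupOf L), h.top, Subgroup.coe_top])).index_eq_card,
        Nat.card_congr (Subgroup.subgroupOfEquivOfLe d.W₁_le).toEquiv,
        Nat.card_congr (Subgroup.subgroupOfEquivOfLe d.K_le).toEquiv]
      exact d.coprime.symm)
    (by rw [Ne, Subgroup.subgroupOf_eq_bot, disjoint_iff, inf_eq_left.mpr d.W₂_le_L]; exact d.cycTI.2.1)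
    (haveI := (MulEquiv.isCyclic d.eW).mpr d.cycTI.2.2.2.2.1;
      isCyclic_of_injective (Subgroup.inclusion (le_sup_right :
        W₂.subgroupOf L ≤ W₁.subgroupOf L ⊔ W₂.subgroupOf L)) (Subgroup.inclusion_injective _))
    h.le h.fix h.odd
  by_cases hfix : ∀ x ∈ W₁.subgroupOf L, (fun k : ↥(K.subgroupOf L) => θ ⟨x * k * x⁻¹,
      d.normal_K.conj_mem (k : L) k.2 x⟩) = θ
  · right
    -- the restrictions exhaust the fixed characters
    let F : {ψ : ↥(W₁ ⊔ W₂) →* ℂˣ // OnSecond ψ} →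
        {θ : Cfsg.IrrCharacter ↥(K.subgroupOf L) // ∀ x ∈ W₁.subgroupOf L,
          (fun k : ↥(K.subgroupOf L) => (θ : ↥(K.subgroupOf L) → ℂ) ⟨x * k * x⁻¹,
            d.normal_K.conj_mem (k : L) k.2 x⟩) = θ} :=
      fun ψ => ⟨⟨_, hresK ψ.1 ψ.2⟩, fun x _ => funext fun k =>
        isClassFunction_isChar (isCharacter_of_irr (hirr (pb ψ.1))) (k : L) x⟩
    have hF : Function.Injective F := by
      intro ψ ψ' e
      have e' : (fun k : ↥(K.subgroupOf L) => μ ψ.1 k) = fun k : ↥(K.subgroupOf L) => μ ψ'.1 k :=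
        congrArg (fun θ => (θ.1 : ↥(K.subgroupOf L) → ℂ)) e
      have hr : redChar μ ψ.1 = redChar μ ψ'.1 := by rw [hT _ ψ.2, hT _ ψ'.2, e']
      have hin := congrArg (fun f => Cfsg.classInner f (μ ψ.1)) hr
      simp only [redChar] at hin
      rw [finsum_mem_eq_sum_of_inter_support_eq _
          (t := univ.filter fun φ : ↥(W₁ ⊔ W₂) →* ℂˣ => OnFirst φ) (by ext; simp),
        finsum_mem_eq_sum_of_inter_support_eq _
          (t := univ.filter fun φ : ↥(W₁ ⊔ W₂) →* ℂˣ => OnFirst φ) (by ext; simp),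
        classInner_sum_left, classInner_sum_left] at hin
      by_contra hne
      rw [sum_eq_single (1 : ↥(W₁ ⊔ W₂) →* ℂˣ), sum_eq_zero, hom_one_mul] at hin
      · rw [classInner_self_irr (hirr _)] at hin; exact one_ne_zero hin
      · intro φ hφ
        rw [classInner_irrChar (hirr _) (hirr _), if_neg]
        intro e2
        have e3 : φ * ψ'.1 = 1 * ψ.1 := (pb_inj (hinj e2)).trans (hom_one_mul _).symm
        exact hne (Subtype.ext ((mul_eq_iff d.cycTI (mem_filter.mp hφ).2 ψ'.2 onFirst_one ψ.2).mp e3).2.symm)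
      · intro φ hφ hne'
        rw [classInner_irrChar (hirr _) (hirr _), if_neg]
        exact fun e2 => hne' (mul_eq_right.mp (pb_inj (hinj e2)))
      · intro h1
        exact absurd (mem_filter.mpr ⟨mem_univ _, onFirst_one⟩) h1
    have hbij := (Nat.bijective_iff_injective_and_card F).mpr ⟨hF, by
      rw [card_onSecond d.cycTI, h2, Nat.card_congr (Subgroup.subgroupOfEquivOfLe d.W₂_le_L).toEquiv]⟩
    obtain ⟨ψ, hψ⟩ := hbij.2 ⟨⟨θ, hθ⟩, hfix⟩
    exact ⟨ψ.1, ψ.2, (congrArg (fun θ => (θ.1 : ↥(K.subgroupOf L) → ℂ)) hψ).symm⟩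
  · left
    push Not at hfix
    exact h1 θ hθ hfix

/-- Statement (4.3)/(4.5) of the interface. -/
theorem s04Chars (G : Type u) [Group G] [Fintype G] : S04Chars G :=
  fun L K W₁ W₂ H A A₀ R d => exists_chars d

end Cfsg.Agent.PF
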