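import Cfsg.Agent.OddChar.PF.S04Chars
import Cfsg.Agent.OddChar.InducedFamily
import Cfsg.Agent.OddChar.Dade
import Cfsg.Agent.OddChar.DadeGen
import Cfsg.Agent.Chars.TI
import Cfsg.Agent.Coprime.SchurZassenhaus

/-!
# (4.7): supports of the characters induced from `K`
-/

set_option linter.unusedSectionVars false
set_option linter.unusedVariables false
set_option linter.style.haveILetI false
set_option autoImplicit false

namespace Cfsg.Agent.PF

open Finset
open Cfsg.Lib.Chars Cfsg.Lib.CyclicTI Cfsg.Lib.InducedFamily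
open scoped ComplexConjugate

universe u

/-- An irreducible character that is not constant on a normal subgroup vanishes at the elements
with trivial centraliser in it. -/
theorem vanish_of_centralizer {X : Type u} [Group X] [Fintype X] (N : Subgroup X) [N.Normal]
    {θ : X → ℂ} (hθ : Cfsg.IsIrrCharacter X θ) (hN : ¬ ∀ a ∈ N, θ a = θ 1) {g : X}
    (hg : ∀ n ∈ N, g * n = n * g → n = 1) : θ g = 0 := by
  classical
  haveI : Fintype (X ⧸ N) := Fintype.ofFinite _
  set π := QuotientGroup.mk' N with hπdef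
  have hπ : Function.Surjective π := QuotientGroup.mk'_surjective N
  let f : Cfsg.IrrCharacter (X ⧸ N) → Cfsg.IrrCharacter X := fun η =>
    ⟨_, IsIrrCharacter.comp_surjective η.2 π hπ⟩
  have hf : Function.Injective f := fun η η' h => Subtype.ext (funext fun q => by
    obtain ⟨x, rfl⟩ := hπ q
    exact congrFun (congrArg Subtype.val h) x)
  -- the squares over the characters trivial on `N` already fill the centraliser
  set S : Cfsg.IrrCharacter X → ℝ := fun χ => Complex.normSq ((χ : X → ℂ) g) with hS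
  have hsum : ∀ {Y : Type u} [Group Y] [Fintype Y] (y : Y),
      (∑ χ : Cfsg.IrrCharacter Y, Complex.normSq ((χ : Y → ℂ) y) : ℝ) =
        Nat.card (Subgroup.centralizer ({y} : Set Y)) := by
    intro Y _ _ y
    have h := second_orthogonality y y
    rw [if_pos (IsConj.refl y)] at h
    simp only [Complex.mul_conj, ← Complex.ofReal_sum] at h
    exact_mod_cast h
  have hle : (Nat.card (Subgroup.centralizer ({g} : Set X)) : ℝ) ≤
      Nat.card (Subgroup.centralizer ({π g} : Set (X ⧸ N))) := by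
    refine Nat.cast_le.mpr (Nat.card_le_card_of_injective
      (fun c => ⟨π c, Subgroup.mem_centralizer_singleton_iff.mpr (by
        rw [← map_mul, ← map_mul, Subgroup.mem_centralizer_singleton_iff.mp c.2])⟩) ?_)
    intro c c' h
    have hmem : (c : X)⁻¹ * c' ∈ N := (QuotientGroup.eq (s := N)).mp (congrArg Subtype.val h)
    have hcg : g * ((c : X)⁻¹ * c') = (c : X)⁻¹ * c' * g :=
      ((Subgroup.mem_centralizer_singleton_iff.mp
        (mul_mem (inv_mem c.2) c'.2)).symm)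
    exact Subtype.ext (inv_mul_eq_one.mp (hg _ hmem hcg))
  have himg : ∑ χ ∈ univ.image f, S χ = Nat.card (Subgroup.centralizer ({π g} : Set (X ⧸ N))) := by
    rw [sum_image hf.injOn, ← hsum (π g)]
  have hrest : ∑ χ ∈ (univ.image f)ᶜ, S χ ≤ 0 := by
    have := sum_add_sum_compl (univ.image f) S
    rw [himg, show ∑ χ, S χ = _ from hsum g] at this
    linarith
  have hθmem : (⟨θ, hθ⟩ : Cfsg.IrrCharacter X) ∈ (univ.image f)ᶜ := by
    rw [mem_compl, mem_image]
    rintro ⟨η, -, h⟩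
    refine hN fun a ha => ?_
    have e := congrArg Subtype.val h
    rw [← show _ = θ from e]
    show (η : X ⧸ N → ℂ) (π a) = (η : X ⧸ N → ℂ) (π 1)
    rw [map_one, show π a = 1 from (QuotientGroup.eq_one_iff a).mpr ha]
  have h0 := (sum_eq_zero_iff_of_nonneg fun χ _ => Complex.normSq_nonneg _).mp
    (le_antisymm hrest (sum_nonneg fun χ _ => Complex.normSq_nonneg _)) _ hθmem
  exact Complex.normSq_eq_zero.mp h0

variable {G : Type u} [Group G] [Fintype G] {L K W₁ W₂ H : Subgroup G} [Fintype L] {A A₀ : Set G}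
  {R : G → Subgroup G}

namespace PrimeDade

variable (d : PrimeDade L K W₁ W₂ H A A₀ R)
include d

/-- Every element of `L ∖ K` is conjugate in `L` to an element of `W ∖ W₂`. -/
theorem exists_conj_W {x : G} (hx : x ∈ L) (hxK : x ∉ K) :
    ∃ l ∈ L, ∃ w : ↥(W₁ ⊔ W₂), (w : G) ∉ W₂ ∧ x = l * w * l⁻¹ := by
  obtain ⟨k₀, hk₀, w₀, hw₀, hx0⟩ := d.W_eq_mul hx
  obtain ⟨t, htn, htm⟩ := Nat.chineseRemainder d.coprime 0 1
  set x₁ := x ^ t with hx₁
  have hcardL : Nat.card L = Nat.card K * Nat.card W₁ := by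
    have hn : W₁ ≤ Subgroup.normalizer (K : Set G) := d.W₁_le.trans d.K_normal
    rw [← Cfsg.Lib.Coprime.card_sup_of_inf_eq_bot hn d.compl.2.2.1]
    congr 2
    refine le_antisymm (fun y hy => ?_) (sup_le d.K_le d.W₁_le)
    obtain ⟨a, ha, b, hb, rfl⟩ := d.compl.2.2.2 y hy
    exact Subgroup.mul_mem_sup ha hb
  have hordL : x ^ (Nat.card K * Nat.card W₁) = 1 := by
    rw [← hcardL]
    exact congrArg Subtype.val (pow_card_eq_one' (x := (⟨x, hx⟩ : L)))
  obtain ⟨s, hs⟩ := Nat.modEq_zero_iff_dvd.mp htn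
  have hx₁m : x₁ ^ Nat.card W₁ = 1 := by
    rw [hx₁, ← pow_mul, hs, mul_right_comm, pow_mul, hordL, one_pow]
  have hx₁c : (Nat.card K).Coprime (Nat.card (Subgroup.zpowers x₁)) := by
    rw [Nat.card_zpowers]
    exact d.coprime.coprime_dvd_right (orderOf_dvd_of_pow_eq_one hx₁m)
  have hsupW : W₁ ⊔ K = L := le_antisymm (sup_le d.W₁_le d.K_le) fun y hy => by
    obtain ⟨a, ha, b, hb, rfl⟩ := d.compl.2.2.2 y hy
    exact mul_mem (Subgroup.mem_sup_right ha) (Subgroup.mem_sup_left hb)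
  obtain ⟨k, hk, hle⟩ := Cfsg.Lib.Coprime.exists_conj_le_of_coprime (N := K) (H := W₁)
    (L := Subgroup.zpowers x₁) (d.W₁_le.trans d.K_normal) d.coprime
    (Or.inr (Group.isSolvable_of_comm fun a b => by
      obtain ⟨i, hi⟩ := a.2
      obtain ⟨j, hj⟩ := b.2
      exact Subtype.ext (by simp [← hi, ← hj, ← zpow_add, add_comm])))
    (by rw [Subgroup.zpowers_le, sup_comm, hsupW]; exact pow_mem hx t) hx₁c
  have ha : k⁻¹ * x₁ * k ∈ W₁ :=
    Cfsg.Lib.Coprime.mem_conjMap.mp (hle (Subgroup.mem_zpowers x₁))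
  set a := k⁻¹ * x₁ * k with hadef
  have ha1 : a ≠ 1 := by
    intro h
    apply hxK
    -- then the `W₁` component of `x` is trivial
    haveI := d.normal_K
    set π := QuotientGroup.mk' (K.subgroupOf L)
    have hxl : (⟨x, hx⟩ : L) = ⟨k₀, d.K_le hk₀⟩ * ⟨w₀, d.W₁_le hw₀⟩ := Subtype.ext hx0
    have hπk : π ⟨k₀, d.K_le hk₀⟩ = 1 := (QuotientGroup.eq_one_iff _).mpr hk₀
    have h1 : x₁ = 1 := by
      rw [hadef, mul_assoc, inv_mul_eq_one] at h
      exact (mul_eq_right.mp h.symm)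
    have h2 : π ⟨w₀, d.W₁_le hw₀⟩ ^ t = 1 := by
      have h3 : π ⟨x, hx⟩ ^ t = 1 := by
        rw [← map_pow, show (⟨x, hx⟩ : L) ^ t = 1 from Subtype.ext (by simpa [hx₁] using h1), map_one]
      rwa [hxl, map_mul, hπk, one_mul] at h3
    have h4 : π ⟨w₀, d.W₁_le hw₀⟩ ^ Nat.card W₁ = 1 := by
      have h7 : w₀ ^ Nat.card W₁ = 1 :=
        congrArg Subtype.val (pow_card_eq_one' (x := (⟨w₀, hw₀⟩ : W₁)))
      rw [← map_pow, show (⟨w₀, d.W₁_le hw₀⟩ : L) ^ Nat.card W₁ = 1 from Subtype.ext h7, map_one]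
    have h5 : π ⟨w₀, d.W₁_le hw₀⟩ = 1 := by
      rw [← pow_one (π ⟨w₀, d.W₁_le hw₀⟩)]
      have hd := orderOf_dvd_of_pow_eq_one h4
      exact (pow_eq_pow_iff_modEq.mpr (htm.of_dvd hd)).symm.trans h2
    have hw0K : w₀ ∈ K := (QuotientGroup.eq_one_iff (⟨w₀, d.W₁_le hw₀⟩ : L)).mp h5
    rw [hx0]
    exact mul_mem hk₀ hw0K
  set y := k⁻¹ * x * k with hy
  have hya : y * a = a * y := by
    rw [hy, hadef]
    have : x * x₁ = x₁ * x := (Commute.pow_self x t).symm
    calc k⁻¹ * x * k * (k⁻¹ * x₁ * k) = k⁻¹ * (x * x₁) * k := by group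
      _ = k⁻¹ * (x₁ * x) * k := by rw [this]
      _ = k⁻¹ * x₁ * k * (k⁻¹ * x * k) := by group
  have hyL : y ∈ L := mul_mem (mul_mem (inv_mem (d.K_le hk)) hx) (d.K_le hk)
  obtain ⟨k', hk', w', hw', hy'⟩ := d.W_eq_mul hyL
  have hk'c : k' ∈ W₂ := by
    rw [← d.cent a ha ha1]
    refine ⟨hk', Subgroup.mem_centralizer_singleton_iff.mpr ?_⟩
    have hwa : w' * a = a * w' := congrArg Subtype.val
      (Cfsg.Lib.CyclicTI.comm d.cycTI ⟨w', Subgroup.mem_sup_left hw'⟩ ⟨a, Subgroup.mem_sup_left ha⟩)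
    apply mul_right_cancel (b := w')
    calc k' * a * w' = k' * (w' * a) := by rw [hwa, mul_assoc]
      _ = y * a := by rw [hy', mul_assoc]
      _ = a * y := hya
      _ = a * k' * w' := by rw [hy']; group
  refine ⟨k, d.K_le hk, ⟨y, hy' ▸ mul_mem (Subgroup.mem_sup_right hk'c) (Subgroup.mem_sup_left hw')⟩,
    fun hy2 => hxK ?_, by show x = k * y * k⁻¹; rw [hy]; group⟩
  have hyK : y ∈ K := d.W₂_le_K hy2
  have h6 := (Subgroup.mem_normalizer_iff.mp (d.K_normal (d.K_le hk)) y).mp hyK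
  rwa [show k * y * k⁻¹ = x by rw [hy]; group] at h6

theorem one_not_mem_A₀ : (1 : G) ∉ A₀ := d.dade.one_not_mem

/-- An element of `K ∖ 1` outside `A` has trivial centraliser in `H`. -/
theorem cent_trivial {k : G} (hk : k ∈ K) (hk1 : k ≠ 1) (hkA : k ∉ A) {n : G} (hn : n ∈ H)
    (hc : k * n = n * k) : n = 1 :=
  by_contra fun hn1 => hkA (d.A_cover k hk hk1 n hn hn1 hc)

/-- (4.7)(a): the induced characters nontrivial on `H` live on `A ∪ 1`. -/
theorem induced_support {φ : ↥L → ℂ} (h1 : φ ∈ Cfsg.inducedIrrAbove (K.subgroupOf L) ⊥)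
    (h2 : φ ∉ Cfsg.inducedIrrAbove (K.subgroupOf L) (H.subgroupOf L)) {l : L} (hl1 : l ≠ 1)
    (hlA : (l : G) ∉ A) : φ l = 0 := by
  classical
  obtain ⟨θ, hθ, hθ1, -, rfl⟩ := h1
  haveI := d.normal_K
  by_cases hlK : (l : G) ∈ K
  · have hmem : l ∈ K.subgroupOf L := hlK
    rw [show l = ((⟨l, hmem⟩ : ↥(K.subgroupOf L)) : L) from rfl, indFun_normal_mem]
    refine mul_eq_zero_of_right _ (sum_eq_zero fun g _ => ?_)
    haveI : ((H.subgroupOf L).subgroupOf (K.subgroupOf L)).Normal := by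
      refine ⟨fun n hn g => ?_⟩
      have := (Subgroup.mem_normalizer_iff.mp (d.H_normal ((g : L) : L).2) ((n : L) : G)).mp hn
      simpa [Subgroup.mem_subgroupOf] using this
    refine vanish_of_centralizer ((H.subgroupOf L).subgroupOf (K.subgroupOf L)) hθ
      (fun hc => h2 ⟨θ, hθ, hθ1, fun a ha => hc a ha, rfl⟩) fun n hn hcomm => ?_
    have hc' := congrArg (fun z : ↥(K.subgroupOf L) => (((z : L) : L) : G)) hcomm
    simp only [Subgroup.coe_mul, InvMemClass.coe_inv] at hc'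
    have hn' : (g : G)⁻¹ * ((n : L) : G) * g ∈ H := by
      have := (Subgroup.mem_normalizer_iff.mp (d.H_normal (inv_mem g.2)) ((n : L) : G)).mp hn
      rwa [inv_inv] at this
    have hn1 := d.cent_trivial hlK (fun h => hl1 (Subtype.ext h)) hlA hn' (by
      calc (l : G) * ((g : G)⁻¹ * ((n : L) : G) * g)
          = (g : G)⁻¹ * ((g : G) * l * (g : G)⁻¹ * ((n : L) : G)) * g := by group
        _ = (g : G)⁻¹ * (((n : L) : G) * ((g : G) * l * (g : G)⁻¹)) * g := by rw [hc']
        _ = (g : G)⁻¹ * ((n : L) : G) * g * l := by group)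
    refine Subtype.ext (Subtype.ext ?_)
    rw [mul_assoc, inv_mul_eq_one] at hn1
    exact mul_eq_right.mp hn1.symm
  · exact indFun_normal_not_mem (K.subgroupOf L) θ hlK

end PrimeDade

end Cfsg.Agent.PF
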