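import Cfsg.Agent.OddChar.Coherence

/-!
# Section 6: a criterion for coherence

If every member has degree a multiple of the degree of `η₀` and the images of the differences
`φ - k η₀` have against one virtual character `ψ₀` the inner products they have against `η₀`, then
sending `η₀` to `ψ₀` gives coherence.
-/

set_option autoImplicit false
set_option linter.unusedSectionVars false

namespace Cfsg.Agent.PF

open Cfsg.Lib.Chars Cfsg.Lib.Coherence
open scoped ComplexConjugate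

universe u v

variable {L : Type u} [Group L] [Fintype L] {G : Type v} [Group G] [Fintype G]
  {S T : Set (L → ℂ)} {τ : (L → ℂ) → (G → ℂ)} {R : (L → ℂ) → Finset (G → ℂ)}

theorem s06_join (hS : Cfsg.IsCoherenceSystem S τ R) (hTS : T ⊆ S) {η₀ : L → ℂ} (hη₀ : η₀ ∈ T)
    (hη₀c : Cfsg.conjFun η₀ ∈ T) {q : ℤ} (hq0 : q ≠ 0) (hq : η₀ 1 = (q : ℂ))
    (hdeg : ∀ φ ∈ T, ∃ k : ℤ, φ 1 = (k : ℂ) * q) {ψ₀ : G → ℂ}
    (hψ : Cfsg.IsGeneralizedCharacter G ψ₀)
    (hψn : Cfsg.classInner ψ₀ ψ₀ = Cfsg.classInner η₀ η₀)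
    (hinner : ∀ φ ∈ T, ∀ k : ℤ, φ 1 = (k : ℂ) * q →
      Cfsg.classInner (τ (φ - k • η₀)) ψ₀ = Cfsg.classInner (φ - k • η₀) η₀) :
    Cfsg.IsCoherent T {1}ᶜ τ := by
  have hqC : (q : ℂ) ≠ 0 := by exact_mod_cast hq0
  have hηm := subset_zspan (S := T) hη₀
  have hmem : ∀ v ∈ Cfsg.zspan T, ∀ m : ℤ, v 1 = (m : ℂ) * q →
      v - m • η₀ ∈ Cfsg.zspanOn T {1}ᶜ := fun v hv m hm => mem_one.mpr
    ⟨(Submodule.span ℤ T).sub_mem hv ((Submodule.span ℤ T).smul_mem _ hηm),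
      by simp [hm, hq]⟩
  have hmemS : ∀ v ∈ Cfsg.zspan T, ∀ m : ℤ, v 1 = (m : ℂ) * q →
      v - m • η₀ ∈ Cfsg.zspanOn S {1}ᶜ := fun v hv m hm => zspanOn_mono hTS (hmem v hv m hm)
  have key : ∀ v ∈ Cfsg.zspan T, ∃ m : ℤ, v 1 = (m : ℂ) * q ∧
      Cfsg.classInner (τ (v - m • η₀)) ψ₀ = Cfsg.classInner (v - m • η₀) η₀ := by
    intro v hv
    induction hv using Submodule.span_induction with
    | mem x hx =>
      obtain ⟨k, hk⟩ := hdeg x hx
      exact ⟨k, hk, hinner x hx k hk⟩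
    | zero =>
      refine ⟨0, by simp, ?_⟩
      rw [zero_smul, sub_zero, map_zero' (spanOn S {1}ᶜ) hS.isometry]
      simp [classInner_def]
    | add x y hx hy ihx ihy =>
      obtain ⟨a, ha, ha'⟩ := ihx
      obtain ⟨b, hb, hb'⟩ := ihy
      refine ⟨a + b, by simp [ha, hb, add_mul], ?_⟩
      rw [show x + y - (a + b) • η₀ = (x - a • η₀) + (y - b • η₀) by rw [add_smul]; abel,
        hS.isometry.1 _ (hmemS x hx a ha) _ (hmemS y hy b hb), classInner_add_left,
        classInner_add_left, ha', hb']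
    | smul z x hx ih =>
      obtain ⟨a, ha, ha'⟩ := ih
      refine ⟨z * a, by simp [ha, mul_assoc], ?_⟩
      rw [mul_smul, ← smul_sub, hS.isometry.2.1 _ (hmemS x hx a ha), classInner_zsmul_left,
        classInner_zsmul_left, ha']
  set τ₁ : (L → ℂ) → (G → ℂ) := fun v => τ (v - (v 1 / q) • η₀) + (v 1 / q) • ψ₀ with hτ₁
  have hval : ∀ v : L → ℂ, ∀ m : ℤ, v 1 = (m : ℂ) * q → τ₁ v = τ (v - m • η₀) + m • ψ₀ := by
    intro v m hm
    simp only [hτ₁, hm, mul_div_cancel_right₀ _ hqC, Int.cast_smul_eq_zsmul]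
  refine ⟨⟨η₀ - Cfsg.conjFun η₀, mem_one.mpr
      ⟨(Submodule.span ℤ T).sub_mem hηm (subset_zspan hη₀c),
        by simp [conj_apply_one (hS.isCharacter η₀ (hTS hη₀))]⟩,
      sub_ne_zero.mpr (hS.conj_ne η₀ (hTS hη₀)).symm⟩, τ₁,
    ⟨fun u hu v hv => ?_, fun u hu n => ?_, fun u hu v hv => ?_, fun u hu => ?_⟩, fun u hu => ?_⟩
  · obtain ⟨a, ha, -⟩ := key u hu
    obtain ⟨b, hb, -⟩ := key v hv
    rw [hval u a ha, hval v b hb, hval (u + v) (a + b) (by simp [ha, hb, add_mul]),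
      show u + v - (a + b) • η₀ = (u - a • η₀) + (v - b • η₀) by rw [add_smul]; abel,
      hS.isometry.1 _ (hmemS u hu a ha) _ (hmemS v hv b hb), add_smul]
    abel
  · obtain ⟨a, ha, -⟩ := key u hu
    rw [hval u a ha, hval (n • u) (n * a) (by simp [ha, mul_assoc]), mul_smul, ← smul_sub,
      hS.isometry.2.1 _ (hmemS u hu a ha), mul_smul, smul_add]
  · obtain ⟨a, ha, ha'⟩ := key u hu
    obtain ⟨b, hb, hb'⟩ := key v hv
    have hb'' : Cfsg.classInner ψ₀ (τ (v - b • η₀)) = Cfsg.classInner η₀ (v - b • η₀) := by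
      rw [← classInner_conj_symm, hb', classInner_conj_symm]
    rw [hval u a ha, hval v b hb]
    conv_rhs => rw [← sub_add_cancel u (a • η₀), ← sub_add_cancel v (b • η₀)]
    simp only [classInner_add_left, classInner_add_right, classInner_zsmul_left,
      classInner_zsmul_right, hS.isometry.2.2.1 _ (hmemS u hu a ha) _ (hmemS v hv b hb), ha', hb'',
      hψn]
  · obtain ⟨a, ha, -⟩ := key u hu
    rw [hval u a ha]
    exact IsGeneralizedCharacter.add (hS.isometry.2.2.2 _ (hmemS u hu a ha))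
      (IsGeneralizedCharacter.zsmul hψ a)
  · obtain ⟨hu', hu1⟩ := mem_one.mp hu
    rw [hval u 0 (by simp [hu1]), zero_smul, sub_zero, zero_smul, add_zero]

end Cfsg.Agent.PF
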