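import Cfsg.Agent.OddChar.PF.S07DadeMap
import Cfsg.Agent.OddChar.Rational

/-!
# Section 12: signed irreducible characters and field automorphisms
-/

set_option linter.style.haveILetI false
set_option linter.unusedSectionVars false

universe u

namespace Cfsg.Agent.PF

open Cfsg.Lib.Chars

/-- An irreducible character or the negative of one. -/
def IsSignedIrr (G : Type u) [Group G] (a : G → ℂ) : Prop :=
  Cfsg.IsIrrCharacter G a ∨ Cfsg.IsIrrCharacter G (-a)

variable {G : Type u} [Group G] [Fintype G]

theorem IsSignedIrr.inner_self {a : G → ℂ} (ha : IsSignedIrr G a) : Cfsg.classInner a a = 1 := by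
  rcases ha with h | h
  · exact classInner_self_irr h
  · have := classInner_self_irr h
    rwa [classInner_neg_left, classInner_neg_right, neg_neg] at this

theorem IsSignedIrr.generalized {a : G → ℂ} (ha : IsSignedIrr G a) :
    Cfsg.IsGeneralizedCharacter G a := by
  rcases ha with h | h
  · exact ⟨a, 0, isCharacter_of_irr h, isCharacter_zero, (sub_zero a).symm⟩
  · exact ⟨0, -a, isCharacter_zero, isCharacter_of_irr h, by simp⟩

theorem signed_of_norm_one {a : G → ℂ} (h : Cfsg.IsGeneralizedCharacter G a)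
    (hn : Cfsg.classInner a a = 1) : IsSignedIrr G a :=
  isIrr_or_neg_of_norm_one h hn

/-- Two signed irreducible characters agree, are opposite, or are orthogonal. -/
theorem IsSignedIrr.trichotomy {a b : G → ℂ} (ha : IsSignedIrr G a) (hb : IsSignedIrr G b) :
    a = b ∧ Cfsg.classInner a b = 1 ∨ a = -b ∧ Cfsg.classInner a b = -1 ∨ Cfsg.classInner a b = 0 := by
  classical
  have key : ∀ {x y : G → ℂ}, Cfsg.IsIrrCharacter G x → Cfsg.IsIrrCharacter G y →
      x = y ∧ Cfsg.classInner x y = 1 ∨ Cfsg.classInner x y = 0 := by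
    intro x y hx hy
    rw [classInner_irrChar hx hy]
    split_ifs with h
    · exact Or.inl ⟨h, rfl⟩
    · exact Or.inr rfl
  rcases ha with h | h <;> rcases hb with h' | h'
  · rcases key h h' with ⟨e, i⟩ | i
    exacts [Or.inl ⟨e, i⟩, Or.inr (Or.inr i)]
  · rcases key h h' with ⟨e, i⟩ | i <;> rw [classInner_neg_right] at i
    exacts [Or.inr (Or.inl ⟨e, neg_eq_iff_eq_neg.mp i⟩), Or.inr (Or.inr (neg_eq_zero.mp i))]
  · rcases key h h' with ⟨e, i⟩ | i <;> rw [classInner_neg_left] at i
    exacts [Or.inr (Or.inl ⟨neg_eq_iff_eq_neg.mp e, neg_eq_iff_eq_neg.mp i⟩),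
      Or.inr (Or.inr (neg_eq_zero.mp i))]
  · rcases key h h' with ⟨e, i⟩ | i <;> rw [classInner_neg_left, classInner_neg_right, neg_neg] at i
    exacts [Or.inl ⟨neg_inj.mp e, i⟩, Or.inr (Or.inr i)]

theorem IsSignedIrr.eq_of_inner_ne {a b : G → ℂ} (ha : IsSignedIrr G a) (hb : IsSignedIrr G b)
    (h : Cfsg.classInner a b ≠ 0) : a = b ∨ a = -b := by
  rcases ha.trichotomy hb with h' | h' | h'
  exacts [Or.inl h'.1, Or.inr h'.1, absurd h' h]

/-- A signed irreducible character orthogonal to the sum of two orthogonal ones is orthogonal to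
both. -/
theorem IsSignedIrr.orth_pair {ψ α β : G → ℂ} (hψ : IsSignedIrr G ψ) (hα : IsSignedIrr G α)
    (hαβ : Cfsg.classInner α β = 0) (h : Cfsg.classInner ψ (α + β) = 0) :
    Cfsg.classInner ψ α = 0 := by
  by_contra hne
  rw [classInner_add_right] at h
  rcases hψ.eq_of_inner_ne hα hne with rfl | rfl
  · rw [hαβ, add_zero, hψ.inner_self] at h
    exact one_ne_zero h
  · rw [classInner_neg_left, classInner_neg_left, hαβ, neg_zero, add_zero, hα.inner_self] at h
    exact one_ne_zero (neg_eq_zero.mp h)

/-- The image of a function under an automorphism of the field of values. -/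
noncomputable def galFun (σ : ℂ ≃+* ℂ) (f : G → ℂ) : G → ℂ := fun g => σ (f g)

theorem galFun_sub (σ : ℂ ≃+* ℂ) (f f' : G → ℂ) : galFun σ (f - f') = galFun σ f - galFun σ f' := by
  funext g; simp [galFun]

theorem galFun_signed (σ : ℂ ≃+* ℂ) {a : G → ℂ} (ha : IsSignedIrr G a) :
    IsSignedIrr G (galFun σ a) :=
  Cfsg.Lib.CyclicTI.map_auto_irr_or_neg σ ha

theorem galFun_inner (σ : ℂ ≃+* ℂ) {a b : G → ℂ} (hb : IsSignedIrr G b) :
    Cfsg.classInner (galFun σ a) (galFun σ b) = σ (Cfsg.classInner a b) :=
  Cfsg.Lib.CyclicTI.classInner_map_auto σ hb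

omit [Fintype G] in
theorem galFun_dade {A : Set G} {L : Subgroup G} {H : G → Subgroup G} (σ : ℂ ≃+* ℂ) (α : L → ℂ) :
    galFun σ (Cfsg.dadeIsometry A L H α) = Cfsg.dadeIsometry A L H (fun x => σ (α x)) := by
  funext g
  simp only [galFun, Cfsg.dadeIsometry]
  split_ifs <;> simp

/-- An orthonormal family of at least three signed irreducible characters is determined by its
differences. -/
theorem signed_family_unique {ι : Type*} {a b : ι → G → ℂ} (ha : ∀ i, IsSignedIrr G (a i))
    (hb : ∀ i, IsSignedIrr G (b i)) (horth : ∀ i j, i ≠ j → Cfsg.classInner (a i) (a j) = 0)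
    (h : ∀ i j, b i - b j = a i - a j) (i : ι) (h3 : ∃ j k, j ≠ i ∧ k ≠ i ∧ j ≠ k) : b i = a i := by
  obtain ⟨j, k, hj, hk, hjk⟩ := h3
  have key : ∀ j, j ≠ i → b i = a i ∨ b i = -a j := by
    intro j hj
    have h1 : Cfsg.classInner (b i - b j) (a i) = 1 := by
      rw [h, classInner_sub_left, (ha i).inner_self, horth j i hj, sub_zero]
    rw [classInner_sub_left] at h1
    rcases (hb i).trichotomy (ha i) with h' | h' | h'
    · exact Or.inl h'.1
    · exfalso
      rw [h'.2] at h1
      rcases (hb j).trichotomy (ha i) with h'' | h'' | h''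
      · rw [h''.2] at h1; norm_num at h1
      · rw [h''.2] at h1; norm_num at h1
      · rw [h''] at h1; norm_num at h1
    · rw [h'] at h1
      rcases (hb j).trichotomy (ha i) with h'' | h'' | h''
      · rw [h''.2] at h1; norm_num at h1
      · right
        have h2 := h i j
        rw [h''.1] at h2
        funext g
        have h3 := congrFun h2 g
        simp only [Pi.sub_apply, Pi.neg_apply] at h3 ⊢
        linear_combination h3
      · rw [h''] at h1; norm_num at h1
  rcases key j hj with e | e
  · exact e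
  rcases key k hk with e' | e'
  · exact e'
  exfalso
  have h2 : Cfsg.classInner (a j) (a j) = Cfsg.classInner (a j) (a k) := by
    rw [neg_inj.mp (e.symm.trans e')]
  rw [(ha j).inner_self, horth j k hjk] at h2
  exact one_ne_zero h2

/-- A value fixed by all automorphisms is a rational integer. -/
theorem signed_value_int {a : G → ℂ} (ha : IsSignedIrr G a) {g : G}
    (h : ∀ σ : ℂ ≃+* ℂ, σ (a g) = a g) : ∃ n : ℤ, a g = n := by
  haveI : NeZero (Nat.card G) := ⟨Nat.card_pos.ne'⟩
  have hmem : a g ∈ cycField (Nat.card G) := by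
    rcases ha with h' | h'
    · exact IsCharacter.mem_cycField (isCharacter_of_irr h') (orderOf_dvd_natCard g)
    · simpa using neg_mem (IsCharacter.mem_cycField (isCharacter_of_irr h') (orderOf_dvd_natCard g))
  have hint : IsIntegral ℤ (a g) := by
    rcases ha with h' | h'
    · exact IsCharacter.isIntegral (isCharacter_of_irr h') g
    · simpa using (IsCharacter.isIntegral (isCharacter_of_irr h') g).neg
  obtain ⟨q, hq⟩ := rat_of_galConj_fixed hmem fun σ _ _ _ => h σ
  obtain ⟨z, hz⟩ := int_of_isIntegral_rat (q := q) (hq ▸ hint)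
  exact ⟨z, by rw [hq, hz, Rat.cast_intCast]⟩

end Cfsg.Agent.PF
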