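import Cfsg.Agent.OddChar.CentralCoherence
import Cfsg.Agent.OddChar.PF.S06Join
import Cfsg.Agent.OddChar.PF.S12Signed
import Cfsg.Agent.OddChar.FrobeniusCoherence
import Cfsg.Agent.Chars.Extraspecial
import Cfsg.Agent.Chars.Count

/-!
# Section 6, (6.8): joining the characters nontrivial on a central subgroup to the linear ones

`K` is a nilpotent normal subgroup of `L ≤ G`, `Z ≤ K'` is normal in `L` and central in `K`, and the
map of the coherence system is induction.  Let `Y = S(K')` with a coherent map `T`.  For `θ`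
nontrivial on `Z` put `a θ = ⟨τ (Ind θ - θ(1) η₀), T η₀⟩ + θ(1)`.  The norm gives
`0 ≤ a θ ≤ θ(1)`.  When `T η₀` is constant on `Z#`, the congruence modulo `|K|` at `Z` makes
`∑ θ(1) a θ` a multiple of `∑ θ(1)²`, so all `a θ` vanish, perhaps after exchanging the two members
of `Y`, and that is coherence of the union.
-/

set_option linter.unusedSectionVars false
set_option linter.unusedVariables false
set_option linter.style.haveILetI false
set_option autoImplicit false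

namespace Cfsg.Agent.PF

open Cfsg.Lib.Chars Cfsg.Lib.Coherence Cfsg.Lib.InducedFamily
open scoped ComplexConjugate commutatorElement

universe u

variable {G : Type u} [Group G] [Fintype G]

/-- The data of (6.8) once the central subgroup is chosen. -/
structure Central6 (L : Subgroup G) [Fintype L] (K Z : Subgroup L) [K.Normal] [Z.Normal]
    (τ : (↥L → ℂ) → (G → ℂ)) (R : (↥L → ℂ) → Finset (G → ℂ)) : Prop where
  nil : Group.IsNilpotent K
  sys : Cfsg.IsCoherenceSystem (Cfsg.inducedIrrAbove K ⊥) τ R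
  Z_ne : Z ≠ ⊥
  Z_der : Z ≤ ⁅K, K⁆
  Z_cent : ∀ z ∈ Z, ∀ k ∈ K, z * k = k * z
  ind : ∀ v ∈ Cfsg.zspanOn (Cfsg.inducedIrrAbove K ⊥) {1}ᶜ, τ v = Cfsg.indFun L v
  norm_le : ∀ θ : K → ℂ, Cfsg.IsIrrCharacter K θ → ¬ (∀ a : K, (a : L) ∈ Z → θ a = θ 1) →
    (Cfsg.classInner (Cfsg.indFun K θ) (Cfsg.indFun K θ)).re ≤ deg θ

namespace Central6

variable {L : Subgroup G} [Fintype L] {K Z : Subgroup L} [K.Normal] [Z.Normal]
  {τ : (↥L → ℂ) → (G → ℂ)} {R : (↥L → ℂ) → Finset (G → ℂ)} (c : Central6 L K Z τ R)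
include c

theorem Z_le : Z ≤ K := c.Z_der.trans (Subgroup.commutator_le_self K)

theorem solvable : Group.IsSolvable K := by haveI := c.nil; infer_instance

theorem K_ne : K ≠ ⊥ := fun h => c.Z_ne (le_bot_iff.mp (h ▸ c.Z_le))

theorem derived_lt : ⁅K, K⁆ < K :=
  Cfsg.Lib.FrobCoherence.derived_lt c.nil c.K_ne

theorem trivial_of_derived {θ : K → ℂ} (hθ : ∀ a : K, (a : L) ∈ ⁅K, K⁆ → θ a = θ 1) (a : K)
    (ha : (a : L) ∈ Z) : θ a = θ 1 :=
  hθ a (c.Z_der ha)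

theorem deg_two_le {θ : K → ℂ} (hθ : Cfsg.IsIrrCharacter K θ)
    (hZ : ¬ ∀ a : K, (a : L) ∈ Z → θ a = θ 1) : 2 ≤ deg θ := by
  by_contra h
  have h1 : deg θ = 1 := by
    have := deg_irr_pos ⟨θ, hθ⟩
    simp only at this
    omega
  obtain ⟨f, hf⟩ := exists_hom_of_deg_one (isCharacter_of_irr hθ)
    (by rw [IsCharacter.apply_one_eq_deg (isCharacter_of_irr hθ), h1, Nat.cast_one])
  refine hZ fun a ha => ?_
  have hker : a ∈ commutator ↥K := by
    have h' : (a : L) ∈ (commutator ↥K).map K.subtype := by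
      rw [commutator_def, Subgroup.map_commutator, ← MonoidHom.range_eq_map, Subgroup.range_subtype]
      exact c.Z_der ha
    obtain ⟨y, hy, e⟩ := Subgroup.mem_map.mp h'
    rwa [← show y = a from Subtype.ext e]
  rw [hf]
  simp [show f a = 1 from Abelianization.commutator_subset_ker f hker]

theorem deg_Y {φ : L → ℂ} (hφ : φ ∈ Cfsg.inducedIrrAbove K ⁅K, K⁆) : φ 1 = (K.index : ℂ) := by
  obtain ⟨θ, hθ, -, hker, rfl⟩ := hφ
  letI : Fintype K := Fintype.ofFinite _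
  have hb := deg_sq_le_index hθ ⊤ fun z _ g => hker _ (by
    simpa [commutatorElement_def] using Subgroup.commutator_mem_commutator z.2 g.2)
  rw [Subgroup.index_top] at hb
  have h1 : deg θ = 1 := le_antisymm ((pow_le_one_iff (n := 2) two_ne_zero).mp hb)
    (deg_irr_pos ⟨θ, hθ⟩)
  rw [indFun_one, IsCharacter.apply_one_eq_deg (isCharacter_of_irr hθ), h1, Nat.cast_one, mul_one]

theorem index_ne : ((K.index : ℤ) : ℂ) ≠ 0 := by
  rw [Int.cast_natCast, Nat.cast_ne_zero]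
  exact K.index_ne_zero_of_finite

/-- The induced character of `θ` nontrivial on `Z` is no member of `Y`. -/
theorem ne_Y {θ : K → ℂ} (hθ : Cfsg.IsIrrCharacter K θ)
    (hZ : ¬ ∀ a : K, (a : L) ∈ Z → θ a = θ 1) {φ : L → ℂ}
    (hφ : φ ∈ Cfsg.inducedIrrAbove K ⁅K, K⁆) : Cfsg.indFun K θ ≠ φ := by
  intro e
  have h := c.deg_Y hφ
  rw [← e, indFun_one, IsCharacter.apply_one_eq_deg (isCharacter_of_irr hθ)] at h
  have h1 : deg θ = 1 := by
    have h' : ((K.index * deg θ : ℕ) : ℂ) = ((K.index * 1 : ℕ) : ℂ) := by push_cast; rw [h, mul_one]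
    exact Nat.eq_of_mul_eq_mul_left (Nat.pos_of_ne_zero K.index_ne_zero_of_finite)
      (Nat.cast_injective h')
  have := c.deg_two_le hθ hZ
  omega

theorem mem_of_nontriv {θ : K → ℂ} (hθ : Cfsg.IsIrrCharacter K θ)
    (hZ : ¬ ∀ a : K, (a : L) ∈ Z → θ a = θ 1) :
    Cfsg.indFun K θ ∈ Cfsg.inducedIrrAbove K ⊥ :=
  ⟨θ, hθ, fun h1 => hZ fun a _ => by rw [h1],
    fun a ha => by rw [show a = 1 from Subtype.ext (Subgroup.mem_bot.mp ha)], rfl⟩

theorem diff_mem {η₀ : L → ℂ} (hη : η₀ ∈ Cfsg.inducedIrrAbove K ⁅K, K⁆) {θ : K → ℂ}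
    (hθ : Cfsg.IsIrrCharacter K θ) (hZ : ¬ ∀ a : K, (a : L) ∈ Z → θ a = θ 1) :
    Cfsg.indFun K θ - (deg θ : ℤ) • η₀ ∈ Cfsg.zspanOn (Cfsg.inducedIrrAbove K ⊥) {1}ᶜ :=
  mem_one.mpr ⟨(Submodule.span ℤ _).sub_mem (subset_zspan (c.mem_of_nontriv hθ hZ))
    ((Submodule.span ℤ _).smul_mem _ (subset_zspan (above_subset _ hη))), by
      simp [indFun_one, IsCharacter.apply_one_eq_deg (isCharacter_of_irr hθ), c.deg_Y hη, mul_comm]⟩

variable {T : (↥L → ℂ) → (G → ℂ)}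
  (hT : Cfsg.IsLinearIsometryOn (Cfsg.zspan (Cfsg.inducedIrrAbove K ⁅K, K⁆)) T)
  (hTag : ∀ f ∈ Cfsg.zspanOn (Cfsg.inducedIrrAbove K ⁅K, K⁆) {1}ᶜ, T f = τ f)

include hT hTag in
open Classical in
/-- The coefficient of `θ` against `T η₀` lies between `0` and `θ(1)`. -/
theorem coeff_bounds (hirrY : ∀ φ ∈ Cfsg.inducedIrrAbove K ⁅K, K⁆, Cfsg.IsIrrCharacter L φ)
    {η₀ : L → ℂ} (hη : η₀ ∈ Cfsg.inducedIrrAbove K ⁅K, K⁆) {θ : K → ℂ}
    (hθ : Cfsg.IsIrrCharacter K θ) (hZ : ¬ ∀ a : K, (a : L) ∈ Z → θ a = θ 1) {a : ℤ}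
    (ha : Cfsg.classInner (τ (Cfsg.indFun K θ - (deg θ : ℤ) • η₀)) (T η₀) + (deg θ : ℂ) = a) :
    0 ≤ a ∧ a ≤ deg θ ∧
      (a = deg θ → (finite_above (K := K) ⁅K, K⁆).toFinset.card ≤ 2) := by
  classical
  set Y := Cfsg.inducedIrrAbove K ⁅K, K⁆ with hY
  set Yf := (finite_above (K := K) ⁅K, K⁆).toFinset with hYf
  have hmemY : ∀ φ, φ ∈ Yf ↔ φ ∈ Y := fun φ => Set.Finite.mem_toFinset _
  have hYS : Y ⊆ Cfsg.inducedIrrAbove K ⊥ := above_subset _
  set x := Cfsg.indFun K θ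
  set u := x - (deg θ : ℤ) • η₀ with hu
  have huS := c.diff_mem hη hθ hZ
  obtain ⟨N, -, hN⟩ := sys_norm c.sys (c.mem_of_nontriv hθ hZ)
  have hNle : (N : ℝ) ≤ deg θ := by
    have := c.norm_le θ hθ hZ
    rwa [hN, Complex.natCast_re] at this
  have hx0 : ∀ φ ∈ Y, Cfsg.classInner x φ = 0 := fun φ hφ =>
    c.sys.orthogonal x (c.mem_of_nontriv hθ hZ) φ (hYS hφ) (c.ne_Y hθ hZ hφ)
  have huY : ∀ φ ∈ Y, Cfsg.classInner u φ = if η₀ = φ then -(deg θ : ℂ) else 0 := by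
    intro φ hφ
    rw [hu, classInner_sub_left, classInner_zsmul_left, hx0 φ hφ,
      classInner_irrChar (hirrY _ hη) (hirrY _ hφ)]
    split_ifs <;> simp
  have hval : ∀ φ ∈ Yf, Cfsg.classInner (τ u) (T φ) =
      (((a : ℤ) - if η₀ = φ then (deg θ : ℤ) else 0 : ℤ) : ℂ) := by
    intro φ hφ'
    have hφ := (hmemY φ).mp hφ'
    have hd : φ - η₀ ∈ Cfsg.zspanOn Y {1}ᶜ := mem_one.mpr
      ⟨(Submodule.span ℤ Y).sub_mem (subset_zspan hφ) (subset_zspan hη),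
        by simp [c.deg_Y hφ, c.deg_Y hη]⟩
    have h := c.sys.isometry.2.2.1 _ huS _ (zspanOn_mono hYS hd)
    rw [← hTag _ hd, map_sub' (Submodule.span ℤ Y) hT (subset_zspan hφ) (subset_zspan hη),
      classInner_sub_right, classInner_sub_right, huY φ hφ, huY η₀ hη, if_pos rfl] at h
    push_cast
    rw [← ha]
    split_ifs at h ⊢ with e <;> push_cast <;> linear_combination h
  have huu : (Cfsg.classInner (τ u) (τ u)).re = (N : ℝ) + (deg θ : ℝ) ^ 2 := by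
    rw [c.sys.isometry.2.2.1 _ huS _ huS, classInner_sub_left, classInner_zsmul_left, classInner_sub_right, classInner_sub_right,
      classInner_zsmul_right, classInner_zsmul_right, hN, hx0 η₀ hη,
      ← classInner_conj_symm x η₀, hx0 η₀ hη, classInner_self_irr (hirrY _ hη)]
    simp; ring
  obtain ⟨-, hproj⟩ := project Yf (e := T) (n := fun _ => (1 : ℝ)) (fun _ _ => one_ne_zero)
    (fun i hi j hj => by
      rw [hT.2.2.1 _ (subset_zspan ((hmemY i).mp hi)) _ (subset_zspan ((hmemY j).mp hj)),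
        classInner_irrChar (hirrY _ ((hmemY i).mp hi)) (hirrY _ ((hmemY j).mp hj))]
      simp)
    (a := τ u) (x := fun φ => (((a : ℤ) - if η₀ = φ then (deg θ : ℤ) else 0 : ℤ) : ℝ))
    (fun φ hφ => by rw [hval φ hφ]; push_cast; split_ifs <;> simp)
  simp only [div_one] at hproj
  rw [huu] at hproj
  have hr := inner_self_re_nonneg (τ u - comb Yf T fun φ =>
    (((a : ℤ) - if η₀ = φ then (deg θ : ℤ) else 0 : ℤ) : ℝ))
  have hsum : ∑ φ ∈ Yf, ((a : ℤ) - if η₀ = φ then (deg θ : ℤ) else 0) ^ 2 =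
      (Yf.card : ℤ) * a ^ 2 + (-2 * a * deg θ + (deg θ : ℤ) ^ 2) := by
    rw [Finset.sum_congr rfl fun φ _ =>
      show ((a : ℤ) - if η₀ = φ then (deg θ : ℤ) else 0) ^ 2 =
        a ^ 2 + if η₀ = φ then -2 * a * deg θ + (deg θ : ℤ) ^ 2 else 0 by split_ifs <;> ring]
    rw [Finset.sum_add_distrib, Finset.sum_const, nsmul_eq_mul, Finset.sum_ite_eq Yf η₀,
      if_pos ((hmemY η₀).mpr hη)]
  have hle : ((∑ φ ∈ Yf, ((a : ℤ) - if η₀ = φ then (deg θ : ℤ) else 0) ^ 2 : ℤ) : ℝ) ≤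
      (N : ℝ) + (deg θ : ℝ) ^ 2 := by
    push_cast at hproj hr ⊢
    linarith
  rw [hsum] at hle
  have hle' : (Yf.card : ℤ) * a ^ 2 - 2 * a * deg θ ≤ deg θ := by
    have : ((((Yf.card : ℤ) * a ^ 2 - 2 * a * deg θ : ℤ)) : ℝ) ≤ (((deg θ : ℤ)) : ℝ) := by
      push_cast at hle ⊢; linarith
    exact_mod_cast this
  have hn2 : (2 : ℤ) ≤ Yf.card := by
    have : 1 < Yf.card := Finset.one_lt_card.mpr ⟨η₀, (hmemY _).mpr hη, Cfsg.conjFun η₀,
      (hmemY _).mpr (conj_mem_above _ hη), (c.sys.conj_ne η₀ (hYS hη)).symm⟩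
    omega
  have hd2 : (2 : ℤ) ≤ deg θ := by exact_mod_cast c.deg_two_le hθ hZ
  have h2 := mul_le_mul_of_nonneg_right hn2 (sq_nonneg a)
  have ha0 : 0 ≤ a := by
    by_contra h
    have h1 : a ≤ -1 := by omega
    nlinarith [mul_le_mul_of_nonneg_right h1 (show (0 : ℤ) ≤ 2 * deg θ by omega), mul_self_pos.mpr
      (show a ≠ 0 by omega)]
  have haθ : a ≤ deg θ := by
    by_contra h
    have h1 : (deg θ : ℤ) + 1 ≤ a := by omega
    nlinarith [mul_le_mul_of_nonneg_left h1 (show (0 : ℤ) ≤ 2 * a by omega)]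
  refine ⟨ha0, haθ, fun h => ?_⟩
  by_contra hcard
  have h3 : (3 : ℤ) ≤ Yf.card := by omega
  have := mul_le_mul_of_nonneg_right h3 (sq_nonneg a)
  subst h
  nlinarith [mul_le_mul_of_nonneg_left hd2 (show (0 : ℤ) ≤ deg θ by omega)]

/-- An irreducible character of `K` nontrivial on `Z` sums to zero over `Z`. -/
theorem sum_Z {θ : K → ℂ} (hθ : Cfsg.IsIrrCharacter K θ)
    (hZ : ¬ ∀ a : K, (a : L) ∈ Z → θ a = θ 1) [Fintype ↥(Z.subgroupOf K)] :
    ∑ z : ↥(Z.subgroupOf K), θ z = 0 := by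
  obtain ⟨z₀, hz₀, hne⟩ : ∃ a : K, (a : L) ∈ Z ∧ θ a ≠ θ 1 := by
    by_contra h
    exact hZ fun a ha => by_contra fun h' => h ⟨a, ha, h'⟩
  have hcen : z₀ ∈ Subgroup.center K :=
    Subgroup.mem_center_iff.mpr fun g => Subtype.ext (c.Z_cent _ hz₀ _ g.2).symm
  set w : ↥(Z.subgroupOf K) := ⟨z₀, Subgroup.mem_subgroupOf.mpr hz₀⟩
  have h : (∑ z : ↥(Z.subgroupOf K), θ z) * θ 1 = θ z₀ * ∑ z : ↥(Z.subgroupOf K), θ z := by
    rw [Finset.mul_sum, Finset.sum_mul]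
    conv_lhs => rw [← Equiv.sum_comp (Equiv.mulLeft w)]
    exact Finset.sum_congr rfl fun z _ => center_mul_of_irr hθ hcen (z : K)
  have h' : (θ 1 - θ z₀) * ∑ z : ↥(Z.subgroupOf K), θ z = 0 := by linear_combination h
  exact (mul_eq_zero.mp h').resolve_left (sub_ne_zero.mpr (Ne.symm hne))

end Central6

end Cfsg.Agent.PF
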