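import Cfsg.Agent.OddChar.PF.S06Sibley

/-!
# Section 6, (6.8): the image of a linear member is constant at the central subgroup

Either the characters nontrivial on `Z` are coherent, or `Z` has prime order and Galois conjugation
permutes the images.
-/

set_option linter.unusedSectionVars false
set_option linter.unusedVariables false
set_option linter.style.haveILetI false
set_option autoImplicit false

namespace Cfsg.Agent.PF

open Cfsg.Lib.Chars Cfsg.Lib.Coherence Cfsg.Lib.InducedFamily Cfsg.Lib.CyclicTI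
open scoped ComplexConjugate commutatorElement

universe u

variable {G : Type u} [Group G] [Fintype G]

namespace Central6

variable {L : Subgroup G} [Fintype L] {K Z : Subgroup L} [K.Normal] [Z.Normal]
  {τ : (↥L → ℂ) → (G → ℂ)} {R : (↥L → ℂ) → Finset (G → ℂ)} (c : Central6 L K Z τ R)
include c

variable {T : (↥L → ℂ) → (G → ℂ)}
  (hT : Cfsg.IsLinearIsometryOn (Cfsg.zspan (Cfsg.inducedIrrAbove K ⁅K, K⁆)) T)
  (hTag : ∀ f ∈ Cfsg.zspanOn (Cfsg.inducedIrrAbove K ⁅K, K⁆) {1}ᶜ, T f = τ f)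

include hT hTag in
open Classical in
/-- Constancy from coherence of the characters nontrivial on `Z`. -/
theorem const_of_coherent
    (hX : Cfsg.IsCoherent (Cfsg.inducedIrrAbove K ⊥ \ Cfsg.inducedIrrAbove K Z) {1}ᶜ τ)
    {η₀ : L → ℂ} (hη : η₀ ∈ Cfsg.inducedIrrAbove K ⁅K, K⁆) : ConstOn6 Z (T η₀) := by
  classical
  letI : Fintype K := Fintype.ofFinite _
  set X := Cfsg.inducedIrrAbove K ⊥ \ Cfsg.inducedIrrAbove K Z with hXdef
  obtain ⟨-, σ, hσ, hσag⟩ := hX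
  have hXS : X ⊆ Cfsg.inducedIrrAbove K ⊥ := Set.diff_subset
  have hXc : ∀ φ ∈ X, Cfsg.conjFun φ ∈ X := fun φ hφ =>
    ⟨conj_mem_above ⊥ hφ.1, fun h => hφ.2 (by
      simpa [conjFun_conjFun] using conj_mem_above Z h)⟩
  have hYS : Cfsg.inducedIrrAbove K ⁅K, K⁆ ⊆ Cfsg.inducedIrrAbove K ⊥ := above_subset _
  have hYZ : Cfsg.inducedIrrAbove K ⁅K, K⁆ ⊆ Cfsg.inducedIrrAbove K Z := Cfsg.Lib.FrobCoherence.above_mono c.Z_der
  have horth : ∀ x ∈ X, Cfsg.classInner (σ x) (T η₀) = 0 := by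
    intro x hx
    refine s05_image_orth c.sys hXS hσ hσag hx (hXc x hx) fun α hα => ?_
    rw [← classInner_conj_symm, s05_image_disjoint c.sys hYS hT hTag hη (conj_mem_above _ hη)
      (hXS hx) (fun e => hx.2 (e ▸ hYZ hη)) (fun e => (hXc x hx).2 (e ▸ hYZ hη)) hα, map_zero]
  have hmemX : ∀ {θ : K → ℂ}, Cfsg.IsIrrCharacter K θ → ¬ (∀ a : K, (a : L) ∈ Z → θ a = θ 1) →
      Cfsg.indFun K θ ∈ X := fun {θ} hθ hZ => ⟨c.mem_of_nontriv hθ hZ, by
    rintro ⟨η, hη', -, hA, he⟩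
    exact hZ (fiber_above Z (θ := ⟨η, hη'⟩) (η := ⟨θ, hθ⟩) he hA)⟩
  have hFgen := hT.2.2.2 _ (subset_zspan hη)
  have hF := isClassFunction_generalized hFgen
  have hf : Cfsg.IsClassFunction L (fun l : L => T η₀ (l : G)) := fun a b => by
    simpa using hF (a : G) (b : G)
  set g : K → ℂ := fun k => T η₀ ((k : L) : G) with hg
  have hgc : Cfsg.IsClassFunction K g := fun x y => by
    simpa [hg] using hF ((x : L) : G) ((y : L) : G)
  -- the coefficients are proportional to the degrees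
  have hprop : ∀ θ θ₀ : Cfsg.IrrCharacter K,
      ¬ (∀ a : K, (a : L) ∈ Z → (θ : K → ℂ) a = (θ : K → ℂ) 1) →
      ¬ (∀ a : K, (a : L) ∈ Z → (θ₀ : K → ℂ) a = (θ₀ : K → ℂ) 1) →
      (deg (θ₀ : K → ℂ) : ℂ) * Cfsg.classInner g (θ : K → ℂ) =
        (deg (θ : K → ℂ) : ℂ) * Cfsg.classInner g (θ₀ : K → ℂ) := by
    intro θ θ₀ h h₀
    set v := (deg (θ₀ : K → ℂ) : ℤ) • Cfsg.indFun K (θ : K → ℂ) -
      (deg (θ : K → ℂ) : ℤ) • Cfsg.indFun K (θ₀ : K → ℂ) with hv
    have hm1 := subset_zspan (hmemX θ.2 h)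
    have hm2 := subset_zspan (hmemX θ₀.2 h₀)
    have hvX : v ∈ Cfsg.zspanOn X {1}ᶜ := mem_one.mpr
      ⟨(Submodule.span ℤ X).sub_mem ((Submodule.span ℤ X).smul_mem _ hm1)
        ((Submodule.span ℤ X).smul_mem _ hm2), by
        simp [hv, indFun_one, IsCharacter.apply_one_eq_deg (isCharacter_of_irr θ.2),
          IsCharacter.apply_one_eq_deg (isCharacter_of_irr θ₀.2)]
        ring⟩
    have h1 : Cfsg.classInner (τ v) (T η₀) = 0 := by
      rw [← hσag _ hvX, hv, map_sub' (Submodule.span ℤ X) hσ ((Submodule.span ℤ X).smul_mem _ hm1)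
        ((Submodule.span ℤ X).smul_mem _ hm2), hσ.2.1 _ hm1, hσ.2.1 _ hm2, classInner_sub_left,
        classInner_zsmul_left, classInner_zsmul_left, horth _ (hmemX θ.2 h),
        horth _ (hmemX θ₀.2 h₀)]
      simp
    rw [c.ind _ (zspanOn_mono hXS hvX), frobenius_reciprocity L _ hF, hv, classInner_sub_left,
      classInner_zsmul_left, classInner_zsmul_left, frobenius_reciprocity K _ hf,
      frobenius_reciprocity K _ hf, sub_eq_zero, Int.cast_natCast, Int.cast_natCast] at h1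
    have := congrArg conj h1
    rw [map_mul, map_mul, Complex.conj_natCast, Complex.conj_natCast, classInner_conj_symm,
      classInner_conj_symm] at this
    exact this
  intro z hz z' hz' h1 h1'
  by_cases hΘ : ∀ θ : Cfsg.IrrCharacter K, ∀ a : K, (a : L) ∈ Z → (θ : K → ℂ) a = (θ : K → ℂ) 1
  · exfalso
    have h := sum_deg_mul (⟨z, c.Z_le hz⟩ : K)
    rw [if_neg (fun e => h1 (congrArg Subtype.val e)),
      Finset.sum_congr rfl fun θ _ => by rw [hΘ θ ⟨z, c.Z_le hz⟩ hz]] at h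
    have h' := sum_deg_mul (1 : K)
    rw [if_pos rfl, h] at h'
    exact Nat.card_pos.ne' (by exact_mod_cast h'.symm : Nat.card K = 0)
  push Not at hΘ
  obtain ⟨θ₀, a₀, ha₀, hne₀⟩ := hΘ
  have h₀ : ¬ (∀ a : K, (a : L) ∈ Z → (θ₀ : K → ℂ) a = (θ₀ : K → ℂ) 1) :=
    fun h => hne₀ (h a₀ ha₀)
  have hval : ∀ y : K, (y : L) ∈ Z → y ≠ 1 → (deg (θ₀ : K → ℂ) : ℂ) * (g 1 - g y) =
      Cfsg.classInner g (θ₀ : K → ℂ) * (Nat.card K : ℂ) := by
    intro y hy hy1
    have hall : ∀ θ : Cfsg.IrrCharacter K,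
        (deg (θ₀ : K → ℂ) : ℂ) * (Cfsg.classInner g (θ : K → ℂ) *
          ((θ : K → ℂ) 1 - (θ : K → ℂ) y)) =
        Cfsg.classInner g (θ₀ : K → ℂ) *
          ((θ : K → ℂ) 1 * (θ : K → ℂ) 1 - (θ : K → ℂ) 1 * (θ : K → ℂ) y) := by
      intro θ
      by_cases h : ∀ a : K, (a : L) ∈ Z → (θ : K → ℂ) a = (θ : K → ℂ) 1
      · rw [h y hy]; ring
      · have := hprop θ θ₀ h h₀
        rw [irr_apply_one_eq_deg θ]
        linear_combination ((deg (θ : K → ℂ) : ℂ) - (θ : K → ℂ) y) * this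
    rw [classFunction_expand_apply hgc 1, classFunction_expand_apply hgc y,
      ← Finset.sum_sub_distrib, Finset.mul_sum,
      Finset.sum_congr rfl fun (θ : Cfsg.IrrCharacter K) _ =>
        show (deg (θ₀ : K → ℂ) : ℂ) * (Cfsg.classInner g (θ : K → ℂ) * (θ : K → ℂ) 1 -
          Cfsg.classInner g (θ : K → ℂ) * (θ : K → ℂ) y) =
          Cfsg.classInner g (θ₀ : K → ℂ) *
            ((θ : K → ℂ) 1 * (θ : K → ℂ) 1 - (θ : K → ℂ) 1 * (θ : K → ℂ) y) by
          rw [← mul_sub, hall θ],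
      ← Finset.mul_sum, Finset.sum_sub_distrib, sum_deg_mul (1 : K), sum_deg_mul y, if_pos rfl,
      if_neg hy1, sub_zero]
  have e1 := hval ⟨z, c.Z_le hz⟩ hz (fun e => h1 (congrArg Subtype.val e))
  have e2 := hval ⟨z', c.Z_le hz'⟩ hz' (fun e => h1' (congrArg Subtype.val e))
  have hd : (deg (θ₀ : K → ℂ) : ℂ) ≠ 0 := by exact_mod_cast (deg_irr_pos θ₀).ne'
  have e := mul_left_cancel₀ hd (e1.trans e2.symm)
  exact sub_right_injective e

include hT hTag in
/-- Constancy from Galois conjugation, for `Z` of prime order. -/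
theorem const_of_galois (hp : (Nat.card Z).Prime)
    (hval : ∀ v ∈ Cfsg.zspanOn (Cfsg.inducedIrrAbove K ⊥) {1}ᶜ, ∀ z ∈ Z, z ≠ 1 → τ v (z : G) = v z)
    (hirrY : ∀ φ ∈ Cfsg.inducedIrrAbove K ⁅K, K⁆, Cfsg.IsIrrCharacter L φ)
    {η₀ : L → ℂ} (hη : η₀ ∈ Cfsg.inducedIrrAbove K ⁅K, K⁆) : ConstOn6 Z (T η₀) := by
  classical
  intro z hz z' hz' h1 h1'
  haveI := Fact.mk hp
  haveI : NeZero (Nat.card Z) := ⟨hp.ne_zero⟩
  have hz0 : (⟨z, hz⟩ : Z) ≠ 1 := fun e => h1 (congrArg Subtype.val e)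
  have hgen := zpowers_eq_top_of_prime_card (p := Nat.card Z) rfl hz0
  obtain ⟨k, hk⟩ : ∃ k : ℕ, z ^ k = z' := by
    obtain ⟨k, hk⟩ := mem_powers_iff_mem_zpowers.mpr
      (hgen ▸ Subgroup.mem_top (⟨z', hz'⟩ : Z) : (⟨z', hz'⟩ : Z) ∈ Subgroup.zpowers (⟨z, hz⟩ : Z))
    exact ⟨k, congrArg Subtype.val hk⟩
  have hord : orderOf ((z : L) : G) = Nat.card Z := by
    rw [Subgroup.orderOf_coe, show z = ((⟨z, hz⟩ : Z) : L) from rfl, Subgroup.orderOf_coe]
    exact orderOf_eq_prime (pow_card_eq_one' (G := Z)) hz0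
  have hkp : k.Coprime (Nat.card Z) := by
    refine (hp.coprime_iff_not_dvd.mpr fun hd => h1' ?_).symm
    rw [← hk, ← orderOf_dvd_iff_pow_eq_one, ← Subgroup.orderOf_coe, hord]
    exact hd
  obtain ⟨σ, hσ⟩ := exists_galConj_auto hkp
  set Y := Cfsg.inducedIrrAbove K ⁅K, K⁆ with hYdef
  have hYS : Y ⊆ Cfsg.inducedIrrAbove K ⊥ := above_subset _
  have hauto : ∀ φ ∈ Y, (fun l => σ (φ l)) ∈ Y := by
    rintro φ ⟨θ, hθ, hne, hker, rfl⟩
    refine ⟨fun k => σ (θ k), IsIrrCharacter.map_auto hθ σ, fun e => hne (funext fun k => σ.injective ?_),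
      fun a ha => congrArg σ (hker a ha), funext fun l => indFun_map_auto σ K θ l⟩
    rw [map_one]
    exact congrFun e k
  have hsig : ∀ φ ∈ Y, IsSignedIrr G (T φ) := fun φ hφ =>
    isIrr_or_neg_of_norm_one (hT.2.2.2 _ (subset_zspan hφ))
      (by rw [hT.2.2.1 _ (subset_zspan hφ) _ (subset_zspan hφ), classInner_self_irr (hirrY _ hφ)])
  have hd : ∀ φ ∈ Y, ∀ φ' ∈ Y, φ - φ' ∈ Cfsg.zspanOn Y {1}ᶜ := fun φ hφ φ' hφ' => mem_one.mpr
    ⟨(Submodule.span ℤ Y).sub_mem (subset_zspan hφ) (subset_zspan hφ'),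
      by simp [c.deg_Y hφ, c.deg_Y hφ']⟩
  have hTsub : ∀ φ ∈ Y, ∀ φ' ∈ Y, T φ - T φ' = τ (φ - φ') := fun φ hφ φ' hφ' => by
    rw [← map_sub' (Submodule.span ℤ Y) hT (subset_zspan hφ) (subset_zspan hφ'),
      hTag _ (hd φ hφ φ' hφ')]
  have hT1 : ∀ φ ∈ Y, ∀ φ' ∈ Y, T φ 1 = T φ' 1 := fun φ hφ φ' hφ' => sub_eq_zero.mp (by
    rw [← Pi.sub_apply, hTsub φ hφ φ' hφ']
    exact c.sys.map_one _ (zspanOn_mono hYS (hd φ hφ φ' hφ')))
  have hTz : ∀ φ ∈ Y, ∀ φ' ∈ Y, T φ (z : G) = T φ' (z : G) := fun φ hφ φ' hφ' => sub_eq_zero.mp (by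
    rw [← Pi.sub_apply, hTsub φ hφ φ' hφ', hval _ (zspanOn_mono hYS (hd φ hφ φ' hφ')) z hz h1,
      Pi.sub_apply]
    have key : ∀ χ ∈ Y, χ z = χ 1 := by
      rintro χ ⟨θ, hθ, -, hker, rfl⟩
      simp only [indFun_apply, mul_one, inv_mul_cancel]
      congr 1
      refine Finset.sum_congr rfl fun x _ => ?_
      have hx : x⁻¹ * z * x ∈ Z := by
        simpa using Subgroup.Normal.conj_mem inferInstance z hz x⁻¹
      rw [extendByZero_mem _ (c.Z_le hx), extendByZero_mem _ (K.one_mem)]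
      exact hker ⟨_, c.Z_le hx⟩ (c.Z_der hx)
    rw [key φ hφ, key φ' hφ', c.deg_Y hφ, c.deg_Y hφ', sub_self])
  -- Galois conjugation carries the image of `η₀` to an image
  set η₁ := Cfsg.conjFun η₀ with hη₁def
  have hη₁ : η₁ ∈ Y := conj_mem_above _ hη
  have hne : η₀ ≠ η₁ := (c.sys.conj_ne η₀ (hYS hη)).symm
  have hne' : (fun l => σ (η₀ l)) ≠ fun l => σ (η₁ l) := fun e =>
    hne (funext fun l => σ.injective (congrFun e l))
  set a : G → ℂ := fun x => σ (T η₀ x) with hadef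
  set b : G → ℂ := fun x => σ (T η₁ x) with hbdef
  have hva : IsSignedIrr G a := map_auto_irr_or_neg σ (hsig η₀ hη)
  have hab : a - b = T (fun l => σ (η₀ l)) - T (fun l => σ (η₁ l)) := by
    rw [hTsub _ (hauto _ hη) _ (hauto _ hη₁)]
    rw [c.ind _ (zspanOn_mono hYS (hd _ (hauto _ hη) _ (hauto _ hη₁)))]
    funext x
    have e := congrFun ((hTsub η₀ hη η₁ hη₁).trans (c.ind _ (zspanOn_mono hYS (hd η₀ hη η₁ hη₁)))) x
    simp only [Pi.sub_apply, hadef, hbdef] at e ⊢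
    rw [← map_sub, e, indFun_map_auto]
    congr 1
    funext l
    simp
  have hab0 : Cfsg.classInner a b = 0 := by
    rw [hadef, hbdef, classInner_map_auto σ (hsig η₁ hη₁),
      hT.2.2.1 _ (subset_zspan hη) _ (subset_zspan hη₁), classInner_irrChar (hirrY _ hη) (hirrY _ hη₁),
      if_neg hne, map_zero]
  have hc1 : T (fun l => σ (η₀ l)) 1 ≠ 0 := by
    rcases hsig _ (hauto _ hη) with h | h
    · exact IsIrrCharacter.apply_one_ne_zero h
    · have := IsIrrCharacter.apply_one_ne_zero h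
      simpa using this
  have ha1 : a 1 = T (fun l => σ (η₀ l)) 1 := by
    obtain ⟨n, hn⟩ : ∃ n : ℤ, T η₀ 1 = n := by
      rcases hsig _ hη with h | h
      · obtain ⟨n, -, hn⟩ := IsIrrCharacter.apply_one h; exact ⟨n, by exact_mod_cast hn⟩
      · obtain ⟨n, -, hn⟩ := IsIrrCharacter.apply_one h
        exact ⟨-n, by rw [Pi.neg_apply] at hn; push_cast; linear_combination -hn⟩
    rw [← hT1 η₀ hη _ (hauto _ hη)]
    simp [hadef, hn]
  have hmain : a = T (fun l => σ (η₀ l)) := by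
    have h := congrArg (fun f => Cfsg.classInner f a) hab
    simp only [classInner_sub_left, hva.inner_self] at h
    rw [show Cfsg.classInner b a = 0 by rw [← classInner_conj_symm, hab0, map_zero], sub_zero] at h
    rcases (hsig _ (hauto _ hη)).trichotomy hva with h2 | h2 | h2
    · exact h2.1.symm
    · exfalso
      have e := congrFun h2.1 1
      rw [Pi.neg_apply, ha1] at e
      exact hc1 (by linear_combination e / 2)
    · exfalso
      rcases (hsig _ (hauto _ hη₁)).trichotomy hva with h3 | h3 | h3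
      · rw [h2, h3.2] at h; norm_num at h
      · have e := congrFun h3.1 1
        rw [Pi.neg_apply, ha1, hT1 _ (hauto _ hη₁) _ (hauto _ hη)] at e
        exact hc1 (by linear_combination e / 2)
      · rw [h2, h3] at h; norm_num at h
  have e1 : T η₀ (z' : G) = a (z : G) := by
    rw [← hk, Subgroup.coe_pow]
    rcases hsig _ hη with h | h
    · exact (hσ.apply_character (isCharacter_of_irr h) (g := (z : G)) hord.dvd).symm
    · have h' := hσ.apply_character (isCharacter_of_irr h) (g := (z : G)) hord.dvd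
      simp only [Pi.neg_apply, map_neg, neg_inj] at h'
      exact h'.symm
  rw [e1, hmain]
  exact hTz η₀ hη _ (hauto _ hη)

end Central6

end Cfsg.Agent.PF
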