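import Mathlib.GroupTheory.Index
import Mathlib.GroupTheory.QuotientGroup.Basic
import Mathlib.GroupTheory.OrderOfElement
import Mathlib.Tactic

/-!
# Section 6: a count for a fixed-point-free action in odd order
-/

set_option autoImplicit false

namespace Cfsg.Agent.PF

universe u

/-- If a subgroup `W` of a group of odd order acts on `Q/P` without fixed points, then
`2 |W| + 1 ≤ [Q : P]`. -/
theorem s06_two_mul_lt {L : Type u} [Group L] [Finite L] (hodd : Odd (Nat.card L))
    (W P Q : Subgroup L) [P.Normal] [Q.Normal] (hPQ : P < Q)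
    (hfree : ∀ u ∈ W, u ≠ 1 → ∀ x ∈ Q, u * x * u⁻¹ * x⁻¹ ∈ P → x ∈ P) :
    2 * Nat.card W + 1 ≤ P.relIndex Q := by
  classical
  obtain ⟨x, hxQ, hxP⟩ := SetLike.exists_of_lt hPQ
  set π := QuotientGroup.mk' P with hπ
  have hx1 : π x ≠ 1 := fun h => hxP ((QuotientGroup.eq_one_iff x).mp h)
  have hoddQ : Odd (Nat.card (L ⧸ P)) := hodd.of_dvd_nat (Subgroup.card_quotient_dvd_card P)
  have hinv : π x⁻¹ ≠ π x := by
    intro h
    have h2 : π x ^ 2 = 1 := by
      rw [map_inv] at h
      rw [pow_two]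
      conv_lhs => arg 1; rw [← h]
      exact inv_mul_cancel _
    have hd := orderOf_dvd_of_pow_eq_one h2
    rcases (Nat.dvd_prime Nat.prime_two).mp hd with e | e
    · exact hx1 (orderOf_eq_one_iff.mp e)
    · exact Nat.not_even_iff_odd.mpr (hoddQ.of_dvd_nat (e ▸ orderOf_dvd_natCard (π x))) even_two
  -- an element of `W` fixing the class of `y` is trivial
  have hfix : ∀ t ∈ W, π (t * x * t⁻¹) = π x → t = 1 := by
    intro t ht h
    by_contra ht1
    refine hxP (hfree t ht ht1 x hxQ ?_)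
    rw [← QuotientGroup.eq_one_iff]
    show π (t * x * t⁻¹ * x⁻¹) = 1
    rw [map_mul, h, map_inv, mul_inv_cancel]
  have hflip : ∀ t ∈ W, π (t * x * t⁻¹) = π x⁻¹ → False := by
    intro t ht h
    have hA : π t * π x * (π t)⁻¹ = (π x)⁻¹ := by simpa using h
    have hB : π t * (π x)⁻¹ * (π t)⁻¹ = π x := by
      have := congrArg (·⁻¹) hA
      simpa [mul_assoc] using this
    have h2 : π ((t ^ 2) * x * (t ^ 2)⁻¹) = π x := by
      rw [map_mul, map_mul, map_inv, map_pow, pow_two,
        show π t * π t * π x * (π t * π t)⁻¹ = π t * (π t * π x * (π t)⁻¹) * (π t)⁻¹ by group,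
        hA, hB]
    have ht2 := hfix _ (pow_mem ht 2) h2
    have ht1 : t = 1 := by
      have hd := orderOf_dvd_of_pow_eq_one ht2
      rcases (Nat.dvd_prime Nat.prime_two).mp hd with e | e
      · exact orderOf_eq_one_iff.mp e
      · exact absurd even_two (Nat.not_even_iff_odd.mpr (hodd.of_dvd_nat (e ▸ orderOf_dvd_natCard t)))
    subst ht1
    exact hinv (by simpa using h.symm)
  let F : Option (↥W ⊕ ↥W) → ↥(Q.map π) := fun o =>
    match o with
    | none => 1
    | some (Sum.inl u) => ⟨π (u * x * (u : L)⁻¹),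
        Subgroup.mem_map_of_mem π (Subgroup.Normal.conj_mem inferInstance x hxQ _)⟩
    | some (Sum.inr u) => ⟨π (u * x⁻¹ * (u : L)⁻¹),
        Subgroup.mem_map_of_mem π (Subgroup.Normal.conj_mem inferInstance x⁻¹ (inv_mem hxQ) _)⟩
  have hconj : ∀ (u v : ↥W) (y z : L), π (u * y * (u : L)⁻¹) = π (v * z * (v : L)⁻¹) →
      π (((v : L)⁻¹ * u) * y * ((v : L)⁻¹ * u)⁻¹) = π z := by
    intro u v y z h
    rw [show ((v : L)⁻¹ * u) * y * ((v : L)⁻¹ * u)⁻¹ = (v : L)⁻¹ * (u * y * (u : L)⁻¹) * v by group,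
      map_mul, map_mul, h, ← map_mul, ← map_mul]
    congr 1
    group
  have hmemW : ∀ u v : ↥W, (v : L)⁻¹ * u ∈ W := fun u v => mul_mem (inv_mem v.2) u.2
  have heq : ∀ u v : ↥W, (v : L)⁻¹ * u = 1 → u = v := fun u v h =>
    (Subtype.ext (inv_mul_eq_one.mp h)).symm
  have hone : ∀ (u : ↥W) (y : L), π (u * y * (u : L)⁻¹) = 1 → π y = 1 := by
    intro u y h
    have : π y = (π u)⁻¹ * π (u * y * (u : L)⁻¹) * π u := by simp [mul_assoc]
    rw [this, h]
    simp
  have hF : Function.Injective F := by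
    have hx1' : π x⁻¹ ≠ 1 := fun h => hx1 (by simpa using h)
    rintro (_ | ⟨u | u⟩) (_ | ⟨v | v⟩) h <;> simp only [F, Subtype.ext_iff, OneMemClass.coe_one] at h
    · rfl
    · exact absurd (hone _ _ h.symm) hx1
    · exact absurd (hone _ _ h.symm) hx1'
    · exact absurd (hone _ _ h) hx1
    · rw [heq u v (hfix _ (hmemW u v) (hconj u v x x h))]
    · exact (hflip _ (hmemW u v) (hconj u v x x⁻¹ h)).elim
    · exact absurd (hone _ _ h) hx1'
    · exact (hflip _ (hmemW v u) (hconj v u x x⁻¹ h.symm)).elim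
    · rw [heq u v (hfix _ (hmemW u v) (by
        have := congrArg (·⁻¹) (hconj u v x⁻¹ x⁻¹ h)
        simpa [mul_assoc] using this))]
  haveI := Fintype.ofFinite ↥W
  have hc := Nat.card_le_card_of_injective F hF
  rw [Nat.card_eq_fintype_card (α := Option (↥W ⊕ ↥W)), Fintype.card_option, Fintype.card_sum,
    ← Nat.card_eq_fintype_card, ← Subgroup.relIndex_ker, hπ, QuotientGroup.ker_mk'] at hc
  omega

end Cfsg.Agent.PF
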