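import Cfsg.Agent.OddChar.PF.S06Central
import Cfsg.Agent.OddChar.PF.S05Coherent
import Cfsg.Agent.OddChar.Rational

/-!
# Section 6, (6.8): coherence from the congruence at a central subgroup
-/

set_option linter.unusedSectionVars false
set_option linter.unusedVariables false
set_option linter.style.haveILetI false
set_option autoImplicit false

namespace Cfsg.Agent.PF

open Cfsg.Lib.Chars Cfsg.Lib.Coherence Cfsg.Lib.InducedFamily
open scoped ComplexConjugate commutatorElement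

universe u

variable {G : Type u} [Group G] [Fintype G]

/-- `F` takes one value on the non-identity elements of `Z`. -/
def ConstOn6 {L : Subgroup G} (Z : Subgroup L) (F : G → ℂ) : Prop :=
  ∀ z ∈ Z, ∀ z' ∈ Z, z ≠ 1 → z' ≠ 1 → F (z : G) = F (z' : G)

namespace Central6

variable {L : Subgroup G} [Fintype L] {K Z : Subgroup L} [K.Normal] [Z.Normal]
  {τ : (↥L → ℂ) → (G → ℂ)} {R : (↥L → ℂ) → Finset (G → ℂ)} (c : Central6 L K Z τ R)
include c

open Classical in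
/-- The weight of the characters nontrivial on `Z`. -/
theorem sum_theta :
    ∑ θ ∈ Finset.univ.filter (fun θ : Cfsg.IrrCharacter K =>
        ¬ ∀ a : K, (a : L) ∈ Z → (θ : K → ℂ) a = (θ : K → ℂ) 1), deg (θ : K → ℂ) ^ 2 =
      (Nat.card Z - 1) * Z.relIndex K := by
  classical
  haveI : (Z.subgroupOf K).Normal := Subgroup.normal_subgroupOf
  have h1 := sum_deg_sq_above (Z.subgroupOf K)
  have h2 := Finset.sum_filter_add_sum_filter_not Finset.univ
    (fun θ : Cfsg.IrrCharacter K => ∀ a : K, (a : L) ∈ Z → (θ : K → ℂ) a = (θ : K → ℂ) 1)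
    (fun θ => deg (θ : K → ℂ) ^ 2)
  rw [sum_deg_sq_nat] at h2
  have h3 : ∑ θ ∈ Finset.univ.filter (fun θ : Cfsg.IrrCharacter K =>
      ∀ a : K, (a : L) ∈ Z → (θ : K → ℂ) a = (θ : K → ℂ) 1), deg (θ : K → ℂ) ^ 2 =
      Z.relIndex K := by
    rw [Subgroup.relIndex, ← h1]
    exact Finset.sum_congr (Finset.filter_congr fun θ _ => by simp [Subgroup.mem_subgroupOf])
      fun _ _ => rfl
  have h4 : Nat.card Z * Z.relIndex K = Nat.card K := by
    rw [← Subgroup.relIndex_bot_left, Subgroup.relIndex_mul_relIndex ⊥ Z K bot_le c.Z_le,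
      Subgroup.relIndex_bot_left]
  rw [h3, ← h4] at h2
  rw [Nat.sub_mul, one_mul]
  omega

open Classical in
/-- The average over `Z` sees only the characters nontrivial on `Z`. -/
theorem sum_diff [Fintype K] [Fintype ↥(Z.subgroupOf K)] {g : K → ℂ}
    (hgc : Cfsg.IsClassFunction K g) :
    ∑ z : ↥(Z.subgroupOf K), (g 1 - g z) =
      (Nat.card Z : ℂ) * ∑ θ ∈ Finset.univ.filter (fun θ : Cfsg.IrrCharacter K =>
        ¬ ∀ x : K, (x : L) ∈ Z → (θ : K → ℂ) x = (θ : K → ℂ) 1),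
          Cfsg.classInner g (θ : K → ℂ) * (θ : K → ℂ) 1 := by
  classical
  rw [Finset.sum_congr rfl fun (z : ↥(Z.subgroupOf K)) _ =>
    show g 1 - g z = ∑ θ : Cfsg.IrrCharacter K,
      Cfsg.classInner g (θ : K → ℂ) * ((θ : K → ℂ) 1 - (θ : K → ℂ) z) by
      rw [classFunction_expand_apply hgc 1, classFunction_expand_apply hgc (z : K),
        ← Finset.sum_sub_distrib]
      exact Finset.sum_congr rfl fun θ _ => (mul_sub _ _ _).symm,
    Finset.sum_comm, Finset.mul_sum, Finset.sum_filter]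
  refine Finset.sum_congr rfl fun θ _ => ?_
  rw [← Finset.mul_sum, Finset.sum_sub_distrib]
  by_cases hθ : ∀ x : K, (x : L) ∈ Z → (θ : K → ℂ) x = (θ : K → ℂ) 1
  · rw [if_neg (not_not.mpr hθ), Finset.sum_congr rfl fun (z : ↥(Z.subgroupOf K)) _ =>
      hθ (z : K) (Subgroup.mem_subgroupOf.mp z.2), sub_self, mul_zero]
  · rw [if_pos hθ, c.sum_Z θ.2 hθ, sub_zero, Finset.sum_const, Finset.card_univ,
      ← Nat.card_eq_fintype_card, nsmul_eq_mul,
      Nat.card_congr (Subgroup.subgroupOfEquivOfLe c.Z_le).toEquiv]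
    ring

variable {T : (↥L → ℂ) → (G → ℂ)}
  (hT : Cfsg.IsLinearIsometryOn (Cfsg.zspan (Cfsg.inducedIrrAbove K ⁅K, K⁆)) T)

include hT in
/-- Frobenius reciprocity for the images of the differences. -/
theorem coeff_eq {η₀ : L → ℂ} (hη : η₀ ∈ Cfsg.inducedIrrAbove K ⁅K, K⁆) {θ : K → ℂ}
    (hθ : Cfsg.IsIrrCharacter K θ) (hZ : ¬ ∀ a : K, (a : L) ∈ Z → θ a = θ 1) [Fintype K] :
    Cfsg.classInner (τ (Cfsg.indFun K θ - (deg θ : ℤ) • η₀)) (T η₀) =
      Cfsg.classInner θ (fun k : K => T η₀ ((k : L) : G)) -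
        (deg θ : ℂ) * Cfsg.classInner η₀ (fun l : L => T η₀ (l : G)) := by
  have hF := isClassFunction_generalized (hT.2.2.2 _ (subset_zspan hη))
  have hf : Cfsg.IsClassFunction L (fun l : L => T η₀ (l : G)) := fun a b => by
    simpa using hF (a : G) (b : G)
  rw [c.ind _ (c.diff_mem hη hθ hZ), frobenius_reciprocity L _ hF, classInner_sub_left,
    classInner_zsmul_left, frobenius_reciprocity K θ hf, Int.cast_natCast]

set_option maxHeartbeats 1000000 in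
include hT in
open Classical in
/-- The weighted sum of the coefficients is a multiple of the weight. -/
theorem coeff_dvd (hirrY : ∀ φ ∈ Cfsg.inducedIrrAbove K ⁅K, K⁆, Cfsg.IsIrrCharacter L φ)
    {η₀ : L → ℂ} (hη : η₀ ∈ Cfsg.inducedIrrAbove K ⁅K, K⁆) (hconst : ConstOn6 Z (T η₀))
    (hcong : ∀ ψ : G → ℂ, Cfsg.IsIrrCharacter G ψ → ConstOn6 Z ψ → ∀ z ∈ Z, z ≠ 1 →
      ∃ t : ℤ, ψ 1 - ψ (z : G) = (Nat.card K : ℂ) * t)
    (a : Cfsg.IrrCharacter K → ℤ)
    (ha : ∀ θ : Cfsg.IrrCharacter K, ¬ (∀ x : K, (x : L) ∈ Z → (θ : K → ℂ) x = (θ : K → ℂ) 1) →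
      Cfsg.classInner (τ (Cfsg.indFun K (θ : K → ℂ) - (deg (θ : K → ℂ) : ℤ) • η₀)) (T η₀) +
        (deg (θ : K → ℂ) : ℂ) = a θ) :
    (((Nat.card Z - 1) * Z.relIndex K : ℕ) : ℤ) ∣
      ∑ θ ∈ Finset.univ.filter (fun θ : Cfsg.IrrCharacter K =>
        ¬ ∀ x : K, (x : L) ∈ Z → (θ : K → ℂ) x = (θ : K → ℂ) 1), (deg (θ : K → ℂ) : ℤ) * a θ := by
  classical
  letI : Fintype K := Fintype.ofFinite _
  letI : Fintype ↥(Z.subgroupOf K) := Fintype.ofFinite _
  set Θ := Finset.univ.filter (fun θ : Cfsg.IrrCharacter K =>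
    ¬ ∀ x : K, (x : L) ∈ Z → (θ : K → ℂ) x = (θ : K → ℂ) 1) with hΘ
  set F := T η₀ with hFdef
  have hFgen := hT.2.2.2 _ (subset_zspan hη)
  have hFn : Cfsg.classInner F F = 1 := by
    rw [hFdef, hT.2.2.1 _ (subset_zspan hη) _ (subset_zspan hη), classInner_self_irr (hirrY _ hη)]
  have hdiff : ∀ z ∈ Z, z ≠ 1 → ∃ t : ℤ, F 1 - F (z : G) = (Nat.card K : ℂ) * t := by
    intro z hz hz1
    rcases isIrr_or_neg_of_norm_one hFgen hFn with h | h
    · exact hcong F h hconst z hz hz1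
    · obtain ⟨t, ht⟩ := hcong (-F) h (fun x hx y hy hx1 hy1 => by
        simp [hconst x hx y hy hx1 hy1]) z hz hz1
      refine ⟨-t, ?_⟩
      simp only [Pi.neg_apply] at ht
      push_cast
      linear_combination -ht
  obtain ⟨z₀, hz₀, hz₀1⟩ := (Subgroup.bot_or_exists_ne_one Z).resolve_left c.Z_ne
  obtain ⟨t, ht⟩ := hdiff z₀ hz₀ hz₀1
  set g : K → ℂ := fun k => F ((k : L) : G) with hg
  have hgc : Cfsg.IsClassFunction K g := fun x y => by
    simpa [hg] using isClassFunction_generalized hFgen ((x : L) : G) ((y : L) : G)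
  obtain ⟨m, hm⟩ : ∃ m : ℤ, Cfsg.classInner η₀ (fun l : L => F (l : G)) = m := by
    obtain ⟨m, hm⟩ := inner_int hFgen (IsCharacter.isGeneralized
      (IsCharacter.indFun (G := G) (isCharacter_of_irr (hirrY _ hη))))
    refine ⟨m, ?_⟩
    rw [← frobenius_reciprocity L η₀ (isClassFunction_generalized hFgen), ← classInner_conj_symm,
      hm]
    simp
  have hn : ∀ θ ∈ Θ, Cfsg.classInner g (θ : K → ℂ) =
      ((a θ - (deg (θ : K → ℂ) : ℤ) * (1 - m) : ℤ) : ℂ) := by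
    intro θ hθ
    have h := ha θ (Finset.mem_filter.mp hθ).2
    rw [c.coeff_eq hT hη θ.2 (Finset.mem_filter.mp hθ).2, ← hFdef, hm, ← hg] at h
    have h' : Cfsg.classInner (θ : K → ℂ) g =
        ((a θ - (deg (θ : K → ℂ) : ℤ) * (1 - m) : ℤ) : ℂ) := by
      push_cast
      linear_combination h
    rw [← classInner_conj_symm, h', map_intCast]
  -- the averages over `Z`
  have hL : ∑ z : ↥(Z.subgroupOf K), (g 1 - g z) =
      ((Nat.card Z - 1 : ℕ) : ℂ) * ((Nat.card K : ℂ) * t) := by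
    rw [← Finset.add_sum_erase Finset.univ _ (Finset.mem_univ (1 : ↥(Z.subgroupOf K))),
      OneMemClass.coe_one, sub_self, zero_add,
      Finset.sum_congr rfl (g := fun _ => (Nat.card K : ℂ) * t) fun z hz => ?_,
      Finset.sum_const, Finset.card_erase_of_mem (Finset.mem_univ _), Finset.card_univ,
      ← Nat.card_eq_fintype_card, nsmul_eq_mul,
      Nat.card_congr (Subgroup.subgroupOfEquivOfLe c.Z_le).toEquiv]
    rw [← ht]
    simp only [hg, OneMemClass.coe_one]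
    congr 1
    exact hconst _ (Subgroup.mem_subgroupOf.mp z.2) _ hz₀
      (fun h => (Finset.mem_erase.mp hz).1 (Subtype.ext (Subtype.ext h))) hz₀1
  have hR : ∑ z : ↥(Z.subgroupOf K), (g 1 - g z) =
      (Nat.card Z : ℂ) * ∑ θ ∈ Θ, Cfsg.classInner g (θ : K → ℂ) * (θ : K → ℂ) 1 :=
    c.sum_diff hgc
  have hK : Nat.card Z * Z.relIndex K = Nat.card K := by
    rw [← Subgroup.relIndex_bot_left, Subgroup.relIndex_mul_relIndex ⊥ Z K bot_le c.Z_le,
      Subgroup.relIndex_bot_left]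
  have hmain : ∑ θ ∈ Θ, (deg (θ : K → ℂ) : ℤ) * (a θ - (deg (θ : K → ℂ) : ℤ) * (1 - m)) =
      (((Nat.card Z - 1) * Z.relIndex K : ℕ) : ℤ) * t := by
    apply Int.cast_injective (α := ℂ)
    have hZ0 : (Nat.card Z : ℂ) ≠ 0 := by exact_mod_cast Nat.card_pos.ne'
    refine mul_left_cancel₀ hZ0 ?_
    have e := hR.symm.trans hL
    have e' : ∑ θ ∈ Θ, Cfsg.classInner g (θ : K → ℂ) * (θ : K → ℂ) 1 =
        ((∑ θ ∈ Θ, (deg (θ : K → ℂ) : ℤ) * (a θ - (deg (θ : K → ℂ) : ℤ) * (1 - m)) : ℤ) : ℂ) := by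
      rw [Int.cast_sum]
      refine Finset.sum_congr rfl fun (θ : Cfsg.IrrCharacter K) hθ => ?_
      rw [hn θ hθ, irr_apply_one_eq_deg θ, Int.cast_mul, Int.cast_natCast, mul_comm]
    rw [e', ← hK] at e
    push_cast at e ⊢
    linear_combination e
  refine ⟨t + (1 - m), ?_⟩
  have hW : (∑ θ ∈ Θ, (deg (θ : K → ℂ) : ℤ) ^ 2) =
      (((Nat.card Z - 1) * Z.relIndex K : ℕ) : ℤ) := by
    rw [← c.sum_theta, hΘ, Nat.cast_sum]
    refine Finset.sum_congr ?_ fun θ _ => (Nat.cast_pow _ _).symm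
    ext θ
    simp
  rw [mul_add, ← hmain, ← hW, Finset.sum_mul, ← Finset.sum_add_distrib]
  exact Finset.sum_congr (by ext θ; simp [hΘ]) fun θ _ => by ring

include hT in
open Classical in
/-- The map on `Y` may be chosen so that every coefficient vanishes. -/
theorem exists_normal_map
    (hTag : ∀ f ∈ Cfsg.zspanOn (Cfsg.inducedIrrAbove K ⁅K, K⁆) {1}ᶜ, T f = τ f)
    (hirrY : ∀ φ ∈ Cfsg.inducedIrrAbove K ⁅K, K⁆, Cfsg.IsIrrCharacter L φ)
    {η₀ : L → ℂ} (hη : η₀ ∈ Cfsg.inducedIrrAbove K ⁅K, K⁆)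
    (hcong : ∀ ψ : G → ℂ, Cfsg.IsIrrCharacter G ψ → ConstOn6 Z ψ → ∀ z ∈ Z, z ≠ 1 →
      ∃ t : ℤ, ψ 1 - ψ (z : G) = (Nat.card K : ℂ) * t)
    (hconst : ConstOn6 Z (T η₀)) :
    ∃ T' : (↥L → ℂ) → (G → ℂ),
      Cfsg.IsLinearIsometryOn (Cfsg.zspan (Cfsg.inducedIrrAbove K ⁅K, K⁆)) T' ∧
      (∀ f ∈ Cfsg.zspanOn (Cfsg.inducedIrrAbove K ⁅K, K⁆) {1}ᶜ, T' f = τ f) ∧
      ∀ θ : K → ℂ, Cfsg.IsIrrCharacter K θ → ¬ (∀ x : K, (x : L) ∈ Z → θ x = θ 1) →
        Cfsg.classInner (τ (Cfsg.indFun K θ - (deg θ : ℤ) • η₀)) (T' η₀) = -(deg θ : ℂ) := by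
  classical
  set Y := Cfsg.inducedIrrAbove K ⁅K, K⁆ with hY
  have hex : ∀ θ : Cfsg.IrrCharacter K, ∃ a : ℤ,
      ¬ (∀ x : K, (x : L) ∈ Z → (θ : K → ℂ) x = (θ : K → ℂ) 1) →
      Cfsg.classInner (τ (Cfsg.indFun K (θ : K → ℂ) - (deg (θ : K → ℂ) : ℤ) • η₀)) (T η₀) +
        (deg (θ : K → ℂ) : ℂ) = a := by
    intro θ
    by_cases h : ¬ (∀ x : K, (x : L) ∈ Z → (θ : K → ℂ) x = (θ : K → ℂ) 1)
    · obtain ⟨m, hm⟩ := inner_int (c.sys.isometry.2.2.2 _ (c.diff_mem hη θ.2 h))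
        (hT.2.2.2 _ (subset_zspan hη))
      exact ⟨m + deg (θ : K → ℂ), fun _ => by rw [hm]; push_cast; rfl⟩
    · exact ⟨0, fun h' => absurd h' h⟩
  choose a ha using hex
  obtain ⟨t, ht⟩ := c.coeff_dvd hT hirrY hη hconst hcong a fun θ h => ha θ h
  set Θ := Finset.univ.filter (fun θ : Cfsg.IrrCharacter K =>
    ¬ ∀ x : K, (x : L) ∈ Z → (θ : K → ℂ) x = (θ : K → ℂ) 1) with hΘ
  have hb := fun θ (hθ : θ ∈ Θ) => c.coeff_bounds hT hTag hirrY hη θ.2
    (Finset.mem_filter.mp hθ).2 (ha θ (Finset.mem_filter.mp hθ).2)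
  set W := (Nat.card Z - 1) * Z.relIndex K with hWdef
  have hW : ∑ θ ∈ Θ, (deg (θ : K → ℂ) : ℤ) ^ 2 = (W : ℤ) := by
    rw [hWdef, ← c.sum_theta, Nat.cast_sum]
    exact Finset.sum_congr (by ext θ; simp [hΘ]) fun θ _ => (Nat.cast_pow _ _).symm
  have hW0 : 0 < W := Nat.mul_pos (Nat.sub_pos_of_lt (by
      haveI : Nontrivial Z := (Subgroup.nontrivial_iff_ne_bot Z).mpr c.Z_ne
      exact Finite.one_lt_card)) (Nat.pos_of_ne_zero Subgroup.index_ne_zero_of_finite)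
  have hterm : ∀ θ ∈ Θ, 0 ≤ (deg (θ : K → ℂ) : ℤ) * a θ ∧
      (deg (θ : K → ℂ) : ℤ) * a θ ≤ (deg (θ : K → ℂ) : ℤ) ^ 2 := fun θ hθ =>
    ⟨mul_nonneg (Int.natCast_nonneg _) (hb θ hθ).1,
      by rw [sq]; exact mul_le_mul_of_nonneg_left (hb θ hθ).2.1 (Int.natCast_nonneg _)⟩
  have ht' : ∑ θ ∈ Θ, (deg (θ : K → ℂ) : ℤ) * a θ = (W : ℤ) * t := by
    rw [← ht]
  have h0 := Finset.sum_nonneg fun θ hθ => (hterm θ hθ).1
  have h1 := Finset.sum_le_sum fun θ hθ => (hterm θ hθ).2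
  rw [ht'] at h0 h1
  rw [hW] at h1
  have hWi : (0 : ℤ) < W := by exact_mod_cast hW0
  have ht01 : t = 0 ∨ t = 1 := by
    have := nonneg_of_mul_nonneg_right h0 hWi
    have := le_of_mul_le_mul_left (h1.trans_eq (mul_one _).symm) hWi
    omega
  have hdeg0 : ∀ θ : Cfsg.IrrCharacter K, (deg (θ : K → ℂ) : ℤ) ≠ 0 := fun θ => by
    exact_mod_cast (deg_irr_pos θ).ne'
  rcases ht01 with rfl | rfl
  · refine ⟨T, hT, hTag, fun θ hθ hZ => ?_⟩
    rw [mul_zero] at ht'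
    have hmem : (⟨θ, hθ⟩ : Cfsg.IrrCharacter K) ∈ Θ := Finset.mem_filter.mpr ⟨Finset.mem_univ _, hZ⟩
    have h := (mul_eq_zero.mp
      ((Finset.sum_eq_zero_iff_of_nonneg fun θ hθ => (hterm θ hθ).1).mp ht' _ hmem)).resolve_left
      (hdeg0 _)
    have h' := ha ⟨θ, hθ⟩ hZ
    rw [h] at h'
    push_cast at h'
    exact eq_neg_of_add_eq_zero_left h'
  · rw [mul_one] at ht'
    have hall : ∀ θ ∈ Θ, a θ = deg (θ : K → ℂ) := fun θ hθ => by
      have h := (Finset.sum_eq_sum_iff_of_le fun θ hθ => (hterm θ hθ).2).mp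
        (ht'.trans hW.symm) θ hθ
      rw [sq] at h
      exact mul_left_cancel₀ (hdeg0 θ) h
    have hne : Θ.Nonempty := Finset.nonempty_of_sum_ne_zero (s := Θ)
      (f := fun θ => (deg (θ : K → ℂ) : ℤ) ^ 2) (by rw [hW]; omega)
    obtain ⟨θ₁, hθ₁⟩ := hne
    have hcard := (hb θ₁ hθ₁).2.2 (hall θ₁ hθ₁)
    set η₁ := Cfsg.conjFun η₀ with hη₁
    have hη₁Y : η₁ ∈ Y := conj_mem_above _ hη
    have hne₁ : η₀ ≠ η₁ := (c.sys.conj_ne η₀ (above_subset _ hη)).symm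
    have hYeq : Y = {η₀, η₁} := by
      refine Set.Subset.antisymm (fun x hx => ?_)
        (Set.insert_subset hη (Set.singleton_subset_iff.mpr hη₁Y))
      by_contra hx'
      simp only [Set.mem_insert_iff, Set.mem_singleton_iff, not_or] at hx'
      have : 2 < (finite_above (K := K) ⁅K, K⁆).toFinset.card :=
        Finset.two_lt_card.mpr ⟨η₀, (Set.Finite.mem_toFinset _).mpr hη, η₁,
          (Set.Finite.mem_toFinset _).mpr hη₁Y, x, (Set.Finite.mem_toFinset _).mpr hx, hne₁,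
          Ne.symm hx'.1, Ne.symm hx'.2⟩
      omega
    obtain ⟨T', hT', hag, hT0, -⟩ := Cfsg.Lib.FrobCoherence.exists_swap (hirrY _ hη) (hirrY _ hη₁Y)
      hne₁ (by rw [c.deg_Y hη, c.deg_Y hη₁Y]) (T := T) (by rw [← hYeq]; exact hT)
    rw [← hYeq] at hT' hag
    refine ⟨T', hT', fun f hf => by rw [hag f hf, hTag f hf], fun θ hθ hZ => ?_⟩
    have hd : η₁ - η₀ ∈ Cfsg.zspanOn Y {1}ᶜ := mem_one.mpr
      ⟨(Submodule.span ℤ Y).sub_mem (subset_zspan hη₁Y) (subset_zspan hη),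
        by simp [c.deg_Y hη₁Y, c.deg_Y hη]⟩
    have hu := c.diff_mem hη hθ hZ
    have h := c.sys.isometry.2.2.1 _ hu _ (zspanOn_mono (above_subset _) hd)
    rw [← hTag _ hd, map_sub' (Submodule.span ℤ Y) hT (subset_zspan hη₁Y) (subset_zspan hη),
      classInner_sub_right, classInner_sub_right, classInner_sub_left, classInner_sub_left,
      classInner_zsmul_left, classInner_zsmul_left,
      c.sys.orthogonal _ (c.mem_of_nontriv hθ hZ) _ (above_subset _ hη₁Y) (c.ne_Y hθ hZ hη₁Y),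
      c.sys.orthogonal _ (c.mem_of_nontriv hθ hZ) _ (above_subset _ hη) (c.ne_Y hθ hZ hη),
      classInner_irrChar (hirrY _ hη) (hirrY _ hη₁Y), if_neg hne₁,
      classInner_self_irr (hirrY _ hη)] at h
    have h2 := ha ⟨θ, hθ⟩ hZ
    rw [hall ⟨θ, hθ⟩ (Finset.mem_filter.mpr ⟨Finset.mem_univ _, hZ⟩)] at h2
    rw [hT0, classInner_neg_right]
    simp only [mul_one, mul_zero, sub_zero, zero_sub, Int.cast_natCast] at h h2
    linear_combination -h - h2

/-- (6.8), the conclusion: coherence of all of `S`. -/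
theorem coherent (hirrY : ∀ φ ∈ Cfsg.inducedIrrAbove K ⁅K, K⁆, Cfsg.IsIrrCharacter L φ)
    (hcong : ∀ ψ : G → ℂ, Cfsg.IsIrrCharacter G ψ → ConstOn6 Z ψ → ∀ z ∈ Z, z ≠ 1 →
      ∃ t : ℤ, ψ 1 - ψ (z : G) = (Nat.card K : ℂ) * t)
    (hconst : ∀ T : (↥L → ℂ) → (G → ℂ),
      Cfsg.IsLinearIsometryOn (Cfsg.zspan (Cfsg.inducedIrrAbove K ⁅K, K⁆)) T →
      (∀ f ∈ Cfsg.zspanOn (Cfsg.inducedIrrAbove K ⁅K, K⁆) {1}ᶜ, T f = τ f) →
      ∀ η ∈ Cfsg.inducedIrrAbove K ⁅K, K⁆, ConstOn6 Z (T η))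
    (hsmall : ∀ θ : K → ℂ, Cfsg.IsIrrCharacter K θ → θ ≠ (fun _ => 1) →
      (∀ a : K, (a : L) ∈ Z → θ a = θ 1) →
      2 * K.index * deg θ < (Nat.card Z - 1) * Z.relIndex K) :
    Cfsg.IsCoherent (Cfsg.inducedIrrAbove K ⊥) {1}ᶜ τ := by
  classical
  set A := ⁅K, K⁆ with hA
  obtain ⟨η₀, hη, hη₀d⟩ := exists_minimal c.solvable A c.derived_lt
  obtain ⟨-, T₁, hT₁, hag₁⟩ := coherent_above_derived c.solvable c.sys A le_rfl c.derived_lt
  obtain ⟨T, hT, hag, hzero⟩ :=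
    c.exists_normal_map hT₁ hag₁ hirrY hη hcong (hconst T₁ hT₁ hag₁ η₀ hη)
  set Sall := (finite_above (K := K) (⊥ : Subgroup L)).toFinset with hSall
  set Xf := Sall \ (finite_above (K := K) Z).toFinset with hXf
  set Yf := (finite_above (K := K) A).toFinset with hYf
  have hset : (↑Sall : Set (↥L → ℂ)) = Cfsg.inducedIrrAbove K ⊥ := Set.Finite.coe_toFinset _
  have hsub : Xf ∪ Yf ⊆ Sall := Finset.union_subset Finset.sdiff_subset
    (Set.Finite.toFinset_subset_toFinset.mpr (above_subset A))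
  have hTS : (↑(Xf ∪ Yf) : Set (↥L → ℂ)) ⊆ Cfsg.inducedIrrAbove K ⊥ :=
    hset ▸ Finset.coe_subset.mpr hsub
  have hηY : η₀ ∈ Yf := (Set.Finite.mem_toFinset _).mpr hη
  have hηc : Cfsg.conjFun η₀ ∈ Yf := (Set.Finite.mem_toFinset _).mpr (conj_mem_above _ hη)
  have hq0 : (K.index : ℤ) ≠ 0 := by exact_mod_cast K.index_ne_zero_of_finite
  have hqC : ((K.index : ℤ) : ℂ) ≠ 0 := c.index_ne
  have hXmem : ∀ φ ∈ Xf, ∃ θ : K → ℂ, Cfsg.IsIrrCharacter K θ ∧
      ¬ (∀ a : K, (a : L) ∈ Z → θ a = θ 1) ∧ φ = Cfsg.indFun K θ := by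
    intro φ hφ
    obtain ⟨h1, h2⟩ := Finset.mem_sdiff.mp hφ
    obtain ⟨θ, hθ, hne, -, rfl⟩ := (Set.Finite.mem_toFinset _).mp h1
    exact ⟨θ, hθ, fun h => h2 ((Set.Finite.mem_toFinset _).mpr ⟨θ, hθ, hne, h, rfl⟩), rfl⟩
  have hcoh : Cfsg.IsCoherent (↑(Xf ∪ Yf) : Set (↥L → ℂ)) {1}ᶜ τ := by
    refine s06_join c.sys hTS (η₀ := η₀) (Finset.mem_union_right _ hηY)
      (Finset.mem_union_right _ hηc) hq0 (by rw [c.deg_Y hη, Int.cast_natCast]) ?_
      (hT.2.2.2 _ (subset_zspan hη)) (hT.2.2.1 _ (subset_zspan hη) _ (subset_zspan hη)) ?_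
    · intro φ hφ
      obtain ⟨θ, hθ, -, -, rfl⟩ := hTS hφ
      exact ⟨deg θ, by rw [indFun_one, IsCharacter.apply_one_eq_deg (isCharacter_of_irr hθ),
        Int.cast_natCast, Int.cast_natCast, mul_comm]⟩
    intro φ hφ k hk
    rcases Finset.mem_union.mp (Finset.mem_coe.mp hφ) with h | h
    · obtain ⟨θ, hθ, hZ, rfl⟩ := hXmem φ h
      have hkθ : k = (deg θ : ℤ) := by
        rw [indFun_one, IsCharacter.apply_one_eq_deg (isCharacter_of_irr hθ),
          mul_comm (K.index : ℂ)] at hk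
        apply Int.cast_injective (α := ℂ)
        rw [Int.cast_natCast]
        exact (mul_right_cancel₀ hqC (by rw [Int.cast_natCast] at hk ⊢; exact hk)).symm
      subst hkθ
      rw [hzero θ hθ hZ, classInner_sub_left, classInner_zsmul_left,
        c.sys.orthogonal _ (c.mem_of_nontriv hθ hZ) _ (above_subset _ hη) (c.ne_Y hθ hZ hη),
        classInner_self_irr (hirrY _ hη), Int.cast_natCast]
      ring
    · have hφY := (Set.Finite.mem_toFinset _).mp h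
      have hk1 : k = 1 := by
        rw [c.deg_Y hφY] at hk
        apply Int.cast_injective (α := ℂ)
        refine mul_right_cancel₀ hqC ?_
        rw [← hk, Int.cast_one, one_mul, Int.cast_natCast]
      subst hk1
      have hd : φ - η₀ ∈ Cfsg.zspanOn (Cfsg.inducedIrrAbove K A) {1}ᶜ := mem_one.mpr
        ⟨(Submodule.span ℤ _).sub_mem (subset_zspan hφY) (subset_zspan hη),
          by simp [c.deg_Y hφY, c.deg_Y hη]⟩
      rw [one_smul, ← hag _ hd, map_sub' (Submodule.span ℤ _) hT (subset_zspan hφY)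
        (subset_zspan hη), classInner_sub_left, classInner_sub_left,
        hT.2.2.1 _ (subset_zspan hφY) _ (subset_zspan hη),
        hT.2.2.1 _ (subset_zspan hη) _ (subset_zspan hη)]
  rw [← hset]
  refine coherent_extend c.sys hsub (by rw [hset]) ?_ ?_ hcoh (χ₁ := η₀)
    (Finset.mem_union_right _ hηY) ?_
  · intro φ hφ
    rcases Finset.mem_union.mp hφ with h | h
    · obtain ⟨h1, h2⟩ := Finset.mem_sdiff.mp h
      refine Finset.mem_union_left _ (Finset.mem_sdiff.mpr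
        ⟨(Set.Finite.mem_toFinset _).mpr (conj_mem_above _ ((Set.Finite.mem_toFinset _).mp h1)),
          fun h' => h2 ((Set.Finite.mem_toFinset _).mpr ?_)⟩)
      have := conj_mem_above Z ((Set.Finite.mem_toFinset _).mp h')
      rwa [conjFun_conjFun] at this
    · exact Finset.mem_union_right _
        ((Set.Finite.mem_toFinset _).mpr (conj_mem_above _ ((Set.Finite.mem_toFinset _).mp h)))
  · exact fun φ hφ =>
      (Set.Finite.mem_toFinset _).mpr (conj_mem_above _ ((Set.Finite.mem_toFinset _).mp hφ))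
  intro χ hχ hχn
  have hχZ : χ ∈ Cfsg.inducedIrrAbove K Z := by
    by_contra h
    exact hχn (Finset.mem_union_left _ (Finset.mem_sdiff.mpr
      ⟨hχ, fun h' => h ((Set.Finite.mem_toFinset _).mp h')⟩))
  obtain ⟨θ, hθ, hne, hker, rfl⟩ := hχZ
  rw [hη₀d, deg_indFun (isCharacter_of_irr hθ)]
  refine ⟨dvd_mul_right _ _, ?_⟩
  set Θ := Finset.univ.filter (fun η : Cfsg.IrrCharacter K =>
    ¬ ∀ a : K, (a : L) ∈ Z → (η : K → ℂ) a = (η : K → ℂ) 1) with hΘ
  have hclΘ : ∀ x ∈ Θ, ∀ η : Cfsg.IrrCharacter K,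
      Cfsg.indFun K (η : K → ℂ) = Cfsg.indFun K (x : K → ℂ) → η ∈ Θ := fun x hx η h =>
    Finset.mem_filter.mpr ⟨Finset.mem_univ _, fun hA' => (Finset.mem_filter.mp hx).2
      (fiber_above Z (θ := η) (η := x) h.symm hA')⟩
  have hXimg : Θ.image (fun x : Cfsg.IrrCharacter K => Cfsg.indFun K (x : K → ℂ)) ⊆ Xf ∪ Yf := by
    intro φ hφ
    obtain ⟨x, hx, rfl⟩ := Finset.mem_image.mp hφ
    have hx2 := (Finset.mem_filter.mp hx).2
    refine Finset.mem_union_left _ (Finset.mem_sdiff.mpr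
      ⟨(Set.Finite.mem_toFinset _).mpr (c.mem_of_nontriv x.2 hx2), fun h => ?_⟩)
    obtain ⟨η, hη', -, hA', he⟩ := (Set.Finite.mem_toFinset _).mp h
    exact hx2 (fiber_above Z (θ := ⟨η, hη'⟩) (η := x) he hA')
  refine lt_of_lt_of_le ?_ (Finset.sum_le_sum_of_subset_of_nonneg hXimg fun φ _ _ =>
    div_nonneg (sq_nonneg _) (inner_self_re_nonneg φ))
  rw [sum_ratio_image Θ hclΘ]
  have hW := c.sum_theta
  have h := hsmall θ hθ hne hker
  have hW' : ∑ x ∈ Θ, (deg (x : K → ℂ) : ℝ) ^ 2 = (((Nat.card Z - 1) * Z.relIndex K : ℕ) : ℝ) := by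
    rw [← hW, Nat.cast_sum]
    exact Finset.sum_congr (by ext x; simp [hΘ]) fun x _ => (Nat.cast_pow _ _).symm
  rw [hW']
  have h' : ((2 * K.index * deg θ : ℕ) : ℝ) < (((Nat.card Z - 1) * Z.relIndex K : ℕ) : ℝ) := by
    exact_mod_cast h
  have hi : (0 : ℝ) < K.index := by
    exact_mod_cast Nat.pos_of_ne_zero K.index_ne_zero_of_finite
  have := mul_lt_mul_of_pos_left h' hi
  push_cast at this ⊢
  linarith

end Central6

end Cfsg.Agent.PF
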