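import Cfsg.Agent.OddChar.PF.S10Pivot

/-!
# Section 10: the members over the derived subgroup, counting, and the family of a group of order `p³`
-/

set_option linter.unusedSectionVars false
set_option linter.unusedVariables false
set_option linter.style.haveILetI false
set_option autoImplicit false

universe u

namespace Cfsg.Agent.PF

open Cfsg.Lib.Chars Cfsg.Lib.CyclicTI Cfsg.Lib.Coherence Cfsg.Lib.InducedFamily
open scoped ComplexConjugate

namespace Setup10

variable {G : Type u} [Group G] [Fintype G] {M K W₁ W₂ : Subgroup G} [Fintype M]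

local notation "W" => (W₁ ⊔ W₂ : Subgroup G)
set_option quotPrecheck false

local notation "K₀" => (Subgroup.subgroupOf K M)
local notation "K₁" => (⁅Subgroup.subgroupOf K M, Subgroup.subgroupOf K M⁆)

variable (c : Setup10 M K W₁ W₂) {d n : ℕ} {e : ℤ}
include c

theorem odd_M : Odd (Nat.card M) := c.pd.odd

theorem derived_normal : (K₁).Normal := by
  haveI := c.normal
  infer_instance

/-- The members over the derived subgroup. -/
theorem exists_base : ∃ (Y : Finset (↥M → ℂ)) (τ₁ : (↥M → ℂ) → (G → ℂ)),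
    (∀ χ, χ ∈ Y ↔ χ ∈ Cfsg.inducedIrrAbove K₀ K₁) ∧ c.Base Y τ₁ ∧
      Cfsg.IsLinearIsometryOn (Cfsg.zspan (Cfsg.inducedIrrAbove K₀ K₁)) τ₁ ∧
      (∀ f ∈ Cfsg.zspanOn (Cfsg.inducedIrrAbove K₀ K₁) {1}ᶜ, τ₁ f = c.τ f) ∧
      Y.card * Nat.card W₁ + 1 = (K₁).relIndex K₀ ∧ Even Y.card ∧ 2 ≤ Y.card := by
  classical
  haveI := c.normal
  haveI := c.derived_normal
  letI : Fintype ↥(K₀) := Fintype.ofFinite _
  obtain ⟨-, τ₁, h₁, hag⟩ :=
    Cfsg.Lib.InducedFamily.coherent_above_derived c.solvable c.system K₁ le_rfl c.derived_lt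
  set Y := (finite_above (K := K₀) K₁).toFinset with hY
  have hm : ∀ χ, χ ∈ Y ↔ χ ∈ Cfsg.inducedIrrAbove K₀ K₁ := fun χ => Set.Finite.mem_toFinset _
  have hbase : c.Base Y τ₁ := c.base_of_map (above_subset _) h₁ hag
    (fun χ hχ => (hm χ).mp hχ) (fun χ hχ => (c.above_derived le_rfl ((hm χ).mp hχ)).1)
    (fun χ hχ => (c.above_derived le_rfl ((hm χ).mp hχ)).2)
    (fun χ hχ => (hm _).mpr (conj_mem_above _ ((hm χ).mp hχ)))
  have hsum := sum_ratio (K := K₀) K₁
  rw [← hY, Finset.sum_congr rfl (g := fun _ => (Nat.card W₁ : ℝ) ^ 2) fun χ hχ => by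
    have h1 := (c.above_derived le_rfl ((hm χ).mp hχ))
    have hd := IsCharacter.apply_one_eq_deg (isCharacter_of_irr h1.1)
    rw [h1.2, Nat.cast_inj] at hd
    rw [classInner_self_irr h1.1, Complex.one_re, div_one, hd],
    Finset.sum_const, nsmul_eq_mul, c.index_K] at hsum
  have hq : (Nat.card W₁ : ℝ) ≠ 0 := Nat.cast_ne_zero.mpr Nat.card_pos.ne'
  have hcard : Y.card * Nat.card W₁ + 1 = (K₁).relIndex K₀ := by
    have : ((Y.card * Nat.card W₁ + 1 : ℕ) : ℝ) = ((K₁).relIndex K₀ : ℝ) := by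
      push_cast
      have h' : (Y.card : ℝ) * (Nat.card W₁ : ℝ) = ((K₁).relIndex K₀ : ℝ) - 1 :=
        mul_left_cancel₀ hq (by linear_combination hsum)
      linarith
    exact_mod_cast this
  obtain ⟨χ, hχ⟩ : Y.Nonempty := by
    obtain ⟨ζ, hζ, -⟩ := c.exists_linear
    exact ⟨ζ, (hm ζ).mpr hζ⟩
  refine ⟨Y, τ₁, hm, hbase, h₁, hag, hcard, ?_, hbase.two_le c hχ⟩
  have hodd : Odd ((K₁).relIndex K₀) := c.odd_M.of_dvd_nat
    ((Subgroup.relIndex_dvd_card _ _).trans (Subgroup.card_subgroup_dvd_card _))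
  rw [← hcard] at hodd
  rcases Nat.even_or_odd Y.card with h | h
  · exact h
  · exfalso
    have h2 := (h.mul c.card_facts.1).add_one
    exact (Nat.not_odd_iff_even.mpr h2) hodd

theorem red_norm_deg (hd : c.Deg d n e) {ψ : ↥W →* ℂˣ} (hψ : ψ ∈ c.cols) :
    (deg (redChar c.μ ψ) : ℝ) ^ 2 / (Cfsg.classInner (redChar c.μ ψ) (redChar c.μ ψ)).re =
      (Nat.card W₁ : ℝ) * (d : ℝ) ^ 2 := by
  classical
  have h := IsCharacter.apply_one_eq_deg (c.system.isCharacter _ (c.redChar_mem hψ))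
  rw [c.redChar_one, (hd.apply ψ hψ).1, ← Nat.cast_mul, Nat.cast_inj] at h
  rw [← h, c.redChar_inner (c.mem_cols.mp hψ).1 (c.mem_cols.mp hψ).1, if_pos rfl,
    Complex.natCast_re, Nat.cast_mul]
  have hq : (Nat.card W₁ : ℝ) ≠ 0 := Nat.cast_ne_zero.mpr Nat.card_pos.ne'
  field_simp

theorem redChar_inj {ψ ψ' : ↥W →* ℂˣ} (hψ : ψ ∈ c.cols) (hψ' : ψ' ∈ c.cols)
    (h : redChar c.μ ψ = redChar c.μ ψ') : ψ = ψ' := by
  classical
  by_contra hne
  have h1 := c.redChar_inner (c.mem_cols.mp hψ).1 (c.mem_cols.mp hψ).1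
  have h2 := c.redChar_inner (c.mem_cols.mp hψ).1 (c.mem_cols.mp hψ').1
  rw [if_pos rfl] at h1
  rw [if_neg fun e' => hne e'.symm, ← h, h1] at h2
  exact Nat.card_pos.ne' (Nat.cast_eq_zero.mp h2)

/-- If the linear characters and the column characters of `K` fill `K` there is nothing else. -/
theorem members_exhaust (hd : c.Deg d n e)
    (hfill : (K₁).relIndex K₀ + (Nat.card W₂ - 1) * d ^ 2 = Nat.card K) {χ : ↥M → ℂ}
    (hχ : χ ∈ Cfsg.inducedIrrAbove K₀ ⊥) :
    χ ∈ Cfsg.inducedIrrAbove K₀ K₁ ∨ ∃ ψ ∈ c.cols, χ = redChar c.μ ψ := by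
  classical
  haveI := c.normal
  haveI := c.derived_normal
  letI : Fintype ↥(K₀) := Fintype.ofFinite _
  set Y := (finite_above (K := K₀) K₁).toFinset
  set X := c.cols.image (redChar c.μ)
  set A := (finite_above (K := K₀) (⊥ : Subgroup ↥M)).toFinset
  have hdisj : Disjoint Y X := by
    rw [Finset.disjoint_left]
    intro φ h1 h2
    obtain ⟨ψ, hψ, rfl⟩ := Finset.mem_image.mp h2
    exact c.redChar_not_irr (c.mem_cols.mp hψ).1
      (c.above_derived le_rfl ((Set.Finite.mem_toFinset _).mp h1)).1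
  have hsub : Y ∪ X ⊆ A := by
    intro φ hφ
    refine (Set.Finite.mem_toFinset _).mpr ?_
    rcases Finset.mem_union.mp hφ with h | h
    · exact above_subset _ ((Set.Finite.mem_toFinset _).mp h)
    · obtain ⟨ψ, hψ, rfl⟩ := Finset.mem_image.mp h
      exact c.redChar_mem hψ
  have hYsum := sum_ratio (K := K₀) K₁
  have hXsum : ∑ φ ∈ X, (deg φ : ℝ) ^ 2 / (Cfsg.classInner φ φ).re =
      (Nat.card W₁ : ℝ) * (((Nat.card W₂ - 1) * d ^ 2 : ℕ) : ℝ) := by
    rw [Finset.sum_image fun a ha b hb => c.redChar_inj ha hb,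
      Finset.sum_congr rfl fun ψ hψ => c.red_norm_deg hd hψ, Finset.sum_const, nsmul_eq_mul,
      show Nat.card W₂ - 1 = c.cols.card by have := c.card_cols; omega]
    push_cast
    ring
  have hAsum := sum_ratio (K := K₀) (⊥ : Subgroup ↥M)
  rw [Subgroup.relIndex_bot_left, c.card_K, c.index_K] at hAsum
  rw [c.index_K] at hYsum
  have hzero : ∑ φ ∈ A \ (Y ∪ X), (deg φ : ℝ) ^ 2 / (Cfsg.classInner φ φ).re = 0 := by
    have h := Finset.sum_sdiff (f := fun φ => (deg φ : ℝ) ^ 2 / (Cfsg.classInner φ φ).re) hsub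
    rw [Finset.sum_union hdisj, hYsum, hXsum, hAsum, ← hfill] at h
    push_cast at h ⊢
    linarith
  have hpos : ∀ φ ∈ A, 0 < (deg φ : ℝ) ^ 2 / (Cfsg.classInner φ φ).re := by
    intro φ hφ
    have hφS := (Set.Finite.mem_toFinset _).mp hφ
    obtain ⟨m, hm0, hm⟩ := sys_norm c.system hφS
    obtain ⟨k, hk0, hk⟩ := c.member_deg hφS
    have hdeg : deg φ = Nat.card W₁ * k := by
      have := IsCharacter.apply_one_eq_deg (c.system.isCharacter φ hφS)
      rw [hk, ← Nat.cast_mul, Nat.cast_inj] at this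
      exact this.symm
    have hpos' : 0 < deg φ := hdeg ▸ Nat.mul_pos Nat.card_pos hk0
    rw [hm, Complex.natCast_re]
    exact div_pos (pow_pos (by exact_mod_cast hpos') 2) (by exact_mod_cast hm0)
  have hmem : χ ∈ Y ∪ X := by
    by_contra hn
    have hA : χ ∈ A := (Set.Finite.mem_toFinset _).mpr hχ
    exact (Finset.single_le_sum (fun φ hφ => (hpos φ (Finset.mem_sdiff.mp hφ).1).le)
      (Finset.mem_sdiff.mpr ⟨hA, hn⟩)).not_gt (hzero ▸ hpos χ hA)
  rcases Finset.mem_union.mp hmem with h | h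
  · exact Or.inl ((Set.Finite.mem_toFinset _).mp h)
  · obtain ⟨ψ, hψ, rfl⟩ := Finset.mem_image.mp h
    exact Or.inr ⟨ψ, hψ, rfl⟩

/-- The family is coherent when `|K| = p ^ 3` and `q` divides `p + 1`. -/
theorem coherent_small (hK : Nat.card K = Nat.card W₂ ^ 3) (hq : Nat.card W₁ ∣ Nat.card W₂ + 1) :
    Cfsg.IsCoherent (Cfsg.inducedIrrAbove K₀ ⊥) {1}ᶜ c.τ := by
  classical
  haveI := c.normal
  haveI := c.derived_normal
  obtain ⟨d, n, e, hd⟩ := c.exists_Deg
  obtain ⟨Y, τ₁, hm, hY, h₁, hag, hcard, heven, hY2⟩ := c.exists_base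
  set p := Nat.card W₂
  set q := Nat.card W₁
  set L := (K₁).relIndex K₀
  have hp : p.Prime := c.p_prime
  have hp3 : 3 ≤ p := c.p_three
  have hq3 : 3 ≤ q := c.q_three
  have hdp : p ≤ d := by
    obtain ⟨ψ, hψ⟩ := c.cols_nonempty
    have hdeg := IsIrrCharacter.deg_dvd (c.chars.res_irr ψ)
    have h1 := IsCharacter.apply_one_eq_deg (isCharacter_of_irr (c.chars.res_irr ψ))
    simp only [OneMemClass.coe_one, (hd.apply ψ hψ).1, Nat.cast_inj] at h1
    rw [← h1, c.card_K, hK] at hdeg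
    obtain ⟨i, -, hi⟩ := (Nat.dvd_prime_pow hp).mp hdeg
    rcases Nat.eq_zero_or_pos i with rfl | hi0
    · exact absurd hd.one_lt (by rw [hi, pow_zero]; omega)
    · rw [hi]; exact Nat.le_self_pow hi0.ne' p
  have hL1 : L ∣ p ^ 3 := hK ▸ c.card_K ▸ Subgroup.relIndex_dvd_card _ _
  have hle : L + (p - 1) * d ^ 2 ≤ Nat.card K := by
    haveI : Fintype ↥(K₀) := Fintype.ofFinite _
    have hA := sum_ratio (K := K₀) (⊥ : Subgroup ↥M)
    have hX : (↑(Y ∪ c.cols.image (redChar c.μ)) : Set (↥M → ℂ)) ⊆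
        Cfsg.inducedIrrAbove K₀ ⊥ := by
      intro φ hφ
      rcases Finset.mem_union.mp (Finset.mem_coe.mp hφ) with h | h
      · exact above_subset _ ((hm φ).mp h)
      · obtain ⟨ψ, hψ, rfl⟩ := Finset.mem_image.mp h
        exact c.redChar_mem hψ
    have hdisj : Disjoint Y (c.cols.image (redChar c.μ)) := by
      rw [Finset.disjoint_left]
      intro φ h1 h2
      obtain ⟨ψ, hψ, rfl⟩ := Finset.mem_image.mp h2
      exact c.redChar_not_irr (c.mem_cols.mp hψ).1 (hY.irr _ h1)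
    have hle' := Finset.sum_le_sum_of_subset_of_nonneg
      (f := fun φ => (deg φ : ℝ) ^ 2 / (Cfsg.classInner φ φ).re)
      (s := Y ∪ c.cols.image (redChar c.μ))
      (t := (finite_above (K := K₀) (⊥ : Subgroup ↥M)).toFinset)
      (fun φ hφ => (Set.Finite.mem_toFinset _).mpr (hX (Finset.mem_coe.mpr hφ)))
      fun φ _ _ => div_nonneg (sq_nonneg _) (inner_self_re_nonneg φ)
    rw [Finset.sum_union hdisj, hA, Finset.sum_image fun a ha b hb => c.redChar_inj ha hb,
      Finset.sum_congr rfl fun ψ hψ => c.red_norm_deg hd hψ,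
      Finset.sum_congr rfl (g := fun _ => (q : ℝ) ^ 2) fun χ hχ => by
        have hd' := IsCharacter.apply_one_eq_deg (isCharacter_of_irr (hY.irr χ hχ))
        rw [hY.deg χ hχ, Nat.cast_inj] at hd'
        rw [classInner_self_irr (hY.irr χ hχ), Complex.one_re, div_one, ← hd'],
      Finset.sum_const, Finset.sum_const, nsmul_eq_mul, nsmul_eq_mul, c.index_K,
      Subgroup.relIndex_bot_left, c.card_K] at hle'
    have hqR : (0 : ℝ) < (q : ℝ) := by exact_mod_cast Nat.card_pos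
    have h3 : ((Y.card * q + c.cols.card * d ^ 2 : ℕ) : ℝ) ≤ (Nat.card K : ℝ) - 1 := by
      refine le_of_mul_le_mul_left ?_ hqR
      push_cast
      linarith
    have h4 : Y.card * q + c.cols.card * d ^ 2 + 1 ≤ Nat.card K := by
      have : ((Y.card * q + c.cols.card * d ^ 2 + 1 : ℕ) : ℝ) ≤ (Nat.card K : ℝ) := by
        push_cast at h3 ⊢; linarith
      exact_mod_cast this
    rw [← hcard, show p - 1 = c.cols.card by have := c.card_cols; omega]
    linarith
  -- `[K : K'] = p²` and `d = p`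
  obtain ⟨i, hi3, hi⟩ := (Nat.dvd_prime_pow hp).mp hL1
  rw [hK] at hle
  obtain ⟨P, hP⟩ : ∃ P, p = P + 1 := ⟨p - 1, by omega⟩
  have hdd : p ^ 2 ≤ d ^ 2 := Nat.pow_le_pow_left hdp 2
  have hnb : ¬ q ∣ p - 1 := fun h => by
    have h2 : q ∣ p + 1 - (p - 1) := Nat.dvd_sub hq h
    rw [show p + 1 - (p - 1) = 2 by omega] at h2
    have := Nat.le_of_dvd two_pos h2
    omega
  have hi2 : i = 2 ∧ d = p := by
    have hub : L ≤ p ^ 2 := by
      have h1 : (p - 1) * p ^ 2 ≤ (p - 1) * d ^ 2 := Nat.mul_le_mul_left _ hdd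
      have e1 : p ^ 3 = (p - 1) * p ^ 2 + p ^ 2 := by rw [hP, Nat.add_sub_cancel]; ring
      omega
    have hne1 : i ≠ 1 := fun h => hnb (by
      rw [hi, h, pow_one] at hcard
      exact ⟨Y.card, by rw [mul_comm]; omega⟩)
    have hne0 : i ≠ 0 := fun h => by
      rw [hi, h, pow_zero] at hcard
      have := Nat.mul_le_mul hY2 hq3
      omega
    have hi2 : i = 2 := by
      have : i < 3 := by
        by_contra h
        have := Nat.pow_le_pow_right (show 1 ≤ p by omega) (not_lt.mp h)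
        have := Nat.pow_lt_pow_right (show 1 < p by omega) (show 2 < 3 by norm_num)
        omega
      omega
    refine ⟨hi2, le_antisymm ?_ hdp⟩
    rw [hi, hi2] at hle
    have e1 : p ^ 3 = (p - 1) * p ^ 2 + p ^ 2 := by rw [hP, Nat.add_sub_cancel]; ring
    have : (p - 1) * d ^ 2 ≤ (p - 1) * p ^ 2 := by omega
    exact (Nat.pow_le_pow_iff_left two_ne_zero).mp (Nat.le_of_mul_le_mul_left this (by omega))
  obtain ⟨rfl, hdeq⟩ := hi2
  have hfill : L + (p - 1) * d ^ 2 = Nat.card K := by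
    rw [hi, hdeq, hK, hP, Nat.add_sub_cancel]; ring
  -- the sign
  have he : e = -1 := by
    refine hd.sign.resolve_left fun h => hnb ?_
    have h1 := hd.eq
    rw [h, hdeq] at h1
    exact ⟨n, by rw [mul_comm]; have : p = 1 + n * q := by exact_mod_cast h1
                 omega⟩
  have hn : n ≤ Y.card := by
    have h1 := hd.eq
    rw [he, hdeq] at h1
    have h2 : p + 1 = n * q := by
      have : ((p + 1 : ℕ) : ℤ) = ((n * q : ℕ) : ℤ) := by push_cast; linarith
      exact_mod_cast this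
    rw [hi] at hcard
    have h3 : n * q ≤ Y.card * q := by
      rw [← h2]
      have : 3 * p ≤ p ^ 2 := by rw [sq]; exact Nat.mul_le_mul_right p hp3
      omega
    exact Nat.le_of_mul_le_mul_right h3 Nat.card_pos
  obtain ⟨ζ, hζ, -⟩ := c.exists_linear
  have hζY := (hm ζ).mpr hζ
  rcases c.glue hY hd hn hζY with ⟨z', hY', hglue⟩ | ⟨b, -, -, hbound⟩
  · refine coherent_pivot c.system Set.Subset.rfl (ζ := ζ) (above_subset _ hζ)
      (c.system.conj_mem ζ (above_subset _ hζ)) (hY'.gen ζ hζY)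
      (by rw [hY'.norm ζ hζY, classInner_self_irr (hY'.irr ζ hζY)]) fun t ht => ?_
    rcases c.members_exhaust hd hfill ht with htY | ⟨ψ, hψ, rfl⟩
    · have htY' := (hm t).mpr htY
      refine ⟨1, by rw [hY'.deg t htY', hY'.deg ζ hζY]; simp, ?_⟩
      rw [one_smul, Int.cast_one, one_mul, hY'.diff t htY' ζ hζY, classInner_sub_left,
        hY'.norm ζ hζY, classInner_self_irr (hY'.irr ζ hζY)]
      by_cases h : t = ζ
      · subst h; rw [hY'.norm t hζY, classInner_self_irr (hY'.irr t hζY)]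
      · rw [hY'.ortho t htY' ζ hζY h, c.system.orthogonal t ht ζ (above_subset _ hζ) h]
    · refine ⟨(d : ℤ), by
        rw [c.redChar_one, (hd.apply ψ hψ).1, hY'.deg ζ hζY]; push_cast; ring, ?_⟩
      rw [show ((d : ℤ) • ζ : ↥M → ℂ) = (d : ℂ) • ζ by
          rw [← Int.cast_smul_eq_zsmul ℂ, Int.cast_natCast],
        hglue ψ hψ, classInner_sub_left, classInner_smul_left, classInner_smul_left,
        hY'.norm ζ hζY, classInner_self_irr (hY'.irr ζ hζY),
        c.system.orthogonal _ (c.redChar_mem hψ) ζ (above_subset _ hζ)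
          (fun h => c.redChar_not_irr (c.mem_cols.mp hψ).1 (h ▸ hY'.irr ζ hζY))]
      have h0 : Cfsg.classInner (c.colSum ψ) (z' ζ) = 0 := by
        rw [colSum, classInner_sum_left]
        exact Finset.sum_eq_zero fun φ _ => by
          rw [← classInner_conj_symm, hY'.eta ζ hζY, map_zero]
      rw [h0]
      push_cast
      ring
  · exfalso
    have h := hbound (∅ : Finset (ULift.{u} (Fin 0))) (fun _ => 0) (fun _ => 1) (fun _ => 0)
      (by simp) (by simp) (by simp) (by simp) (by simp)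
    rw [Finset.sum_empty, add_zero, Nat.cast_le] at h
    replace h : p ≤ q := h
    obtain ⟨k, hk⟩ := hq
    rcases k with _ | _ | k
    · omega
    · have := c.card_facts
      have hk' : p + 1 = q := by simpa using hk
      obtain ⟨⟨i', hi'⟩, ⟨j', hj'⟩, -⟩ := this
      replace hi' : q = 2 * i' + 1 := hi'
      replace hj' : p = 2 * j' + 1 := hj'
      omega
    · have : q * 2 ≤ q * (k + 1 + 1) := Nat.mul_le_mul_left q (by omega)
      omega

end Setup10

end Cfsg.Agent.PF
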