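import Cfsg.Agent.OddChar.PF.S06Constant
import Cfsg.Agent.OddChar.PF.S06FreeCount
import Cfsg.Agent.OddChar.PF.S10Family
import Cfsg.Agent.OddChar.PF.S10NoCoherence
import Cfsg.Agent.Chars.ScalarVanish
import Cfsg.Agent.Coprime.Action
import Cfsg.Agent.S1523

/-!
# Section 6, (6.8) in the setting of Section 10

If `K = M'` is nilpotent, a trivial intersection set with normaliser `M`, and `W₂ ≤ K'`, the
characters induced from `K` are coherent.
-/

set_option linter.unusedSectionVars false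
set_option linter.unusedVariables false
set_option linter.style.haveILetI false
set_option autoImplicit false

universe u

namespace Cfsg.Agent.PF

open Cfsg.Lib.Chars Cfsg.Lib.Coherence Cfsg.Lib.InducedFamily Cfsg.Lib.CyclicTI Cfsg.Lib.Dade
open scoped ComplexConjugate commutatorElement

namespace Setup10

variable {G : Type u} [Group G] [Fintype G] {M K W₁ W₂ : Subgroup G} [Fintype M]
variable (c : Setup10 M K W₁ W₂)
include c

local notation "K₀" => K.subgroupOf M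

theorem derived_eq : ⁅K₀, K₀⁆ = (⁅K, K⁆).subgroupOf M := by
  refine Subgroup.map_injective M.subtype_injective ?_
  rw [Subgroup.map_commutator, Subgroup.subgroupOf_map_subtype, Subgroup.subgroupOf_map_subtype,
    inf_eq_left.mpr c.K_le,
    inf_eq_left.mpr ((Subgroup.commutator_le_self K).trans c.K_le)]

theorem fixed_in_W₂ {u : G} (hu : u ∈ W₁) (hu1 : u ≠ 1) {x : G} (hx : x ∈ K)
    (h : u * x = x * u) : x ∈ W₂ := by
  rw [← c.pd.cent u hu hu1]
  exact ⟨hx, Subgroup.mem_centralizer_singleton_iff.mpr h.symm⟩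

theorem centralizes {u v : G} (hu : u ∈ W₁) (hv : v ∈ W₂) : u * v = v * u :=
  congrArg Subtype.val (comm c.hW ⟨u, Subgroup.mem_sup_left hu⟩ ⟨v, Subgroup.mem_sup_right hv⟩)

/-- The quotient `M / K'` is a Frobenius group with kernel `K / K'`. -/
theorem frobenius_derived (hW : W₂ ≤ ⁅K, K⁆) :
    ∀ k ∈ K₀, k ∉ ⁅K₀, K₀⁆ → ∀ x : M, x * k * x⁻¹ * k⁻¹ ∈ ⁅K₀, K₀⁆ → x ∈ K₀ := by
  haveI := c.normal
  rintro k hk hkD x hx
  by_contra hxK
  rw [c.derived_eq] at hkD hx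
  obtain ⟨m, hm, w, hw, hw2, hxe⟩ := c.exists_conj_off x.2 hxK
  set D : Subgroup G := ⁅K, K⁆ with hD
  have hDn : ∀ y ∈ M, ∀ d ∈ D, y * d * y⁻¹ ∈ D := fun y hy d hd => by
    haveI := c.derived_normal
    have h := Subgroup.Normal.conj_mem (H := ⁅K₀, K₀⁆) inferInstance
      ⟨d, c.K_le (Subgroup.commutator_le_self K hd)⟩
      (by rw [c.derived_eq]; exact hd) ⟨y, hy⟩
    rwa [c.derived_eq] at h
  set k' : G := m⁻¹ * (k : G) * m with hk'
  have hKn : ∀ y ∈ M, ∀ d ∈ K, y * d * y⁻¹ ∈ K := fun y hy d hd =>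
    (Subgroup.mem_normalizer_iff.mp (c.pd.K_normal hy) d).mp hd
  have hk'K : k' ∈ K := by simpa [hk', mul_assoc] using hKn _ (inv_mem hm) _ hk
  have hk'D : k' ∉ D := fun h => hkD (by
    have := hDn m hm _ h
    simpa [hk', mul_assoc, Subgroup.mem_subgroupOf] using this)
  have hwk : w * k' * w⁻¹ * k'⁻¹ ∈ D := by
    have := hDn _ (inv_mem hm) _ (Subgroup.mem_subgroupOf.mp hx)
    simp only [Subgroup.coe_mul, Subgroup.coe_inv, hxe] at this
    simpa [hk', mul_assoc] using this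
  obtain ⟨a, ha, b, hb, rfl⟩ : ∃ a ∈ W₁, ∃ b ∈ W₂, w = a * b :=
    ⟨pr₁ c.hW ⟨w, hw⟩, pr₁_mem _ _, pr₂ c.hW ⟨w, hw⟩, pr₂_mem _ _,
      (congrArg Subtype.val (pr_mul c.hW ⟨w, hw⟩)).symm⟩
  have ha1 : a ≠ 1 := fun e => hw2 (by rw [e, one_mul]; exact hb)
  have hbk : b⁻¹ * k' * b * k'⁻¹ ∈ D := by
    simpa [commutatorElement_def] using
      Subgroup.commutator_mem_commutator (inv_mem (c.W₂_le_K hb)) hk'K
  have hak : a * k' * a⁻¹ * k'⁻¹ ∈ D := by
    have h := mul_mem (hDn (a * b) (mul_mem (c.W₁_le ha) (c.K_le (c.W₂_le_K hb))) _ hbk) hwk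
    have e : a * b * (b⁻¹ * k' * b * k'⁻¹) * (a * b)⁻¹ * (a * b * k' * (a * b)⁻¹ * k'⁻¹) =
        a * k' * a⁻¹ * k'⁻¹ := by group
    rwa [e] at h
  have hnorm : Subgroup.zpowers a ≤ Subgroup.normalizer (D : Set G) := by
    refine (Subgroup.zpowers_le.mpr (c.W₁_le ha)).trans fun y hy => ?_
    rw [Subgroup.mem_normalizer_iff]
    intro d
    exact ⟨fun hd => hDn y hy d hd, fun hd => by simpa [mul_assoc] using hDn _ (inv_mem hy) _ hd⟩
  have hcop : (Nat.card (Subgroup.zpowers a)).Coprime (Nat.card D) :=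
    (c.pd.coprime.symm.coprime_dvd_left
      (Subgroup.card_dvd_of_le (Subgroup.zpowers_le.mpr ha))).coprime_dvd_right
      (Subgroup.card_dvd_of_le (Subgroup.commutator_le_self K))
  obtain ⟨n, hn, hc⟩ := Cfsg.Lib.Coprime.exists_fixed_of_commutator_mem hnorm hcop
    (Or.inl inferInstance) (k := k') (by
      rw [Subgroup.mem_normalizer_iff]
      intro d
      exact ⟨fun hd => hDn k' (c.K_le hk'K) d hd, fun hd => by
        simpa [mul_assoc] using hDn _ (inv_mem (c.K_le hk'K)) _ hd⟩)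
    (fun y hy => by
      obtain ⟨j, rfl⟩ := mem_powers_iff_mem_zpowers.mpr hy
      induction j with
      | zero => simp
      | succ j ih =>
        have e : a ^ (j + 1) * k' * (a ^ (j + 1))⁻¹ * k'⁻¹ =
            a * (a ^ j * k' * (a ^ j)⁻¹ * k'⁻¹) * a⁻¹ * (a * k' * a⁻¹ * k'⁻¹) := by
          rw [pow_succ']; group
        rw [e]
        exact mul_mem (hDn a (c.W₁_le ha) _ (ih (Subgroup.pow_mem _ (Subgroup.mem_zpowers a) j))) hak)
  have hmem : k' * n ∈ W₂ := c.fixed_in_W₂ ha ha1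
    (mul_mem hk'K (Subgroup.commutator_le_self K hn))
    (Subgroup.mem_centralizer_iff.mp hc a (Subgroup.mem_zpowers a))
  exact hk'D ((D.mul_mem_cancel_right hn).mp (hW hmem))

theorem red_norm_le {θ : ↥K₀ → ℂ} (hθ : Cfsg.IsIrrCharacter _ θ) (hne : θ ≠ fun _ => 1)
    [(K₀).Normal] :
    (Cfsg.classInner (Cfsg.indFun K₀ θ) (Cfsg.indFun K₀ θ)).re ≤ deg θ := by
  classical
  rcases c.classify θ hθ with h | ⟨ψ, hψ, rfl⟩
  · rw [classInner_self_irr h, Complex.one_re]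
    exact_mod_cast deg_irr_pos ⟨θ, hθ⟩
  have hψ1 : ψ ≠ 1 := fun e => hne (by subst e; rw [c.mu_one])
  obtain ⟨d, n, e, hd⟩ := c.exists_Deg
  have hdd := (hd.apply ψ (c.mem_cols.mpr ⟨hψ, hψ1⟩)).1
  have hdeg : deg (fun k : ↥K₀ => c.μ ψ k) = d := by
    have h := IsCharacter.apply_one_eq_deg (isCharacter_of_irr hθ)
    simp only [OneMemClass.coe_one, hdd, Nat.cast_inj] at h
    exact h.symm
  rw [← c.red_ind ψ hψ, c.redChar_inner hψ hψ, if_pos rfl, Complex.natCast_re, hdeg, Nat.cast_le]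
  have hdodd : Odd d := by
    letI : Fintype ↥K₀ := Fintype.ofFinite _
    have h := IsIrrCharacter.deg_dvd hθ
    rw [hdeg] at h
    exact (c.pd.odd.of_dvd_nat (Subgroup.card_subgroup_dvd_card K₀)).of_dvd_nat h
  obtain ⟨hq, -⟩ := c.card_facts
  have h1 := hd.eq
  have h2 := hd.pos
  have h3 := hd.sign
  by_contra hlt
  have h5 : (d : ℤ) = (Nat.card W₁ : ℤ) - 1 := by
    have h6 : (Nat.card W₁ : ℤ) ≤ (n : ℤ) * Nat.card W₁ :=
      le_mul_of_one_le_left (Int.natCast_nonneg _) (by exact_mod_cast h2)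
    rcases h3 with rfl | rfl <;> omega
  obtain ⟨i, hi⟩ := hdodd
  obtain ⟨j, hj⟩ := hq
  omega

theorem tau_ind (hcent : ∀ a ∈ K, a ≠ 1 → Subgroup.centralizer ({a} : Set G) ≤ M) [(K₀).Normal]
    {v : ↥M → ℂ} (hv : v ∈ Cfsg.zspanOn (Cfsg.inducedIrrAbove K₀ ⊥) {1}ᶜ) :
    c.τ v = Cfsg.indFun M v ∧ ∀ z : M, (z : G) ∈ K → (z : G) ≠ 1 → c.τ v (z : G) = v z := by
  obtain ⟨hvm, hv1⟩ := mem_one.mp hv
  have hgen := zspan_gen (fun s hs => IsCharacter.isGeneralized (c.system.isCharacter s hs)) hvm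
  have hcl := isClassFunction_generalized hgen
  have hoff : ∀ l : M, (l : G) ∉ (K : Set G) \ {1} → v l = 0 := by
    intro l hl
    by_cases hK : (l : G) ∈ K
    · have h1 : (l : G) = 1 := by
        by_contra h
        exact hl ⟨hK, h⟩
      rw [show l = 1 from Subtype.ext h1, hv1]
    · clear hv hv1 hgen hcl
      induction hvm using Submodule.span_induction with
      | mem x hx =>
        obtain ⟨θ, -, -, -, rfl⟩ := hx
        exact indFun_normal_not_mem _ _ hK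
      | zero => rfl
      | add x y _ _ hx hy => simp [hx, hy]
      | smul a x _ hx => simp [hx]
  refine ⟨?_, fun z hzK hz1 => ?_⟩
  · rw [show c.τ v = Cfsg.dadeIsometry c.A₀ M c.R v from rfl,
      dade_restrict c.hD c.punct_subset c.punct_conj hcl hoff,
      dade_eq_indFun c.punct_dade (fun a ha => hcent a ha.1 ha.2) hcl hoff]
  · exact dade_apply c.hD hcl z (c.punct_subset ⟨hzK, hz1⟩) (u := 1) (one_mem _) (x := 1)
      (by simp)

theorem sylow_eq (hN : Subgroup.normalizer (K : Set G) = M) {r m : ℕ} [Fact r.Prime]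
    (hK : Nat.card K = r ^ m) (hm : m ≠ 0) : ∃ P : Sylow r G, (P : Subgroup G) = K := by
  classical
  have hp : IsPGroup r K := IsPGroup.of_card hK
  obtain ⟨P, hP⟩ := hp.exists_le_sylow
  refine ⟨P, le_antisymm ?_ hP⟩
  by_contra hlt
  haveI : Group.IsNilpotent P := P.2.isNilpotent
  have hproper : K.subgroupOf P < ⊤ :=
    lt_top_iff_ne_top.mpr fun h => hlt (Subgroup.subgroupOf_eq_top.mp h)
  obtain ⟨x, hx, hxK⟩ := SetLike.exists_of_lt (Group.normalizerCondition_of_isNilpotent _ hproper)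
  have hxM : (x : G) ∈ M := by
    rw [← hN, Subgroup.mem_normalizer_iff]
    intro k
    constructor
    · intro hk
      exact (Subgroup.mem_normalizer_iff.mp hx ⟨k, hP hk⟩).mp hk
    · intro hk
      have hkP : k ∈ (P : Subgroup G) := by
        have := (P : Subgroup G).mul_mem
          ((P : Subgroup G).mul_mem ((P : Subgroup G).inv_mem x.2) (hP hk)) x.2
        simpa [mul_assoc] using this
      exact (Subgroup.mem_normalizer_iff.mp hx ⟨k, hkP⟩).mpr hk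
  obtain ⟨y, hy, w, hw, hyw⟩ := c.pd.compl.2.2.2 (x : G) hxM
  have hwP : w ∈ (P : Subgroup G) := by
    rw [show w = y⁻¹ * (x : G) by rw [hyw, inv_mul_cancel_left]]
    exact mul_mem (inv_mem (hP hy)) x.2
  have h1 : orderOf w ∣ Nat.card W₁ :=
    (Subgroup.orderOf_mk (H := W₁) w hw) ▸ orderOf_dvd_natCard (⟨w, hw⟩ : W₁)
  obtain ⟨i, hi⟩ := P.2 ⟨w, hwP⟩
  have h2 : orderOf w ∣ r ^ i := orderOf_dvd_of_pow_eq_one (congrArg Subtype.val hi)
  have hcop : (Nat.card W₁).Coprime (r ^ i) := by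
    have h := c.pd.coprime
    rw [hK, Nat.coprime_pow_left_iff (Nat.pos_of_ne_zero hm)] at h
    exact (h.pow_left i).symm
  have hw1 : w = 1 := orderOf_eq_one_iff.mp (Nat.eq_one_of_dvd_coprimes hcop h1 h2)
  exact hxK (Subgroup.mem_subgroupOf.mpr (by rw [hyw, hw1, mul_one]; exact hy))

/-- The congruence at a central subgroup, from `S1523`. -/
theorem congruence (hN : Subgroup.normalizer (K : Set G) = M)
    (hTI : ∀ g ∉ M, ∀ x ∈ K, g * x * g⁻¹ ∈ K → x = 1) {r m : ℕ} [Fact r.Prime]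
    (hK : Nat.card K = r ^ m) (hm : m ≠ 0) (Z : Subgroup M) [Z.Normal] (hZ1 : Z ≠ ⊥)
    (hZK : Z ≤ K₀) (hZc : ∀ z ∈ Z, ∀ k ∈ K₀, z * k = k * z)
    (hcard : ∀ z ∈ Z, ∀ z' ∈ Z, z ≠ 1 → z' ≠ 1 → ∀ y : M, y * z = z * y → y * z' = z' * y)
    (ψ : G → ℂ) (hψ : Cfsg.IsIrrCharacter G ψ) (hconst : ConstOn6 Z ψ) (z : M) (hz : z ∈ Z)
    (hz1 : z ≠ 1) : ∃ t : ℤ, ψ 1 - ψ (z : G) = (Nat.card K₀ : ℂ) * t := by
  classical
  obtain ⟨P, hP⟩ := c.sylow_eq hN hK hm
  have hPN : Subgroup.normalizer ((P : Subgroup G) : Set G) = M := by rw [hP, hN]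
  have hmem : ∀ {g : G}, g ∈ Z.map M.subtype ↔ ∃ y : M, y ∈ Z ∧ (y : G) = g := fun {g} => Iff.rfl
  obtain ⟨n, d, hn, hd, hdvd⟩ := Cfsg.Agent.S1523.result r P
    (fun g hg x hx hgx => hTI g (fun h => hg (hPN.ge h)) x (hP.le hx) (hP.le hgx))
    (by rw [hPN]; exact c.pd.odd) (Z.map M.subtype)
    (fun h => hZ1 ((Subgroup.map_eq_bot_iff_of_injective _ M.subtype_injective).mp h))
    (by rintro _ ⟨y, hy, rfl⟩; exact hP.ge (hZK hy))
    (by
      rintro x hx _ ⟨y, hy, rfl⟩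
      rw [hPN] at hx
      exact ⟨⟨x, hx⟩ * y * ⟨x, hx⟩⁻¹, Subgroup.Normal.conj_mem inferInstance y hy _, rfl⟩)
    (by
      rintro _ ⟨y, hy, rfl⟩ k hk
      exact congrArg Subtype.val (hZc y hy ⟨k, c.K_le (hP.le hk)⟩ (hP.le hk)))
    (by
      rintro _ ⟨y, hy, rfl⟩ _ ⟨y', hy', rfl⟩ h h'
      have hy1 : y ≠ 1 := fun e => h (by rw [e]; rfl)
      have hy1' : y' ≠ 1 := fun e => h' (by rw [e]; rfl)
      rw [hPN]
      congr 2
      ext g
      simp only [Subgroup.mem_inf, Subgroup.mem_centralizer_singleton_iff]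
      refine and_congr_right fun hg => ⟨fun e => ?_, fun e => ?_⟩
      · exact congrArg Subtype.val (hcard y hy y' hy' hy1 hy1' ⟨g, hg⟩ (Subtype.ext e))
      · exact congrArg Subtype.val (hcard y' hy' y hy hy1' hy1 ⟨g, hg⟩ (Subtype.ext e)))
    ψ hψ (by
      rintro _ ⟨y, hy, rfl⟩ _ ⟨y', hy', rfl⟩ h h'
      exact hconst y hy y' hy' (fun e => h (by rw [e]; rfl)) (fun e => h' (by rw [e]; rfl)))
    (z : G) ⟨z, hz, rfl⟩ (fun e => hz1 (Subtype.ext e))
  obtain ⟨t, ht⟩ := hdvd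
  refine ⟨t, ?_⟩
  rw [hn, hd, c.card_K, ← Nat.card_congr (MulEquiv.subgroupCongr hP).toEquiv]
  exact_mod_cast congrArg (fun i : ℤ => (i : ℂ)) ht

end Setup10

end Cfsg.Agent.PF
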