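import Cfsg.Agent.OddChar.PF.S06SibleySetup
import Cfsg.Agent.OddChar.FrobeniusTICoherence
import Cfsg.Agent.Coprime.SolvableBasics

/-!
# Section 6, (6.8)(b): coherence in the trivial intersection case of Section 10

The kernel `K` may be taken a `p`-group.  The central subgroup is `W₂` when that is central in `K`
(then Galois conjugation gives constancy); otherwise it meets `W₂` trivially, and then the characters
nontrivial on it are irreducible and coherent.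
-/

set_option linter.unusedSectionVars false
set_option linter.unusedVariables false
set_option linter.style.haveILetI false
set_option autoImplicit false

universe u

namespace Cfsg.Agent.PF

open Cfsg.Lib.Chars Cfsg.Lib.Coherence Cfsg.Lib.InducedFamily Cfsg.Lib.CyclicTI Cfsg.Lib.Dade
open scoped ComplexConjugate commutatorElement

namespace Setup10

variable {G : Type u} [Group G] [Fintype G] {M K W₁ W₂ : Subgroup G} [Fintype M]
variable (c : Setup10 M K W₁ W₂)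
include c

local notation "K₀" => K.subgroupOf M

/-- The congruence hypothesis packaged for `Central6`. -/
theorem central6 (hcent : ∀ a ∈ K, a ≠ 1 → Subgroup.centralizer ({a} : Set G) ≤ M) [(K₀).Normal]
    (hnil : Group.IsNilpotent ↥K₀) (Z : Subgroup M) [Z.Normal] (hZ1 : Z ≠ ⊥)
    (hZD : Z ≤ ⁅K₀, K₀⁆) (hZc : ∀ z ∈ Z, ∀ k ∈ K₀, z * k = k * z) :
    Central6 M K₀ Z c.τ c.Rs where
  nil := hnil
  sys := c.system
  Z_ne := hZ1
  Z_der := hZD
  Z_cent := hZc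
  ind v hv := (c.tau_ind hcent hv).1
  norm_le θ hθ h := c.red_norm_le hθ fun e => h fun a _ => by rw [e]

/-- (6.8) when `W₂` is central in `K`. -/
theorem coherent_ti_center [(K₀).Normal] (hnil : Group.IsNilpotent ↥K₀)
    (hN : Subgroup.normalizer (K : Set G) = M)
    (hTI : ∀ g ∉ M, ∀ x ∈ K, g * x * g⁻¹ ∈ K → x = 1) (hW : W₂ ≤ ⁅K, K⁆) {r m : ℕ}
    [Fact r.Prime] (hK : Nat.card K = r ^ m) (hm : m ≠ 0)
    (hz : ∀ z ∈ W₂, ∀ k ∈ K, z * k = k * z) :
    Cfsg.IsCoherent (Cfsg.inducedIrrAbove K₀ ⊥) {1}ᶜ c.τ := by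
  classical
  have hcent : ∀ a ∈ K, a ≠ 1 → Subgroup.centralizer ({a} : Set G) ≤ M := fun a ha ha1 g hg => by
    by_contra h
    refine ha1 (hTI g h a ha ?_)
    rw [Subgroup.mem_centralizer_singleton_iff.mp hg, mul_inv_cancel_right]
    exact ha
  have hW2M : W₂ ≤ M := c.W₂_le_K.trans c.K_le
  set Z : Subgroup M := W₂.subgroupOf M with hZdef
  have hcen : ∀ z ∈ W₂, ∀ y ∈ M, y * z = z * y := by
    intro z hzW y hy
    obtain ⟨k, hk, w, hw, rfl⟩ := c.pd.compl.2.2.2 y hy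
    rw [mul_assoc, c.centralizes hw hzW, ← mul_assoc, ← hz z hzW k hk, mul_assoc]
  haveI : Z.Normal := ⟨fun z hzZ y => by
    rw [Subgroup.mem_subgroupOf] at hzZ ⊢
    rwa [Subgroup.coe_mul, Subgroup.coe_mul, Subgroup.coe_inv, hcen _ hzZ _ y.2,
      mul_inv_cancel_right]⟩
  have hZcard : Nat.card Z = Nat.card W₂ := Nat.card_congr (Subgroup.subgroupOfEquivOfLe hW2M).toEquiv
  have hZ1 : Z ≠ ⊥ := by
    intro h
    rw [h, Subgroup.card_bot] at hZcard
    exact c.p_prime.ne_one hZcard.symm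
  have hZD : Z ≤ ⁅K₀, K₀⁆ := fun z hzZ => by rw [c.derived_eq]; exact hW hzZ
  have hZK : Z ≤ K₀ := fun z hzZ => c.W₂_le_K hzZ
  have hZc : ∀ z ∈ Z, ∀ k ∈ K₀, z * k = k * z := fun z hzZ k hk => Subtype.ext (hz _ hzZ _ hk)
  have c6 := c.central6 hcent hnil Z hZ1 hZD hZc
  have hirrY : ∀ φ ∈ Cfsg.inducedIrrAbove K₀ ⁅K₀, K₀⁆, Cfsg.IsIrrCharacter ↥M φ :=
    fun φ hφ => (c.above_derived le_rfl hφ).1
  refine c6.coherent hirrY
    (fun ψ hψ hc z hzZ hz1 => c.congruence hN hTI hK hm Z hZ1 hZK hZc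
      (fun a _ b hb _ _ y _ => Subtype.ext (hcen _ hb _ y.2)) ψ hψ hc z hzZ hz1)
    (fun T hT hTag η hη => c6.const_of_galois hT hTag (hZcard ▸ c.p_prime)
      (fun v hv z hzZ hz1 => (c.tau_ind hcent hv).2 z (hZK hzZ) fun e => hz1 (Subtype.ext e))
      hirrY hη) ?_
  intro θ hθ hne hker
  letI : Fintype ↥K₀ := Fintype.ofFinite _
  haveI : (Z.subgroupOf K₀).Normal := Subgroup.normal_subgroupOf
  set C := centralMod (Z.subgroupOf K₀) with hC
  set CM : Subgroup M := C.map (K₀).subtype with hCM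
  have hCmem : ∀ {x : M}, x ∈ CM ↔ ∃ h : x ∈ K₀, (⟨x, h⟩ : ↥K₀) ∈ C := fun {x} =>
    ⟨fun ⟨y, hy, e⟩ => e ▸ ⟨y.2, hy⟩, fun ⟨h, hy⟩ => ⟨⟨x, h⟩, hy, rfl⟩⟩
  haveI : CM.Normal := ⟨fun x hx y => by
    obtain ⟨hxK, hxC⟩ := hCmem.mp hx
    refine hCmem.mpr ⟨Subgroup.Normal.conj_mem inferInstance x hxK y, ?_⟩
    rw [mem_centralMod] at hxC ⊢
    intro h
    have h' := hxC ⟨y⁻¹ * h * y, by
      simpa using Subgroup.Normal.conj_mem inferInstance (h : M) h.2 y⁻¹⟩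
    rw [Subgroup.mem_subgroupOf] at h' ⊢
    have := Subgroup.Normal.conj_mem (H := Z) inferInstance _ h' y
    simpa [commutatorElement_def, mul_assoc] using this⟩
  have hZC : Z < CM := by
    refine lt_of_le_of_ne (fun x hx => hCmem.mpr ⟨hZK hx, le_centralMod _
      (Subgroup.mem_subgroupOf.mpr hx)⟩) fun e => ?_
    haveI : Nontrivial (↥K₀ ⧸ Z.subgroupOf K₀) := by
      refine QuotientGroup.nontrivial_iff.mpr fun h => ?_
      exact c.derived_lt.not_ge ((Subgroup.subgroupOf_eq_top.mp h).trans hZD)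
    haveI := hnil
    have hcne : Subgroup.center (↥K₀ ⧸ Z.subgroupOf K₀) ≠ ⊥ := by
      have h := Cfsg.Lib.Coprime.inf_center_ne_bot (⊤ : Subgroup (↥K₀ ⧸ Z.subgroupOf K₀)) top_ne_bot
      rwa [top_inf_eq] at h
    refine hcne (le_bot_iff.mp fun q hq => ?_)
    obtain ⟨x, rfl⟩ := QuotientGroup.mk'_surjective (Z.subgroupOf K₀) q
    have hx : (x : M) ∈ Z := e.ge (hCmem.mpr ⟨x.2, hq⟩)
    exact Subgroup.mem_bot.mpr ((QuotientGroup.eq_one_iff x).mpr (Subgroup.mem_subgroupOf.mpr hx))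
  have hrp : r = Nat.card W₂ := by
    have h := (Subgroup.card_dvd_of_le c.W₂_le_K).trans (dvd_of_eq hK)
    exact ((Nat.prime_dvd_prime_iff_eq c.p_prime Fact.out).mp (c.p_prime.dvd_of_dvd_pow h)).symm
  have hfree : ∀ u ∈ W₁.subgroupOf M, u ≠ 1 → ∀ x ∈ CM, u * x * u⁻¹ * x⁻¹ ∈ Z → x ∈ Z := by
    intro u hu hu1 x hx h
    set z₀ := u * x * u⁻¹ * x⁻¹ with hz₀
    have hpow : ∀ j : ℕ, u ^ j * x * (u ^ j)⁻¹ = z₀ ^ j * x := by
      intro j
      induction j with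
      | zero => simp
      | succ j ih =>
        rw [pow_succ', show u * u ^ j * x * (u * u ^ j)⁻¹ = u * (u ^ j * x * (u ^ j)⁻¹) * u⁻¹ by group,
          ih, show u * (z₀ ^ j * x) * u⁻¹ = (u * z₀ ^ j * u⁻¹) * (u * x * u⁻¹) by group,
          show u * z₀ ^ j * u⁻¹ = z₀ ^ j by
            rw [show u * z₀ ^ j = z₀ ^ j * u from Subtype.ext (hcen _ (pow_mem h j) _ u.2),
              mul_inv_cancel_right],
          show u * x * u⁻¹ = z₀ * x by rw [hz₀]; group, ← mul_assoc, ← pow_succ]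
    have hu' := hpow (orderOf u)
    rw [pow_orderOf_eq_one, inv_one, mul_one, one_mul, right_eq_mul] at hu'
    have hd1 : orderOf z₀ ∣ Nat.card W₁ := (orderOf_dvd_of_pow_eq_one hu').trans (by
      have := orderOf_dvd_natCard (⟨u, hu⟩ : W₁.subgroupOf M)
      rwa [Subgroup.orderOf_mk, Nat.card_congr (Subgroup.subgroupOfEquivOfLe c.W₁_le).toEquiv] at this)
    have hd2 : orderOf z₀ ∣ Nat.card W₂ := by
      have := orderOf_dvd_natCard (⟨z₀, h⟩ : Z)
      rwa [Subgroup.orderOf_mk, hZcard] at this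
    have hcop : (Nat.card W₁).Coprime (Nat.card W₂) :=
      (c.pd.coprime.symm).coprime_dvd_right (Subgroup.card_dvd_of_le c.W₂_le_K)
    have hz0 : u * x * u⁻¹ * x⁻¹ = 1 :=
      orderOf_eq_one_iff.mp (Nat.eq_one_of_dvd_coprimes hcop hd1 hd2)
    rw [mul_inv_eq_one, mul_inv_eq_iff_eq_mul] at hz0
    exact c.fixed_in_W₂ hu (fun e => hu1 (Subtype.ext e)) (hCmem.mp hx).choose
      (congrArg Subtype.val hz0)
  have hcount := s06_two_mul_lt c.pd.odd (W₁.subgroupOf M) Z CM hZC hfree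
  rw [Nat.card_congr (Subgroup.subgroupOfEquivOfLe c.W₁_le).toEquiv] at hcount
  have hdeg : deg θ ^ 2 ≤ C.index := deg_sq_le_index hθ C fun z hzC g => hker _ (by
    have := (mem_centralMod.mp hzC g)
    simpa [commutatorElement_def, Subgroup.mem_subgroupOf] using this)
  have hCK : CM ≤ K₀ := fun x hx => (hCmem.mp hx).choose
  have hCidx : C.index = CM.relIndex K₀ := by
    rw [Subgroup.relIndex, hCM]
    congr 1
    exact (Subgroup.comap_map_eq_self_of_injective (K₀).subtype_injective C).symm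
  have hmul := Subgroup.relIndex_mul_relIndex Z CM K₀ hZC.le hCK
  rw [← hCidx] at hmul
  have hd0 : 0 < deg θ := deg_irr_pos ⟨θ, hθ⟩
  have h1 : (2 * Nat.card W₁ + 1) * deg θ ^ 2 ≤ Z.relIndex K₀ :=
    hmul ▸ Nat.mul_le_mul hcount hdeg
  have h2 : 1 ≤ Nat.card Z - 1 := by
    have := c.p_three
    omega
  have h3 : 2 * Nat.card W₁ * deg θ < (2 * Nat.card W₁ + 1) * deg θ ^ 2 := by
    have : deg θ ≤ deg θ ^ 2 := Nat.le_self_pow two_ne_zero _
    nlinarith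
  rw [c.index_K]
  calc 2 * Nat.card W₁ * deg θ < (2 * Nat.card W₁ + 1) * deg θ ^ 2 := h3
    _ ≤ Z.relIndex K₀ := h1
    _ ≤ (Nat.card Z - 1) * Z.relIndex K₀ := Nat.le_mul_of_pos_left _ h2

/-- (6.8) when `W₂` is not central in `K`. -/
theorem coherent_ti_free [(K₀).Normal] (hnil : Group.IsNilpotent ↥K₀)
    (hN : Subgroup.normalizer (K : Set G) = M)
    (hTI : ∀ g ∉ M, ∀ x ∈ K, g * x * g⁻¹ ∈ K → x = 1) (hW : W₂ ≤ ⁅K, K⁆) {r m : ℕ}
    [Fact r.Prime] (hK : Nat.card K = r ^ m) (hm : m ≠ 0)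
    (hz : ¬ ∀ z ∈ W₂, ∀ k ∈ K, z * k = k * z) :
    Cfsg.IsCoherent (Cfsg.inducedIrrAbove K₀ ⊥) {1}ᶜ c.τ := by
  classical
  letI : Fintype ↥K₀ := Fintype.ofFinite _
  have hcent : ∀ a ∈ K, a ≠ 1 → Subgroup.centralizer ({a} : Set G) ≤ M := fun a ha ha1 g hg => by
    by_contra h
    refine ha1 (hTI g h a ha ?_)
    rw [Subgroup.mem_centralizer_singleton_iff.mp hg, mul_inv_cancel_right]
    exact ha
  haveI := c.derived_normal
  have hDne : ⁅K₀, K₀⁆ ≠ ⊥ := fun h => by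
    obtain ⟨v, hv, hv1⟩ := (Subgroup.bot_or_exists_ne_one W₂).resolve_left c.hW.2.1
    have hv' : (⟨v, c.K_le (c.W₂_le_K hv)⟩ : M) ∈ ⁅K₀, K₀⁆ := by rw [c.derived_eq]; exact hW hv
    rw [h, Subgroup.mem_bot] at hv'
    exact hv1 (congrArg Subtype.val hv')
  obtain ⟨Z, hZn, hZ1, hZD, hZcomm⟩ :=
    Cfsg.Lib.FrobCoherence.exists_central_below hnil _ (Subgroup.commutator_le_self _) hDne
  have hZK : Z ≤ K₀ := hZD.trans (Subgroup.commutator_le_self _)
  have hZc : ∀ z ∈ Z, ∀ k ∈ K₀, z * k = k * z := fun z hzZ k hk =>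
    commutatorElement_eq_one_iff_mul_comm.mp
      (Subgroup.mem_bot.mp (hZcomm ▸ Subgroup.commutator_mem_commutator hzZ hk))
  -- no element of `W₁` fixes a nontrivial element of `Z`
  have hfix : ∀ u : M, (u : G) ∈ W₁ → u ≠ 1 → ∀ z ∈ Z, u * z = z * u → z = 1 := by
    intro u hu hu1 z hzZ h
    by_contra hz1
    have hzW : (z : G) ∈ W₂ := c.fixed_in_W₂ hu (fun e => hu1 (Subtype.ext e)) (hZK hzZ)
      (congrArg Subtype.val h)
    refine hz fun v hv k hk => ?_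
    haveI := Fact.mk c.p_prime
    have hgen := zpowers_eq_top_of_prime_card (p := Nat.card W₂) rfl
      (g := (⟨(z : G), hzW⟩ : W₂)) fun e => hz1 (Subtype.ext (congrArg Subtype.val e :))
    obtain ⟨j, hj⟩ := Subgroup.mem_zpowers_iff.mp (hgen ▸ Subgroup.mem_top (⟨v, hv⟩ : W₂))
    have hv' : v = (z : G) ^ j := by
      have := congrArg Subtype.val hj
      simpa using this.symm
    rw [hv']
    exact (Commute.zpow_left (congrArg Subtype.val (hZc z hzZ ⟨k, c.K_le hk⟩ hk)) j).eq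
  have hirrX : ∀ θ : ↥K₀ → ℂ, Cfsg.IsIrrCharacter _ θ →
      ¬ (∀ a : ↥K₀, (a : M) ∈ Z → θ a = θ 1) →
      Cfsg.IsIrrCharacter ↥M (Cfsg.indFun K₀ θ) := by
    intro θ hθ hnt
    rcases c.classify θ hθ with h | ⟨ψ, hψ, rfl⟩
    · exact h
    refine absurd (fun a ha => ?_) hnt
    obtain ⟨u, hu, hu1, -⟩ := c.exists_off
    set uM : M := ⟨u, c.W₁_le hu⟩ with huM
    have huM1 : uM ≠ 1 := fun e => hu1 (congrArg Subtype.val e)
    -- `z ↦ z⁻¹ (u z u⁻¹)` is a bijection of `Z`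
    let f : ↥Z → ↥Z := fun z =>
      ⟨(z : M)⁻¹ * (uM * z * uM⁻¹), mul_mem (inv_mem z.2) (hZn.conj_mem z z.2 uM)⟩
    have hf : Function.Injective f := by
      intro z z' h
      have h' := congrArg Subtype.val h
      simp only [f] at h'
      have e : uM * ((z' : M) * (z : M)⁻¹) * uM⁻¹ = (z' : M) * (z : M)⁻¹ := by
        have h1 : uM * z * uM⁻¹ = (z : M) * ((z' : M)⁻¹ * (uM * z' * uM⁻¹)) := by
          rw [← h', mul_inv_cancel_left]
        have h2 : (z : M) * (z' : M)⁻¹ = (z' : M)⁻¹ * (z : M) :=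
          hZc z z.2 _ (hZK (inv_mem z'.2))
        rw [show uM * ((z' : M) * (z : M)⁻¹) * uM⁻¹ = (uM * z' * uM⁻¹) * (uM * z * uM⁻¹)⁻¹ by group,
          h1, mul_inv_rev, mul_inv_rev, inv_inv]
        simp [mul_assoc]
      have h3 := hfix uM hu huM1 _ (mul_mem z'.2 (inv_mem z.2)) (mul_inv_eq_iff_eq_mul.mp e)
      exact Subtype.ext (mul_inv_eq_one.mp h3).symm
    obtain ⟨z, hz'⟩ := (Finite.injective_iff_surjective.mp hf) ⟨(a : M), ha⟩
    set z₁ : ↥K₀ := ⟨(z : M)⁻¹, inv_mem (hZK z.2)⟩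
    set z₂ : ↥K₀ := ⟨uM * z * uM⁻¹, hZK (hZn.conj_mem z z.2 uM)⟩
    have hcen : z₁ ∈ Subgroup.center ↥K₀ :=
      Subgroup.mem_center_iff.mpr fun g => Subtype.ext (hZc _ (inv_mem z.2) _ g.2).symm
    have e1 : a = z₁ * z₂ := Subtype.ext (congrArg Subtype.val hz').symm
    have e2 := center_mul_of_irr hθ hcen z₂
    have e3 : (fun k : ↥K₀ => c.μ ψ k) z₂ = (fun k : ↥K₀ => c.μ ψ k) ⟨(z : M), hZK z.2⟩ :=
      c.mu_class ψ (z : M) uM
    have e4 := center_mul_of_irr hθ hcen ⟨(z : M), hZK z.2⟩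
    rw [show z₁ * (⟨(z : M), hZK z.2⟩ : ↥K₀) = 1 from Subtype.ext (inv_mul_cancel _)] at e4
    simp only at e2 e3 e4 ⊢
    rw [e3, ← e4] at e2
    rw [e1]
    exact mul_right_cancel₀ (IsIrrCharacter.apply_one_ne_zero hθ) e2
  have c6 := c.central6 hcent hnil Z hZ1 hZD hZc
  have hirrY : ∀ φ ∈ Cfsg.inducedIrrAbove K₀ ⁅K₀, K₀⁆, Cfsg.IsIrrCharacter ↥M φ :=
    fun φ hφ => (c.above_derived le_rfl hφ).1
  have hX := coherent_central c.solvable c.system c.odd_M hnil c.derived_lt (c.frobenius_derived hW)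
    Z hZ1 hZK hZc (fun χ hχ => by
      obtain ⟨⟨θ, hθ, hne, -, rfl⟩, hnot⟩ := hχ
      exact hirrX θ hθ fun hA => hnot ⟨θ, hθ, hne, hA, rfl⟩)
  refine c6.coherent hirrY
    (fun ψ hψ hc z hzZ hz1 => c.congruence hN hTI hK hm Z hZ1 hZK hZc
      (fun a ha b hb ha1 _ y hy => ?_) ψ hψ hc z hzZ hz1)
    (fun T hT hTag η hη => c6.const_of_coherent hT hTag hX hη) ?_
  · obtain ⟨k, hk, w, hw, he⟩ := c.pd.compl.2.2.2 (y : G) y.2
    set kM : M := ⟨k, c.K_le hk⟩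
    set wM : M := ⟨w, c.W₁_le hw⟩
    have hy' : y = kM * wM := Subtype.ext he
    by_cases hw1 : wM = 1
    · rw [hy', hw1, mul_one]
      exact (hZc b hb kM hk).symm
    · refine absurd (hfix wM hw hw1 a ha ?_) ha1
      rw [hy', mul_assoc, ← mul_assoc a, hZc a ha kM hk, mul_assoc] at hy
      exact mul_left_cancel hy
  intro θ hθ hne hker
  have hbot : (⊥ : Subgroup M) < Z := bot_lt_iff_ne_bot.mpr hZ1
  have hcount := s06_two_mul_lt c.pd.odd (W₁.subgroupOf M) ⊥ Z hbot fun u hu hu1 x hx h => by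
    rw [Subgroup.mem_bot] at h ⊢
    rw [mul_inv_eq_one, mul_inv_eq_iff_eq_mul] at h
    exact hfix u hu hu1 x hx h
  rw [Nat.card_congr (Subgroup.subgroupOfEquivOfLe c.W₁_le).toEquiv,
    Subgroup.relIndex_bot_left] at hcount
  haveI : (Z.subgroupOf K₀).Normal := Subgroup.normal_subgroupOf
  have hw : deg θ ^ 2 < Z.relIndex K₀ := by
    have h := sum_deg_sq_above (Z.subgroupOf K₀)
    have hone : Cfsg.IsIrrCharacter ↥K₀ (fun _ => (1 : ℂ)) := isIrrCharacter_one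
    have hsub : ({⟨θ, hθ⟩, ⟨_, hone⟩} : Finset (Cfsg.IrrCharacter ↥K₀)) ⊆
        Finset.univ.filter (fun χ : Cfsg.IrrCharacter ↥K₀ =>
          ∀ a ∈ Z.subgroupOf K₀, (χ : ↥K₀ → ℂ) a = (χ : ↥K₀ → ℂ) 1) := by
      intro χ hχ
      simp only [Finset.mem_insert, Finset.mem_singleton] at hχ
      refine Finset.mem_filter.mpr ⟨Finset.mem_univ _, fun a ha => ?_⟩
      rcases hχ with rfl | rfl
      · exact hker a (Subgroup.mem_subgroupOf.mp ha)
      · rfl
    have hle := Finset.sum_le_sum_of_subset (f := fun χ : Cfsg.IrrCharacter ↥K₀ =>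
      deg (χ : ↥K₀ → ℂ) ^ 2) hsub
    rw [h, Finset.sum_insert (by simpa [Finset.mem_singleton, Subtype.ext_iff] using hne),
      Finset.sum_singleton] at hle
    have h1 : 0 < deg (fun _ : ↥K₀ => (1 : ℂ)) := deg_irr_pos ⟨_, hone⟩
    rw [Subgroup.relIndex]
    nlinarith
  rw [c.index_K]
  calc 2 * Nat.card W₁ * deg θ ≤ 2 * Nat.card W₁ * deg θ ^ 2 :=
        Nat.mul_le_mul_left _ (Nat.le_self_pow two_ne_zero _)
    _ < 2 * Nat.card W₁ * Z.relIndex K₀ :=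
        Nat.mul_lt_mul_of_pos_left hw (by have := c.q_three; omega)
    _ ≤ (Nat.card Z - 1) * Z.relIndex K₀ := Nat.mul_le_mul_right _ (by omega)

/-- (6.8)(b): coherence when `K` is nilpotent, a TI subset, with `W₂ ≤ K'`. -/
theorem coherent_of_ti (hnil : Group.IsNilpotent K) (hTI : Cfsg.IsTISubset (K : Set G))
    (hW : W₂ ≤ ⁅K, K⁆) (hN : Subgroup.normalizer (K : Set G) = M) :
    Cfsg.IsCoherent (Cfsg.inducedIrrAbove K₀ ⊥) {1}ᶜ c.τ := by
  classical
  haveI := c.normal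
  haveI := c.derived_normal
  have hnil₀ : Group.IsNilpotent ↥K₀ := by
    haveI := hnil
    exact Group.nilpotent_of_mulEquiv (Subgroup.subgroupOfEquivOfLe c.K_le).symm
  have hTI' : ∀ g ∉ M, ∀ x ∈ K, g * x * g⁻¹ ∈ K → x = 1 := fun g hg x hx h =>
    hTI g (fun h' => hg (hN.le h')) x hx h
  by_cases hp : ∃ r m : ℕ, r.Prime ∧ Nat.card K = r ^ m
  · obtain ⟨r, m, hr, hK⟩ := hp
    haveI := Fact.mk hr
    have hm : m ≠ 0 := by
      rintro rfl
      have h := Subgroup.card_dvd_of_le c.W₂_le_K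
      rw [hK, pow_zero, Nat.dvd_one] at h
      exact c.p_prime.ne_one h
    by_cases hz : ∀ z ∈ W₂, ∀ k ∈ K, z * k = k * z
    · exact c.coherent_ti_center hnil₀ hN hTI' hW hK hm hz
    · exact c.coherent_ti_free hnil₀ hN hTI' hW hK hm hz
  · haveI := hnil₀
    exact coherent_kernel (M := ⊥) c.solvable c.system c.odd_M bot_le inferInstance ⁅K₀, K₀⁆
      (sup_bot_eq _).symm c.derived_lt (c.frobenius_derived hW) (Or.inr (Or.inr (Or.inl (by
        rw [Subgroup.relIndex_bot_left, c.card_K]; exact hp))))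

end Setup10

end Cfsg.Agent.PF
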