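import Cfsg.Agent.OddChar.PF.S07InvDade
import Cfsg.Agent.OddChar.Coherence
import Cfsg.Agent.S1501

/-!
# Section 7: `rho` on a coherent set of characters induced from `K`, for `A = K \ {1}`

The results (7.7) and (7.8): `rho` sends `τ₁ ζ` to `ζ` plus a constant on `A`, the constant is a
rational integer when `ζ` is induced from a linear character, and the mass of the image is explicit.
-/

set_option linter.style.haveILetI false
set_option linter.unusedSectionVars false

universe u v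

namespace Cfsg.Agent.PF

open scoped ComplexConjugate
open Cfsg.Lib.Chars Cfsg.Lib.Dade

variable {G : Type u} [Group G] [Fintype G] {A : Set G} {L : Subgroup G} [Fintype L]
  {H : G → Subgroup G} {K : Subgroup L} [hK : K.Normal]

/-- `A` is the set of non-identity elements of the subgroup `K` of `L`. -/
def IsPunctured (A : Set G) (L : Subgroup G) (K : Subgroup L) : Prop :=
  ∀ a : L, (a : G) ∈ A ↔ a ∈ K ∧ a ≠ 1

omit [Fintype G] in
/-- The difference of two induced characters, weighted by the degrees, lives on `A`. -/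
theorem weighted_diff_off (hA : IsPunctured A L K) {θ θ' : K → ℂ} (x : L) (hx : (x : G) ∉ A) :
    (θ' 1 • Cfsg.indFun K θ - θ 1 • Cfsg.indFun K θ' : L → ℂ) x = 0 := by
  by_cases hxK : x ∈ K
  · have h1 : x = 1 := by_contra fun h => hx ((hA x).mpr ⟨hxK, h⟩)
    subst h1
    simp only [Pi.sub_apply, Pi.smul_apply, smul_eq_mul, indFun_one]
    ring
  · simp [indFun_normal_not_mem K _ hxK]

omit [Fintype G] in
/-- A class function orthogonal to the weighted differences of the induced characters is constant on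
`K \ {1}`. -/
theorem const_of_weighted {f : L → ℂ} (hf : Cfsg.IsClassFunction L f)
    (h : ∀ θ θ' : K → ℂ, Cfsg.IsIrrCharacter K θ → θ ≠ (fun _ => 1) →
      Cfsg.IsIrrCharacter K θ' → θ' ≠ (fun _ => 1) →
      θ' 1 * Cfsg.classInner f (Cfsg.indFun K θ) = θ 1 * Cfsg.classInner f (Cfsg.indFun K θ')) :
    ∃ c : ℂ, ∀ a : L, a ∈ K → a ≠ 1 → f a = c := by
  classical
  set g : K → ℂ := fun k => f k with hg
  have hgc : Cfsg.IsClassFunction K g := fun a x => hf a x
  have hrec : ∀ θ : K → ℂ, Cfsg.classInner f (Cfsg.indFun K θ) = Cfsg.classInner g θ :=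
    fun θ => frobenius_reciprocity' K θ hf
  obtain ⟨b, hb⟩ : ∃ b : ℂ, ∀ θ : K → ℂ, Cfsg.IsIrrCharacter K θ → θ ≠ (fun _ => 1) →
      Cfsg.classInner g θ = b * θ 1 := by
    by_cases hex : ∃ θ₀ : K → ℂ, Cfsg.IsIrrCharacter K θ₀ ∧ θ₀ ≠ fun _ => 1
    · obtain ⟨θ₀, h0, h01⟩ := hex
      refine ⟨Cfsg.classInner g θ₀ / θ₀ 1, fun θ hθ hθ1 => ?_⟩
      have h2 := h θ₀ θ h0 h01 hθ hθ1
      rw [hrec, hrec] at h2
      have h3 := IsIrrCharacter.apply_one_ne_zero h0
      field_simp
      linear_combination -h2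
    · push Not at hex
      exact ⟨0, fun θ hθ hθ1 => absurd (hex θ hθ) hθ1⟩
  obtain ⟨c, hc⟩ := const_off_one hgc b hb
  exact ⟨c, fun a ha ha1 => hc ⟨a, ha⟩ fun e => ha1 (congrArg Subtype.val e)⟩

omit [Fintype G] in
theorem weighted_mem (θ θ' : K → ℂ) (hθ : Cfsg.IsIrrCharacter K θ) (hθ1 : θ ≠ fun _ => 1)
    (hθ' : Cfsg.IsIrrCharacter K θ') (hθ'1 : θ' ≠ fun _ => 1) :
    (θ' 1 • Cfsg.indFun K θ - θ 1 • Cfsg.indFun K θ' : L → ℂ) ∈
      Cfsg.zspanOn (Cfsg.inducedIrrAbove K ⊥) {1}ᶜ := by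
  have hmem : ∀ θ : K → ℂ, Cfsg.IsIrrCharacter K θ → θ ≠ (fun _ => 1) →
      Cfsg.indFun K θ ∈ Cfsg.inducedIrrAbove K ⊥ := fun θ hθ h1 =>
    ⟨θ, hθ, h1, fun a ha => by rw [show a = 1 from Subtype.ext (Subgroup.mem_bot.mp ha)], rfl⟩
  obtain ⟨m, -, hm⟩ := IsIrrCharacter.apply_one hθ
  obtain ⟨m', -, hm'⟩ := IsIrrCharacter.apply_one hθ'
  refine ⟨?_, fun x hx => ?_⟩
  · rw [hm, hm', Nat.cast_smul_eq_nsmul ℂ, Nat.cast_smul_eq_nsmul ℂ]
    exact (Submodule.span ℤ (Cfsg.inducedIrrAbove K ⊥)).sub_mem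
      ((Submodule.span ℤ _).smul_of_tower_mem m' (Cfsg.Lib.Coherence.subset_zspan (hmem θ hθ hθ1)))
      ((Submodule.span ℤ _).smul_of_tower_mem m (Cfsg.Lib.Coherence.subset_zspan (hmem θ' hθ' hθ'1)))
  · have h1 : x = 1 := by simpa using hx
    subst h1
    simp only [Pi.sub_apply, Pi.smul_apply, smul_eq_mul, indFun_one]
    ring

omit [Fintype G] in
theorem isClassFunction_zspan {f : L → ℂ} (hf : f ∈ Cfsg.zspan (Cfsg.inducedIrrAbove K ⊥)) :
    Cfsg.IsClassFunction L f :=
  Submodule.span_induction (p := fun f _ => Cfsg.IsClassFunction L f)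
    (fun s hs => by obtain ⟨θ, -, -, -, rfl⟩ := hs; exact isClassFunction_indFun K θ)
    (fun _ _ => rfl) (fun a b _ _ ha hb g x => by simp [ha g x, hb g x])
    (fun n a _ ha g x => by simp [ha g x]) hf

omit [Fintype G] in
theorem zspanOn_off (hA : IsPunctured A L K) {α : L → ℂ}
    (hα : α ∈ Cfsg.zspanOn (Cfsg.inducedIrrAbove K ⊥) {1}ᶜ) (x : L) (hx : (x : G) ∉ A) : α x = 0 := by
  by_cases hxK : x ∈ K
  · have h1 : x = 1 := by_contra fun h => hx ((hA x).mpr ⟨hxK, h⟩)
    exact hα.2 x (by simp [h1])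
  · exact Submodule.span_induction (p := fun f _ => f x = 0)
      (fun s hs => by obtain ⟨θ, -, -, -, rfl⟩ := hs; exact indFun_normal_not_mem K θ hxK)
      rfl (fun a b _ _ ha hb => by simp [ha, hb]) (fun n a _ ha => by simp [ha]) hα.1

/-- A class function of `G` orthogonal to the images of the differences is constant under `rho` on
`A`. -/
theorem rho_const (hD : Cfsg.DadeHypothesis A L H) (hA : IsPunctured A L K) {χ : G → ℂ}
    (hχ : Cfsg.IsClassFunction G χ)
    (h : ∀ α ∈ Cfsg.zspanOn (Cfsg.inducedIrrAbove K ⊥) {1}ᶜ,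
      Cfsg.classInner χ (Cfsg.dadeIsometry A L H α) = 0) :
    ∃ c : ℂ, ∀ a : L, (a : G) ∈ A → rho A L H χ a = c := by
  obtain ⟨c, hc⟩ := const_of_weighted (K := K) (isClassFunction_rho hD hχ)
    fun θ θ' hθ hθ1 hθ' hθ'1 => by
      have hm := weighted_mem (K := K) θ θ' hθ hθ1 hθ' hθ'1
      have h1 := h _ hm
      rw [inner_dade' hD (isClassFunction_zspan hm.1) (fun x hx => weighted_diff_off hA x hx) hχ,
        classInner_sub_right, classInner_smul_right, classInner_smul_right] at h1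
      obtain ⟨m, -, hm'⟩ := IsIrrCharacter.apply_one hθ
      obtain ⟨m', -, hm''⟩ := IsIrrCharacter.apply_one hθ'
      rw [hm', hm'', Complex.conj_natCast, Complex.conj_natCast, sub_eq_zero] at h1
      rw [hm', hm'', h1]
  exact ⟨c, fun a ha => hc a ((hA a).mp ha).1 ((hA a).mp ha).2⟩

/-- (7.8): the image under `rho` of the member `τ₁ ζ` of a coherent set is `ζ` plus a constant. -/
theorem rho_coherent (hD : Cfsg.DadeHypothesis A L H) (hA : IsPunctured A L K)
    {τ₁ : (L → ℂ) → (G → ℂ)}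
    (hτ₁ : Cfsg.IsLinearIsometryOn (Cfsg.zspan (Cfsg.inducedIrrAbove K ⊥)) τ₁)
    (hag : ∀ α ∈ Cfsg.zspanOn (Cfsg.inducedIrrAbove K ⊥) {1}ᶜ,
      τ₁ α = Cfsg.dadeIsometry A L H α)
    {ζ : L → ℂ} (hζ : ζ ∈ Cfsg.zspan (Cfsg.inducedIrrAbove K ⊥)) :
    ∃ c : ℂ, ∀ a : L, (a : G) ∈ A → rho A L H (τ₁ ζ) a = ζ a + c := by
  have hψ : Cfsg.IsClassFunction G (τ₁ ζ) := isClassFunction_generalized (hτ₁.2.2.2 ζ hζ)
  have hρ := isClassFunction_rho (L := L) hD hψ
  obtain ⟨c, hc⟩ := const_of_weighted (K := K) (f := rho A L H (τ₁ ζ) - ζ)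
    (fun g x => by simp [hρ g x, isClassFunction_zspan hζ g x])
    fun θ θ' hθ hθ1 hθ' hθ'1 => by
      have hm := weighted_mem (K := K) θ θ' hθ hθ1 hθ' hθ'1
      have h1 : Cfsg.classInner (rho A L H (τ₁ ζ) - ζ)
          (θ' 1 • Cfsg.indFun K θ - θ 1 • Cfsg.indFun K θ') = 0 := by
        rw [classInner_sub_left, sub_eq_zero,
          ← inner_dade' hD (isClassFunction_zspan hm.1) (fun x hx => weighted_diff_off hA x hx) hψ,
          ← hag _ hm, hτ₁.2.2.1 _ hζ _ hm.1]
      rw [classInner_sub_right, classInner_smul_right, classInner_smul_right] at h1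
      obtain ⟨m, -, hm'⟩ := IsIrrCharacter.apply_one hθ
      obtain ⟨m', -, hm''⟩ := IsIrrCharacter.apply_one hθ'
      rw [hm', hm'', Complex.conj_natCast, Complex.conj_natCast, sub_eq_zero] at h1
      rw [hm', hm'', h1]
  refine ⟨c, fun a ha => ?_⟩
  have := hc a ((hA a).mp ha).1 ((hA a).mp ha).2
  rw [← this]
  simp

/-- The sum over `A` of `ζ + c`, for `ζ` induced from a non-principal irreducible character. -/
theorem sum_punctured (hA : IsPunctured A L K) {θ : K → ℂ} (hθ : Cfsg.IsIrrCharacter K θ)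
    (hθ1 : θ ≠ fun _ => 1) :
    (∑ᶠ a ∈ {a : L | (a : G) ∈ A}, Cfsg.indFun K θ a) = -((K.index : ℂ) * θ 1) := by
  classical
  have hz : ∀ a : L, (a : G) ∉ A → a ≠ 1 → Cfsg.indFun K θ a = 0 := fun a ha ha1 =>
    indFun_normal_not_mem K θ fun hk => ha ((hA a).mpr ⟨hk, ha1⟩)
  have hsum : ∑ a : L, Cfsg.indFun K θ a = 0 := by
    have h1 := frobenius_reciprocity (G := L) K θ (χ := fun _ => (1 : ℂ)) fun _ _ => rfl
    rw [classInner_irrChar hθ isIrrCharacter_one, if_neg hθ1, classInner_def] at h1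
    have : (Nat.card L : ℂ) ≠ 0 := by exact_mod_cast Nat.card_pos.ne'
    simpa [this] using h1
  have h1A : (1 : G) ∉ A := fun h => ((hA 1).mp h).2 rfl
  rw [finsum_mem_eq_finite_toFinset_sum _ (Set.toFinite _), ← indFun_one, eq_neg_iff_add_eq_zero,
    ← hsum]
  rw [← Finset.sum_subset (s₁ := insert (1 : L) (Set.toFinite {a : L | (a : G) ∈ A}).toFinset)
    (Finset.subset_univ _) (fun a _ ha => hz a (fun h => ha (Finset.mem_insert_of_mem (by simpa using h)))
      fun h => ha (by simp [h])),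
    Finset.sum_insert (by simpa using h1A), add_comm]

omit [Fintype G] in
/-- The inner product with an induced character of a class function that is `ζ + c` on `A`. -/
theorem inner_shift (hA : IsPunctured A L K) (ζ : L → ℂ) (c : ℂ) {f : L → ℂ}
    (hf : ∀ a : L, (a : G) ∈ A → f a = ζ a + c) {η : L → ℂ} (hη1 : η 1 = 0)
    (hηK : ∀ a : L, a ∉ K → η a = 0) :
    Cfsg.classInner f η =
      Cfsg.classInner (ζ + c • fun a : L => Set.indicator (K : Set L) (fun _ => (1 : ℂ)) a) η := by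
  classical
  rw [classInner_def, classInner_def]
  congr 1
  refine Finset.sum_congr rfl fun a _ => ?_
  by_cases haK : a ∈ K
  · by_cases ha1 : a = 1
    · subst ha1; simp [hη1]
    · simp [hf a ((hA a).mpr ⟨haK, ha1⟩), haK]
  · simp [hηK a haK]

/-- (7.8): for `ζ` induced from a linear character the constant of `rho_coherent` is an integer. -/
theorem rho_coherent_int (hD : Cfsg.DadeHypothesis A L H) (hA : IsPunctured A L K)
    {ψ : G → ℂ} (hψ : Cfsg.IsGeneralizedCharacter G ψ) {θ : K → ℂ}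
    (hθ : Cfsg.IsIrrCharacter K θ) (hθ1 : θ ≠ fun _ => 1) (hlin : θ 1 = 1) {c : ℂ}
    (hc : ∀ a : L, (a : G) ∈ A → rho A L H ψ a = Cfsg.indFun K θ a + c) :
    ∃ n : ℤ, c = n := by
  classical
  set ζ := Cfsg.indFun K θ with hζdef
  have h1 : Cfsg.IsIrrCharacter K (fun _ => (1 : ℂ)) := isIrrCharacter_one
  set η : L → ℂ := Cfsg.indFun K (fun _ => 1) - ζ with hηdef
  have hη1 : η 1 = 0 := by simp [hηdef, hζdef, indFun_one, hlin]
  have hηK : ∀ a : L, a ∉ K → η a = 0 := fun a ha => by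
    simp [hηdef, hζdef, indFun_normal_not_mem K _ ha]
  have hηA : ∀ x : L, (x : G) ∉ A → η x = 0 := fun x hx => by
    by_cases hxK : x ∈ K
    · have hx1 : x = 1 := by_contra fun h => hx ((hA x).mpr ⟨hxK, h⟩)
      rw [hx1, hη1]
    · exact hηK x hxK
  have hηgen : Cfsg.IsGeneralizedCharacter L η :=
    ⟨_, _, IsCharacter.indFun (isCharacter_of_irr h1), IsCharacter.indFun (isCharacter_of_irr hθ), rfl⟩
  have hζc : Cfsg.IsClassFunction L ζ := isClassFunction_indFun K θ
  obtain ⟨m, hm⟩ := Cfsg.Lib.Coherence.inner_int hψ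
    (Cfsg.Agent.S1501.result A L H hD η hηgen hηA)
  obtain ⟨n, hn⟩ := Cfsg.Lib.Coherence.inner_int (G := L)
    (⟨ζ, 0, IsCharacter.indFun (isCharacter_of_irr hθ), isCharacter_zero, (sub_zero ζ).symm⟩ :
      Cfsg.IsGeneralizedCharacter L ζ)
    (⟨ζ, 0, IsCharacter.indFun (isCharacter_of_irr hθ), isCharacter_zero, (sub_zero ζ).symm⟩ :
      Cfsg.IsGeneralizedCharacter L ζ)
  set I : L → ℂ := fun a => Set.indicator (K : Set L) (fun _ => (1 : ℂ)) a with hI
  have hIc : Cfsg.IsClassFunction L I := fun a x => by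
    have hiff : x * a * x⁻¹ ∈ K ↔ a ∈ K :=
      ⟨fun h => by simpa [mul_assoc] using hK.conj_mem _ h x⁻¹, fun h => hK.conj_mem a h x⟩
    simp [hI, Set.indicator_apply, hiff]
  have hIone : (fun k : K => I k) = fun _ => 1 := funext fun k => by simp [hI]
  have h2 : Cfsg.classInner I (Cfsg.indFun K fun _ => 1) = 1 := by
    rw [frobenius_reciprocity' K _ hIc, hIone, classInner_irrChar h1 h1, if_pos rfl]
  have h3 : Cfsg.classInner I ζ = 0 := by
    rw [frobenius_reciprocity' K _ hIc, hIone, classInner_irrChar h1 hθ, if_neg (Ne.symm hθ1)]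
  have h4 : Cfsg.classInner ζ (Cfsg.indFun K fun _ => 1) = 0 := by
    rw [frobenius_reciprocity' K _ hζc, ← classInner_conj_symm]
    have : Cfsg.classInner (fun _ : K => (1 : ℂ)) (fun k : K => ζ k) =
        Cfsg.classInner (Cfsg.indFun K fun _ => 1) ζ := (frobenius_reciprocity K _ hζc).symm
    rw [this, ← classInner_conj_symm, frobenius_reciprocity K θ (isClassFunction_indFun K _)]
    have h5 : (fun k : K => Cfsg.indFun K (fun _ => (1 : ℂ)) k) = fun _ => (K.index : ℂ) := by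
      funext k
      rw [indFun_normal_mem K _ k, Finset.sum_const, Finset.card_univ, nsmul_eq_mul, mul_one,
        ← Nat.card_eq_fintype_card, ← K.card_mul_index, Nat.cast_mul]
      have : (Nat.card K : ℂ) ≠ 0 := by exact_mod_cast Nat.card_pos.ne'
      field_simp
    rw [h5, show (fun _ : K => (K.index : ℂ)) = (K.index : ℂ) • fun _ : K => (1 : ℂ) by
      funext k; simp, classInner_smul_right, classInner_irrChar hθ h1, if_neg hθ1]
    simp
  refine ⟨m + n, ?_⟩
  rw [inner_dade' hD (isClassFunction_generalized hηgen) hηA (isClassFunction_generalized hψ),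
    inner_shift hA ζ c hc hη1 hηK, hηdef, classInner_sub_right, classInner_add_left,
    classInner_add_left, classInner_smul_left, classInner_smul_left, h2, h3, h4, hn] at hm
  push_cast
  linear_combination hm

/-- The mass of `ζ + c` on `A`. -/
theorem mass_shift (hA : IsPunctured A L K) {θ : K → ℂ} (hθ : Cfsg.IsIrrCharacter K θ)
    (hθ1 : θ ≠ fun _ => 1) (hlin : θ 1 = 1) (c : ℝ) :
    ∑ᶠ a ∈ {a : L | (a : G) ∈ A}, ‖Cfsg.indFun K θ a + c‖ ^ 2 =
      (Nat.card L : ℝ) * (Cfsg.classInner (Cfsg.indFun K θ) (Cfsg.indFun K θ)).re -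
        (K.index : ℝ) ^ 2 - 2 * c * K.index + c ^ 2 * ((Nat.card K : ℝ) - 1) := by
  classical
  set ζ := Cfsg.indFun K θ with hζdef
  set s := (Set.toFinite {a : L | (a : G) ∈ A}).toFinset with hs
  have hsum := sum_punctured hA hθ hθ1
  rw [hlin, mul_one, finsum_mem_eq_finite_toFinset_sum _ (Set.toFinite _), ← hs] at hsum
  have hsre : ∑ a ∈ s, (ζ a).re = -(K.index : ℝ) := by
    have := congrArg Complex.re hsum
    simpa using this
  have h1A : (1 : G) ∉ A := fun h => ((hA 1).mp h).2 rfl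
  have hsq : ∑ a ∈ s, ‖ζ a‖ ^ 2 =
      (Nat.card L : ℝ) * (Cfsg.classInner ζ ζ).re - (K.index : ℝ) ^ 2 := by
    rw [classInner_self, Complex.ofReal_re, ← mul_assoc,
      mul_inv_cancel₀ (by exact_mod_cast Nat.card_pos.ne'), one_mul, eq_sub_iff_add_eq,
      ← Finset.sum_subset (s₁ := insert (1 : L) s) (Finset.subset_univ _) (fun a _ ha => ?_),
      Finset.sum_insert (by simpa [hs] using h1A), add_comm, hζdef, indFun_one, hlin, mul_one,
      Complex.norm_natCast]
    have ha1 : a ≠ 1 := fun h => ha (by simp [h])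
    have haA : (a : G) ∉ A := fun h => ha (by simp [hs, h])
    rw [hζdef, indFun_normal_not_mem K θ fun hk => haA ((hA a).mpr ⟨hk, ha1⟩), norm_zero,
      zero_pow two_ne_zero]
  have hcard : (s.card : ℝ) = (Nat.card K : ℝ) - 1 := by
    have e : insert (1 : L) s = Finset.univ.filter (· ∈ K) := by
      ext a
      by_cases ha1 : a = 1
      · simp [ha1]
      · simp [hs, ha1, hA a]
    have := congrArg Finset.card e
    rw [Finset.card_insert_of_notMem (by simpa [hs] using h1A)] at this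
    rw [Nat.card_eq_fintype_card, Fintype.card_subtype, ← this]
    push_cast; ring
  have e : ∀ a : L, ‖ζ a + c‖ ^ 2 = ‖ζ a‖ ^ 2 + 2 * c * (ζ a).re + c ^ 2 := by
    intro a
    rw [← Complex.normSq_eq_norm_sq, ← Complex.normSq_eq_norm_sq, Complex.normSq_apply,
      Complex.normSq_apply, Complex.add_re, Complex.add_im, Complex.ofReal_re, Complex.ofReal_im]
    ring
  rw [finsum_mem_eq_finite_toFinset_sum _ (Set.toFinite _), ← hs]
  simp only [e, Finset.sum_add_distrib, ← Finset.mul_sum, Finset.sum_const, nsmul_eq_mul, hsq, hsre,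
    hcard]
  ring

end Cfsg.Agent.PF
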