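import Cfsg.Agent.OddChar.DadeGen
import Cfsg.Agent.OddChar.InducedFamily
import Cfsg.Agent.S1500
import Cfsg.Agent.S1525

/-!
# Section 7: the map left inverse to the Dade map

`rho A L H χ` is the class function on `L` vanishing off `A` whose value at `a ∈ A` is the average of
`χ` over `a * H a`.  It is adjoint to the Dade map, it does not increase norms, and on a set
`A = K \ {1}` it sends the image of a member of a coherent set of characters induced from `K` to
that member plus a constant.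
-/

set_option linter.style.haveILetI false
set_option linter.unusedSectionVars false

universe u v w

namespace Cfsg.Agent.PF

open scoped ComplexConjugate
open Cfsg.Lib.Chars Cfsg.Lib.Dade

variable {G : Type u} [Group G] {A : Set G} {L : Subgroup G} {H : G → Subgroup G}

open Classical in
/-- The average of `χ` over `a * H a` at the elements `a` of `A`, extended by zero. -/
noncomputable def rho (A : Set G) (L : Subgroup G) (H : G → Subgroup G) (χ : G → ℂ) : L → ℂ :=
  fun a => if (a : G) ∈ A then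
    (Nat.card (H a) : ℂ)⁻¹ * ∑ᶠ u ∈ (H a : Set G), χ (a * u) else 0

/-- The support in `G` of the Dade map: the conjugates of the cosets `a * H a`, `a ∈ A`. -/
def dadeSupp (A : Set G) (H : G → Subgroup G) : Set G :=
  {g : G | ∃ a ∈ A, ∃ u ∈ H a, ∃ x : G, x * g * x⁻¹ = a * u}

theorem rho_apply {a : L} (ha : (a : G) ∈ A) (χ : G → ℂ) :
    rho A L H χ a = (Nat.card (H a) : ℂ)⁻¹ * ∑ᶠ u ∈ (H a : Set G), χ (a * u) := by
  simp [rho, ha]

theorem rho_eq_zero {a : L} (ha : (a : G) ∉ A) (χ : G → ℂ) : rho A L H χ a = 0 := by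
  simp [rho, ha]

theorem rho_of_const [Finite G] {a : L} (ha : (a : G) ∈ A) {χ : G → ℂ} {c : ℂ}
    (hc : ∀ u ∈ H a, χ (a * u) = c) : rho A L H χ a = c := by
  rw [rho_apply ha, finsum_mem_congr rfl hc, finsum_mem_eq_finite_toFinset_sum _ (Set.toFinite _),
    Finset.sum_const, ← Set.ncard_eq_toFinset_card _ (Set.toFinite _), nsmul_eq_mul]
  have : (Nat.card (H (a : G)) : ℂ) ≠ 0 := by exact_mod_cast Nat.card_pos.ne'
  rw [← Nat.card_coe_set_eq]
  exact inv_mul_cancel_left₀ this c

theorem rho_one [Finite G] {a : L} (ha : (a : G) ∈ A) : rho A L H (fun _ => 1) a = 1 :=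
  rho_of_const ha fun _ _ => rfl

theorem rho_add [Finite G] (χ χ' : G → ℂ) :
    rho A L H (χ + χ') = rho A L H χ + rho A L H χ' := by
  funext a
  by_cases ha : (a : G) ∈ A
  · simp only [Pi.add_apply, rho_apply ha, ← mul_add]
    rw [finsum_mem_add_distrib (Set.toFinite _)]
  · simp [rho_eq_zero ha]

theorem rho_smul [Finite G] (c : ℂ) (χ : G → ℂ) : rho A L H (c • χ) = c • rho A L H χ := by
  funext a
  by_cases ha : (a : G) ∈ A
  · simp only [Pi.smul_apply, smul_eq_mul, rho_apply ha]
    rw [finsum_mem_eq_finite_toFinset_sum _ (Set.toFinite _),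
      finsum_mem_eq_finite_toFinset_sum _ (Set.toFinite _), ← Finset.mul_sum, mul_left_comm]
  · simp [rho_eq_zero ha]

theorem isClassFunction_rho [Finite G] (hD : Cfsg.DadeHypothesis A L H) {χ : G → ℂ}
    (hχ : Cfsg.IsClassFunction G χ) : Cfsg.IsClassFunction L (rho A L H χ) := by
  intro a x
  have key : ∀ b y : L, (b : G) ∈ A → rho A L H χ (y * b * y⁻¹) = rho A L H χ b := by
    intro b y hb
    have hb' : ((y * b * y⁻¹ : L) : G) ∈ A := by simpa using hD.conj_mem y y.2 b hb
    have himg : MulAut.conj (y : G) '' (H b : Set G) = (H ((y * b * y⁻¹ : L) : G) : Set G) := by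
      ext u
      constructor
      · rintro ⟨v, hv, rfl⟩
        exact conj_mem_H' hD hb hb' (y := (y : G)) (by simp) hv
      · intro hu
        refine ⟨(y : G)⁻¹ * u * y, ?_, by simp [mul_assoc]⟩
        have := conj_mem_H' hD hb' hb (y := (y : G)⁻¹) (by simp [mul_assoc]) hu
        simpa using this
    have hcard : Nat.card (H ((y * b * y⁻¹ : L) : G)) = Nat.card (H (b : G)) := by
      have h := Nat.card_image_of_injective (MulAut.conj (y : G)).injective (H (b : G) : Set G)
      rw [himg] at h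
      exact h
    rw [rho_apply hb', rho_apply hb, hcard, ← himg,
      finsum_mem_image (MulAut.conj (y : G)).injective.injOn]
    congr 1
    refine finsum_mem_congr rfl fun u _ => ?_
    rw [← hχ ((b : G) * u) (y : G)]
    simp [mul_assoc]
  by_cases ha : (a : G) ∈ A
  · exact key a x ha
  · have hb : ((x * a * x⁻¹ : L) : G) ∉ A := fun hb =>
      ha (by simpa [mul_assoc] using hD.conj_mem (x : G)⁻¹ (inv_mem x.2) _ hb)
    rw [rho_eq_zero ha, rho_eq_zero hb]

variable [Fintype G] [Fintype L]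

/-- `rho` is adjoint to the Dade map. -/
theorem inner_dade (hD : Cfsg.DadeHypothesis A L H) {α : L → ℂ}
    (hα : Cfsg.IsClassFunction L α) (hαA : ∀ x : L, (x : G) ∉ A → α x = 0) {χ : G → ℂ}
    (hχ : Cfsg.IsClassFunction G χ) :
    Cfsg.classInner (Cfsg.dadeIsometry A L H α) χ = Cfsg.classInner α (rho A L H χ) :=
  classInner_dade hD hα hαA hχ fun a ha => rho_apply ha χ

theorem inner_dade' (hD : Cfsg.DadeHypothesis A L H) {α : L → ℂ}
    (hα : Cfsg.IsClassFunction L α) (hαA : ∀ x : L, (x : G) ∉ A → α x = 0) {χ : G → ℂ}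
    (hχ : Cfsg.IsClassFunction G χ) :
    Cfsg.classInner χ (Cfsg.dadeIsometry A L H α) = Cfsg.classInner (rho A L H χ) α := by
  rw [← classInner_conj_symm, inner_dade hD hα hαA hχ, classInner_conj_symm]

/-- `rho` does not increase the mass. -/
theorem rho_mass (hD : Cfsg.DadeHypothesis A L H) {χ : G → ℂ} (hχ : Cfsg.IsClassFunction G χ) :
    (Nat.card L : ℝ)⁻¹ * ∑ a : L, ‖rho A L H χ a‖ ^ 2 ≤
      (Nat.card G : ℝ)⁻¹ * ∑ᶠ g ∈ dadeSupp A H, ‖χ g‖ ^ 2 := by
  classical
  refine le_trans (le_of_eq ?_)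
    (Cfsg.Agent.S1525.result A L H hD χ hχ (rho A L H χ) fun a ha => rho_apply ha χ)
  congr 1
  rw [finsum_mem_eq_finite_toFinset_sum _ (Set.toFinite _)]
  symm
  refine Finset.sum_subset (Finset.subset_univ _) fun a _ ha => ?_
  rw [rho_eq_zero (by simpa using ha), norm_zero, zero_pow two_ne_zero]

theorem isClassFunction_indicator (hD : Cfsg.DadeHypothesis A L H) :
    Cfsg.IsClassFunction L (fun a : L => Set.indicator A (fun _ => (1 : ℂ)) (a : G)) := by
  intro a x
  beta_reduce
  by_cases ha : (a : G) ∈ A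
  · rw [Set.indicator_of_mem ha,
      Set.indicator_of_mem (by simpa using hD.conj_mem x x.2 a ha)]
  · have hb : ((x * a * x⁻¹ : L) : G) ∉ A := fun hb =>
      ha (by simpa [mul_assoc] using hD.conj_mem (x : G)⁻¹ (inv_mem x.2) _ hb)
    rw [Set.indicator_of_notMem ha, Set.indicator_of_notMem hb]

/-- The relative size of the support of the Dade map. -/
theorem card_dadeSupp (hD : Cfsg.DadeHypothesis A L H) :
    (Nat.card G : ℝ)⁻¹ * (Nat.card (dadeSupp A H) : ℝ) =
      (Nat.card L : ℝ)⁻¹ * (Nat.card {a : L // (a : G) ∈ A} : ℝ) := by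
  classical
  set α : L → ℂ := fun a => Set.indicator A (fun _ => (1 : ℂ)) (a : G) with hα
  have hαc : Cfsg.IsClassFunction L α := isClassFunction_indicator hD
  have hτ : ∀ g, Cfsg.dadeIsometry A L H α g = if g ∈ dadeSupp A H then 1 else 0 := by
    intro g
    split_ifs with hg
    · obtain ⟨a, ha, u, hu, x, hx⟩ := hg
      rw [dade_apply hD hαc ⟨a, hD.subset ha⟩ ha hu hx]
      exact Set.indicator_of_mem ha _
    · exact dade_eq_zero α fun a ha x u hu he => hg ⟨a, ha, u, hu, x, he⟩
  have h := inner_dade hD hαc (fun x hx => Set.indicator_of_notMem hx _) (χ := fun _ => (1 : ℂ))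
    fun _ _ => rfl
  rw [classInner_def, classInner_def] at h
  simp only [hτ, map_one, mul_one] at h
  have e : ∀ a : L, α a * conj (rho A L H (fun _ => 1) a) = if (a : G) ∈ A then 1 else 0 := by
    intro a
    split_ifs with ha
    · rw [hα, rho_one ha, map_one, mul_one]
      exact Set.indicator_of_mem ha _
    · rw [hα]
      simp [ha]
  simp only [e, Finset.sum_boole] at h
  have e1 : Nat.card (dadeSupp A H) = (Finset.univ.filter (· ∈ dadeSupp A H)).card := by
    rw [Nat.card_eq_fintype_card, Fintype.card_subtype]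
  have e2 : Nat.card {a : L // (a : G) ∈ A} =
      (Finset.univ.filter fun a : L => (a : G) ∈ A).card := by
    rw [Nat.card_eq_fintype_card, Fintype.card_subtype]
  rw [e1, e2]
  apply Complex.ofReal_injective
  push_cast
  exact h

/-- Bessel's inequality for disjoint Dade supports: the values off the supports and the masses of
the images under `rho` together are at most the norm. -/
theorem cover_le {ι : Type w} [Fintype ι] (A : ι → Set G) (L : ι → Subgroup G)
    (H : ι → G → Subgroup G) [∀ i, Fintype (L i)]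
    (hD : ∀ i, Cfsg.DadeHypothesis (A i) (L i) (H i))
    (hdisj : ∀ i j, i ≠ j → Disjoint (dadeSupp (A i) (H i)) (dadeSupp (A j) (H j)))
    {χ : G → ℂ} (hχ : Cfsg.IsClassFunction G χ) :
    (Nat.card G : ℝ)⁻¹ * ∑ᶠ g ∈ (⋃ i, dadeSupp (A i) (H i))ᶜ, ‖χ g‖ ^ 2 +
        ∑ i, (Nat.card (L i) : ℝ)⁻¹ * ∑ a : L i, ‖rho (A i) (L i) (H i) χ a‖ ^ 2 ≤
      (Cfsg.classInner χ χ).re := by
  classical
  refine (add_le_add le_rfl (Finset.sum_le_sum fun i _ => rho_mass (hD i) hχ)).trans (le_of_eq ?_)
  have e1 : ∑ i, ∑ᶠ g ∈ dadeSupp (A i) (H i), ‖χ g‖ ^ 2 =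
      ∑ᶠ g ∈ ⋃ i, dadeSupp (A i) (H i), ‖χ g‖ ^ 2 := by
    rw [finsum_mem_iUnion (fun i j h => hdisj i j h) fun i => Set.toFinite _,
      finsum_eq_sum_of_fintype]
  have e2 : ∑ᶠ g ∈ (⋃ i, dadeSupp (A i) (H i))ᶜ, ‖χ g‖ ^ 2 +
      ∑ᶠ g ∈ ⋃ i, dadeSupp (A i) (H i), ‖χ g‖ ^ 2 = ∑ g : G, ‖χ g‖ ^ 2 := by
    rw [← finsum_mem_union disjoint_compl_left (Set.toFinite _) (Set.toFinite _),
      Set.compl_union_self, finsum_mem_univ, finsum_eq_sum_of_fintype]
  rw [← Finset.mul_sum, e1, ← mul_add, e2, classInner_self, Complex.ofReal_re]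

omit [Fintype G] [Fintype L] in
/-- A class function whose coefficients at the non-principal irreducible characters are proportional
to the degrees is constant off the identity. -/
theorem const_off_one {K : Type v} [Group K] [Fintype K] {f : K → ℂ}
    (hf : Cfsg.IsClassFunction K f) (b : ℂ)
    (hb : ∀ θ : K → ℂ, Cfsg.IsIrrCharacter K θ → θ ≠ (fun _ => 1) →
      Cfsg.classInner f θ = b * θ 1) :
    ∃ c : ℂ, ∀ k : K, k ≠ 1 → f k = c := by
  classical
  refine ⟨Cfsg.classInner f (fun _ => 1) - b, fun k hk => ?_⟩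
  rw [classFunction_expand_apply hf]
  have h1 : Cfsg.IsIrrCharacter K (fun _ => (1 : ℂ)) := isIrrCharacter_one
  let e : Cfsg.IrrCharacter K := ⟨fun _ => 1, h1⟩
  have h2 : ∀ θ : Cfsg.IrrCharacter K, Cfsg.classInner f (θ : K → ℂ) * (θ : K → ℂ) k =
      b * ((θ : K → ℂ) 1 * (θ : K → ℂ) k) +
        if θ = e then Cfsg.classInner f (fun _ => 1) - b else 0 := by
    intro θ
    split_ifs with he
    · subst he
      simp [e]
    · rw [hb θ θ.2 (fun h => he (Subtype.ext h))]
      ring
  simp only [h2, Finset.sum_add_distrib, ← Finset.mul_sum, Finset.sum_ite_eq', Finset.mem_univ,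
    if_true]
  rw [sum_deg_mul, if_neg hk]
  ring

end Cfsg.Agent.PF
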