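import Cfsg.Agent.OddChar.PF.S09Stab

/-!
# Section 9: invariant characters, and the counting of characters of degree `u`
-/

set_option linter.unusedSectionVars false
set_option linter.unusedVariables false
set_option linter.style.haveILetI false

universe u

namespace Cfsg.Agent.PF

open Cfsg.Lib.Chars Cfsg.Lib.InducedFamily
open Subgroup
open scoped commutatorElement

namespace Ctx9

variable {L : Type u} [Group L] [Fintype L] {K H H₀ U C W W₂ : Subgroup L} {q p : ℕ}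

theorem index_K (c : Ctx9 K H H₀ U C W W₂ q p) : K.index = q := by
  have hn : W ≤ normalizer (K : Set L) := by
    haveI := c.K_normal
    rw [Subgroup.normalizer_eq_top]
    exact le_top
  have h1 := Cfsg.Lib.Coprime.card_sup_of_inf_eq_bot hn c.K_inf_W
  rw [c.K_sup_W, c.card_W, Subgroup.card_top, ← K.card_mul_index] at h1
  exact Nat.eq_of_mul_eq_mul_left Nat.card_pos h1

theorem decomp (c : Ctx9 K H H₀ U C W W₂ q p) (g : L) : ∃ k ∈ K, ∃ w ∈ W, k * w = g := by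
  haveI := c.K_normal
  exact (Subgroup.mem_sup_of_normal_left).mp (c.K_sup_W.ge (mem_top g))

theorem exists_generator (c : Ctx9 K H H₀ U C W W₂ q p) :
    ∃ y ∈ W, y ≠ 1 ∧ orderOf y = q ∧ ∀ w ∈ W, w ∈ zpowers y := by
  haveI := c.W_cyclic
  obtain ⟨g, hg⟩ := IsCyclic.exists_generator (α := ↥W)
  have hq : orderOf g = q := by rw [orderOf_eq_card_of_forall_mem_zpowers hg, c.card_W]
  refine ⟨g, g.2, fun e => ?_, by rw [orderOf_submonoid, hq] , fun w hw => ?_⟩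
  · rw [show g = 1 from Subtype.ext e, orderOf_one] at hq
    exact c.q_prime.ne_one hq.symm
  · obtain ⟨j, hj⟩ := Subgroup.mem_zpowers_iff.mp (hg ⟨w, hw⟩)
    exact ⟨j, by simpa using congrArg Subtype.val hj⟩

theorem inner_invariant (c : Ctx9 K H H₀ U C W W₂ q p) [K.Normal] {θ : ↥K → ℂ}
    (hθ : Cfsg.IsIrrCharacter ↥K θ) (hW : ∀ w ∈ W, Cfsg.Lib.Chars.conjN K w θ = θ) :
    (∀ g : L, Cfsg.Lib.Chars.conjN K g θ = θ) ∧
      Cfsg.classInner (Cfsg.indFun K θ) (Cfsg.indFun K θ) = (q : ℂ) ∧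
      ¬ Cfsg.IsIrrCharacter L (Cfsg.indFun K θ) := by
  haveI := Fintype.ofFinite ↥K
  have hall : ∀ g : L, Cfsg.Lib.Chars.conjN K g θ = θ := by
    intro g
    obtain ⟨k, hk, w, hw, rfl⟩ := c.decomp g
    exact mul_mem (le_inertia (isClassFunction_irr ⟨θ, hθ⟩) hk)
      (show w ∈ inertia K θ from hW w hw)
  have h1 := classInner_indFun_eq_card K hθ hθ
  have h2 : Nat.card {g : L // Cfsg.Lib.Chars.conjN K g θ = θ} = Nat.card L :=
    Nat.card_congr ((Equiv.subtypeEquivRight (q := fun _ => True) fun g => by simp [hall g]).trans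
      (Equiv.Set.univ L))
  rw [h2, ← K.card_mul_index, c.index_K, Nat.cast_mul] at h1
  have h3 := mul_left_cancel₀ (Nat.cast_ne_zero.mpr Nat.card_pos.ne') h1
  refine ⟨hall, h3, fun hirr => ?_⟩
  rw [classInner_self_irr hirr] at h3
  exact c.q_prime.ne_one (by exact_mod_cast h3.symm)

theorem irr_of_not_invariant (c : Ctx9 K H H₀ U C W W₂ q p) [K.Normal] {θ : ↥K → ℂ}
    (hθ : Cfsg.IsIrrCharacter ↥K θ) (hW : ¬ ∀ w ∈ W, Cfsg.Lib.Chars.conjN K w θ = θ) :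
    Cfsg.IsIrrCharacter L (Cfsg.indFun K θ) := by
  refine s09_indFun_irr hθ fun g hg => ?_
  obtain ⟨k, hk, w, hw, rfl⟩ := c.decomp g
  have hkI := le_inertia (isClassFunction_irr ⟨θ, hθ⟩) hk
  have hwI : w ∈ inertia K θ := by
    have := mul_mem (inv_mem hkI) (show k * w ∈ inertia K θ from hg)
    rwa [inv_mul_cancel_left] at this
  by_cases hw1 : w = 1
  · rw [hw1, mul_one]; exact hk
  refine absurd ?_ hW
  intro v hv
  haveI := c.W_cyclic
  haveI : Fact q.Prime := ⟨c.q_prime⟩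
  have hgen : zpowers (⟨w, hw⟩ : ↥W) = ⊤ :=
    zpowers_eq_top_of_prime_card c.card_W (fun e => hw1 (congrArg Subtype.val e))
  obtain ⟨j, hj⟩ := Subgroup.mem_zpowers_iff.mp (hgen.ge (mem_top (⟨v, hv⟩ : ↥W)))
  have : v = w ^ j := by simpa using (congrArg Subtype.val hj).symm
  rw [this]
  exact zpow_mem hwI j

/-- The invariant characters trivial on `H₀ C'` and not on `H` have degree `u`. -/
theorem deg_of_invariant (c : Ctx9 K H H₀ U C W W₂ q p) [K.Normal] {θ : ↥K → ℂ}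
    (hθ : Cfsg.IsIrrCharacter ↥K θ) (h0 : Above θ (H₀ ⊔ ⁅C, C⁆)) (hH : ¬ Above θ H)
    (hW : ∀ w ∈ W, Cfsg.Lib.Chars.conjN K w θ = θ) : deg θ = C.relIndex U := by
  classical
  haveI hHn := c.H_normal
  haveI hH0n := c.H₀_normal
  haveI := Fintype.ofFinite ↥H
  haveI : Fact q.Prime := ⟨c.q_prime⟩
  obtain ⟨f, hf, hne, hc⟩ := c.exists_constituent_H hθ (h0.mono le_sup_left) hH
  obtain ⟨O, m, hm, hO, hres, hcard⟩ := s09_orbit H c.H_le hθ (Cfsg.Lib.Dual.isIrr_ev f) hc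
  have hirr : ∀ h ∈ O, Cfsg.IsIrrCharacter ↥H h := fun h hh => by
    obtain ⟨k, -, rfl⟩ := (hO h).mp hh
    exact IsIrrCharacter.conjN (Cfsg.Lib.Dual.isIrr_ev f) k
  have hmem : ∀ h, Cfsg.IsIrrCharacter ↥H h →
      (h ∈ O ↔ Cfsg.classInner (resTo c.H_le θ) h ≠ 0) := by
    intro h hh
    rw [hres, classInner_smul_left, classInner_sum_left]
    constructor
    · intro hin
      rw [Finset.sum_eq_single h (fun b hb hne => by rw [classInner_irrChar (hirr b hb) hh, if_neg hne])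
        (fun e => absurd hin e), classInner_self_irr hh, mul_one]
      exact_mod_cast hm.ne'
    · intro hne
      by_contra hin
      refine hne ?_
      rw [Finset.sum_eq_zero fun b hb => by
        rw [classInner_irrChar (hirr b hb) hh, if_neg (fun (e : b = h) => hin (e ▸ hb))], mul_zero]
  have hinv : ∀ w ∈ W, Cfsg.Lib.Chars.conjN H w (resTo c.H_le θ) = resTo c.H_le θ := fun w hw => by
    funext y
    exact congrFun (hW w hw) ⟨y, c.H_le y.2⟩
  have hstable : ∀ w ∈ W, ∀ h ∈ O, Cfsg.Lib.Chars.conjN H w h ∈ O := by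
    intro w hw h hh
    rw [hmem _ (IsIrrCharacter.conjN (hirr h hh) w), ← hinv w hw, classInner_conjN]
    exact (hmem h (hirr h hh)).mp hh
  let S := {h : ↥H → ℂ // h ∈ O}
  let act : MulAction ↥W S :=
    { smul := fun w h => ⟨Cfsg.Lib.Chars.conjN H (w : L)⁻¹ h.1, hstable _ (inv_mem w.2) _ h.2⟩
      one_smul := fun h => Subtype.ext (by
        show Cfsg.Lib.Chars.conjN H ((1 : ↥W) : L)⁻¹ h.1 = h.1
        rw [OneMemClass.coe_one, inv_one, conjN_one])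
      mul_smul := fun a b h => Subtype.ext (by
        show Cfsg.Lib.Chars.conjN H ((a * b : ↥W) : L)⁻¹ h.1 =
          Cfsg.Lib.Chars.conjN H (a : L)⁻¹ (Cfsg.Lib.Chars.conjN H (b : L)⁻¹ h.1)
        rw [← conjN_mul, Subgroup.coe_mul, mul_inv_rev]) }
  have hS : Nat.card S = (stab U f).relIndex U := by
    rw [Nat.card_eq_fintype_card, Fintype.card_coe, hcard, c.inertia_inf_K,
      c.relIndex_sup (stab_le U f)]
  have hcopS : ¬ q ∣ Nat.card S := by
    intro hd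
    rw [hS] at hd
    exact c.q_prime.ne_one (Nat.eq_one_of_dvd_coprimes c.coprime
      ((hd.trans (Subgroup.relIndex_dvd_card _ _)).trans (Subgroup.card_dvd_of_le c.U_le)) dvd_rfl)
  obtain ⟨s, hs⟩ := (IsPGroup.of_card (n := 1) (by rw [c.card_W, pow_one]) :
    IsPGroup q ↥W).nonempty_fixed_point_of_prime_not_dvd_card S hcopS
  obtain ⟨k, -, hk⟩ := (hO s.1).mp s.2
  let g : ↥H →* ℂˣ := f.comp (MulAut.conjNormal k : MulAut ↥H).toMonoidHom
  have hg : Cfsg.Lib.Dual.ev g = s.1 := by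
    rw [← hk, conjN_eq_comp]; rfl
  have hgne : g ≠ 1 := by
    intro e
    refine hne (MonoidHom.ext fun y => ?_)
    have := DFunLike.congr_fun e ((MulAut.conjNormal k : MulAut ↥H).symm y)
    simpa [g] using this
  have hg0 : ∀ a : ↥H, (a : L) ∈ H₀ → g a = 1 := fun a ha => hf _ (by
    simpa using hH0n.conj_mem _ ha k)
  have hWg : W ≤ normalizer (stab U g : Set L) := by
    refine s09_le_normalizer_of_conj fun w hw x hx => ?_
    have hwI : w ∈ inertia H (Cfsg.Lib.Dual.ev g) := by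
      rw [mem_inertia, hg]
      have := congrArg Subtype.val (hs (⟨w, hw⟩⁻¹ : ↥W))
      exact (congrArg (fun z => Cfsg.Lib.Chars.conjN H z s.1) (inv_inv w).symm).trans this
    exact ⟨(inertia H (Cfsg.Lib.Dual.ev g)).mul_mem ((inertia H (Cfsg.Lib.Dual.ev g)).mul_mem hwI hx.1)
      ((inertia H (Cfsg.Lib.Dual.ev g)).inv_mem hwI), s09_conj_mem (c.W_normalizes_U hw) hx.2⟩
  have hgc : Cfsg.classInner (resTo c.H_le θ) (Cfsg.Lib.Dual.ev g) ≠ 0 :=
    (hmem _ (Cfsg.Lib.Dual.isIrr_ev g)).mp (hg ▸ s.2)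
  exact Nat.dvd_antisymm (c.deg_dvd_u hθ h0)
    (c.stab_eq_of_invariant hg0 hgne hWg ▸ c.stab_relIndex_dvd hθ hgc)

theorem card_W₂_inf_pos (c : Ctx9 K H H₀ U C W W₂ q p) : 0 < Nat.card ↥(W₂ ⊓ H₀) := Nat.card_pos

theorem card_fixed (c : Ctx9 K H H₀ U C W W₂ q p) [K.Normal] (N : Subgroup L) [N.Normal]
    (hN : N ≤ K) :
    Nat.card {θ : Cfsg.IrrCharacter ↥K //
        Above (θ : ↥K → ℂ) N ∧ ∀ w ∈ W, Cfsg.Lib.Chars.conjN K w (θ : ↥K → ℂ) = θ} *
      Nat.card ↥(W₂ ⊓ N) = Nat.card W₂ := by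
  obtain ⟨y, hy, hy1, hord, hgen⟩ := c.exists_generator
  haveI := c.W₂_cyclic
  rw [← s09_card_fixed_above (K := K) N W₂ hN (hord.symm ▸ c.coprime) (c.centW y hy hy1)
    (fun a ha b hb => congrArg Subtype.val
      (IsCyclic.isMulCommutative.is_comm.comm (⟨a, ha⟩ : ↥W₂) ⟨b, hb⟩))]
  congr 1
  refine Nat.card_congr (Equiv.subtypeEquivRight fun θ => ⟨fun h => ⟨h.1, h.2 y hy⟩, fun h => ⟨h.1, ?_⟩⟩)
  intro w hw
  obtain ⟨j, rfl⟩ := Subgroup.mem_zpowers_iff.mp (hgen w hw)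
  exact zpow_mem (show y ∈ inertia K (θ : ↥K → ℂ) from h.2) j

open scoped Classical in
/-- The invariant characters trivial on `H₀ C'` are trivial on `H₀ C`; those non-trivial on `H`
are `p - 1` in number. -/
theorem invariant_set (c : Ctx9 K H H₀ U C W W₂ q p) [K.Normal] :
    ∃ A : Finset (Cfsg.IrrCharacter ↥K), A.card = p - 1 ∧
      (∀ θ ∈ A, Above (θ : ↥K → ℂ) (H₀ ⊔ C) ∧ ¬ Above (θ : ↥K → ℂ) H ∧
        ∀ w ∈ W, Cfsg.Lib.Chars.conjN K w (θ : ↥K → ℂ) = θ) ∧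
      ∀ θ : Cfsg.IrrCharacter ↥K, Above (θ : ↥K → ℂ) (H₀ ⊔ ⁅C, C⁆) → ¬ Above (θ : ↥K → ℂ) H →
        (∀ w ∈ W, Cfsg.Lib.Chars.conjN K w (θ : ↥K → ℂ) = θ) → θ ∈ A := by
  haveI := c.sup_C'_normal
  haveI := c.sup_C_normal
  haveI := c.H_normal
  haveI := Fintype.ofFinite (Cfsg.IrrCharacter ↥K)
  have hC' : ⁅C, C⁆ ≤ C := Subgroup.commutator_le_self C
  have hC'U : ⁅C, C⁆ ≤ U := hC'.trans c.C_le
  let inv : Cfsg.IrrCharacter ↥K → Prop := fun θ =>
    ∀ w ∈ W, Cfsg.Lib.Chars.conjN K w (θ : ↥K → ℂ) = θ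
  let S : Subgroup L → Finset (Cfsg.IrrCharacter ↥K) := fun N =>
    Finset.univ.filter fun θ => Above (θ : ↥K → ℂ) N ∧ inv θ
  have hS : ∀ N : Subgroup L, ∀ [N.Normal], N ≤ K →
      (S N).card * Nat.card ↥(W₂ ⊓ N) = Nat.card W₂ := by
    intro N _ hN
    rw [← c.card_fixed N hN]
    congr 1
    rw [Nat.card_eq_fintype_card, Fintype.card_subtype]
  have h2 : ∀ X : Subgroup L, X ≤ U → ∀ [(H₀ ⊔ X).Normal], (S (H₀ ⊔ X)).card = p := by
    intro X hX _
    refine Nat.eq_of_mul_eq_mul_right c.card_W₂_inf_pos ?_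
    rw [← c.W₂_card, ← c.inf_sup hX]
    exact hS _ (sup_le (c.H₀_le.trans c.H_le) (hX.trans c.U_le))
  have hA := h2 C c.C_le
  have hA' := h2 ⁅C, C⁆ hC'U
  have hAA : S (H₀ ⊔ C) = S (H₀ ⊔ ⁅C, C⁆) := by
    refine Finset.eq_of_subset_of_card_le (fun θ hθ => ?_) (hA'.trans hA.symm).le
    obtain ⟨-, h, h'⟩ := Finset.mem_filter.mp hθ
    exact Finset.mem_filter.mpr ⟨Finset.mem_univ _, h.mono (sup_le_sup_left hC' H₀), h'⟩
  -- only the principal character is trivial on `H`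
  haveI hHC : (H ⊔ (H₀ ⊔ ⁅C, C⁆)).Normal := inferInstance
  have h1 : (S (H ⊔ (H₀ ⊔ ⁅C, C⁆))).card = 1 := by
    have := hS (H ⊔ (H₀ ⊔ ⁅C, C⁆))
      (sup_le c.H_le (sup_le (c.H₀_le.trans c.H_le) (hC'U.trans c.U_le)))
    rw [inf_eq_left.mpr (c.W₂_le.trans le_sup_left)] at this
    exact Nat.eq_of_mul_eq_mul_right Nat.card_pos (this.trans (one_mul _).symm)
  let one : Cfsg.IrrCharacter ↥K := ⟨fun _ => 1, isIrrCharacter_one⟩
  have hone : ∀ N, one ∈ S N := fun N =>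
    Finset.mem_filter.mpr ⟨Finset.mem_univ _, fun _ _ => rfl, fun w _ => rfl⟩
  have honly : ∀ θ ∈ S (H₀ ⊔ ⁅C, C⁆), Above (θ : ↥K → ℂ) H → θ = one := by
    intro θ hθ hH
    obtain ⟨-, h, h'⟩ := Finset.mem_filter.mp hθ
    have hmem : θ ∈ S (H ⊔ (H₀ ⊔ ⁅C, C⁆)) := by
      refine Finset.mem_filter.mpr ⟨Finset.mem_univ _, ?_, h'⟩
      haveI := Fintype.ofFinite ↥K
      let D : Subgroup L := (kerSubgroup (θ : ↥K → ℂ) (isCharacter_of_irr θ.2)).map K.subtype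
      intro a ha
      have hle : H ⊔ (H₀ ⊔ ⁅C, C⁆) ≤ D := sup_le
        (fun x hx => ⟨⟨x, c.H_le hx⟩, (mem_kerSubgroup (isCharacter_of_irr θ.2) _).mpr (hH _ hx), rfl⟩)
        (fun x hx => ⟨⟨x, (sup_le (c.H₀_le.trans c.H_le) (hC'U.trans c.U_le) : _ ≤ K) hx⟩,
          (mem_kerSubgroup (isCharacter_of_irr θ.2) _).mpr (h _ hx), rfl⟩)
      obtain ⟨z, hz, hzz⟩ := hle ha
      rw [← show z = a from Subtype.ext hzz]
      exact (mem_kerSubgroup (isCharacter_of_irr θ.2) _).mp hz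
    exact Finset.card_le_one.mp h1.le _ hmem _ (hone _)
  refine ⟨(S (H₀ ⊔ C)).erase one, ?_, ?_, ?_⟩
  · rw [Finset.card_erase_of_mem (hone _), hA]
  · intro θ hθ
    obtain ⟨hne, hθ'⟩ := Finset.mem_erase.mp hθ
    obtain ⟨-, h, h'⟩ := Finset.mem_filter.mp hθ'
    exact ⟨h, fun hH => hne (honly θ (hAA ▸ hθ') hH), h'⟩
  · intro θ h hH h'
    refine Finset.mem_erase.mpr ⟨fun e => hH (by rw [e]; exact fun _ _ => rfl), ?_⟩
    rw [hAA]
    exact Finset.mem_filter.mpr ⟨Finset.mem_univ _, h, h'⟩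

end Ctx9

end Cfsg.Agent.PF
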