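import Cfsg.Agent.OddChar.PF.S09Line

/-!
# Section 9: irreducible characters of degree `q u`
-/

set_option linter.unusedSectionVars false
set_option linter.unusedVariables false
set_option linter.style.haveILetI false

universe u

namespace Cfsg.Agent.PF

open Cfsg.Lib.Chars Cfsg.Lib.InducedFamily
open Subgroup
open scoped commutatorElement

namespace Ctx9

variable {L : Type u} [Group L] [Fintype L] {K H H₀ U C W W₂ : Subgroup L} {q p : ℕ}
  {H₁ C₁ : Subgroup L} {a : ℕ}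

theorem P_normal_K (c : Ctx9 K H H₀ U C W W₂ q p) : ((H ⊔ C).subgroupOf K).Normal := by
  haveI := c.P_normal
  exact Subgroup.normal_subgroupOf

/-- A linear character of `H C` with trivial stabiliser gives a member of degree `q u`. -/
theorem indP_spec (c : Ctx9 K H H₀ U C W W₂ q p) [Fintype ↥K] [K.Normal] [H.Normal]
    (hPK : H ⊔ C ≤ K) (f : ↥(H ⊔ C) →* ℂˣ)
    (hne : f.comp (Subgroup.inclusion (le_sup_left : H ≤ H ⊔ C)) ≠ 1)
    (hst : stab U (f.comp (Subgroup.inclusion (le_sup_left : H ≤ H ⊔ C))) ≤ C)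
    (A : Subgroup L) [A.Normal] (hA : A ≤ H ⊔ C)
    (hfA : ∀ x : ↥(H ⊔ C), (x : L) ∈ A → f x = 1) :
    Cfsg.IsIrrCharacter ↥K (indK (H ⊔ C) hPK f) ∧ Above (indK (H ⊔ C) hPK f) A ∧
      ¬ Above (indK (H ⊔ C) hPK f) H ∧
      Cfsg.indFun K (indK (H ⊔ C) hPK f) ∈ seqIndD K H A ∧
      Cfsg.indFun K (indK (H ⊔ C) hPK f) 1 = ((q * C.relIndex U : ℕ) : ℂ) := by
  haveI := c.P_normal_K
  set g := f.comp (Subgroup.inclusion (le_sup_left : H ≤ H ⊔ C)) with hgdef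
  have hirr : Cfsg.IsIrrCharacter ↥K (indK (H ⊔ C) hPK f) := by
    refine s09_indK_irr' (H ⊔ C) hPK f fun k hk hfix => ?_
    obtain ⟨h, hh, x, hx, rfl⟩ := c.mem_K.mp hk
    refine mul_mem (mem_sup_left hh) (mem_sup_right (hst (mem_stab_iff.mpr ⟨hx, fun y => ?_⟩)))
    have hxy : x * (y : L) * x⁻¹ ∈ H := c.H_normal.conj_mem _ y.2 x
    have hm : h * x * (y : L) * (h * x)⁻¹ ∈ H ⊔ C := by
      rw [show h * x * (y : L) * (h * x)⁻¹ = h * (x * y * x⁻¹) * h⁻¹ by group]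
      exact mem_sup_left (mul_mem (mul_mem hh hxy) (inv_mem hh))
    have h1 := hfix ⟨y, mem_sup_left y.2⟩ hm
    show f ⟨x * y * x⁻¹, _⟩ = f ⟨y, _⟩
    rw [← h1]
    have e : (⟨h * x * (y : L) * (h * x)⁻¹, hm⟩ : ↥(H ⊔ C)) =
        ⟨h, mem_sup_left hh⟩ * ⟨x * y * x⁻¹, mem_sup_left hxy⟩ * ⟨h, mem_sup_left hh⟩⁻¹ :=
      Subtype.ext (by simp only [Subgroup.coe_mul, Subgroup.coe_inv]; group)
    rw [e, map_mul, map_mul, map_inv, mul_right_comm, mul_inv_cancel, one_mul]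
  have habove := (s09_indK_above (H ⊔ C) hPK A hA f).mpr hfA
  have hnH : ¬ Above (indK (H ⊔ C) hPK f) H := fun h => hne (MonoidHom.ext fun y =>
    (s09_indK_above (H ⊔ C) hPK H le_sup_left f).mp h ⟨y, mem_sup_left y.2⟩ y.2)
  refine ⟨hirr, habove, hnH, (s09_indFun_mem_seqIndD hirr).mpr ⟨habove, hnH⟩, ?_⟩
  rw [indFun_one, c.index_K, s09_indK_one, c.P_relIndex, Nat.cast_mul]

/-- Many linear characters all giving invariant characters: at most `(p - 1) u` of them. -/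
theorem card_le_of_no_irr (c : Ctx9 K H H₀ U C W W₂ q p) [Fintype ↥K] [K.Normal] [H.Normal]
    (hPK : H ⊔ C ≤ K) (S : Finset (↥(H ⊔ C) →* ℂˣ))
    (hne : ∀ f ∈ S, f.comp (Subgroup.inclusion (le_sup_left : H ≤ H ⊔ C)) ≠ 1)
    (hst : ∀ f ∈ S, stab U (f.comp (Subgroup.inclusion (le_sup_left : H ≤ H ⊔ C))) ≤ C)
    (A : Subgroup L) [A.Normal] (hA : A ≤ H ⊔ C) (hA' : H₀ ⊔ ⁅C, C⁆ ≤ A)
    (hfA : ∀ f ∈ S, ∀ x : ↥(H ⊔ C), (x : L) ∈ A → f x = 1)
    (hno : ¬ ∃ φ ∈ seqIndD K H A, Cfsg.IsIrrCharacter L φ ∧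
      φ 1 = ((q * C.relIndex U : ℕ) : ℂ)) :
    S.card ≤ (p - 1) * C.relIndex U := by
  classical
  haveI := c.P_normal_K
  obtain ⟨T, hT, -, hT'⟩ := c.invariant_set
  rw [← hT, ← c.P_relIndex]
  refine s09_card_indK (H ⊔ C) hPK S T (fun θ => (θ : ↥K → ℂ)) fun f hf => ?_
  obtain ⟨hirr, habove, hnH, hmem, hdeg⟩ := c.indP_spec hPK f (hne f hf) (hst f hf) A hA (hfA f hf)
  refine ⟨⟨_, hirr⟩, hT' _ (habove.mono hA') hnH ?_, rfl⟩
  by_contra hinv
  exact hno ⟨_, hmem, c.irr_of_not_invariant hirr hinv, hdeg⟩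

/-- In the non-Galois case `H C` has at least `(p - 1) ^ q` linear characters that are non-trivial on
`H`, trivial on `H₀ C` and fixed in `U` only by `C`. -/
theorem line_chars (c : Ctx9 K H H₀ U C W W₂ q p) (l : LineCtx H H₀ U W H₁ C₁ p a) [H.Normal] :
    ∃ S : Finset (↥(H ⊔ C) →* ℂˣ), (p - 1) ^ q ≤ S.card ∧
      (∀ f ∈ S, f.comp (Subgroup.inclusion (le_sup_left : H ≤ H ⊔ C)) ≠ 1) ∧
      (∀ f ∈ S, stab U (f.comp (Subgroup.inclusion (le_sup_left : H ≤ H ⊔ C))) ≤ C) ∧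
      ∀ f ∈ S, ∀ x : ↥(H ⊔ C), (x : L) ∈ H₀ ⊔ C → f x = 1 := by
  classical
  haveI := c.K_normal
  haveI := c.sup_C_normal
  haveI hPn := c.P_normal
  haveI := Fintype.ofFinite ↥K
  haveI := Fintype.ofFinite ↥W
  have hPK := c.P_le
  set J := lineJ H₀ W H₁ with hJdef
  have hJH := c.lineJ_le l
  have hXP : J ⊔ C ≤ H ⊔ C := sup_le_sup_right hJH C
  set X := (J ⊔ C).subgroupOf (H ⊔ C) with hXdef
  have hder : ∀ x y : ↥(H ⊔ C), x * y * x⁻¹ * y⁻¹ ∈ X := fun x y =>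
    (sup_le ((le_sup_left : H₀ ≤ J).trans le_sup_left)
      ((Subgroup.commutator_le_self C).trans le_sup_right) : H₀ ⊔ ⁅C, C⁆ ≤ J ⊔ C)
      (c.derived_P x x.2 y y.2)
  haveI : X.Normal := ⟨fun x hx g => by
    have e : g * x * g⁻¹ = g * x * g⁻¹ * x⁻¹ * x := by group
    rw [e]
    exact mul_mem (hder g x) hx⟩
  let D := {f : ↥(H ⊔ C) →* ℂˣ // X ≤ f.ker ∧ ¬ (⊤ : Subgroup ↥(H ⊔ C)) ≤ f.ker}
  haveI := Fintype.ofFinite D
  have hD : p - 1 ≤ Nat.card D := by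
    have h1 := s09_card_hom_above_not X ⊤ le_top hder
    rw [Subgroup.index_top] at h1
    have hlt : X ≠ ⊤ := by
      intro e
      refine (c.lineJ_lt l).not_ge fun h hh => ?_
      have : (⟨h, mem_sup_left hh⟩ : ↥(H ⊔ C)) ∈ X := e ▸ mem_top _
      obtain ⟨j, hj, d, hd, he⟩ := (Cfsg.Lib.Coprime.mem_sup_of_le_normalizer
        (c.C_le.trans (c.U_normalizes_lineJ l))).mp (Subgroup.mem_subgroupOf.mp this)
      have he' : j * d = h := he
      have hdH : d ∈ H ⊓ U := ⟨by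
        rw [show d = j⁻¹ * h by rw [← he']; group]
        exact H.mul_mem (H.inv_mem (hJH hj)) hh, c.C_le hd⟩
      rw [c.H_inf_U, mem_bot] at hdH
      rw [← he', hdH, mul_one]
      exact hj
    have hdvd : X.index ∣ p ^ q := by
      have h2 := Subgroup.card_mul_index X
      rw [Nat.card_congr (Subgroup.subgroupOfEquivOfLe hXP).toEquiv,
        Cfsg.Lib.Coprime.card_sup_of_inf_eq_bot (c.C_le.trans (c.U_normalizes_lineJ l))
          (eq_bot_iff.mpr ((inf_le_inf hJH c.C_le).trans c.H_inf_U.le)),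
        Cfsg.Lib.Coprime.card_sup_of_inf_eq_bot (c.le_normalizer_H _)
          (eq_bot_iff.mpr ((inf_le_inf le_rfl c.C_le).trans c.H_inf_U.le)), c.card_H] at h2
      obtain ⟨r, hr⟩ := Subgroup.card_dvd_of_le (show H₀ ≤ lineJ H₀ W H₁ from le_sup_left)
      rw [hr] at h2
      refine ⟨r, ?_⟩
      have hpos : 0 < Nat.card H₀ * Nat.card C := Nat.mul_pos Nat.card_pos Nat.card_pos
      refine Nat.eq_of_mul_eq_mul_left hpos ?_
      linarith
    obtain ⟨i, -, hi⟩ := (Nat.dvd_prime_pow c.p_prime).mp hdvd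
    have hi0 : i ≠ 0 := fun e => hlt (Subgroup.index_eq_one.mp (by rw [hi, e, pow_zero]))
    have := Nat.le_self_pow hi0 p
    rw [← hi] at this
    show p - 1 ≤ Nat.card {f : ↥(H ⊔ C) →* ℂˣ // X ≤ f.ker ∧ ¬ (⊤ : Subgroup ↥(H ⊔ C)) ≤ f.ker}
    omega
  -- conjugation by elements of `W`
  let cj : ↥W → (↥(H ⊔ C) →* ↥(H ⊔ C)) := fun w =>
    (MulAut.conjNormal ((w : L)⁻¹) : MulAut ↥(H ⊔ C)).toMonoidHom
  let F : (↥W → D) → (↥(H ⊔ C) →* ℂˣ) := fun φ => ∏ w : ↥W, (φ w).1.comp (cj w)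
  have hF : ∀ φ (x : ↥(H ⊔ C)), F φ x = ∏ w : ↥W, (φ w).1 (cj w x) := fun φ x => by
    simp [F, MonoidHom.finsetProd_apply]
  have hkill : ∀ (d : D) (x : ↥(H ⊔ C)), (x : L) ∈ J ⊔ C → d.1 x = 1 := fun d x hx =>
    d.2.1 (Subgroup.mem_subgroupOf.mpr hx)
  have hline : ∀ φ (w : ↥W) (x : ↥(H ⊔ C)), (x : L) ∈ Cfsg.Lib.Coprime.conjMap (w : L) H₁ →
      F φ x = (φ w).1 (cj w x) := by
    intro φ w x hx
    rw [hF, Finset.prod_eq_single w (fun v _ hv => ?_) (by simp)]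
    refine hkill _ _ (mem_sup_left (mem_sup_right ?_))
    have hne : v⁻¹ * w ≠ 1 := fun e => hv (inv_mul_eq_one.mp e)
    have : ((cj v x : ↥(H ⊔ C)) : L) ∈ Cfsg.Lib.Coprime.conjMap (((v⁻¹ * w : ↥W)) : L) H₁ := by
      rw [Subgroup.coe_mul, ← Cfsg.Lib.Coprime.conjMap_mul]
      refine ⟨x, hx, ?_⟩
      simp [cj]
    exact (le_iSup (fun v : {v : ↥W // v ≠ 1} => Cfsg.Lib.Coprime.conjMap ((v : ↥W) : L) H₁)
      ⟨v⁻¹ * w, hne⟩) this
  have hFA : ∀ φ, ∀ x : ↥(H ⊔ C), (x : L) ∈ H₀ ⊔ C → F φ x = 1 := by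
    intro φ x hx
    rw [hF]
    refine Finset.prod_eq_one fun w _ => hkill _ _ ?_
    have : ((cj w x : ↥(H ⊔ C)) : L) ∈ H₀ ⊔ C := by
      have := c.sup_C_normal.conj_mem _ hx (w : L)⁻¹
      simpa [cj] using this
    exact (sup_le ((le_sup_left : H₀ ≤ J).trans le_sup_left) le_sup_right : H₀ ⊔ C ≤ J ⊔ C) this
  have hsupH : ∀ x ∈ H, x ∈ lineJ H₀ W H₁ ⊔ H₁ := fun x hx => c.lineJ_sup l hx
  have hinj : Function.Injective F := by
    intro φ ψ e
    funext w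
    refine Subtype.ext (MonoidHom.ext fun y => ?_)
    -- it is enough to compare on `J`, `C` and `H₁`
    have hle : H ⊔ C ≤ ((φ w).1.eqLocus (ψ w).1).map (H ⊔ C).subtype := by
      refine sup_le ((c.lineJ_sup l).trans (sup_le ?_ ?_)) ?_
      · intro x hx
        exact ⟨⟨x, mem_sup_left (hJH hx)⟩,
          (hkill _ _ (mem_sup_left hx)).trans (hkill _ _ (mem_sup_left hx)).symm, rfl⟩
      · intro x hx
        refine ⟨⟨x, mem_sup_left (l.le hx)⟩, ?_, rfl⟩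
        have hz : (w : L) * x * (w : L)⁻¹ ∈ H ⊔ C :=
          mem_sup_left (c.H_normal.conj_mem _ (l.le hx) (w : L))
        have hzw : (w : L) * x * (w : L)⁻¹ ∈ Cfsg.Lib.Coprime.conjMap (w : L) H₁ := ⟨x, hx, rfl⟩
        have h1 := DFunLike.congr_fun e ⟨_, hz⟩
        rw [hline φ w _ hzw, hline ψ w _ hzw] at h1
        have hcj : cj w ⟨_, hz⟩ = ⟨x, mem_sup_left (l.le hx)⟩ :=
          Subtype.ext (by simp [cj, mul_assoc])
        rw [hcj] at h1
        exact h1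
      · intro x hx
        exact ⟨⟨x, mem_sup_right hx⟩,
          (hkill _ _ (mem_sup_right hx)).trans (hkill _ _ (mem_sup_right hx)).symm, rfl⟩
    obtain ⟨z, hz, hzz⟩ := hle y.2
    rw [← show z = y from Subtype.ext hzz]
    exact hz
  have hnontriv : ∀ φ (w : ↥W), ∃ x : ↥(H ⊔ C),
      (x : L) ∈ Cfsg.Lib.Coprime.conjMap (w : L) H₁ ∧ F φ x ≠ 1 := by
    intro φ w
    by_contra hcon
    push Not at hcon
    refine (φ w).2.2 fun y _ => ?_
    have hle : H ⊔ C ≤ (φ w).1.ker.map (H ⊔ C).subtype := by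
      refine sup_le ((c.lineJ_sup l).trans (sup_le ?_ ?_)) ?_
      · exact fun x hx => ⟨⟨x, mem_sup_left (hJH hx)⟩, hkill _ _ (mem_sup_left hx), rfl⟩
      · intro x hx
        refine ⟨⟨x, mem_sup_left (l.le hx)⟩, ?_, rfl⟩
        have hz : (w : L) * x * (w : L)⁻¹ ∈ H ⊔ C :=
          mem_sup_left (c.H_normal.conj_mem _ (l.le hx) (w : L))
        have hzw : (w : L) * x * (w : L)⁻¹ ∈ Cfsg.Lib.Coprime.conjMap (w : L) H₁ := ⟨x, hx, rfl⟩
        have h1 := hcon ⟨_, hz⟩ hzw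
        rw [hline φ w _ hzw] at h1
        have hcj : cj w ⟨_, hz⟩ = ⟨x, mem_sup_left (l.le hx)⟩ :=
          Subtype.ext (by simp [cj, mul_assoc])
        rw [hcj] at h1
        exact h1
      · exact fun x hx => ⟨⟨x, mem_sup_right hx⟩, hkill _ _ (mem_sup_right hx), rfl⟩
    obtain ⟨z, hz, hzz⟩ := hle y.2
    rw [← show z = y from Subtype.ext hzz]
    exact hz
  let S : Finset (↥(H ⊔ C) →* ℂˣ) := Finset.univ.image F
  have hne : ∀ f ∈ S, f.comp (Subgroup.inclusion (le_sup_left : H ≤ H ⊔ C)) ≠ 1 := by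
    intro f hf e
    obtain ⟨φ, -, rfl⟩ := Finset.mem_image.mp hf
    obtain ⟨x, hx, hx'⟩ := hnontriv φ 1
    refine hx' ?_
    have hxH : (x : L) ∈ H := (c.conj_line_le l _).2 hx
    exact DFunLike.congr_fun e ⟨x, hxH⟩
  have hst : ∀ f ∈ S, stab U (f.comp (Subgroup.inclusion (le_sup_left : H ≤ H ⊔ C))) ≤ C := by
    intro f hf x hx
    obtain ⟨φ, -, rfl⟩ := Finset.mem_image.mp hf
    set g := (F φ).comp (Subgroup.inclusion (le_sup_left : H ≤ H ⊔ C))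
    have hg0 : ∀ y : ↥H, (y : L) ∈ H₀ → g y = 1 := fun y hy => hFA φ _ (mem_sup_left hy)
    refine (c.mem_C x).mpr ⟨hx.2, ?_⟩
    have hsub : H ≤ fmod (zpowers x) H H₀ (c.le_normalizer_H₀ H) := by
      conv_lhs => rw [← l.span]
      refine iSup_le fun w z hz => ?_
      have hzH : z ∈ H := (c.conj_line_le l (w : L)).2 hz
      refine ⟨hzH, fun y hy => ?_⟩
      obtain ⟨x₁, hx₁, hx₁'⟩ := hnontriv φ w
      exact c.stab_le_line hg0 (c.conj_line_le l _).1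
        ((Cfsg.Lib.Coprime.card_conjMap _ _).trans l.card) (c.U_normalizes_line l w.2)
        (c.conj_line_le l _).2 (h' := ⟨x₁, (c.conj_line_le l _).2 hx₁⟩) hx₁ hx₁'
        ((zpowers_le.mpr hx) hy) z hz
    exact fun h hh => (hsub hh).2 x (mem_zpowers x)
  refine ⟨S, ?_, hne, hst, fun f hf x hx => ?_⟩
  · rw [Finset.card_image_of_injective _ hinj, Finset.card_univ, ← Nat.card_eq_fintype_card,
      Nat.card_fun, c.card_W]
    exact Nat.pow_le_pow_left hD q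
  · obtain ⟨φ, -, rfl⟩ := Finset.mem_image.mp hf
    exact hFA φ x hx

/-- In the non-Galois case there is an irreducible member of degree `q u` in `S(H₀ C)`. -/
theorem line_exists_irr (c : Ctx9 K H H₀ U C W W₂ q p) (l : LineCtx H H₀ U W H₁ C₁ p a)
    (hdvd : C.relIndex U ∣ a ^ (q - 1)) :
    ∃ φ ∈ seqIndD K H (H₀ ⊔ C), Cfsg.IsIrrCharacter L φ ∧
      φ 1 = ((q * C.relIndex U : ℕ) : ℂ) := by
  classical
  haveI := c.K_normal
  haveI := c.H_normal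
  haveI := c.sup_C_normal
  haveI := Fintype.ofFinite ↥K
  by_contra hno
  obtain ⟨S, hcard, hne, hst, hA⟩ := c.line_chars l
  have hcount := c.card_le_of_no_irr c.P_le S hne hst (H₀ ⊔ C)
    (sup_le_sup_right c.H₀_le C) (sup_le_sup_left (Subgroup.commutator_le_self C) H₀) hA hno
  have h1 : (p - 1) ^ q ≤ (p - 1) * C.relIndex U := hcard.trans hcount
  have hq := c.q_prime.two_le
  have h3 : C.relIndex U ≤ a ^ (q - 1) :=
    Nat.le_of_dvd (pow_pos (by have := l.one_lt; omega) _) hdvd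
  have h4 : a ^ (q - 1) < (p - 1) ^ (q - 1) :=
    Nat.pow_lt_pow_left (by have := l.one_lt; have := l.two_mul_le; omega) (by omega)
  have h5 : (p - 1) * C.relIndex U < (p - 1) * (p - 1) ^ (q - 1) :=
    Nat.mul_lt_mul_of_pos_left (lt_of_le_of_lt h3 h4) (by have := c.p_prime.two_le; omega)
  rw [← pow_succ', show q - 1 + 1 = q by omega] at h5
  omega

/-- In the Galois case, either `S(H₀ C')` has an irreducible member of degree `q u` or `C' = C`
and `u (p - 1) = p ^ q - 1`. -/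
theorem free_dichotomy (c : Ctx9 K H H₀ U C W W₂ q p) (hfree : Free9 H H₀ U C)
    (hdvd : C.relIndex U * (p - 1) ∣ p ^ q - 1) :
    (∃ φ ∈ seqIndD K H (H₀ ⊔ ⁅C, C⁆), Cfsg.IsIrrCharacter L φ ∧
      φ 1 = ((q * C.relIndex U : ℕ) : ℂ)) ∨
    (⁅C, C⁆ = C ∧ C.relIndex U * (p - 1) = p ^ q - 1) := by
  classical
  refine or_iff_not_imp_left.mpr fun hno => ?_
  haveI := c.K_normal
  haveI := c.H_normal
  haveI := c.sup_C'_normal
  haveI := c.P_normal
  haveI := Fintype.ofFinite ↥K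
  have hPK := c.P_le
  have hC' : ⁅C, C⁆ ≤ C := Subgroup.commutator_le_self C
  set X := (H₀ ⊔ ⁅C, C⁆).subgroupOf (H ⊔ C) with hXdef
  have hder : ∀ x y : ↥(H ⊔ C), x * y * x⁻¹ * y⁻¹ ∈ X := fun x y => c.derived_P x x.2 y y.2
  set Y := (H ⊔ ⁅C, C⁆).subgroupOf (H ⊔ C) with hYdef
  have hXY : X ≤ Y := Subgroup.comap_mono (sup_le_sup_right c.H₀_le _)
  haveI : X.Normal := Subgroup.normal_subgroupOf
  haveI : Y.Normal := ⟨fun x hx g => by
    have e : g * x * g⁻¹ = g * x * g⁻¹ * x⁻¹ * x := by group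
    rw [e]
    exact mul_mem (hXY (hder g x)) hx⟩
  haveI := Fintype.ofFinite {f : ↥(H ⊔ C) →* ℂˣ // X ≤ f.ker ∧ ¬ Y ≤ f.ker}
  let S : Finset (↥(H ⊔ C) →* ℂˣ) :=
    (Finset.univ : Finset {f : ↥(H ⊔ C) →* ℂˣ // X ≤ f.ker ∧ ¬ Y ≤ f.ker}).image Subtype.val
  have hScard : S.card + Y.index = X.index := by
    rw [Finset.card_image_of_injective _ Subtype.val_injective, Finset.card_univ,
      ← Nat.card_eq_fintype_card]
    exact s09_card_hom_above_not X Y hXY hder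
  have hS : ∀ f ∈ S, (∀ x : ↥(H ⊔ C), (x : L) ∈ H₀ ⊔ ⁅C, C⁆ → f x = 1) ∧
      f.comp (Subgroup.inclusion (le_sup_left : H ≤ H ⊔ C)) ≠ 1 := by
    intro f hf
    obtain ⟨⟨f, hfX, hfY⟩, -, rfl⟩ := Finset.mem_image.mp hf
    refine ⟨fun x hx => hfX (Subgroup.mem_subgroupOf.mpr hx), fun e => hfY fun x hx => ?_⟩
    obtain ⟨h, hh, d, hd, hxe⟩ := (Cfsg.Lib.Coprime.mem_sup_of_le_normalizer (c.le_normalizer_H _)).mp
      (Subgroup.mem_subgroupOf.mp hx)
    rw [MonoidHom.mem_ker, show x = ⟨h, mem_sup_left hh⟩ * ⟨d, mem_sup_right (hC' hd)⟩ from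
      Subtype.ext hxe.symm, map_mul,
      show f ⟨h, mem_sup_left hh⟩ = 1 from DFunLike.congr_fun e ⟨h, hh⟩,
      show f ⟨d, mem_sup_right (hC' hd)⟩ = 1 from
        hfX (Subgroup.mem_subgroupOf.mpr (mem_sup_right hd)), one_mul]
  have hcount := c.card_le_of_no_irr hPK S (fun f hf => (hS f hf).2)
    (fun f hf => (c.stab_eq_of_free hfree
      (fun y hy => (hS f hf).1 ⟨y, mem_sup_left y.2⟩ (mem_sup_left hy)) (hS f hf).2).le)
    (H₀ ⊔ ⁅C, C⁆) (sup_le_sup c.H₀_le hC') le_rfl (fun f hf => (hS f hf).1) hno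
  -- the indices
  have hcard : ∀ Z : Subgroup L, Z ≤ U →
      Nat.card ↥(H₀ ⊔ Z) = Nat.card H₀ * Nat.card Z ∧ Nat.card ↥(H ⊔ Z) = Nat.card H * Nat.card Z :=
    fun Z hZ => ⟨Cfsg.Lib.Coprime.card_sup_of_inf_eq_bot (c.le_normalizer_H₀ _)
        (eq_bot_iff.mpr ((inf_le_inf c.H₀_le hZ).trans c.H_inf_U.le)),
      Cfsg.Lib.Coprime.card_sup_of_inf_eq_bot (c.le_normalizer_H _)
        (eq_bot_iff.mpr ((inf_le_inf le_rfl hZ).trans c.H_inf_U.le))⟩
  obtain ⟨c', hc'⟩ := Subgroup.card_dvd_of_le hC'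
  have hXi : X.index = p ^ q * c' := by
    have h2 := Subgroup.card_mul_index X
    rw [Nat.card_congr (Subgroup.subgroupOfEquivOfLe (sup_le_sup c.H₀_le hC')).toEquiv,
      (hcard _ (hC'.trans c.C_le)).1, (hcard _ c.C_le).2, c.card_H, hc'] at h2
    refine Nat.eq_of_mul_eq_mul_left
      (Nat.mul_pos (Nat.card_pos (α := H₀)) (Nat.card_pos (α := ↥(⁅C, C⁆ : Subgroup L)))) ?_
    rw [h2]; ring
  have hYi : Y.index = c' := by
    have h2 := Subgroup.card_mul_index Y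
    rw [Nat.card_congr (Subgroup.subgroupOfEquivOfLe (sup_le_sup_left hC' H)).toEquiv,
      (hcard _ (hC'.trans c.C_le)).2, (hcard _ c.C_le).2, hc'] at h2
    refine Nat.eq_of_mul_eq_mul_left
      (Nat.mul_pos (Nat.card_pos (α := H)) (Nat.card_pos (α := ↥(⁅C, C⁆ : Subgroup L)))) ?_
    rw [h2]; ring
  rw [hXi, hYi] at hScard
  have hc0 : 0 < c' := Nat.pos_of_ne_zero fun e => by
    rw [e, mul_zero] at hc'; exact (Nat.card_pos (α := C)).ne' hc'
  have hS1 : S.card = (p ^ q - 1) * c' := by rw [Nat.sub_mul, one_mul, ← hScard, Nat.add_sub_cancel]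
  rw [hS1, mul_comm (p - 1)] at hcount
  have hpq : 0 < p ^ q - 1 := by
    have := Nat.one_lt_pow c.q_prime.ne_zero c.p_prime.one_lt
    omega
  have hle := Nat.le_of_dvd hpq hdvd
  have hc1 : c' = 1 := by
    by_contra hne
    have : (p ^ q - 1) * 2 ≤ (p ^ q - 1) * c' := Nat.mul_le_mul_left _ (by omega)
    omega
  rw [hc1, mul_one] at hc' hcount
  exact ⟨Subgroup.eq_of_le_of_card_ge hC' hc'.le, le_antisymm hle hcount⟩

end Ctx9

end Cfsg.Agent.PF
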