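import Cfsg.Agent.OddChar.InducedFamily
import Cfsg.Agent.OddChar.PF.S09Interface
import Cfsg.Agent.Chars.FixedClasses

/-!
# Section 9: generalities on characters of a normal subgroup trivial on a given subgroup
-/

set_option linter.unusedSectionVars false
set_option linter.unusedVariables false
set_option linter.style.haveILetI false

universe u

namespace Cfsg.Agent.PF

open Cfsg.Lib.Chars Cfsg.Lib.InducedFamily
open Subgroup

/-- `θ` is constant on `A ⊓ K`: its kernel contains `A ⊓ K`. -/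
def Above {L : Type u} [Group L] {K : Subgroup L} (θ : ↥K → ℂ) (A : Subgroup L) : Prop :=
  ∀ a : ↥K, (a : L) ∈ A → θ a = θ 1

theorem Above.mono {L : Type u} [Group L] {K : Subgroup L} {θ : ↥K → ℂ} {A B : Subgroup L}
    (h : Above θ A) (hBA : B ≤ A) : Above θ B := fun a ha => h a (hBA ha)

section Hom

variable {P : Type u} [Group P] [Finite P]

/-- The linear characters with `X` in the kernel, `X` containing the derived subgroup. -/
theorem s09_card_hom_above (X : Subgroup P) [X.Normal]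
    (hab : ∀ a b : P, a * b * a⁻¹ * b⁻¹ ∈ X) :
    Nat.card {f : P →* ℂˣ // X ≤ f.ker} = X.index := by
  have hA : ∀ a b : P ⧸ X, a * b = b * a := by
    intro a b
    obtain ⟨a, rfl⟩ := QuotientGroup.mk'_surjective X a
    obtain ⟨b, rfl⟩ := QuotientGroup.mk'_surjective X b
    rw [← mul_inv_eq_one, mul_inv_rev, ← mul_assoc, ← map_inv, ← map_inv, ← map_mul, ← map_mul,
      ← map_mul]
    exact (QuotientGroup.eq_one_iff _).mpr (hab a b)
  rw [Subgroup.index, ← Cfsg.Lib.Dual.card_hom hA]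
  exact Nat.card_congr
    { toFun := fun f => QuotientGroup.lift X f.1 f.2
      invFun := fun g => ⟨g.comp (QuotientGroup.mk' X), fun x hx => by
        show g (QuotientGroup.mk' X x) = 1
        rw [show QuotientGroup.mk' X x = 1 from (QuotientGroup.eq_one_iff x).mpr hx, map_one]⟩
      left_inv := fun f => Subtype.ext (MonoidHom.ext fun x => rfl)
      right_inv := fun g => MonoidHom.ext fun q => by
        obtain ⟨x, rfl⟩ := QuotientGroup.mk'_surjective X q
        rfl }

/-- Those among them which are not trivial on a larger subgroup. -/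
theorem s09_card_hom_above_not (X Y : Subgroup P) [X.Normal] [Y.Normal] (hXY : X ≤ Y)
    (hab : ∀ a b : P, a * b * a⁻¹ * b⁻¹ ∈ X) :
    Nat.card {f : P →* ℂˣ // X ≤ f.ker ∧ ¬ Y ≤ f.ker} + Y.index = X.index := by
  classical
  rw [← s09_card_hom_above Y fun a b => hXY (hab a b), ← s09_card_hom_above X hab]
  haveI := Fintype.ofFinite (P →* ℂˣ)
  rw [Nat.card_eq_fintype_card, Nat.card_eq_fintype_card, Nat.card_eq_fintype_card,
    Fintype.card_subtype, Fintype.card_subtype, Fintype.card_subtype]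
  rw [← Finset.card_union_of_disjoint]
  · congr 1
    ext f
    simp only [Finset.mem_union, Finset.mem_filter, Finset.mem_univ, true_and]
    constructor
    · rintro (h | h)
      · exact h.1
      · exact hXY.trans h
    · intro h
      by_cases hY : Y ≤ f.ker
      · exact Or.inr hY
      · exact Or.inl ⟨h, hY⟩
  · rw [Finset.disjoint_filter]
    exact fun f _ h1 h2 => h1.2 h2

end Hom

variable {L : Type u} [Group L] [Fintype L] {K : Subgroup L}

/-- An irreducible character which is constant on the derived subgroup is linear. -/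
theorem s09_exists_hom_of_derived {P : Type u} [Group P] [Finite P] {ψ : P → ℂ}
    (hψ : Cfsg.IsIrrCharacter P ψ) (h : ∀ a b : P, ψ (a * b * a⁻¹ * b⁻¹) = ψ 1) :
    ∃ f : P →* ℂˣ, ψ = fun x => (f x : ℂ) := by
  haveI := Fintype.ofFinite P
  have hb := deg_sq_le_index hψ ⊤ fun z _ g => h z g
  rw [Subgroup.index_top] at hb
  have h1 : deg ψ = 1 :=
    le_antisymm ((pow_le_one_iff (n := 2) two_ne_zero).mp hb) (deg_irr_pos ⟨ψ, hψ⟩)
  exact exists_hom_of_deg_one (isCharacter_of_irr hψ)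
    (by rw [IsCharacter.apply_one_eq_deg (isCharacter_of_irr hψ), h1, Nat.cast_one])

variable [K.Normal]

theorem Above.conjN {θ : ↥K → ℂ} {A : Subgroup L} [A.Normal] (h : Above θ A) (g : L) :
    Above (Cfsg.Lib.Chars.conjN K g θ) A := by
  intro a ha
  show θ _ = θ _
  rw [h ⟨g * a * g⁻¹, _⟩ ((inferInstance : A.Normal).conj_mem _ ha g)]
  exact congrArg θ (Subtype.ext (by simp))

/-- The inertia subgroup being the normal subgroup, the induced character is irreducible. -/
theorem s09_indFun_irr {θ : ↥K → ℂ} (hθ : Cfsg.IsIrrCharacter ↥K θ)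
    (h : ∀ g : L, Cfsg.Lib.Chars.conjN K g θ = θ → g ∈ K) :
    Cfsg.IsIrrCharacter L (Cfsg.indFun K θ) := by
  haveI := Fintype.ofFinite ↥K
  refine isIrrCharacter_of_norm_one (IsCharacter.indFun (isCharacter_of_irr hθ)) ?_
  have h1 := classInner_indFun_eq_card K hθ hθ
  have h2 : Nat.card {g : L // Cfsg.Lib.Chars.conjN K g θ = θ} = Nat.card K :=
    Nat.card_congr (Equiv.subtypeEquivRight fun g => ⟨h g, fun hg =>
      conjN_of_mem (isClassFunction_irr ⟨θ, hθ⟩) ⟨g, hg⟩⟩)
  rw [h2] at h1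
  exact mul_left_cancel₀ (Nat.cast_ne_zero.mpr Nat.card_pos.ne') (h1.trans (mul_one _).symm)

/-- Two irreducible characters inducing to the same function are conjugate. -/
theorem s09_conj_of_indFun_eq {θ θ' : ↥K → ℂ} (hθ : Cfsg.IsIrrCharacter ↥K θ)
    (hθ' : Cfsg.IsIrrCharacter ↥K θ') (h : Cfsg.indFun K θ = Cfsg.indFun K θ') :
    ∃ g : L, Cfsg.Lib.Chars.conjN K g θ = θ' := by
  haveI := Fintype.ofFinite ↥K
  by_contra hno
  have h0 := classInner_indFun_eq_card K hθ hθ'
  have h0' := classInner_indFun_eq_card K hθ hθ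
  haveI : IsEmpty {g : L // Cfsg.Lib.Chars.conjN K g θ = θ'} := ⟨fun g => hno ⟨g.1, g.2⟩⟩
  rw [← h, h0', show Nat.card {g : L // Cfsg.Lib.Chars.conjN K g θ = θ'} = 0 from Nat.card_of_isEmpty,
    Nat.cast_inj] at h0
  haveI : Nonempty {g : L // Cfsg.Lib.Chars.conjN K g θ = θ} := ⟨⟨1, conjN_one K _⟩⟩
  exact Nat.card_pos.ne' h0

/-- Membership of an induced character in `S(A)`. -/
theorem s09_indFun_mem_seqIndD {Ms A : Subgroup L} [Ms.Normal] [A.Normal] {θ : ↥K → ℂ}
    (hθ : Cfsg.IsIrrCharacter ↥K θ) :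
    Cfsg.indFun K θ ∈ seqIndD K Ms A ↔ Above θ A ∧ ¬ Above θ Ms := by
  have hne : ¬ Above θ Ms → θ ≠ fun _ => 1 := fun h e => h fun a _ => by rw [e]
  constructor
  · rintro ⟨⟨θ', hθ', h1', hA, e⟩, hMs⟩
    obtain ⟨g, hg⟩ := s09_conj_of_indFun_eq hθ' hθ e.symm
    refine ⟨hg ▸ Above.conjN hA g, fun hM => hMs ⟨θ, hθ, ?_, hM, rfl⟩⟩
    intro e1
    refine h1' ?_
    have e2 := congrArg (Cfsg.Lib.Chars.conjN K g⁻¹) hg
    rw [← conjN_mul, mul_inv_cancel, conjN_one, e1] at e2
    exact e2.trans (funext fun _ => rfl)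
  · rintro ⟨hA, hM⟩
    refine ⟨⟨θ, hθ, hne hM, hA, rfl⟩, ?_⟩
    rintro ⟨θ', hθ', h1', hM', e⟩
    obtain ⟨g, hg⟩ := s09_conj_of_indFun_eq hθ' hθ e.symm
    exact hM (hg ▸ Above.conjN hM' g)

theorem s09_seqIndD_exists {Ms A : Subgroup L} [Ms.Normal] [A.Normal] {φ : L → ℂ}
    (h : φ ∈ seqIndD K Ms A) :
    ∃ θ : ↥K → ℂ, Cfsg.IsIrrCharacter ↥K θ ∧ Above θ A ∧ ¬ Above θ Ms ∧ φ = Cfsg.indFun K θ := by
  obtain ⟨θ, hθ, -, hA, rfl⟩ := h.1
  exact ⟨θ, hθ, hA, ((s09_indFun_mem_seqIndD hθ).mp h).2, rfl⟩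

theorem s09_seqIndD_anti {Ms A B : Subgroup L} (hBA : B ≤ A) :
    seqIndD K Ms A ⊆ seqIndD K Ms B := fun φ h => by
  obtain ⟨⟨θ, hθ, h1, hA, rfl⟩, h2⟩ := h
  exact ⟨⟨θ, hθ, h1, fun a ha => hA a (hBA ha), rfl⟩, h2⟩

/-- The number of irreducible characters of `K` trivial on `N` and fixed by `y`. -/
theorem s09_card_fixed_above (N W : Subgroup L) [N.Normal] (hNK : N ≤ K) {y : L}
    (hcop : (Nat.card K).Coprime (orderOf y)) (hW : K ⊓ centralizer ({y} : Set L) = W)
    (hab : ∀ a ∈ W, ∀ b ∈ W, a * b = b * a) :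
    Nat.card {θ : Cfsg.IrrCharacter ↥K //
        Above (θ : ↥K → ℂ) N ∧ Cfsg.Lib.Chars.conjN K y (θ : ↥K → ℂ) = θ} *
      Nat.card ↥(W ⊓ N) = Nat.card W := by
  classical
  haveI := Fintype.ofFinite ↥K
  set π := QuotientGroup.mk' N with hπ
  have hπs := QuotientGroup.mk'_surjective N
  set K' := K.map π with hK'
  haveI : K'.Normal := Subgroup.Normal.map inferInstance π hπs
  haveI := Fintype.ofFinite ↥K'
  have hWK : W ≤ K := hW ▸ inf_le_left
  have hKeq : ∀ x : L, π x ∈ K' → x ∈ K := by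
    rintro x ⟨z, hz, e⟩
    have : z⁻¹ * x ∈ N := QuotientGroup.eq.mp e
    have := mul_mem hz (hNK this)
    rwa [mul_inv_cancel_left] at this
  have hC : K' ⊓ centralizer ({π y} : Set (L ⧸ N)) = W.map π := by
    refine le_antisymm ?_ (le_inf (Subgroup.map_mono hWK) ?_)
    · rintro q ⟨⟨x, hx, rfl⟩, hq⟩
      have hcomm : Commute (π y) (π x) := mem_centralizer_iff.mp hq (π y) rfl
      obtain ⟨n, hn, hnc⟩ := Cfsg.Lib.Coprime.exists_fixed_of_commutator_mem (A := zpowers y) (N := N)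
        (by rw [Subgroup.normalizer_eq_top]; exact le_top)
        (((hcop.coprime_dvd_left (Subgroup.card_dvd_of_le hNK)).symm).coprime_dvd_left
          (by rw [Nat.card_zpowers]))
        (Or.inl (inferInstance : Group.IsSolvable (zpowers y)))
        (k := x) (by rw [Subgroup.normalizer_eq_top]; exact mem_top x) (fun a ha => by
          obtain ⟨j, rfl⟩ := Subgroup.mem_zpowers_iff.mp ha
          rw [← QuotientGroup.eq_one_iff, ← QuotientGroup.mk'_apply, map_mul, map_mul, map_mul,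
            map_inv, map_inv, map_zpow, (hcomm.zpow_left j).eq, mul_inv_cancel_right,
            mul_inv_cancel])
      have : x * n ∈ W := hW ▸ ⟨mul_mem hx (hNK hn),
        centralizer_le (Set.singleton_subset_iff.mpr (mem_zpowers y)) hnc⟩
      refine ⟨x * n, this, ?_⟩
      rw [map_mul, show π n = 1 from (QuotientGroup.eq_one_iff n).mpr hn, mul_one]
    · rintro q ⟨x, hx, rfl⟩
      rw [← hW] at hx
      refine mem_centralizer_singleton_iff.mpr ?_
      rw [← map_mul, ← map_mul, mem_centralizer_singleton_iff.mp hx.2]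
  have hab' : ∀ a ∈ W.map π, ∀ b ∈ W.map π, a * b = b * a := by
    rintro - ⟨a, ha, rfl⟩ - ⟨b, hb, rfl⟩
    rw [← map_mul, ← map_mul, hab a ha b hb]
  have hcop' : (Nat.card K').Coprime (orderOf (π y)) :=
    (hcop.coprime_dvd_left (Subgroup.card_map_dvd K π)).coprime_dvd_right (orderOf_map_dvd π y)
  have hcount := card_fixed_irr K' (W.map π) hcop' (Subgroup.map_mono hWK) hC hab'
  -- inflation
  let πK : ↥K →* ↥K' := π.subgroupMap K
  have hπK : Function.Surjective πK := π.subgroupMap_surjective K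
  have hnat : ∀ (b : ↥K' → ℂ), Cfsg.Lib.Chars.conjN K y (fun x => b (πK x)) =
      fun x => Cfsg.Lib.Chars.conjN K' (π y) b (πK x) := by
    intro b
    funext x
    show b (πK _) = b _
    congr 1
  let F : {η : Cfsg.IrrCharacter ↥K' // Cfsg.Lib.Chars.conjN K' (π y) (η : ↥K' → ℂ) = η} →
      {θ : Cfsg.IrrCharacter ↥K //
        Above (θ : ↥K → ℂ) N ∧ Cfsg.Lib.Chars.conjN K y (θ : ↥K → ℂ) = θ} := fun η =>
    ⟨⟨fun x => (η.1 : ↥K' → ℂ) (πK x), IsIrrCharacter.comp_surjective η.1.2 πK hπK⟩,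
      fun a ha => by
        show (η.1 : ↥K' → ℂ) (πK a) = (η.1 : ↥K' → ℂ) (πK 1)
        refine congrArg _ ?_
        rw [map_one]
        apply Subtype.ext
        exact (QuotientGroup.eq_one_iff (a : L)).mpr ha,
      by rw [hnat, η.2]⟩
  have hF : Function.Bijective F := by
    constructor
    · intro a b e
      refine Subtype.ext (Subtype.ext (funext fun q => ?_))
      obtain ⟨x, rfl⟩ := hπK q
      exact congrFun (congrArg Subtype.val (congrArg Subtype.val e)) x
    · rintro ⟨θ, hθA, hθy⟩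
      obtain ⟨b, hb, hbe⟩ := exists_factor πK hπK (isCharacter_of_irr θ.2) (fun k hk => by
        refine hθA k ?_
        have : π (k : L) = 1 := congrArg Subtype.val (MonoidHom.mem_ker.mp hk)
        exact (QuotientGroup.eq_one_iff (k : L)).mp this)
      have hbi : Cfsg.IsIrrCharacter ↥K' b := irr_of_comp_irr hb πK (hbe ▸ θ.2)
      refine ⟨⟨⟨b, hbi⟩, funext fun q => ?_⟩, Subtype.ext (Subtype.ext hbe.symm)⟩
      obtain ⟨x, rfl⟩ := hπK q
      rw [hbe, hnat] at hθy
      exact congrFun hθy x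
  rw [← Nat.card_congr (Equiv.ofBijective F hF), hcount]
  let g : ↥W →* L ⧸ N := π.comp W.subtype
  have hr : g.range = W.map π := by
    rw [MonoidHom.range_comp, Subgroup.range_subtype]
  have hk : g.ker = (W ⊓ N).subgroupOf W := by
    ext x
    rw [MonoidHom.mem_ker, Subgroup.mem_subgroupOf, Subgroup.mem_inf]
    exact ⟨fun h => ⟨x.2, (QuotientGroup.eq_one_iff (x : L)).mp h⟩,
      fun h => (QuotientGroup.eq_one_iff (x : L)).mpr h.2⟩
  rw [← hr, ← Subgroup.index_ker, mul_comm, ← Nat.card_congr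
    (Subgroup.subgroupOfEquivOfLe (inf_le_left : W ⊓ N ≤ W)).toEquiv, ← hk]
  exact Subgroup.card_mul_index _

end Cfsg.Agent.PF
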