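import Cfsg.Agent.OddChar.PF.S09Facts
import Cfsg.Agent.OddChar.PF.S09Linear

/-!
# Section 9: the setting inside the maximal subgroup

`Ctx9` is the setting of the section with the maximal subgroup as the ambient group.
-/

set_option linter.unusedSectionVars false
set_option linter.unusedVariables false
set_option linter.style.haveILetI false

universe u

namespace Cfsg.Agent.PF

open Subgroup
open scoped commutatorElement

/-- The setting: `L = K ⋊ W`, `K = H ⋊ U`, `H / H₀` a chief factor and `C = C_U(H / H₀)`. -/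
structure Ctx9 {L : Type u} [Group L] (K H H₀ U C W W₂ : Subgroup L) (q p : ℕ) : Prop where
  K_normal : K.Normal
  H_normal : H.Normal
  H₀_normal : H₀.Normal
  H_le : H ≤ K
  U_le : U ≤ K
  K_eq : H ⊔ U = K
  H_inf_U : H ⊓ U = ⊥
  K_sup_W : K ⊔ W = ⊤
  K_inf_W : K ⊓ W = ⊥
  W_cyclic : IsCyclic W
  card_W : Nat.card W = q
  q_prime : q.Prime
  coprime : (Nat.card K).Coprime q
  odd : Odd (Nat.card L)
  p_prime : p.Prime
  card_H : Nat.card H = p ^ q * Nat.card H₀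
  H₀_lt : H₀ < H
  nilpotent_H : Group.IsNilpotent H
  nilpotent_U : Group.IsNilpotent U
  derived_H : ⁅H, H⁆ ≤ H₀
  chief : ∀ N : Subgroup L, N.Normal → H₀ ≤ N → N ≤ H → N = H₀ ∨ N = H
  mem_C : ∀ x, x ∈ C ↔ x ∈ U ∧ ∀ h ∈ H, ⁅h, x⁆ ∈ H₀
  C_lt : C < U
  derived_U : ⁅U, U⁆ ≤ C
  W_normalizes_U : W ≤ normalizer (U : Set L)
  fpf : ∀ w ∈ W, w ≠ 1 → ∀ x ∈ U, w * x = x * w → x = 1
  centW : ∀ w ∈ W, w ≠ 1 → K ⊓ centralizer ({w} : Set L) = W₂
  W₂_le : W₂ ≤ H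
  W₂_cyclic : IsCyclic W₂
  W₂_card : Nat.card W₂ = p * Nat.card ↥(W₂ ⊓ H₀)

/-- `U` acts without fixed points on `H / H₀` modulo `C`: the Galois case. -/
def Free9 {L : Type u} [Group L] (H H₀ U C : Subgroup L) : Prop :=
  ∀ x ∈ U, x ∉ C → ∀ h' ∈ H, ∃ h ∈ H, ⁅h, x⁆⁻¹ * h' ∈ H₀

/-- A line of the non-Galois case, with its stabiliser `C₁` of index `a` in `U`. -/
structure LineCtx {L : Type u} [Group L] (H H₀ U W : Subgroup L) (H₁ C₁ : Subgroup L)
    (p a : ℕ) : Prop where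
  le : H₁ ≤ H
  ge : H₀ ≤ H₁
  card : Nat.card H₁ = p * Nat.card H₀
  normal : U ≤ normalizer (H₁ : Set L)
  span : (⨆ w : W, H₁.map (MulAut.conj (w : L)).toMonoidHom) = H
  mem_C₁ : ∀ x, x ∈ C₁ ↔ x ∈ U ∧ ∀ h ∈ H₁, ⁅h, x⁆ ∈ H₀
  index : C₁.relIndex U = a
  one_lt : 1 < a
  two_mul_le : 2 * a ≤ p - 1
  dvd : a ∣ p - 1

namespace Ctx9

variable {L : Type u} [Group L] [Finite L] {K H H₀ U C W W₂ : Subgroup L} {q p : ℕ}

theorem H₀_le (c : Ctx9 K H H₀ U C W W₂ q p) : H₀ ≤ H := c.H₀_lt.le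

theorem W₂_le_K (c : Ctx9 K H H₀ U C W W₂ q p) : W₂ ≤ K := c.W₂_le.trans c.H_le

theorem C_le (c : Ctx9 K H H₀ U C W W₂ q p) : C ≤ U := c.C_lt.le

theorem le_normalizer_H (c : Ctx9 K H H₀ U C W W₂ q p) (X : Subgroup L) :
    X ≤ normalizer (H : Set L) := by
  haveI := c.H_normal
  rw [Subgroup.normalizer_eq_top]
  exact le_top

theorem le_normalizer_H₀ (c : Ctx9 K H H₀ U C W W₂ q p) (X : Subgroup L) :
    X ≤ normalizer (H₀ : Set L) := by
  haveI := c.H₀_normal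
  rw [Subgroup.normalizer_eq_top]
  exact le_top

theorem U_normalizes_C (c : Ctx9 K H H₀ U C W W₂ q p) : U ≤ normalizer (C : Set L) := by
  refine s09_le_normalizer_of_conj fun a ha x hx => ?_
  have e : a * x * a⁻¹ = ⁅a, x⁆ * x := by simp only [commutatorElement_def]; group
  rw [e]
  exact mul_mem (c.derived_U (commutator_mem_commutator ha (c.C_le hx))) hx

theorem W_normalizes_C (c : Ctx9 K H H₀ U C W W₂ q p) : W ≤ normalizer (C : Set L) := by
  refine s09_le_normalizer_of_conj fun a ha x hx => (c.mem_C _).mpr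
    ⟨s09_conj_mem (c.W_normalizes_U ha) (c.C_le hx), fun h hh => ?_⟩
  have e : ⁅h, a * x * a⁻¹⁆ = a * ⁅a⁻¹ * h * a, x⁆ * a⁻¹ := by
    simp only [commutatorElement_def]; group
  rw [e]
  exact c.H₀_normal.conj_mem _ (((c.mem_C x).mp hx).2 _ (by simpa using c.H_normal.conj_mem h hh a⁻¹)) a

/-- A subgroup normalised by `H`, `U` and `W` is normal. -/
theorem normal_of (c : Ctx9 K H H₀ U C W W₂ q p) {X : Subgroup L} (h1 : H ≤ normalizer (X : Set L))
    (h2 : U ≤ normalizer (X : Set L)) (h3 : W ≤ normalizer (X : Set L)) : X.Normal := by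
  refine normalizer_eq_top_iff.mp (eq_top_iff.mpr ?_)
  rw [← c.K_sup_W, ← c.K_eq]
  exact sup_le (sup_le h1 h2) h3

theorem comm_C (c : Ctx9 K H H₀ U C W W₂ q p) {h x : L} (hh : h ∈ H) (hx : x ∈ C) :
    ⁅h, x⁆ ∈ H₀ := ((c.mem_C x).mp hx).2 h hh

theorem sup_C'_normal (c : Ctx9 K H H₀ U C W W₂ q p) : (H₀ ⊔ ⁅C, C⁆).Normal := by
  have hC' : ⁅C, C⁆ ≤ C := Subgroup.commutator_le_self C
  have hn : ∀ A : Subgroup L, A ≤ normalizer (C : Set L) →
      A ≤ normalizer ((⁅C, C⁆ : Subgroup L) : Set L) := by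
    intro A hA a ha
    rw [← Cfsg.Lib.Coprime.conjMap_eq_self_iff, Cfsg.Lib.Coprime.conjMap, map_commutator,
      show C.map (MulAut.conj a).toMonoidHom = C from Cfsg.Lib.Coprime.conjMap_eq_self (hA ha)]
  refine c.normal_of (s09_le_normalizer_of_conj fun a ha x hx => ?_)
    (Cfsg.Lib.Coprime.le_normalizer_sup (c.le_normalizer_H₀ U) (hn U c.U_normalizes_C))
    (Cfsg.Lib.Coprime.le_normalizer_sup (c.le_normalizer_H₀ W) (hn W c.W_normalizes_C))
  obtain ⟨n, hn', d, hd, rfl⟩ :=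
    (Cfsg.Lib.Coprime.mem_sup_of_le_normalizer (c.le_normalizer_H₀ _)).mp hx
  have e : a * (n * d) * a⁻¹ = a * n * a⁻¹ * ⁅a, d⁆ * d := by
    simp only [commutatorElement_def]; group
  rw [e]
  exact mul_mem (mul_mem (mem_sup_left (c.H₀_normal.conj_mem n hn' a))
    (mem_sup_left (c.comm_C ha (hC' hd)))) (mem_sup_right hd)

theorem sup_C_normal (c : Ctx9 K H H₀ U C W W₂ q p) : (H₀ ⊔ C).Normal := by
  refine c.normal_of (s09_le_normalizer_of_conj fun a ha x hx => ?_)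
    (Cfsg.Lib.Coprime.le_normalizer_sup (c.le_normalizer_H₀ U) c.U_normalizes_C)
    (Cfsg.Lib.Coprime.le_normalizer_sup (c.le_normalizer_H₀ W) c.W_normalizes_C)
  obtain ⟨n, hn', d, hd, rfl⟩ :=
    (Cfsg.Lib.Coprime.mem_sup_of_le_normalizer (c.le_normalizer_H₀ _)).mp hx
  have e : a * (n * d) * a⁻¹ = a * n * a⁻¹ * ⁅a, d⁆ * d := by
    simp only [commutatorElement_def]; group
  rw [e]
  exact mul_mem (mul_mem (mem_sup_left (c.H₀_normal.conj_mem n hn' a))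
    (mem_sup_left (c.comm_C ha hd))) (mem_sup_right hd)

/-- `H C` -/
theorem P_normal (c : Ctx9 K H H₀ U C W W₂ q p) : (H ⊔ C).Normal :=
  c.normal_of ((le_normalizer).trans' le_sup_left)
    (Cfsg.Lib.Coprime.le_normalizer_sup (c.le_normalizer_H U) c.U_normalizes_C)
    (Cfsg.Lib.Coprime.le_normalizer_sup (c.le_normalizer_H W) c.W_normalizes_C)

theorem P_le (c : Ctx9 K H H₀ U C W W₂ q p) : H ⊔ C ≤ K :=
  sup_le c.H_le (c.C_le.trans c.U_le)

theorem mem_K (c : Ctx9 K H H₀ U C W W₂ q p) {x : L} :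
    x ∈ K ↔ ∃ h ∈ H, ∃ y ∈ U, h * y = x := by
  rw [← c.K_eq]
  exact Cfsg.Lib.Coprime.mem_sup_of_le_normalizer (c.le_normalizer_H U)

theorem mem_P (c : Ctx9 K H H₀ U C W W₂ q p) {x : L} :
    x ∈ H ⊔ C ↔ ∃ h ∈ H, ∃ y ∈ C, h * y = x :=
  Cfsg.Lib.Coprime.mem_sup_of_le_normalizer (c.le_normalizer_H C)

theorem card_K (c : Ctx9 K H H₀ U C W W₂ q p) : Nat.card K = Nat.card H * Nat.card U := by
  rw [← c.K_eq]
  exact Cfsg.Lib.Coprime.card_sup_of_inf_eq_bot (c.le_normalizer_H U) c.H_inf_U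

/-- The index of `H X` in `K`. -/
theorem relIndex_sup (c : Ctx9 K H H₀ U C W W₂ q p) {X : Subgroup L} (hX : X ≤ U) :
    (H ⊔ X).relIndex K = X.relIndex U := by
  have hle : H ⊔ X ≤ K := sup_le c.H_le (hX.trans c.U_le)
  have hinf : H ⊓ X = ⊥ := eq_bot_iff.mpr ((inf_le_inf_left H hX).trans c.H_inf_U.le)
  have h1 := Subgroup.card_mul_index ((H ⊔ X).subgroupOf K)
  have h2 := Subgroup.card_mul_index (X.subgroupOf U)
  rw [Nat.card_congr (Subgroup.subgroupOfEquivOfLe hle).toEquiv, c.card_K,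
    Cfsg.Lib.Coprime.card_sup_of_inf_eq_bot (c.le_normalizer_H X) hinf] at h1
  rw [Nat.card_congr (Subgroup.subgroupOfEquivOfLe hX).toEquiv] at h2
  refine Nat.eq_of_mul_eq_mul_left (Nat.card_pos (α := X)) ?_
  refine Nat.eq_of_mul_eq_mul_left (Nat.card_pos (α := H)) ?_
  show _ * (_ * ((H ⊔ X).subgroupOf K).index) = _ * (_ * (X.subgroupOf U).index)
  rw [h2, ← mul_assoc, h1]

theorem P_relIndex (c : Ctx9 K H H₀ U C W W₂ q p) : (H ⊔ C).relIndex K = C.relIndex U :=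
  c.relIndex_sup c.C_le

/-- The derived subgroup of `H C`. -/
theorem derived_P (c : Ctx9 K H H₀ U C W W₂ q p) :
    ∀ a ∈ H ⊔ C, ∀ b ∈ H ⊔ C, a * b * a⁻¹ * b⁻¹ ∈ H₀ ⊔ ⁅C, C⁆ := by
  haveI := c.sup_C'_normal
  set N := H₀ ⊔ ⁅C, C⁆ with hN
  set π := QuotientGroup.mk' N
  have key : ∀ x y : L, π x * π y = π y * π x ↔ x * y * x⁻¹ * y⁻¹ ∈ N := by
    intro x y
    rw [← QuotientGroup.eq_one_iff, ← QuotientGroup.mk'_apply, map_mul, map_mul, map_mul, map_inv,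
      map_inv]
    exact ⟨fun h => by rw [h]; simp only [π]; group, fun h => by
      have := mul_inv_eq_one.mp h
      rwa [mul_inv_eq_iff_eq_mul] at this⟩
  have hHC : ∀ h ∈ H, ∀ x ∈ C, π h * π x = π x * π h := fun h hh x hx => (key h x).mpr
    (mem_sup_left (by simpa [commutatorElement_def] using c.comm_C hh hx))
  intro a ha b hb
  obtain ⟨h, hh, x, hx, rfl⟩ := c.mem_P.mp ha
  obtain ⟨k, hk, y, hy, rfl⟩ := c.mem_P.mp hb
  rw [← key, map_mul, map_mul]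
  have hHH : Commute (π h) (π k) := (key h k).mpr
    (mem_sup_left (c.derived_H (by
      simpa [commutatorElement_def] using commutator_mem_commutator hh hk)))
  have hCC : Commute (π x) (π y) := (key x y).mpr
    (mem_sup_right (by simpa [commutatorElement_def] using commutator_mem_commutator hx hy))
  have h1 : Commute (π h) (π y) := hHC h hh y hy
  have h2 : Commute (π k) (π x) := hHC k hk x hx
  exact ((hHH.mul_right h1).mul_left (h2.symm.mul_right hCC)).eq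

/-- `K` is abelian modulo `H C`. -/
theorem derived_K (c : Ctx9 K H H₀ U C W W₂ q p) :
    ∀ a ∈ K, ∀ b ∈ K, a * b * a⁻¹ * b⁻¹ ∈ H ⊔ C := by
  haveI := c.P_normal
  set π := QuotientGroup.mk' (H ⊔ C)
  intro a ha b hb
  obtain ⟨h, hh, x, hx, rfl⟩ := c.mem_K.mp ha
  obtain ⟨k, hk, y, hy, rfl⟩ := c.mem_K.mp hb
  have e : ∀ z ∈ H, π z = 1 := fun z hz => (QuotientGroup.eq_one_iff z).mpr (mem_sup_left hz)
  have exy : π x * π y = π y * π x := by
    have : π ⁅x, y⁆ = 1 :=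
      (QuotientGroup.eq_one_iff _).mpr (mem_sup_right (c.derived_U (commutator_mem_commutator hx hy)))
    rw [map_commutatorElement] at this
    exact commutatorElement_eq_one_iff_mul_comm.mp this
  rw [← QuotientGroup.eq_one_iff, ← QuotientGroup.mk'_apply, map_mul, map_mul, map_mul, map_inv,
    map_inv, map_mul, map_mul, e h hh, e k hk, one_mul, one_mul, exy]
  simp only [π]
  group

theorem inf_sup (c : Ctx9 K H H₀ U C W W₂ q p) {X : Subgroup L} (hX : X ≤ U) :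
    W₂ ⊓ (H₀ ⊔ X) = W₂ ⊓ H₀ := by
  refine le_antisymm (fun x hx => ⟨hx.1, ?_⟩) (inf_le_inf_left _ le_sup_left)
  obtain ⟨n, hn, y, hy, e⟩ :=
    (Cfsg.Lib.Coprime.mem_sup_of_le_normalizer (c.le_normalizer_H₀ X)).mp hx.2
  have hyH : y ∈ H ⊓ U := by
    refine ⟨?_, hX hy⟩
    rw [show y = n⁻¹ * x by rw [← e]; group]
    exact H.mul_mem (H.inv_mem (c.H₀_le hn)) (c.W₂_le hx.1)
  rw [c.H_inf_U, mem_bot] at hyH
  show x ∈ H₀
  rw [← e, hyH, mul_one]
  exact hn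

end Ctx9

end Cfsg.Agent.PF
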