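import Cfsg.Agent.OddChar.PF.S09Basic
import Cfsg.Agent.Coprime.FrobeniusFixed

/-!
# Section 9: the chief factor, and the structure of `U W₁` and of the chief factor
-/

set_option linter.unusedSectionVars false
set_option linter.unusedVariables false
set_option linter.style.haveILetI false

universe u

namespace Cfsg.Agent.PF

open Subgroup
open scoped commutatorElement

variable {G : Type u} [Group G] [Finite G]

/-- In a nilpotent group `H` a subgroup `K ≤ H` with `K ≤ [K, H] N` lies in `N`. -/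
theorem s09_le_of_commutator {H K N : Subgroup G} (hnil : Group.IsNilpotent H) (hK : K ≤ H)
    (hN : H ≤ normalizer (N : Set G)) (hle : K ≤ N ⊔ ⁅K, H⁆) : K ≤ N := by
  have key : ∀ i : ℕ, K ≤ N ⊔ ((⊤ : Subgroup ↥H).lowerCentralSeries i).map H.subtype := by
    intro i
    induction i with
    | zero =>
      rw [Subgroup.lowerCentralSeries_zero, ← MonoidHom.range_eq_map, Subgroup.range_subtype]
      exact hK.trans le_sup_right
    | succ i ih =>
      set Li : Subgroup G := ((⊤ : Subgroup ↥H).lowerCentralSeries i).map H.subtype with hLi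
      set Lj : Subgroup G := ((⊤ : Subgroup ↥H).lowerCentralSeries (i + 1)).map H.subtype with hLj
      have hj : Lj = ⁅Li, H⁆ := by
        rw [hLj, Subgroup.lowerCentralSeries_succ, Subgroup.map_commutator,
          ← MonoidHom.range_eq_map, Subgroup.range_subtype]
      have hjn : H ≤ normalizer (Lj : Set G) := by
        rw [hj]; exact Cfsg.Lib.Coprime.le_normalizer_commutator_right H Li
      refine hle.trans (sup_le le_sup_left ?_)
      rw [commutator_le]
      intro x hx a ha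
      have hLiH : Li ≤ H := Subgroup.map_subtype_le _
      obtain ⟨n, hn, l, hl, rfl⟩ :=
        (Cfsg.Lib.Coprime.mem_sup_of_le_normalizer (hLiH.trans hN)).mp (ih hx)
      have e : ⁅n * l, a⁆ = n * ⁅l, a⁆ * n⁻¹ * ⁅n, a⁆ := by
        simp only [commutatorElement_def]; group
      rw [e]
      refine mul_mem (mul_mem (mul_mem (mem_sup_left hn) (mem_sup_right ?_))
        (inv_mem (mem_sup_left hn))) (mem_sup_left ?_)
      · rw [hj]; exact commutator_mem_commutator hl ha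
      · rw [commutatorElement_def, mul_assoc, mul_assoc, ← mul_assoc a]
        exact mul_mem hn (s09_conj_mem (hN ha) (inv_mem hn))
  haveI := hnil
  obtain ⟨n, hn⟩ := Subgroup.nilpotent_iff_lowerCentralSeries.mp hnil
  have := key n
  rwa [hn, Subgroup.map_bot, sup_bot_eq] at this

variable {M W₁ U W₂ : Subgroup G}

theorem s09_exists (h : Hyp9 M W₁ U W₂) : ∃ H₀ : Subgroup G, Kernel9 M U H₀ := by
  classical
  set H := Cfsg.fittingHallOf M with hHdef
  let S : Set (Subgroup G) := {N | N ≤ H ∧ M ≤ normalizer (N : Set G) ∧ ¬ ⁅H, U⁆ ≤ N}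
  have hne : S.Nonempty := by
    refine ⟨⊥, bot_le, fun x _ => mem_normalizer_iff.mpr fun y => by simp [mul_inv_eq_one], ?_⟩
    intro hle
    refine Cfsg.Lib.FittingHall.not_le_centralizer h.typeP h.U_ne ?_
    rw [← commutator_eq_bot_iff_le_centralizer, commutator_comm]
    exact le_bot_iff.mp hle
  obtain ⟨N, ⟨hNH, hMN, hnt⟩, hmax⟩ := (Set.toFinite S).exists_maximal hne
  have hlt : N < H := lt_of_le_of_ne hNH fun e => hnt (e.symm ▸ Cfsg.Lib.Coprime.commutator_le_of_le_normalizer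
    (h.U_le.trans h.M_le_normalizer_H))
  have hmax' : ∀ K : Subgroup G, N ≤ K → K ≤ H → M ≤ normalizer (K : Set G) → K ≠ N →
      ⁅H, U⁆ ≤ K := by
    intro K h1 h2 h3 h4
    by_contra hc
    exact h4 (le_antisymm (hmax ⟨h2, h3, hc⟩ h1) h1)
  refine ⟨N, hlt, hMN, ?_, hnt⟩
  intro K hNK hKH hMK
  by_contra hcon
  push Not at hcon
  -- a minimal one
  let T : Set (Subgroup G) := {L | N < L ∧ L ≤ K ∧ M ≤ normalizer (L : Set G)}
  obtain ⟨L, ⟨hNL, hLK, hML⟩, hmin⟩ := (Set.toFinite T).exists_minimal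
    ⟨K, lt_of_le_of_ne hNK (Ne.symm hcon.1), le_rfl, hMK⟩
  have hLH : L ≤ H := hLK.trans hKH
  have hLlt : L < H := lt_of_le_of_lt hLK (lt_of_le_of_ne hKH hcon.2)
  have hHM : H ≤ M := h.H_le
  have hcLH : ⁅L, H⁆ ≤ L := Cfsg.Lib.Coprime.commutator_le_of_le_normalizer (hHM.trans hML)
  have hcent : ⁅L, H⁆ ≤ N := by
    by_contra hc
    have hnorm : M ≤ normalizer ((N ⊔ ⁅L, H⁆ : Subgroup G) : Set G) := by
      refine Cfsg.Lib.Coprime.le_normalizer_sup hMN fun m hm => ?_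
      rw [← Cfsg.Lib.Coprime.conjMap_eq_self_iff, Cfsg.Lib.Coprime.conjMap, map_commutator]
      rw [show L.map (MulAut.conj m).toMonoidHom = L from Cfsg.Lib.Coprime.conjMap_eq_self (hML hm),
        show H.map (MulAut.conj m).toMonoidHom = H from
          Cfsg.Lib.Coprime.conjMap_eq_self (h.M_le_normalizer_H hm)]
    have hin : N ⊔ ⁅L, H⁆ ∈ T := ⟨lt_of_le_of_ne le_sup_left fun e => hc (e ▸ le_sup_right),
      (sup_le hNL.le hcLH).trans hLK, hnorm⟩
    have hle : L ≤ N ⊔ ⁅L, H⁆ := hmin hin (sup_le hNL.le hcLH)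
    exact hNL.not_ge (s09_le_of_commutator h.nilpotent_H hLH (hHM.trans hMN) hle)
  have hHUL : ⁅H, U⁆ ≤ L := hmax' L hNL.le hLH hML hNL.ne'
  set D := fmod U H N (hHM.trans hMN) with hDdef
  have hND : N ≤ D := fun x hx => ⟨hNH hx, fun y hy => by
    rw [commutatorElement_def, mul_assoc, mul_assoc, ← mul_assoc y]
    exact mul_mem hx (s09_conj_mem (hMN (h.U_le hy)) (inv_mem hx))⟩
  have hcopUH : (Nat.card U).Coprime (Nat.card H) :=
    (h.coprime_H_UW.coprime_dvd_right (dvd_mul_right _ _)).symm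
  have hsup : D ⊔ L = H := by
    refine le_antisymm (sup_le (fun x hx => hx.1) hLH) ?_
    have e := Cfsg.Lib.Coprime.le_centralizer_sup (A := U) (D := L) (K := H) (h.U_le.trans hML)
      (hcopUH.coprime_dvd_right (Subgroup.card_dvd_of_le hLH))
      (Or.inr (Cfsg.Lib.Coprime.isSolvable_of_le hLH h.solvable_H)) hLH
      (fun k hk a ha => by
        have : k⁻¹ * a * k * a⁻¹ = ⁅k⁻¹, a⁆ := by simp [commutatorElement_def]
        rw [this]
        exact hHUL (commutator_mem_commutator (inv_mem hk) ha))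
    refine e.symm.le.trans (sup_le_sup_right ?_ L)
    rintro x ⟨hx, hx'⟩
    refine ⟨hx, fun y hy => ?_⟩
    have e2 := mem_centralizer_iff.mp hx' y hy
    have : ⁅x, y⁆ = 1 := by rw [commutatorElement_def, ← e2]; group
    rw [this]
    exact one_mem _
  have hLD : L ≤ normalizer (D : Set G) := by
    refine s09_le_normalizer_of_conj fun a ha x hx => ?_
    have e : a * x * a⁻¹ = ⁅a, x⁆ * x := by simp only [commutatorElement_def]; group
    rw [e]
    exact mul_mem (hND (hcent (commutator_mem_commutator ha hx.1))) hx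
  have hMD : M ≤ normalizer (D : Set G) := by
    refine h.normal_of (hsup.symm.le.trans (sup_le le_normalizer hLD)) ?_ ?_
    · refine s09_le_normalizer_of_conj fun a ha x hx => ⟨s09_conj_mem (h.M_le_normalizer_H (h.U_le ha)) hx.1,
        fun y hy => ?_⟩
      have e : ⁅a * x * a⁻¹, y⁆ = a * ⁅x, a⁻¹ * y * a⁆ * a⁻¹ := by
        simp only [commutatorElement_def]; group
      rw [e]
      exact s09_conj_mem (hMN (h.U_le ha)) (hx.2 _ (mul_mem (mul_mem (inv_mem ha) hy) ha))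
    · refine s09_le_normalizer_of_conj fun a ha x hx => ⟨s09_conj_mem (h.M_le_normalizer_H (h.W₁_le ha)) hx.1,
        fun y hy => ?_⟩
      have e : ⁅a * x * a⁻¹, y⁆ = a * ⁅x, a⁻¹ * y * a⁆ * a⁻¹ := by
        simp only [commutatorElement_def]; group
      rw [e]
      exact s09_conj_mem (hMN (h.W₁_le ha)) (hx.2 _ (s09_conj_mem' (h.W₁_le_normalizer_U ha) hy))
  by_cases hDN : D = N
  · rw [hDN, sup_eq_right.mpr hNL.le] at hsup
    exact hLlt.ne hsup
  · have h1 : ⁅H, U⁆ ≤ D := hmax' D hND (fun x hx => hx.1) hMD hDN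
    refine hnt ?_
    rw [← Cfsg.Lib.Coprime.commutator_commutator_eq (h.U_le.trans h.M_le_normalizer_H) hcopUH
      (Or.inr h.solvable_H)]
    refine le_trans (commutator_mono h1 le_rfl) ?_
    rw [commutator_le]
    exact fun x hx y hy => hx.2 y hy

namespace Kernel9

variable {H₀ : Subgroup G}

theorem H₀_le (k : Kernel9 M U H₀) : H₀ ≤ Cfsg.fittingHallOf M := k.lt.le

/-- `C_H(U)` is contained in `H₀`, also modulo `H₀`. -/
theorem fmod_eq (h : Hyp9 M W₁ U W₂) (k : Kernel9 M U H₀) :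
    fmod U (Cfsg.fittingHallOf M) H₀ (h.H_le.trans k.normal) = H₀ := by
  set H := Cfsg.fittingHallOf M with hHdef
  set D := fmod U H H₀ (h.H_le.trans k.normal)
  have hND : H₀ ≤ D := fun x hx => ⟨k.H₀_le hx, fun y hy => by
    rw [commutatorElement_def, mul_assoc, mul_assoc, ← mul_assoc y]
    exact mul_mem hx (s09_conj_mem (k.normal (h.U_le hy)) (inv_mem hx))⟩
  refine (k.chief D hND (fun x hx => hx.1) ?_).resolve_right fun e => k.nontrivial ?_
  · refine h.normal_of ?_ ?_ ?_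
    · refine s09_le_normalizer_of_conj fun a ha x hx => ⟨s09_conj_mem (h.M_le_normalizer_H (h.H_le ha)) hx.1,
        fun y hy => ?_⟩
      -- modulo `H₀` the group `H` is abelian
      have hab : ⁅H, H⁆ ≤ H₀ := by
        have hn : M ≤ normalizer ((H₀ ⊔ ⁅H, H⁆ : Subgroup G) : Set G) := by
          refine Cfsg.Lib.Coprime.le_normalizer_sup k.normal fun m hm => ?_
          rw [← Cfsg.Lib.Coprime.conjMap_eq_self_iff, Cfsg.Lib.Coprime.conjMap, map_commutator]
          rw [show H.map (MulAut.conj m).toMonoidHom = H from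
            Cfsg.Lib.Coprime.conjMap_eq_self (h.M_le_normalizer_H hm)]
        rcases k.chief _ le_sup_left (sup_le k.H₀_le (Subgroup.commutator_le_self H)) hn with e | e
        · exact e ▸ le_sup_right
        · exact absurd (s09_le_of_commutator h.nilpotent_H le_rfl (h.H_le.trans k.normal) e.ge)
            k.lt.not_ge
      have e : a * x * a⁻¹ = ⁅a, x⁆ * x := by simp only [commutatorElement_def]; group
      rw [e]
      exact (mul_mem (hND (hab (commutator_mem_commutator ha hx.1))) hx).2 y hy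
    · refine s09_le_normalizer_of_conj fun a ha x hx => ⟨s09_conj_mem (h.M_le_normalizer_H (h.U_le ha)) hx.1,
        fun y hy => ?_⟩
      have e : ⁅a * x * a⁻¹, y⁆ = a * ⁅x, a⁻¹ * y * a⁆ * a⁻¹ := by
        simp only [commutatorElement_def]; group
      rw [e]
      exact s09_conj_mem (k.normal (h.U_le ha)) (hx.2 _ (mul_mem (mul_mem (inv_mem ha) hy) ha))
    · refine s09_le_normalizer_of_conj fun a ha x hx => ⟨s09_conj_mem (h.M_le_normalizer_H (h.W₁_le ha)) hx.1,
        fun y hy => ?_⟩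
      have e : ⁅a * x * a⁻¹, y⁆ = a * ⁅x, a⁻¹ * y * a⁆ * a⁻¹ := by
        simp only [commutatorElement_def]; group
      rw [e]
      exact s09_conj_mem (k.normal (h.W₁_le ha)) (hx.2 _ (s09_conj_mem' (h.W₁_le_normalizer_U ha) hy))
  · rw [commutator_le]
    exact fun x hx y hy => (e.symm.le hx).2 y hy

theorem commutator_H_le (h : Hyp9 M W₁ U W₂) (k : Kernel9 M U H₀) :
    ⁅Cfsg.fittingHallOf M, Cfsg.fittingHallOf M⁆ ≤ H₀ := by
  set H := Cfsg.fittingHallOf M with hHdef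
  have hn : M ≤ normalizer ((H₀ ⊔ ⁅H, H⁆ : Subgroup G) : Set G) := by
    refine Cfsg.Lib.Coprime.le_normalizer_sup k.normal fun m hm => ?_
    rw [← Cfsg.Lib.Coprime.conjMap_eq_self_iff, Cfsg.Lib.Coprime.conjMap, map_commutator]
    rw [show H.map (MulAut.conj m).toMonoidHom = H from
      Cfsg.Lib.Coprime.conjMap_eq_self (h.M_le_normalizer_H hm)]
  rcases k.chief _ le_sup_left (sup_le k.H₀_le (Subgroup.commutator_le_self H)) hn with e | e
  · exact e ▸ le_sup_right
  · exact absurd (s09_le_of_commutator h.nilpotent_H le_rfl (h.H_le.trans k.normal) e.ge) k.lt.not_ge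

/-- The chief factor is elementary abelian. -/
theorem exists_prime (h : Hyp9 M W₁ U W₂) (k : Kernel9 M U H₀) :
    ∃ p : ℕ, p.Prime ∧ (∀ x ∈ Cfsg.fittingHallOf M, x ^ p ∈ H₀) ∧
      ∃ m : ℕ, 0 < m ∧ Nat.card (Cfsg.fittingHallOf M) = p ^ m * Nat.card H₀ := by
  set H := Cfsg.fittingHallOf M with hHdef
  set N₀ := H₀.subgroupOf H
  haveI hnorm : N₀.Normal :=
    (Subgroup.normal_subgroupOf_iff_le_normalizer k.H₀_le).mpr (h.H_le.trans k.normal)
  have hcomm : ∀ a b : ↥H ⧸ N₀, Commute a b := by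
    intro a b
    obtain ⟨a, rfl⟩ := QuotientGroup.mk'_surjective N₀ a
    obtain ⟨b, rfl⟩ := QuotientGroup.mk'_surjective N₀ b
    rw [Commute, SemiconjBy, ← map_mul, ← map_mul]
    refine QuotientGroup.eq.mpr ?_
    have e : ((a * b)⁻¹ * (b * a) : ↥H) = ⁅b⁻¹, a⁻¹⁆ := by
      simp only [commutatorElement_def]; group
    rw [e, Subgroup.mem_subgroupOf]
    exact k.commutator_H_le h (commutator_mem_commutator (b⁻¹).2 (a⁻¹).2)
  have hne : Nat.card (↥H ⧸ N₀) ≠ 1 := fun e => k.lt.not_ge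
    (Subgroup.subgroupOf_eq_top.mp (Subgroup.index_eq_one.mp e))
  obtain ⟨p, hp, hdvd⟩ := Nat.exists_prime_and_dvd hne
  haveI := Fact.mk hp
  obtain ⟨z, hz⟩ := exists_prime_orderOf_dvd_card' p hdvd
  obtain ⟨z, rfl⟩ := QuotientGroup.mk'_surjective N₀ z
  let P : Subgroup G :=
    { carrier := {x | x ∈ H ∧ x ^ p ∈ H₀}
      one_mem' := ⟨one_mem _, by simp⟩
      mul_mem' := by
        rintro a b ⟨ha, ha'⟩ ⟨hb, hb'⟩
        refine ⟨mul_mem ha hb, ?_⟩
        show ((⟨a, ha⟩ * ⟨b, hb⟩ : ↥H) ^ p : ↥H) ∈ N₀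
        rw [← QuotientGroup.eq_one_iff, ← QuotientGroup.mk'_apply, map_pow, map_mul,
          (hcomm _ _).mul_pow, ← map_pow, ← map_pow, QuotientGroup.mk'_apply, QuotientGroup.mk'_apply,
          (QuotientGroup.eq_one_iff _).mpr (show (⟨a, ha⟩ : ↥H) ^ p ∈ N₀ from ha'),
          (QuotientGroup.eq_one_iff _).mpr (show (⟨b, hb⟩ : ↥H) ^ p ∈ N₀ from hb'), one_mul]
      inv_mem' := by
        rintro a ⟨ha, ha'⟩
        exact ⟨inv_mem ha, by rw [inv_pow]; exact inv_mem ha'⟩ }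
  have hP : P = H := by
    have hPn : M ≤ normalizer (P : Set G) := by
      refine s09_le_normalizer_of_conj fun a ha x hx => ⟨s09_conj_mem (h.M_le_normalizer_H ha) hx.1, ?_⟩
      rw [conj_pow]
      exact s09_conj_mem (k.normal ha) hx.2
    refine (k.chief P (fun x hx => ⟨k.H₀_le hx, pow_mem hx p⟩) (fun x hx => hx.1) hPn).resolve_left ?_
    intro e
    have hzP : (z : G) ∈ P := ⟨z.2, (QuotientGroup.eq_one_iff (N := N₀) (z ^ p)).mp (by
      rw [← QuotientGroup.mk'_apply, map_pow, ← hz, pow_orderOf_eq_one])⟩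
    rw [e] at hzP
    have : QuotientGroup.mk' N₀ z = 1 := (QuotientGroup.eq_one_iff z).mpr hzP
    rw [this, orderOf_one] at hz
    exact hp.ne_one hz.symm
  have hexp : ∀ x ∈ H, x ^ p ∈ H₀ := fun x hx => (hP.ge hx).2
  refine ⟨p, hp, hexp, ?_⟩
  have hPg : IsPGroup p (↥H ⧸ N₀) := fun x => ⟨1, by
    obtain ⟨x, rfl⟩ := QuotientGroup.mk'_surjective N₀ x
    rw [pow_one, ← map_pow, QuotientGroup.mk'_apply, QuotientGroup.eq_one_iff]
    exact hexp x x.2⟩
  obtain ⟨m, hm⟩ := IsPGroup.iff_card.mp hPg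
  refine ⟨m, Nat.pos_of_ne_zero fun e => hne (by rw [hm, e, pow_zero]), ?_⟩
  rw [← hm, Subgroup.card_eq_card_quotient_mul_card_subgroup N₀,
    Nat.card_congr (Subgroup.subgroupOfEquivOfLe k.H₀_le).toEquiv]

theorem H₀_le_normalizer (h : Hyp9 M W₁ U W₂) (k : Kernel9 M U H₀) :
    Cfsg.fittingHallOf M ≤ normalizer (H₀ : Set G) := h.H_le.trans k.normal

theorem prime_structure (h : Hyp9 M W₁ U W₂) (k : Kernel9 M U H₀) :
    ∃ p : ℕ, p.Prime ∧ (∀ x ∈ Cfsg.fittingHallOf M, x ^ p ∈ H₀) ∧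
      Nat.card (Cfsg.fittingHallOf M) = p ^ Nat.card W₁ * Nat.card H₀ ∧
      Nat.card W₂ = p * Nat.card ↥(W₂ ⊓ H₀) := by
  obtain ⟨p, hp, hexp, m, hm0, hm⟩ := k.exists_prime h
  refine ⟨p, hp, hexp, ?_⟩
  set H := Cfsg.fittingHallOf M with hHdef
  have hUE : U ⊓ W₁ = ⊥ := Cfsg.Lib.Coprime.inf_eq_bot_of_coprime h.coprime_U_W
  have hcardL : Nat.card ↥(U ⊔ W₁) = Nat.card U * Nat.card W₁ :=
    Cfsg.Lib.Coprime.card_sup_of_inf_eq_bot h.W₁_le_normalizer_U hUE
  have hcopL : (Nat.card H).Coprime (Nat.card ↥(U ⊔ W₁)) := hcardL ▸ h.coprime_H_UW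
  have hLM : U ⊔ W₁ ≤ M := sup_le h.U_le h.W₁_le
  have eH := Cfsg.Lib.FixedDim.frobenius_fixed_solvable U W₁ hUE h.W₁_le_normalizer_U h.fpf' _ H
    le_rfl (hLM.trans h.M_le_normalizer_H) h.solvable_H hcopL
  have e0 := Cfsg.Lib.FixedDim.frobenius_fixed_solvable U W₁ hUE h.W₁_le_normalizer_U h.fpf' _ H₀
    le_rfl (hLM.trans k.normal) (Cfsg.Lib.Coprime.isSolvable_of_le k.H₀_le h.solvable_H)
    (hcopL.coprime_dvd_left (Subgroup.card_dvd_of_le k.H₀_le))
  have hU0 : H ⊓ centralizer (U : Set G) = H₀ ⊓ centralizer (U : Set G) := by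
    refine le_antisymm ?_ (inf_le_inf_right _ k.H₀_le)
    rintro x ⟨hx, hx'⟩
    refine ⟨(k.fmod_eq h).le ⟨hx, fun y hy => ?_⟩, hx'⟩
    have e2 := mem_centralizer_iff.mp hx' y hy
    have : ⁅x, y⁆ = 1 := by rw [commutatorElement_def, ← e2]; group
    rw [this]
    exact one_mem _
  have hL0 : H ⊓ centralizer ((U ⊔ W₁ : Subgroup G) : Set G) =
      H₀ ⊓ centralizer ((U ⊔ W₁ : Subgroup G) : Set G) := by
    refine le_antisymm ?_ (inf_le_inf_right _ k.H₀_le)
    rintro x ⟨hx, hx'⟩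
    exact ⟨(hU0.le ⟨hx, centralizer_le (SetLike.coe_subset_coe.mpr le_sup_left) hx'⟩).1, hx'⟩
  have hW0 : H₀ ⊓ centralizer (W₁ : Set G) = W₂ ⊓ H₀ := by
    rw [← h.H_inf_centralizer]
    refine le_antisymm (fun x hx => ⟨⟨k.H₀_le hx.1, hx.2⟩, hx.1⟩) fun x hx => ⟨hx.2, hx.1.2⟩
  rw [h.H_inf_centralizer, hL0, hU0, hm] at eH
  rw [hW0] at e0
  set a := Nat.card ↥(H₀ ⊓ centralizer ((U ⊔ W₁ : Subgroup G) : Set G)) ^ Nat.card W₁
  set b := Nat.card ↥(H₀ ⊓ centralizer (U : Set G))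
  have key : Nat.card ↥(W₂ ⊓ H₀) ^ Nat.card W₁ * p ^ m = Nat.card W₂ ^ Nat.card W₁ := by
    have : a * Nat.card H₀ * p ^ m = Nat.card W₂ ^ Nat.card W₁ * b := by rw [← eH]; ring
    rw [e0] at this
    have hb : 0 < b := Nat.card_pos
    refine Nat.eq_of_mul_eq_mul_right hb ?_
    rw [← this]; ring
  -- the index of `W₂ ⊓ H₀` in `W₂`
  haveI := h.typeP.selfNormalizing.2.2.2.2.1
  haveI hW₂c : IsCyclic W₂ :=
    isCyclic_of_injective (Subgroup.inclusion (le_sup_right : W₂ ≤ W₁ ⊔ W₂))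
      (Subgroup.inclusion_injective _)
  obtain ⟨g, hg⟩ := IsCyclic.exists_generator (α := ↥W₂)
  let r := (H₀.subgroupOf W₂).index
  have hr : r * Nat.card ↥(W₂ ⊓ H₀) = Nat.card W₂ := by
    have h1 := Subgroup.card_mul_index (H₀.subgroupOf W₂)
    rw [mul_comm] at h1
    rw [← h1]
    congr 1
    rw [← Subgroup.inf_subgroupOf_left H₀ W₂,
      Nat.card_congr (Subgroup.subgroupOfEquivOfLe (inf_le_left : W₂ ⊓ H₀ ≤ W₂)).toEquiv]
  have hrp : r ∣ p := by
    haveI : (H₀.subgroupOf W₂).Normal :=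
      (Subgroup.normal_subgroupOf_iff_le_normalizer_inf).mpr fun x hx => by
        refine s09_le_normalizer_of_conj (A := W₂) (fun a ha y hy => ?_) hx
        exact ⟨s09_conj_mem (k.normal (h.H_le (h.W₂_le_H ha))) hy.1,
          W₂.mul_mem (W₂.mul_mem ha hy.2) (W₂.inv_mem ha)⟩
    show (H₀.subgroupOf W₂).index ∣ p
    have hgen : ∀ x : ↥W₂ ⧸ H₀.subgroupOf W₂, x ∈ Subgroup.zpowers (QuotientGroup.mk' _ g) := by
      intro x
      obtain ⟨x, rfl⟩ := QuotientGroup.mk'_surjective _ x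
      obtain ⟨n, rfl⟩ := hg x
      exact ⟨n, (map_zpow _ _ _).symm⟩
    rw [Subgroup.index, ← orderOf_eq_card_of_forall_mem_zpowers hgen]
    refine orderOf_dvd_of_pow_eq_one ?_
    rw [← map_pow, QuotientGroup.mk'_apply, QuotientGroup.eq_one_iff]
    exact hexp (g : G) (h.W₂_le_H g.2)
  have key' : p ^ m = r ^ Nat.card W₁ := by
    rw [← hr, mul_pow, mul_comm] at key
    exact Nat.eq_of_mul_eq_mul_right (pow_pos Nat.card_pos _) key
  rcases (Nat.dvd_prime hp).mp hrp with e | e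
  · rw [e, one_pow] at key'
    exact absurd (Nat.eq_one_of_dvd_one (key' ▸ dvd_pow_self p hm0.ne')) hp.ne_one
  · rw [e] at key' hr
    exact ⟨by rw [hm, key'], hr.symm⟩

end Kernel9

/-- (9.3), (9.4) -/
theorem s9Facts (G : Type u) [Group G] [Finite G] (hodd : Odd (Nat.card G)) : S9Facts G := by
  intro M W₁ U W₂ h H₀ k
  obtain ⟨p, hp, hexp, hcard, hW₂⟩ := k.prime_structure h
  refine ⟨fun w hw hw1 => h.fpf hw hw1, h.coprime_H_UW, k.derived_U_le h, k.C_lt h,
    k.U_normalizes_C h, k.W₁_normalizes_C h, k.M_normalizes_sup h, p, hp, ?_, ?_, hcard,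
    k.commutator_H_le h, hexp, hW₂, ?_, ?_⟩
  · intro e
    have h1 : p ∣ Nat.card (Cfsg.fittingHallOf M) :=
      hcard ▸ Dvd.dvd.mul_right (dvd_pow_self p (Nat.card_pos (α := W₁)).ne') _
    exact hp.ne_one (Nat.eq_one_of_dvd_coprimes h.coprime_H_UW h1 (e ▸ dvd_mul_left _ _))
  · intro e
    have h1 : p ∣ Nat.card G := (dvd_mul_right p _).trans (hW₂ ▸ Subgroup.card_subgroup_dvd_card W₂)
    exact (Nat.not_even_iff_odd.mpr hodd) (even_iff_two_dvd.mpr (e ▸ h1))
  · intro x hx hfix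
    obtain ⟨d, hd, hc⟩ := Cfsg.Lib.Coprime.exists_fixed_of_commutator_mem (A := W₁) (N := H₀)
      (h.W₁_le.trans k.normal)
      (((h.coprime_H_UW.coprime_dvd_right (dvd_mul_left _ _)).symm).coprime_dvd_right
        (Subgroup.card_dvd_of_le k.H₀_le))
      (Or.inr (Cfsg.Lib.Coprime.isSolvable_of_le k.H₀_le h.solvable_H))
      (k.normal (h.H_le hx)) hfix
    have : x * d ∈ W₂ := h.H_inf_centralizer.le ⟨mul_mem hx (k.H₀_le hd), hc⟩
    have e : x = x * d * d⁻¹ := by group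
    rw [e]
    exact mul_mem_sup this (inv_mem hd)
  · intro hpr
    have h1 : p = Nat.card W₂ :=
      ((hpr.eq_one_or_self_of_dvd p (hW₂ ▸ dvd_mul_right _ _)).resolve_left hp.ne_one)
    refine ⟨h1.symm, Subgroup.card_eq_one.mp (Nat.eq_of_mul_eq_mul_left hp.pos ?_)⟩
    rw [mul_one, ← hW₂, h1]

/-- (9.1) -/
theorem s9Exists (G : Type u) [Group G] [Finite G] : S9Exists G := fun _ _ _ _ h => s09_exists h

end Cfsg.Agent.PF
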