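import Cfsg.Agent.OddChar.PF.S09Chars

/-!
# Section 9: characters induced from a normal subgroup of `K`
-/

set_option linter.unusedSectionVars false
set_option linter.unusedVariables false
set_option linter.style.haveILetI false

universe u

namespace Cfsg.Agent.PF

open Cfsg.Lib.Chars Cfsg.Lib.InducedFamily
open Subgroup

variable {L : Type u} [Group L] [Fintype L] {K : Subgroup L} [Fintype ↥K]

theorem s09_indK_irr' (Q : Subgroup L) [(Q.subgroupOf K).Normal] (hQK : Q ≤ K) (f : ↥Q →* ℂˣ)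
    (h : ∀ k ∈ K, (∀ y : ↥Q, ∀ hm : k * y * k⁻¹ ∈ Q, f ⟨k * y * k⁻¹, hm⟩ = f y) → k ∈ Q) :
    Cfsg.IsIrrCharacter ↥K (indK Q hQK f) := by
  let e : ↥(Q.subgroupOf K) ≃* ↥Q := Subgroup.subgroupOfEquivOfLe hQK
  refine s09_indFun_irr (K := Q.subgroupOf K)
    (IsIrrCharacter.comp_mulEquiv (Cfsg.Lib.Dual.isIrr_ev f) e) fun g hg => ?_
  refine Subgroup.mem_subgroupOf.mpr (h g g.2 fun y hm => Units.ext ?_)
  exact congrFun hg (e.symm y)

theorem s09_indK_above (Q : Subgroup L) [(Q.subgroupOf K).Normal] (hQK : Q ≤ K) (A : Subgroup L)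
    [(A.subgroupOf K).Normal] (hAQ : A ≤ Q) (f : ↥Q →* ℂˣ) :
    Above (indK Q hQK f) A ↔ ∀ a : ↥Q, (a : L) ∈ A → f a = 1 := by
  let e : ↥(Q.subgroupOf K) ≃* ↥Q := Subgroup.subgroupOfEquivOfLe hQK
  haveI := Fintype.ofFinite ↥(Q.subgroupOf K)
  let g : ↥(Q.subgroupOf K) → ℂ := fun x => Cfsg.Lib.Dual.ev f (e x)
  have h1 : g 1 = 1 := by simp [g, e, Cfsg.Lib.Dual.ev]
  have hiff := Cfsg.Agent.S1487.result (G := ↥K) (A.subgroupOf K) (Q.subgroupOf K)
    (fun x hx => Subgroup.mem_subgroupOf.mpr (hAQ (Subgroup.mem_subgroupOf.mp hx))) g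
    (IsIrrCharacter.comp_mulEquiv (Cfsg.Lib.Dual.isIrr_ev f) e)
  constructor
  · intro h a ha
    have := hiff.mpr (fun x hx => h x (Subgroup.mem_subgroupOf.mp hx)) (e.symm a) ha
    rw [h1] at this
    exact Units.ext this
  · intro h a ha
    refine hiff.mp (fun x hx => ?_) a (Subgroup.mem_subgroupOf.mpr ha)
    rw [h1]
    exact congrArg Units.val (h (e x) hx)

/-- The restriction of the linear character to a smaller normal subgroup is a constituent. -/
theorem s09_indK_res (Q : Subgroup L) [(Q.subgroupOf K).Normal] (hQK : Q ≤ K) (R : Subgroup L)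
    [R.Normal] [Fintype ↥R] (hRQ : R ≤ Q) (f : ↥Q →* ℂˣ) :
    Cfsg.classInner (resTo (hRQ.trans hQK) (indK Q hQK f))
      (Cfsg.Lib.Dual.ev (f.comp (Subgroup.inclusion hRQ))) ≠ 0 := by
  classical
  haveI := Fintype.ofFinite ↥(Q.subgroupOf K)
  set g := f.comp (Subgroup.inclusion hRQ) with hg
  let cj : ↥K → (↥R →* ℂˣ) := fun k =>
    g.comp (MulAut.conjNormal (k : L) : MulAut ↥R).toMonoidHom
  have hres : resTo (hRQ.trans hQK) (indK Q hQK f) =
      (Nat.card (Q.subgroupOf K) : ℂ)⁻¹ • ∑ k : ↥K, Cfsg.Lib.Dual.ev (cj k) := by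
    funext x
    simp only [Pi.smul_apply, Finset.sum_apply, smul_eq_mul, resTo, indK]
    rw [show (⟨(x : L), hQK (hRQ x.2)⟩ : ↥K) =
      ((⟨⟨(x : L), hQK (hRQ x.2)⟩, Subgroup.mem_subgroupOf.mpr (hRQ x.2)⟩ : ↥(Q.subgroupOf K)) : ↥K)
      from rfl, indFun_normal_mem]
    congr 1
  rw [hres, classInner_smul_left, classInner_sum_left]
  simp only [Cfsg.Lib.Dual.classInner_ev]
  rw [Finset.sum_boole]
  refine mul_ne_zero (inv_ne_zero (Nat.cast_ne_zero.mpr Nat.card_pos.ne')) ?_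
  refine Nat.cast_ne_zero.mpr (Finset.card_pos.mpr ⟨1, ?_⟩).ne'
  refine Finset.mem_filter.mpr ⟨Finset.mem_univ _, MonoidHom.ext fun x => ?_⟩
  simp [cj]

/-- At most `[K : Q]` linear characters induce to the same character. -/
theorem s09_card_indK (Q : Subgroup L) [(Q.subgroupOf K).Normal] (hQK : Q ≤ K) {ι : Type*}
    (S : Finset (↥Q →* ℂˣ)) (T : Finset ι) (ι' : ι → (↥K → ℂ))
    (h : ∀ f ∈ S, ∃ i ∈ T, ι' i = indK Q hQK f) :
    S.card ≤ T.card * Q.relIndex K := by
  classical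
  haveI := Fintype.ofFinite ↥(Q.subgroupOf K)
  let e : ↥(Q.subgroupOf K) ≃* ↥Q := Subgroup.subgroupOfEquivOfLe hQK
  let g : (↥Q →* ℂˣ) → (↥(Q.subgroupOf K) → ℂ) := fun f x => Cfsg.Lib.Dual.ev f (e x)
  have hirr : ∀ f, Cfsg.IsIrrCharacter ↥(Q.subgroupOf K) (g f) := fun f =>
    IsIrrCharacter.comp_mulEquiv (Cfsg.Lib.Dual.isIrr_ev f) e
  have hginj : Function.Injective g := fun a b hab => Cfsg.Lib.Dual.ev_injective
    (funext fun y => by simpa [g] using congrFun hab (e.symm y))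
  have h1 : S.card ≤ Q.relIndex K * (S.image fun f => indK Q hQK f).card := by
    refine Finset.card_le_mul_card_image S _ fun θ hθ => ?_
    obtain ⟨f₀, hf₀, rfl⟩ := Finset.mem_image.mp hθ
    have hsub : (S.filter fun f => indK Q hQK f = indK Q hQK f₀).image g ⊆
        conjOrbit (Q.subgroupOf K) (g f₀) := by
      intro x hx
      obtain ⟨f, hf, rfl⟩ := Finset.mem_image.mp hx
      exact (mem_conjOrbit _).mpr
        (s09_conj_of_indFun_eq (hirr f₀) (hirr f) ((Finset.mem_filter.mp hf).2).symm)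
    have h2 := Finset.card_le_card hsub
    rw [Finset.card_image_of_injective _ hginj] at h2
    refine h2.trans ?_
    have h3 := card_conjOrbit (Q.subgroupOf K) (g f₀)
    have h4 : Nat.card (Q.subgroupOf K) ≤ Nat.card (inertia (Q.subgroupOf K) (g f₀)) :=
      Nat.le_of_dvd Nat.card_pos (Subgroup.card_dvd_of_le
        (le_inertia (isClassFunction_irr ⟨_, hirr f₀⟩)))
    have h5 := (Q.subgroupOf K).card_mul_index
    by_contra hlt
    push Not at hlt
    have : Q.relIndex K * Nat.card (Q.subgroupOf K) <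
        (conjOrbit (Q.subgroupOf K) (g f₀)).card * Nat.card (inertia (Q.subgroupOf K) (g f₀)) :=
      Nat.mul_lt_mul_of_lt_of_le hlt h4 Nat.card_pos
    rw [h3, mul_comm, show Q.relIndex K = (Q.subgroupOf K).index from rfl, h5] at this
    exact lt_irrefl _ this
  refine h1.trans ?_
  rw [mul_comm]
  refine Nat.mul_le_mul_right _ ?_
  calc (S.image fun f => indK Q hQK f).card
      ≤ (T.image ι').card := Finset.card_le_card (fun x hx => by
        obtain ⟨f, hf, rfl⟩ := Finset.mem_image.mp hx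
        obtain ⟨i, hi, e⟩ := h f hf
        exact Finset.mem_image.mpr ⟨i, hi, e⟩)
    _ ≤ T.card := Finset.card_image_le

end Cfsg.Agent.PF
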