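import Cfsg.Agent.OddChar.PF.S09IndK

/-!
# Section 9: the characters of degree `q a` of the non-Galois case
-/

set_option linter.unusedSectionVars false
set_option linter.unusedVariables false
set_option linter.style.haveILetI false

universe u

namespace Cfsg.Agent.PF

open Cfsg.Lib.Chars Cfsg.Lib.InducedFamily
open Subgroup
open scoped commutatorElement

/-- The join of `H₀` and the conjugates of `H₁` by the non-identity elements of `W`. -/
def lineJ {L : Type u} [Group L] (H₀ W H₁ : Subgroup L) : Subgroup L :=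
  H₀ ⊔ ⨆ w : {w : ↥W // w ≠ 1}, Cfsg.Lib.Coprime.conjMap ((w : ↥W) : L) H₁

namespace Ctx9

variable {L : Type u} [Group L] [Fintype L] {K H H₀ U C W W₂ : Subgroup L} {q p : ℕ}
  {H₁ C₁ : Subgroup L} {a : ℕ}

theorem conj_line_le (c : Ctx9 K H H₀ U C W W₂ q p) (l : LineCtx H H₀ U W H₁ C₁ p a) (w : L) :
    H₀ ≤ Cfsg.Lib.Coprime.conjMap w H₁ ∧ Cfsg.Lib.Coprime.conjMap w H₁ ≤ H := by
  constructor
  · calc H₀ = Cfsg.Lib.Coprime.conjMap w H₀ :=
          (Cfsg.Lib.Coprime.conjMap_eq_self (c.le_normalizer_H₀ ⊤ (mem_top w))).symm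
      _ ≤ _ := Cfsg.Lib.Coprime.conjMap_mono l.ge
  · calc _ ≤ Cfsg.Lib.Coprime.conjMap w H := Cfsg.Lib.Coprime.conjMap_mono l.le
      _ = H := Cfsg.Lib.Coprime.conjMap_eq_self (c.le_normalizer_H ⊤ (mem_top w))

theorem U_normalizes_line (c : Ctx9 K H H₀ U C W W₂ q p) (l : LineCtx H H₀ U W H₁ C₁ p a) {w : L}
    (hw : w ∈ W) : U ≤ normalizer (Cfsg.Lib.Coprime.conjMap w H₁ : Set L) := by
  rw [Cfsg.Lib.Coprime.normalizer_conjMap]
  intro x hx
  exact Cfsg.Lib.Coprime.mem_conjMap.mpr (l.normal (s09_conj_mem' (c.W_normalizes_U hw) hx))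

theorem H_normalizes_between (c : Ctx9 K H H₀ U C W W₂ q p) {N : Subgroup L} (h1 : H₀ ≤ N)
    (h2 : N ≤ H) : H ≤ normalizer (N : Set L) := by
  refine s09_le_normalizer_of_conj fun x hx y hy => ?_
  have e : x * y * x⁻¹ = ⁅x, y⁆ * y := by simp only [commutatorElement_def]; group
  rw [e]
  exact mul_mem (h1 (c.derived_H (commutator_mem_commutator hx (h2 hy)))) hy

theorem lineJ_le (c : Ctx9 K H H₀ U C W W₂ q p) (l : LineCtx H H₀ U W H₁ C₁ p a) :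
    lineJ H₀ W H₁ ≤ H :=
  sup_le c.H₀_le (iSup_le fun w => (c.conj_line_le l _).2)

theorem lineJ_sup (c : Ctx9 K H H₀ U C W W₂ q p) (l : LineCtx H H₀ U W H₁ C₁ p a) :
    H ≤ lineJ H₀ W H₁ ⊔ H₁ := by
  conv_lhs => rw [← l.span]
  refine iSup_le fun w => ?_
  by_cases hw : w = 1
  · subst hw
    exact le_trans (Cfsg.Lib.Coprime.conjMap_one H₁).le le_sup_right
  · exact le_trans (le_trans (le_iSup (fun v : {v : ↥W // v ≠ 1} =>
      Cfsg.Lib.Coprime.conjMap ((v : ↥W) : L) H₁) ⟨w, hw⟩) le_sup_right) le_sup_left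

theorem lineJ_lt (c : Ctx9 K H H₀ U C W W₂ q p) (l : LineCtx H H₀ U W H₁ C₁ p a) :
    lineJ H₀ W H₁ < H := by
  classical
  haveI := Fintype.ofFinite ↥W
  let N : {w : ↥W // w ≠ 1} → Subgroup L := fun w =>
    Cfsg.Lib.Coprime.conjMap ((w : ↥W) : L) H₁
  have hle : ∀ s : Finset {w : ↥W // w ≠ 1}, H₀ ⊔ s.sup N ≤ H := fun s =>
    sup_le c.H₀_le (Finset.sup_le fun w _ => (c.conj_line_le l _).2)
  have hcard : ∀ s : Finset {w : ↥W // w ≠ 1},
      Nat.card ↥(H₀ ⊔ s.sup N) ≤ Nat.card H₀ * p ^ s.card := by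
    intro s
    induction s using Finset.induction_on with
    | empty => rw [Finset.sup_empty, sup_bot_eq, Finset.card_empty, pow_zero, mul_one]
    | insert x t hx ih =>
      have e : H₀ ⊔ (insert x t).sup N = (H₀ ⊔ t.sup N) ⊔ N x := by
        rw [Finset.sup_insert]; ac_rfl
      have hc := Cfsg.Lib.Coprime.card_sup_mul_card_inf (N := H₀ ⊔ t.sup N) (H := N x)
        ((c.conj_line_le l _).2.trans (c.H_normalizes_between le_sup_left (hle t)))
      have hNx : Nat.card (N x) = p * Nat.card H₀ :=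
        (Cfsg.Lib.Coprime.card_conjMap _ _).trans l.card
      have hi : Nat.card H₀ ≤ Nat.card ↥((H₀ ⊔ t.sup N) ⊓ N x) :=
        Nat.le_of_dvd Nat.card_pos (Subgroup.card_dvd_of_le
          (le_inf le_sup_left (c.conj_line_le l _).1))
      rw [e, Finset.card_insert_of_notMem hx, pow_succ]
      have h1 : Nat.card ↥((H₀ ⊔ t.sup N) ⊔ N x) * Nat.card H₀ ≤
          Nat.card ↥(H₀ ⊔ t.sup N) * (p * Nat.card H₀) := by
        rw [← hNx, ← hc]
        exact Nat.mul_le_mul_left _ hi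
      rw [← mul_assoc (Nat.card ↥(H₀ ⊔ t.sup N))] at h1
      have h2 := Nat.le_of_mul_le_mul_right h1 Nat.card_pos
      calc _ ≤ Nat.card ↥(H₀ ⊔ t.sup N) * p := h2
        _ ≤ Nat.card H₀ * p ^ t.card * p := Nat.mul_le_mul_right _ ih
        _ = _ := by ring
  refine lt_of_le_of_ne (c.lineJ_le l) fun e => ?_
  have e' : lineJ H₀ W H₁ = H₀ ⊔ Finset.univ.sup N := by
    rw [lineJ, Finset.sup_univ_eq_iSup]
  have h := hcard Finset.univ
  rw [← e', e, c.card_H, Finset.card_univ, Fintype.card_subtype_compl, Fintype.card_subtype_eq,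
    ← Nat.card_eq_fintype_card, c.card_W, mul_comm (p ^ q)] at h
  have h2 := Nat.le_of_mul_le_mul_left h Nat.card_pos
  have := Nat.pow_lt_pow_right c.p_prime.one_lt (show q - 1 < q by have := c.q_prime.pos; omega)
  omega

theorem U_normalizes_lineJ (c : Ctx9 K H H₀ U C W W₂ q p) (l : LineCtx H H₀ U W H₁ C₁ p a) :
    U ≤ normalizer (lineJ H₀ W H₁ : Set L) := by
  refine Cfsg.Lib.Coprime.le_normalizer_sup (c.le_normalizer_H₀ U) fun x hx => ?_
  rw [← Cfsg.Lib.Coprime.conjMap_eq_self_iff, Cfsg.Lib.Coprime.conjMap, Subgroup.map_iSup]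
  exact iSup_congr fun w => Cfsg.Lib.Coprime.conjMap_eq_self (c.U_normalizes_line l w.1.2 hx)

theorem K_normalizes_of (c : Ctx9 K H H₀ U C W W₂ q p) {X : Subgroup L}
    (h1 : H ≤ normalizer (X : Set L)) (h2 : U ≤ normalizer (X : Set L)) :
    (X.subgroupOf K).Normal := by
  have hK : K ≤ normalizer (X : Set L) := c.K_eq ▸ sup_le h1 h2
  refine ⟨fun x hx g => ?_⟩
  show (g : L) * x * (g : L)⁻¹ ∈ X
  exact s09_conj_mem (hK g.2) hx

theorem lineJ_comm (c : Ctx9 K H H₀ U C W W₂ q p) (l : LineCtx H H₀ U W H₁ C₁ p a) {x : L}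
    (hx : x ∈ C₁) : ∀ h ∈ H, ⁅h, x⁆ ∈ lineJ H₀ W H₁ := by
  obtain ⟨hxU, hx'⟩ := (l.mem_C₁ x).mp hx
  have hJn := c.U_normalizes_lineJ l
  have hHJ := c.H_normalizes_between (show H₀ ≤ lineJ H₀ W H₁ from le_sup_left) (c.lineJ_le l)
  intro h hh
  obtain ⟨j, hj, n, hn, rfl⟩ := (Cfsg.Lib.Coprime.mem_sup_of_le_normalizer
    (l.le.trans hHJ)).mp (c.lineJ_sup l hh)
  have e : ⁅j * n, x⁆ = j * ⁅n, x⁆ * j⁻¹ * ⁅j, x⁆ := by
    simp only [commutatorElement_def]; group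
  rw [e]
  refine mul_mem (mul_mem (mul_mem hj (mem_sup_left (hx' n hn))) (inv_mem hj)) ?_
  rw [commutatorElement_def, mul_assoc, mul_assoc, ← mul_assoc x]
  exact mul_mem hj (s09_conj_mem (hJn hxU) (inv_mem hj))

theorem C₁_le (c : Ctx9 K H H₀ U C W W₂ q p) (l : LineCtx H H₀ U W H₁ C₁ p a) : C₁ ≤ U :=
  fun x hx => ((l.mem_C₁ x).mp hx).1

theorem C_le_C₁ (c : Ctx9 K H H₀ U C W W₂ q p) (l : LineCtx H H₀ U W H₁ C₁ p a) : C ≤ C₁ :=
  fun x hx => (l.mem_C₁ x).mpr ⟨c.C_le hx, fun h hh => c.comm_C (l.le hh) hx⟩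

theorem U_normalizes_C₁ (c : Ctx9 K H H₀ U C W W₂ q p) (l : LineCtx H H₀ U W H₁ C₁ p a) :
    U ≤ normalizer (C₁ : Set L) := by
  refine s09_le_normalizer_of_conj fun g hg x hx => ?_
  have e : g * x * g⁻¹ = ⁅g, x⁆ * x := by simp only [commutatorElement_def]; group
  rw [e]
  exact mul_mem (c.C_le_C₁ l (c.derived_U (commutator_mem_commutator hg (c.C₁_le l hx)))) hx

theorem Q_normal (c : Ctx9 K H H₀ U C W W₂ q p) (l : LineCtx H H₀ U W H₁ C₁ p a) :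
    ((H ⊔ C₁).subgroupOf K).Normal :=
  c.K_normalizes_of ((le_normalizer).trans' le_sup_left)
    (Cfsg.Lib.Coprime.le_normalizer_sup (c.le_normalizer_H U) (c.U_normalizes_C₁ l))

theorem sup_U'_normal (c : Ctx9 K H H₀ U C W W₂ q p) : (H₀ ⊔ ⁅U, U⁆).Normal := by
  have hn : ∀ A : Subgroup L, A ≤ normalizer (U : Set L) →
      A ≤ normalizer ((⁅U, U⁆ : Subgroup L) : Set L) := by
    intro A hA x hx
    rw [← Cfsg.Lib.Coprime.conjMap_eq_self_iff, Cfsg.Lib.Coprime.conjMap, map_commutator,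
      show U.map (MulAut.conj x).toMonoidHom = U from Cfsg.Lib.Coprime.conjMap_eq_self (hA hx)]
  refine c.normal_of (s09_le_normalizer_of_conj fun g hg x hx => ?_)
    (Cfsg.Lib.Coprime.le_normalizer_sup (c.le_normalizer_H₀ U) (hn U le_normalizer))
    (Cfsg.Lib.Coprime.le_normalizer_sup (c.le_normalizer_H₀ W) (hn W c.W_normalizes_U))
  obtain ⟨n, hn', d, hd, rfl⟩ :=
    (Cfsg.Lib.Coprime.mem_sup_of_le_normalizer (c.le_normalizer_H₀ _)).mp hx
  have e : g * (n * d) * g⁻¹ = g * n * g⁻¹ * ⁅g, d⁆ * d := by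
    simp only [commutatorElement_def]; group
  rw [e]
  exact mul_mem (mul_mem (mem_sup_left (c.H₀_normal.conj_mem n hn' g))
    (mem_sup_left (c.comm_C hg (c.derived_U hd)))) (mem_sup_right hd)

/-- A linear character of `H C₁` trivial on the other lines and on `U'` but not on `H` gives an
irreducible character of `M` of degree `q a`. -/
theorem line_char (c : Ctx9 K H H₀ U C W W₂ q p) (l : LineCtx H H₀ U W H₁ C₁ p a) [Fintype ↥K]
    [K.Normal] [H.Normal] [((H ⊔ C₁).subgroupOf K).Normal] (hQK : H ⊔ C₁ ≤ K)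
    (f : ↥(H ⊔ C₁) →* ℂˣ)
    (hJ : ∀ x : ↥(H ⊔ C₁), (x : L) ∈ lineJ H₀ W H₁ → f x = 1)
    (hU : ∀ x : ↥(H ⊔ C₁), (x : L) ∈ ⁅U, U⁆ → f x = 1)
    (hne : f.comp (Subgroup.inclusion (le_sup_left : H ≤ H ⊔ C₁)) ≠ 1) :
    Cfsg.IsIrrCharacter ↥K (indK (H ⊔ C₁) hQK f) ∧
      Cfsg.IsIrrCharacter L (Cfsg.indFun K (indK (H ⊔ C₁) hQK f)) ∧
      Cfsg.indFun K (indK (H ⊔ C₁) hQK f) ∈ seqIndD K H (H₀ ⊔ ⁅U, U⁆) ∧
      Cfsg.indFun K (indK (H ⊔ C₁) hQK f) 1 = ((q * a : ℕ) : ℂ) ∧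
      ∀ g ∈ W, g ≠ 1 → ∀ f' : ↥(H ⊔ C₁) →* ℂˣ,
        (∀ x : ↥(H ⊔ C₁), (x : L) ∈ lineJ H₀ W H₁ → f' x = 1) →
        f'.comp (Subgroup.inclusion (le_sup_left : H ≤ H ⊔ C₁)) ≠ 1 →
        Cfsg.Lib.Chars.conjN K g (indK (H ⊔ C₁) hQK f) ≠ indK (H ⊔ C₁) hQK f' := by
  classical
  haveI := Fintype.ofFinite ↥H
  set g := f.comp (Subgroup.inclusion (le_sup_left : H ≤ (H ⊔ C₁))) with hgdef
  have hg0 : ∀ x : ↥H, (x : L) ∈ H₀ → g x = 1 := fun x hx =>
    hJ ⟨x, mem_sup_left x.2⟩ (mem_sup_left hx)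
  -- the character is non-trivial on `H₁`
  have hline : ∀ (h : ↥H →* ℂˣ), (∀ x : ↥H, (x : L) ∈ lineJ H₀ W H₁ → h x = 1) →
      (∀ x : ↥H, (x : L) ∈ H₁ → h x = 1) → h = 1 := by
    intro h h1 h2
    refine MonoidHom.ext fun y => ?_
    have hle : H ≤ h.ker.map H.subtype := (c.lineJ_sup l).trans (sup_le
      (fun x hx => ⟨⟨x, c.lineJ_le l hx⟩, h1 _ hx, rfl⟩) (fun x hx => ⟨⟨x, l.le hx⟩, h2 _ hx, rfl⟩))
    obtain ⟨z, hz, hzz⟩ := hle y.2
    rw [← show z = y from Subtype.ext hzz]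
    exact hz
  obtain ⟨h', hh', hh'ne⟩ : ∃ x : ↥H, (x : L) ∈ H₁ ∧ g x ≠ 1 := by
    by_contra hcon
    push Not at hcon
    exact hne (hline g (fun x hx => hJ ⟨x, mem_sup_left x.2⟩ hx) hcon)
  have hirrK : Cfsg.IsIrrCharacter ↥K (indK (H ⊔ C₁) hQK f) := by
    refine s09_indK_irr' (H ⊔ C₁) hQK f fun k hk hfix => ?_
    obtain ⟨h, hh, x, hx, rfl⟩ := c.mem_K.mp hk
    have hs : x ∈ stab U g := by
      refine mem_stab_iff.mpr ⟨hx, fun y => ?_⟩
      have hxy : x * (y : L) * x⁻¹ ∈ H := c.H_normal.conj_mem _ y.2 x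
      have hm : h * x * (y : L) * (h * x)⁻¹ ∈ (H ⊔ C₁) := by
        rw [show h * x * (y : L) * (h * x)⁻¹ = h * (x * y * x⁻¹) * h⁻¹ by group]
        exact mem_sup_left (mul_mem (mul_mem hh hxy) (inv_mem hh))
      have h1 := hfix ⟨y, mem_sup_left y.2⟩ hm
      show f ⟨x * y * x⁻¹, _⟩ = f ⟨y, _⟩
      rw [← h1]
      have e : (⟨h * x * (y : L) * (h * x)⁻¹, hm⟩ : ↥(H ⊔ C₁)) =
          ⟨h, mem_sup_left hh⟩ * ⟨x * y * x⁻¹, mem_sup_left hxy⟩ * ⟨h, mem_sup_left hh⟩⁻¹ :=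
        Subtype.ext (by simp only [Subgroup.coe_mul, Subgroup.coe_inv]; group)
      rw [e, map_mul, map_mul, map_inv, mul_right_comm, mul_inv_cancel, one_mul]
    exact mul_mem (mem_sup_left hh) (mem_sup_right ((l.mem_C₁ x).mpr
      ⟨hx, c.stab_le_line hg0 l.ge l.card l.normal l.le hh' hh'ne hs⟩))
  have hnotline : ∀ w ∈ W, w ≠ 1 → ∀ f' : ↥(H ⊔ C₁) →* ℂˣ,
      (∀ x : ↥(H ⊔ C₁), (x : L) ∈ lineJ H₀ W H₁ → f' x = 1) →
      f'.comp (Subgroup.inclusion (le_sup_left : H ≤ (H ⊔ C₁))) ≠ 1 →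
      Cfsg.Lib.Chars.conjN K w (indK (H ⊔ C₁) hQK f) ≠ indK (H ⊔ C₁) hQK f' := by
    intro w hw hw1 f' hJ' hne' heq
    set g' := f'.comp (Subgroup.inclusion (le_sup_left : H ≤ (H ⊔ C₁))) with hg'def
    let gw : ↥H →* ℂˣ := g.comp (MulAut.conjNormal w : MulAut ↥H).toMonoidHom
    have h1 : Cfsg.classInner (resTo c.H_le (indK (H ⊔ C₁) hQK f')) (Cfsg.Lib.Dual.ev gw) ≠ 0 := by
      rw [← heq, show Cfsg.Lib.Dual.ev gw = Cfsg.Lib.Chars.conjN H w (Cfsg.Lib.Dual.ev g) by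
        rw [conjN_eq_comp]; rfl,
        show resTo c.H_le (Cfsg.Lib.Chars.conjN K w (indK (H ⊔ C₁) hQK f)) =
          Cfsg.Lib.Chars.conjN H w (resTo c.H_le (indK (H ⊔ C₁) hQK f)) from rfl, classInner_conjN]
      exact s09_indK_res (H ⊔ C₁) hQK H le_sup_left f
    have hirr' : Cfsg.IsIrrCharacter ↥K (indK (H ⊔ C₁) hQK f') := heq ▸ IsIrrCharacter.conjN hirrK w
    obtain ⟨O, m, hm, hO, hres, -⟩ := s09_orbit H c.H_le hirr' (Cfsg.Lib.Dual.isIrr_ev g')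
      (s09_indK_res (H ⊔ C₁) hQK H le_sup_left f')
    have h2 : Cfsg.Lib.Dual.ev gw ∈ O := by
      by_contra hcon
      refine h1 ?_
      rw [hres, classInner_smul_left, classInner_sum_left,
        Finset.sum_eq_zero fun b hb => ?_, mul_zero]
      obtain ⟨k, -, rfl⟩ := (hO b).mp hb
      rw [classInner_irrChar (IsIrrCharacter.conjN (Cfsg.Lib.Dual.isIrr_ev g') k)
        (Cfsg.Lib.Dual.isIrr_ev gw), if_neg fun (e : Cfsg.Lib.Chars.conjN H k (Cfsg.Lib.Dual.ev g') = Cfsg.Lib.Dual.ev gw) => hcon (e ▸ hb)]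
    obtain ⟨k, hk, hkeq⟩ := (hO _).mp h2
    have hJK : K ≤ normalizer (lineJ H₀ W H₁ : Set L) := c.K_eq ▸ sup_le
      (c.H_normalizes_between le_sup_left (c.lineJ_le l)) (c.U_normalizes_lineJ l)
    have hgw : gw = 1 := by
      refine hline gw (fun x hx => Units.ext ?_) (fun x hx => ?_)
      · refine (congrFun hkeq x).symm.trans ?_
        show (g' _ : ℂ) = 1
        exact congrArg Units.val (hJ' ⟨k * x * k⁻¹, _⟩ (s09_conj_mem (hJK hk) hx))
      · refine hJ ⟨w * x * w⁻¹, mem_sup_left (c.H_normal.conj_mem _ x.2 w)⟩ ?_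
        exact (le_trans (le_iSup (fun v : {v : ↥W // v ≠ 1} =>
          Cfsg.Lib.Coprime.conjMap ((v : ↥W) : L) H₁) ⟨⟨w, hw⟩, fun e => hw1 (congrArg Subtype.val e)⟩)
            le_sup_right) ⟨x, hx, rfl⟩
    refine hne (MonoidHom.ext fun y => ?_)
    have h5 := DFunLike.congr_fun hgw ((MulAut.conjNormal w : MulAut ↥H).symm y)
    simpa [gw] using h5
  have hN0 := c.sup_U'_normal
  have hU'C₁ : ⁅U, U⁆ ≤ C₁ := c.derived_U.trans (c.C_le_C₁ l)
  have habove : Above (indK (H ⊔ C₁) hQK f) (H₀ ⊔ ⁅U, U⁆) := by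
    refine (s09_indK_above (H ⊔ C₁) hQK _ (sup_le_sup c.H₀_le hU'C₁) f).mpr fun x hx => ?_
    have hle : H₀ ⊔ ⁅U, U⁆ ≤ f.ker.map (H ⊔ C₁).subtype := sup_le
      (fun y hy => ⟨⟨y, mem_sup_left (c.H₀_le hy)⟩, hJ _ (mem_sup_left hy), rfl⟩)
      (fun y hy => ⟨⟨y, mem_sup_right (hU'C₁ hy)⟩, hU _ hy, rfl⟩)
    obtain ⟨z, hz, hzz⟩ := hle hx
    rw [← show z = x from Subtype.ext hzz]
    exact hz
  have hnH : ¬ Above (indK (H ⊔ C₁) hQK f) H := fun h => hne (MonoidHom.ext fun y =>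
    (s09_indK_above (H ⊔ C₁) hQK H le_sup_left f).mp h ⟨y, mem_sup_left y.2⟩ y.2)
  refine ⟨hirrK, c.irr_of_not_invariant hirrK ?_, (s09_indFun_mem_seqIndD hirrK).mpr ⟨habove, hnH⟩,
    ?_, hnotline⟩
  · intro hinv
    obtain ⟨y, hy, hy1, -, -⟩ := c.exists_generator
    exact hnotline y hy hy1 f hJ hne (hinv y hy)
  · rw [indFun_one, c.index_K, s09_indK_one]
    rw [show (H ⊔ C₁).relIndex K = a from (c.relIndex_sup (c.C₁_le l)).trans l.index, Nat.cast_mul]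

/-- The set of characters of degree `q a`. -/
theorem line_set (c : Ctx9 K H H₀ U C W W₂ q p) (l : LineCtx H H₀ U W H₁ C₁ p a) :
    ∃ E : Finset (L → ℂ), (∀ φ ∈ E, φ ∈ seqIndD K H (H₀ ⊔ ⁅U, U⁆) ∧ Cfsg.IsIrrCharacter L φ ∧
        φ 1 = ((q * a : ℕ) : ℂ)) ∧
      (p - 1) * (⁅U, U⁆ : Subgroup L).relIndex U ≤ E.card * a ^ 2 := by
  classical
  haveI := c.K_normal
  haveI := c.H_normal
  haveI := Fintype.ofFinite ↥K
  haveI hQn := c.Q_normal l
  have hC₁U := c.C₁_le l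
  have hQK : H ⊔ C₁ ≤ K := sup_le c.H_le (hC₁U.trans c.U_le)
  set Q := H ⊔ C₁ with hQdef
  have hU'C₁ : ⁅U, U⁆ ≤ C₁ := c.derived_U.trans (c.C_le_C₁ l)
  set J := lineJ H₀ W H₁ with hJdef
  have hJH := c.lineJ_le l
  have hXQ : J ⊔ ⁅U, U⁆ ≤ Q := sup_le_sup hJH hU'C₁
  have hQX : Q ≤ normalizer ((J ⊔ ⁅U, U⁆ : Subgroup L) : Set L) := by
    have hUU : U ≤ normalizer ((⁅U, U⁆ : Subgroup L) : Set L) :=
      Cfsg.Lib.Coprime.le_normalizer_commutator_right U U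
    refine sup_le (s09_le_normalizer_of_conj fun g hg x hx => ?_)
      (Cfsg.Lib.Coprime.le_normalizer_sup (hC₁U.trans (c.U_normalizes_lineJ l)) (hC₁U.trans hUU))
    obtain ⟨d, hd, n, hn, rfl⟩ := (Cfsg.Lib.Coprime.mem_sup_of_le_normalizer'
      ((Subgroup.commutator_le_self U).trans (c.U_normalizes_lineJ l))).mp hx
    have e : g * (d * n) * g⁻¹ = ⁅g, d⁆ * d * (g * n * g⁻¹) := by
      simp only [commutatorElement_def]; group
    rw [e]
    exact mul_mem (mul_mem (mem_sup_left (le_sup_left (a := H₀) (c.comm_C hg (c.derived_U hd))))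
      (mem_sup_right hd))
      (mem_sup_left (s09_conj_mem (c.H_normalizes_between le_sup_left hJH hg) hn))
  set X := (J ⊔ ⁅U, U⁆).subgroupOf Q with hXdef
  haveI : X.Normal := (Subgroup.normal_subgroupOf_iff_le_normalizer hXQ).mpr hQX
  have hab : ∀ x y : ↥Q, x * y * x⁻¹ * y⁻¹ ∈ X := by
    set π := QuotientGroup.mk' X
    have key : ∀ x y : ↥Q, π x * π y = π y * π x ↔ x * y * x⁻¹ * y⁻¹ ∈ X := by
      intro x y
      rw [← QuotientGroup.eq_one_iff, ← QuotientGroup.mk'_apply, map_mul, map_mul, map_mul, map_inv,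
        map_inv]
      exact ⟨fun h => by rw [h]; simp only [π]; group, fun h => by
        have := mul_inv_eq_one.mp h
        rwa [mul_inv_eq_iff_eq_mul] at this⟩
    intro x y
    obtain ⟨h, hh, u, hu, hxe⟩ :=
      (Cfsg.Lib.Coprime.mem_sup_of_le_normalizer (c.le_normalizer_H C₁)).mp x.2
    obtain ⟨k, hk, v, hv, hye⟩ :=
      (Cfsg.Lib.Coprime.mem_sup_of_le_normalizer (c.le_normalizer_H C₁)).mp y.2
    rw [← key, show x = ⟨h, mem_sup_left hh⟩ * ⟨u, mem_sup_right hu⟩ from Subtype.ext hxe.symm,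
      show y = ⟨k, mem_sup_left hk⟩ * ⟨v, mem_sup_right hv⟩ from Subtype.ext hye.symm,
      map_mul, map_mul]
    have c1 : Commute (π ⟨h, mem_sup_left hh⟩) (π ⟨k, mem_sup_left hk⟩) := (key _ _).mpr
      (mem_sup_left (le_sup_left (a := H₀) (c.derived_H (by
        simpa [commutatorElement_def] using commutator_mem_commutator hh hk))))
    have c2 : Commute (π ⟨u, mem_sup_right hu⟩) (π ⟨v, mem_sup_right hv⟩) := (key _ _).mpr
      (mem_sup_right (by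
        simpa [commutatorElement_def] using commutator_mem_commutator (hC₁U hu) (hC₁U hv)))
    have c3 : Commute (π ⟨h, mem_sup_left hh⟩) (π ⟨v, mem_sup_right hv⟩) := (key _ _).mpr
      (mem_sup_left (by simpa [commutatorElement_def] using c.lineJ_comm l hv h hh))
    have c4 : Commute (π ⟨k, mem_sup_left hk⟩) (π ⟨u, mem_sup_right hu⟩) := (key _ _).mpr
      (mem_sup_left (by simpa [commutatorElement_def] using c.lineJ_comm l hu k hk))
    exact ((c1.mul_right c3).mul_left (c4.symm.mul_right c2)).eq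
  have hYQ : H ⊔ ⁅U, U⁆ ≤ Q := sup_le_sup_left hU'C₁ H
  set Y := (H ⊔ ⁅U, U⁆).subgroupOf Q with hYdef
  haveI : Y.Normal := by
    refine (Subgroup.normal_subgroupOf_iff_le_normalizer hYQ).mpr
      (sup_le (le_normalizer.trans' le_sup_left) (hC₁U.trans ?_))
    exact Cfsg.Lib.Coprime.le_normalizer_sup (c.le_normalizer_H U)
      (Cfsg.Lib.Coprime.le_normalizer_commutator_right U U)
  have hXY : X ≤ Y := Subgroup.comap_mono (sup_le_sup_right hJH _)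
  haveI := Fintype.ofFinite {f : ↥Q →* ℂˣ // X ≤ f.ker ∧ ¬ Y ≤ f.ker}
  let S : Finset (↥Q →* ℂˣ) :=
    (Finset.univ : Finset {f : ↥Q →* ℂˣ // X ≤ f.ker ∧ ¬ Y ≤ f.ker}).image Subtype.val
  have hScard : S.card + Y.index = X.index := by
    rw [Finset.card_image_of_injective _ Subtype.val_injective, Finset.card_univ,
      ← Nat.card_eq_fintype_card]
    exact s09_card_hom_above_not X Y hXY hab
  have hS : ∀ f ∈ S, (∀ x : ↥Q, (x : L) ∈ J → f x = 1) ∧ (∀ x : ↥Q, (x : L) ∈ ⁅U, U⁆ → f x = 1) ∧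
      f.comp (Subgroup.inclusion (le_sup_left : H ≤ Q)) ≠ 1 := by
    intro f hf
    obtain ⟨⟨f, hfX, hfY⟩, -, rfl⟩ := Finset.mem_image.mp hf
    refine ⟨fun x hx => hfX (Subgroup.mem_subgroupOf.mpr (mem_sup_left hx)),
      fun x hx => hfX (Subgroup.mem_subgroupOf.mpr (mem_sup_right hx)), fun e => hfY fun x hx => ?_⟩
    obtain ⟨h, hh, d, hd, hxe⟩ := (Cfsg.Lib.Coprime.mem_sup_of_le_normalizer (c.le_normalizer_H _)).mp
      (Subgroup.mem_subgroupOf.mp hx)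
    rw [MonoidHom.mem_ker, show x = ⟨h, mem_sup_left hh⟩ * ⟨d, mem_sup_right (hU'C₁ hd)⟩ from
      Subtype.ext hxe.symm, map_mul,
      show f ⟨h, mem_sup_left hh⟩ = 1 from DFunLike.congr_fun e ⟨h, hh⟩,
      show f ⟨d, mem_sup_right (hU'C₁ hd)⟩ = 1 from
        hfX (Subgroup.mem_subgroupOf.mpr (mem_sup_right hd)), one_mul]
  let T : Finset (↥K → ℂ) := S.image fun f => indK Q hQK f
  refine ⟨T.image (Cfsg.indFun K), ?_, ?_⟩
  · intro φ hφ
    obtain ⟨θ, hθ, rfl⟩ := Finset.mem_image.mp hφ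
    obtain ⟨f, hf, rfl⟩ := Finset.mem_image.mp hθ
    obtain ⟨h1, h2, h3⟩ := hS f hf
    obtain ⟨-, r1, r2, r3, -⟩ := c.line_char l hQK f h1 h2 h3
    exact ⟨r2, r1, r3⟩
  have hinj : Set.InjOn (Cfsg.indFun K) (T : Set (↥K → ℂ)) := by
    intro θ hθ θ' hθ' he
    obtain ⟨f, hf, rfl⟩ := Finset.mem_image.mp hθ
    obtain ⟨f', hf', rfl⟩ := Finset.mem_image.mp hθ'
    obtain ⟨h1, h2, h3⟩ := hS f hf
    obtain ⟨h1', h2', h3'⟩ := hS f' hf'
    obtain ⟨hi, -, -, -, hnl⟩ := c.line_char l hQK f h1 h2 h3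
    obtain ⟨hi', -, -, -, -⟩ := c.line_char l hQK f' h1' h2' h3'
    obtain ⟨g, hg⟩ := s09_conj_of_indFun_eq hi hi' he
    obtain ⟨k, hk, w, hw, rfl⟩ := c.decomp g
    rw [conjN_mul, conjN_of_mem (isClassFunction_irr ⟨_, hi⟩) ⟨k, hk⟩] at hg
    by_cases hw1 : w = 1
    · rwa [hw1, conjN_one] at hg
    · exact absurd hg (hnl w hw hw1 f' h1' h3')
  rw [Finset.card_image_of_injOn hinj]
  have hfib : S.card ≤ T.card * a :=
    le_of_le_of_eq (s09_card_indK Q hQK S T id fun f hf => ⟨_, Finset.mem_image_of_mem _ hf, rfl⟩)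
      (congrArg (T.card * ·) ((c.relIndex_sup hC₁U).trans l.index))
  -- the indices
  have hYidx : Y.index = (⁅U, U⁆ : Subgroup L).relIndex C₁ := by
    have h1 := Subgroup.relIndex_mul_relIndex _ _ _ hYQ hQK
    rw [c.relIndex_sup hC₁U, c.relIndex_sup (Subgroup.commutator_le_self U),
      ← Subgroup.relIndex_mul_relIndex _ _ _ hU'C₁ hC₁U] at h1
    exact Nat.eq_of_mul_eq_mul_right (Nat.pos_of_ne_zero (l.index.symm ▸ (by
      have := l.one_lt; omega))) h1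
  have hJp : p * (⁅U, U⁆ : Subgroup L).relIndex C₁ ≤ X.index := by
    rw [← Subgroup.relIndex_mul_index hXY, hYidx]
    refine Nat.mul_le_mul_right _ ?_
    have hrel : X.relIndex Y = (J ⊔ ⁅U, U⁆).relIndex (H ⊔ ⁅U, U⁆) :=
      Subgroup.relIndex_subgroupOf hYQ
    have hdvd : (J ⊔ ⁅U, U⁆).relIndex (H ⊔ ⁅U, U⁆) ∣ p ^ q := by
      have hle : J ⊔ ⁅U, U⁆ ≤ H ⊔ ⁅U, U⁆ := sup_le_sup_right hJH _
      have hU'U : (⁅U, U⁆ : Subgroup L) ≤ U := Subgroup.commutator_le_self U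
      have hJ0 : H₀ ≤ J := le_sup_left
      have h1 := Subgroup.card_mul_index ((J ⊔ ⁅U, U⁆).subgroupOf (H ⊔ ⁅U, U⁆))
      rw [Nat.card_congr (Subgroup.subgroupOfEquivOfLe hle).toEquiv,
        Cfsg.Lib.Coprime.card_sup_of_inf_eq_bot (hU'U.trans (c.U_normalizes_lineJ l))
          (eq_bot_iff.mpr ((inf_le_inf hJH hU'U).trans c.H_inf_U.le)),
        Cfsg.Lib.Coprime.card_sup_of_inf_eq_bot (c.le_normalizer_H _)
          (eq_bot_iff.mpr ((inf_le_inf le_rfl hU'U).trans c.H_inf_U.le)), c.card_H] at h1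
      obtain ⟨r, hr⟩ := Subgroup.card_dvd_of_le hJ0
      rw [hr] at h1
      refine ⟨r, ?_⟩
      have hpos : 0 < Nat.card H₀ * Nat.card ↥(⁅U, U⁆ : Subgroup L) :=
        Nat.mul_pos Nat.card_pos Nat.card_pos
      refine Nat.eq_of_mul_eq_mul_left hpos ?_
      show _ = _ * (((J ⊔ ⁅U, U⁆).subgroupOf (H ⊔ ⁅U, U⁆)).index * r)
      linarith
    obtain ⟨i, -, hi⟩ := (Nat.dvd_prime_pow c.p_prime).mp hdvd
    rw [hrel, hi]
    refine Nat.le_self_pow (fun e => ?_) p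
    rw [e, pow_zero, Subgroup.relIndex_eq_one] at hi
    refine (c.lineJ_lt l).not_ge fun h hh => ?_
    obtain ⟨j, hj, d, hd, he⟩ := (Cfsg.Lib.Coprime.mem_sup_of_le_normalizer
      ((Subgroup.commutator_le_self U).trans (c.U_normalizes_lineJ l))).mp (hi (mem_sup_left hh))
    have hdH : d ∈ H ⊓ U := ⟨by
      rw [show d = j⁻¹ * h by rw [← he]; group]
      exact H.mul_mem (H.inv_mem (hJH hj)) hh, Subgroup.commutator_le_self U hd⟩
    rw [c.H_inf_U, mem_bot] at hdH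
    rw [← he, hdH, mul_one]
    exact hj
  have hU' : (⁅U, U⁆ : Subgroup L).relIndex U = (⁅U, U⁆ : Subgroup L).relIndex C₁ * a := by
    rw [← l.index, Subgroup.relIndex_mul_relIndex _ _ _ hU'C₁ hC₁U]
  rw [hU', sq, ← mul_assoc, ← mul_assoc]
  refine Nat.mul_le_mul_right a (le_trans ?_ hfib)
  have : (p - 1) * (⁅U, U⁆ : Subgroup L).relIndex C₁ + (⁅U, U⁆ : Subgroup L).relIndex C₁ =
      p * (⁅U, U⁆ : Subgroup L).relIndex C₁ := by
    rw [Nat.sub_mul, one_mul, Nat.sub_add_cancel (Nat.le_mul_of_pos_left _ c.p_prime.pos)]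
  omega

end Ctx9

end Cfsg.Agent.PF
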