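import Cfsg.Agent.OddChar.PF.S09Transfer

/-!
# Section 9: the members of `S(H₀)`
-/

set_option linter.unusedSectionVars false
set_option linter.unusedVariables false
set_option linter.style.haveILetI false

universe u

namespace Cfsg.Agent.PF

open Cfsg.Lib.Chars Cfsg.Lib.InducedFamily
open Subgroup
open scoped commutatorElement

variable {G : Type u} [Group G] [Fintype G] {M W₁ U W₂ H₀ : Subgroup G}

theorem Hyp9.subgroupOf_sup_C (h : Hyp9 M W₁ U W₂) (k : Kernel9 M U H₀) :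
    (H₀ ⊔ centMod U (Cfsg.fittingHallOf M) H₀).subgroupOf M =
      H₀.subgroupOf M ⊔ (centMod U (Cfsg.fittingHallOf M) H₀).subgroupOf M :=
  Subgroup.subgroupOf_sup (k.H₀_le.trans h.H_le) (h.centMod_subgroupOf_le _)

theorem Hyp9.subgroupOf_sup_C' (h : Hyp9 M W₁ U W₂) (k : Kernel9 M U H₀) :
    (H₀ ⊔ ⁅centMod U (Cfsg.fittingHallOf M) H₀, centMod U (Cfsg.fittingHallOf M) H₀⁆).subgroupOf M =
      H₀.subgroupOf M ⊔ ⁅(centMod U (Cfsg.fittingHallOf M) H₀).subgroupOf M,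
        (centMod U (Cfsg.fittingHallOf M) H₀).subgroupOf M⁆ := by
  rw [Subgroup.subgroupOf_sup (k.H₀_le.trans h.H_le)
    ((Subgroup.commutator_le_self _).trans (h.centMod_subgroupOf_le _)),
    s09_commutator_subgroupOf (h.centMod_subgroupOf_le _)]

theorem Hyp9.subgroupOf_sup_U' (h : Hyp9 M W₁ U W₂) (k : Kernel9 M U H₀) :
    (H₀ ⊔ ⁅U, U⁆).subgroupOf M =
      H₀.subgroupOf M ⊔ ⁅U.subgroupOf M, U.subgroupOf M⁆ := by
  rw [Subgroup.subgroupOf_sup (k.H₀_le.trans h.H_le)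
    ((Subgroup.commutator_le_self _).trans h.U_le), s09_commutator_subgroupOf h.U_le]

/-- The value at `1` of an induced character of `M`. -/
theorem Ctx9.indFun_apply_one {L : Type u} [Group L] [Fintype L] {K H H₀ U C W W₂ : Subgroup L}
    {q p : ℕ} (c : Ctx9 K H H₀ U C W W₂ q p) [K.Normal] {θ : ↥K → ℂ}
    (hθ : Cfsg.IsIrrCharacter ↥K θ) : Cfsg.indFun K θ 1 = ((q * deg θ : ℕ) : ℂ) := by
  rw [indFun_one, c.index_K, IsCharacter.apply_one_eq_deg (isCharacter_of_irr hθ), Nat.cast_mul]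

/-- (9.8): the reducible members. -/
theorem s9Reducible (G : Type u) [Group G] [Fintype G] (hodd : Odd (Nat.card G)) : S9Reducible G := by
  classical
  intro M W₁ U W₂ h H₀ k p hp hcard _
  have c := h.ctx k hodd hp hcard
  haveI := c.K_normal
  haveI := c.H_normal
  haveI := c.H₀_normal
  haveI := c.sup_C_normal
  haveI := c.sup_C'_normal
  obtain ⟨A, hA, hA1, hA2⟩ := c.invariant_set
  let ind : Cfsg.IrrCharacter ↥((⁅M, M⁆ : Subgroup G).subgroupOf M) → (↥M → ℂ) :=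
    fun θ => Cfsg.indFun _ (θ : ↥((⁅M, M⁆ : Subgroup G).subgroupOf M) → ℂ)
  refine ⟨A.image ind, ?_, ?_, ?_⟩
  · rw [Finset.card_image_of_injOn, hA]
    intro θ hθ θ' hθ' e
    obtain ⟨g, hg⟩ := s09_conj_of_indFun_eq θ.2 θ'.2 e
    exact Subtype.ext (((c.inner_invariant θ.2 (hA1 θ hθ).2.2).1 g).symm.trans hg)
  · intro φ hφ
    obtain ⟨θ, hθ, rfl⟩ := Finset.mem_image.mp hφ
    obtain ⟨h1, h2, h3⟩ := hA1 θ hθ
    obtain ⟨-, h4, h5⟩ := c.inner_invariant θ.2 h3
    refine ⟨?_, h5, ?_, h4⟩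
    · rw [calS9, h.subgroupOf_sup_C k]
      exact (s09_indFun_mem_seqIndD θ.2).mpr ⟨h1, h2⟩
    · simp only [ind]
      rw [c.indFun_apply_one θ.2, c.deg_of_invariant θ.2
        (h1.mono (sup_le_sup_left (Subgroup.commutator_le_self _) _)) h2 h3, h.relIndex_C]
  · intro φ hφ
    rw [calS9, h.subgroupOf_sup_C' k] at hφ
    obtain ⟨θ, hθ, h1, h2, rfl⟩ := s09_seqIndD_exists hφ
    by_cases hinv : ∀ w ∈ W₁.subgroupOf M, Cfsg.Lib.Chars.conjN _ w θ = θ
    · exact Or.inl (Finset.mem_image.mpr ⟨⟨θ, hθ⟩, hA2 ⟨θ, hθ⟩ h1 h2 hinv, rfl⟩)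
    · exact Or.inr (c.irr_of_not_invariant hθ hinv)

/-- (9.9) -/
theorem s9GaloisChars (G : Type u) [Group G] [Fintype G] (hodd : Odd (Nat.card G)) :
    S9GaloisChars G := by
  intro M W₁ U W₂ h H₀ k hgal _
  obtain ⟨p, hp, -, hcard, -⟩ := k.prime_structure h
  have c := h.ctx k hodd hp hcard
  have hfree := h.free k hgal hp hcard
  haveI := c.K_normal
  haveI := c.H_normal
  haveI := c.H₀_normal
  haveI := c.sup_C'_normal
  refine ⟨fun φ hφ => ?_, fun φ hφ => ?_⟩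
  · obtain ⟨θ, hθ, h1, h2, rfl⟩ := s09_seqIndD_exists hφ
    obtain ⟨j, hj⟩ := c.free_dvd_deg hfree hθ h1 h2
    refine ⟨j, ?_⟩
    rw [c.indFun_apply_one hθ, hj, h.relIndex_C]
    congr 1
    ring
  · rw [calS9, h.subgroupOf_sup_C' k] at hφ
    obtain ⟨θ, hθ, h1, h2, rfl⟩ := s09_seqIndD_exists hφ
    rw [c.indFun_apply_one hθ, Nat.dvd_antisymm (c.deg_dvd_u hθ h1)
      (c.free_dvd_deg hfree hθ (h1.mono le_sup_left) h2), h.relIndex_C]

/-- (9.8): the non-Galois case. -/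
theorem s9NonGaloisChars (G : Type u) [Group G] [Fintype G] (hodd : Odd (Nat.card G)) :
    S9NonGaloisChars G := by
  intro M W₁ U W₂ h H₀ H₁ k p a hp hcard l _
  have c := h.ctx k hodd hp hcard
  have lc := h.lineCtx k l
  haveI := c.K_normal
  haveI := c.H_normal
  haveI := c.H₀_normal
  refine ⟨fun φ hφ => ?_, ?_, ?_⟩
  · obtain ⟨θ, hθ, h1, h2, rfl⟩ := s09_seqIndD_exists hφ
    obtain ⟨j, hj⟩ := c.line_dvd_deg lc hθ h1 h2
    refine ⟨j, ?_⟩
    rw [c.indFun_apply_one hθ, hj]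
    congr 1
    ring
  · obtain ⟨φ, hφ, hirr, hdeg⟩ := c.line_exists_irr lc (h.relIndex_C.symm ▸ l.card_dvd)
    refine ⟨φ, ?_, hirr, ?_⟩
    · rw [calS9, h.subgroupOf_sup_C k]
      exact hφ
    · rw [hdeg, h.relIndex_C]
  · obtain ⟨E, hE, hcount⟩ := c.line_set lc
    refine ⟨E, fun φ hφ => ⟨?_, (hE φ hφ).2⟩, ?_⟩
    · rw [calS9, h.subgroupOf_sup_U' k]
      exact (hE φ hφ).1
    · rwa [← s09_commutator_subgroupOf h.U_le, Subgroup.relIndex_subgroupOf h.U_le] at hcount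

/-- (9.10) -/
theorem s9Cases (G : Type u) [Group G] [Fintype G] (hodd : Odd (Nat.card G)) : S9Cases G := by
  classical
  intro M W₁ U W₂ h H₀ k p hp hcard _
  have c := h.ctx k hodd hp hcard
  haveI := c.K_normal
  haveI := c.H_normal
  set H := Cfsg.fittingHallOf M with hHdef
  set C := centMod U H H₀ with hCdef
  by_cases hgal : IsGalois9 M U H₀
  swap
  · left
    obtain ⟨H₁, a, l⟩ := s9NonGalois G hodd M W₁ U W₂ h H₀ k hgal p hp hcard
    obtain ⟨φ, hφ, hirr, hdeg⟩ := c.line_exists_irr (h.lineCtx k l) (h.relIndex_C.symm ▸ l.card_dvd)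
    refine ⟨φ, ?_, hirr, ?_⟩
    · rw [calS9, h.subgroupOf_sup_C' k]
      exact s09_seqIndD_anti (sup_le_sup_left (Subgroup.commutator_le_self _) _) hφ
    · rw [hdeg, h.relIndex_C]
  obtain ⟨hdvd, -, F, iF, iFt, f, ψ, -, -, hadd, hzero, hψ, hψm, hψC, -⟩ :=
    s9Galois G M W₁ U W₂ h H₀ k hgal p hp hcard
  rcases c.free_dichotomy (h.free k hgal hp hcard) (h.relIndex_C.symm ▸ hdvd) with
    ⟨φ, hφ, hirr, hdeg⟩ | ⟨hC', hu⟩
  · left
    refine ⟨φ, ?_, hirr, ?_⟩
    · rw [calS9, h.subgroupOf_sup_C' k]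
      exact hφ
    · rw [hdeg, h.relIndex_C]
  right
  have hCU : C ≤ U := centMod_le _ _ _
  have hC : C = ⊥ := by
    have hCs : ⁅C, C⁆ = C := by
      have e := hC'
      rw [← s09_commutator_subgroupOf (h.centMod_subgroupOf_le H)] at e
      have e2 := congrArg (Subgroup.map M.subtype) e
      rwa [Subgroup.map_subgroupOf_eq_of_le ((Subgroup.commutator_le_self _).trans
        (h.centMod_subgroupOf_le H)), Subgroup.map_subgroupOf_eq_of_le (h.centMod_subgroupOf_le H)]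
        at e2
    haveI := h.typeP.U_nilpotent
    have hnil : Group.IsNilpotent C :=
      Group.nilpotent_of_mulEquiv (Subgroup.subgroupOfEquivOfLe hCU)
    exact le_bot_iff.mp (s09_le_of_commutator hnil le_rfl
      (fun x _ => mem_normalizer_iff.mpr fun y => by simp [mul_inv_eq_one])
      (hCs.ge.trans le_sup_right))
  have hU : Nat.card U * (p - 1) = p ^ Nat.card W₁ - 1 := by
    rw [← hu, h.relIndex_C, ← hHdef, ← hCdef, hC, Subgroup.relIndex_bot_left]
  have hne : ∀ x ∈ U, x ≠ 1 → ψ x ≠ 1 := fun x hx hx1 e => hx1 (by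
    have := (hψC x hx).mp e
    rwa [← hCdef, hC, Subgroup.mem_bot] at this)
  have hcyc : IsCyclic U := by
    let Ψ : ↥U →* Fˣ :=
      { toFun := fun x => Units.mk0 (ψ (x : G)) (hψ x x.2).1
        map_one' := Units.ext (by simpa using (hψC 1 (one_mem _)).mpr (one_mem _))
        map_mul' := fun x y => Units.ext (by simpa using hψm x x.2 y y.2) }
    refine isCyclic_of_injective Ψ ((injective_iff_map_eq_one Ψ).mpr fun x hx => ?_)
    by_contra hx1
    exact hne x x.2 (fun e => hx1 (Subtype.ext e)) (congrArg Units.val hx)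
  have hfpf : ∀ x ∈ U, x ≠ 1 → ∀ y ∈ H, x * y * x⁻¹ * y⁻¹ ∈ H₀ → y ∈ H₀ := by
    intro x hx hx1 y hy hm
    have hxy : x * y * x⁻¹ ∈ H := s09_conj_mem (h.M_le_normalizer_H (h.U_le hx)) hy
    have e := hadd _ hxy _ (inv_mem hy)
    rw [(hzero _ (mul_mem hxy (inv_mem hy))).mpr hm, (hψ x hx).2 y hy] at e
    have hinv : f y⁻¹ = - f y := by
      refine eq_neg_of_add_eq_zero_left ?_
      rw [← hadd _ (inv_mem hy) _ hy, inv_mul_cancel, (hzero 1 (one_mem _)).mpr (one_mem _)]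
    rw [hinv] at e
    have e2 : (ψ x - 1) * f y = 0 := by linear_combination -e
    exact (hzero y hy).mp ((mul_eq_zero.mp e2).resolve_left (sub_ne_zero.mpr (hne x hx hx1)))
  refine ⟨hgal, hC, hcyc, hU, hfpf, ?_⟩
  rintro ⟨W₁', U', W₂', -, -, -, -, -, -, hF, hfh⟩ x hx hx1 y hy hxy
  set D : Subgroup G := ⁅M, M⁆ with hDdef
  obtain ⟨-, -, -, -, E, -, hcompl, -, U₀, hU₀E, hexp, hU₀f⟩ := hF
  have hH : (Cfsg.fittingHall ↥D).map D.subtype = H := hfh
  set E' := E.map D.subtype with hE'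
  have hHD : H ≤ D := h.H_le_derived
  have hcardE : Nat.card E' = Nat.card U := by
    have h1 := hcompl.card_mul
    rw [show Nat.card (Cfsg.fittingHall ↥D) = Nat.card H by
      rw [← hH, Subgroup.card_map_of_injective D.subtype_injective]] at h1
    rw [hE', Subgroup.card_map_of_injective D.subtype_injective]
    exact Nat.eq_of_mul_eq_mul_left Nat.card_pos (h1.trans h.card_derived)
  obtain ⟨d, hd, hdE⟩ := Cfsg.Lib.Coprime.exists_conj_eq_of_coprime
    (h.U_le.trans h.M_le_normalizer_H) (h.coprime_H_UW.coprime_dvd_right (dvd_mul_right _ _))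
    (Or.inl h.solvable_H) (K := E') ((Subgroup.map_subtype_le E).trans h.derived_eq.ge) hcardE
  have hconjU : Cfsg.Lib.Coprime.conjMap d U = E' := hdE.symm
  set V := Cfsg.Lib.Coprime.conjMap d⁻¹ (U₀.map D.subtype) with hV
  have hVU : V ≤ U := by
    rw [← Cfsg.Lib.Coprime.conjMap_inv_conjMap d U, hconjU]
    exact Cfsg.Lib.Coprime.conjMap_mono (Subgroup.map_mono hU₀E)
  have hVeq : V = U := by
    refine Subgroup.eq_of_le_of_card_ge hVU ?_
    haveI := hcyc
    have e1 : Monoid.exponent ↥E = Nat.card U := by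
      rw [← IsCyclic.exponent_eq_card (α := ↥U)]
      exact Monoid.exponent_eq_of_mulEquiv ((E.equivMapOfInjective _ D.subtype_injective).trans
        ((MulEquiv.subgroupCongr (hE'.symm.trans hconjU.symm)).trans
          (U.equivMapOfInjective _ (MulAut.conj d).injective).symm))
    have e2 : Nat.card V = Nat.card U₀ := by
      rw [hV, Cfsg.Lib.Coprime.card_conjMap, Subgroup.card_map_of_injective D.subtype_injective]
    rw [e2, ← e1, ← hexp]
    exact Nat.le_of_dvd Nat.card_pos Group.exponent_dvd_nat_card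
  obtain ⟨z, hz, hzz⟩ := Cfsg.Lib.Coprime.mem_conjMap.mp (hVeq.ge hx)
  have hzz' : (z : G) = d * x * d⁻¹ := by simpa using hzz
  have hy' : d * y * d⁻¹ ∈ H := mul_mem (mul_mem hd hy) (inv_mem hd)
  obtain ⟨t, ht, htt⟩ := hH.ge hy'
  have htt' : (t : G) = d * y * d⁻¹ := htt
  have hz1 : z ≠ 1 := fun e => hx1 (by
    rw [e, OneMemClass.coe_one] at hzz'
    calc x = d⁻¹ * (d * x * d⁻¹) * d := by group
      _ = 1 := by rw [← hzz']; group)
  have := hU₀f z hz hz1 t ht (Subtype.ext (by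
    show (z : G) * t = t * z
    rw [hzz', htt']
    calc d * x * d⁻¹ * (d * y * d⁻¹) = d * (x * y) * d⁻¹ := by group
      _ = d * (y * x) * d⁻¹ := by rw [hxy]
      _ = _ := by group))
  rw [this, OneMemClass.coe_one] at htt'
  calc y = d⁻¹ * (d * y * d⁻¹) * d := by group
    _ = 1 := by rw [← htt']; group

end Cfsg.Agent.PF
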