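import Cfsg.Agent.OddChar.PF.S09Facts
import Mathlib.Algebra.Module.ZMod

/-!
# Section 9: the chief factor as a module for `M`
-/

set_option linter.unusedSectionVars false
set_option linter.unusedVariables false
set_option linter.style.haveILetI false

universe u

namespace Cfsg.Agent.PF

open Subgroup
open scoped commutatorElement

variable {G : Type u} [Group G] [Finite G] {M W₁ U W₂ H₀ : Subgroup G}

/-- The exponent of the chief factor is the prime of its order. -/
theorem Kernel9.pow_mem (h : Hyp9 M W₁ U W₂) (k : Kernel9 M U H₀) {p : ℕ} (hp : p.Prime)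
    (hcard : Nat.card (Cfsg.fittingHallOf M) = p ^ Nat.card W₁ * Nat.card H₀) :
    ∀ x ∈ Cfsg.fittingHallOf M, x ^ p ∈ H₀ := by
  obtain ⟨r, hr, hexp, hc, -⟩ := k.prime_structure h
  have e : p ^ Nat.card W₁ = r ^ Nat.card W₁ :=
    Nat.eq_of_mul_eq_mul_right Nat.card_pos (hcard.symm.trans hc)
  rw [Nat.pow_left_injective (Nat.card_pos (α := W₁)).ne' e]
  exact hexp

/-- The chief factor, written additively, as a module for `M`. -/
theorem Kernel9.exists_module (h : Hyp9 M W₁ U W₂) (k : Kernel9 M U H₀) {p : ℕ} [hp : Fact p.Prime]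
    (hcard : Nat.card (Cfsg.fittingHallOf M) = p ^ Nat.card W₁ * Nat.card H₀) :
    ∃ (V : Type u) (_ : AddCommGroup V) (_ : Module (ZMod p) V) (_ : Finite V) (π : G → V)
      (ρ : ↥M →* Module.End (ZMod p) V),
      Nat.card V = p ^ Nat.card W₁ ∧ (∀ v : V, ∃ x ∈ Cfsg.fittingHallOf M, π x = v) ∧
      (∀ x ∈ Cfsg.fittingHallOf M, ∀ y ∈ Cfsg.fittingHallOf M, π (x * y) = π x + π y) ∧
      (∀ x ∈ Cfsg.fittingHallOf M, π x = 0 ↔ x ∈ H₀) ∧
      ∀ m : ↥M, ∀ x ∈ Cfsg.fittingHallOf M, π (m * x * (m : G)⁻¹) = ρ m (π x) := by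
  classical
  set H := Cfsg.fittingHallOf M with hHdef
  set N := H₀.subgroupOf H with hN
  haveI : N.Normal :=
    (Subgroup.normal_subgroupOf_iff_le_normalizer k.H₀_le).mpr (k.H₀_le_normalizer h)
  have hcomm : ∀ a b : ↥H ⧸ N, a * b = b * a := by
    intro a b
    obtain ⟨a, rfl⟩ := QuotientGroup.mk'_surjective N a
    obtain ⟨b, rfl⟩ := QuotientGroup.mk'_surjective N b
    rw [← map_mul, ← map_mul]
    refine QuotientGroup.eq.mpr ?_
    have e : ((a * b)⁻¹ * (b * a) : ↥H) = ⁅b⁻¹, a⁻¹⁆ := by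
      simp only [commutatorElement_def]; group
    rw [e, Subgroup.mem_subgroupOf]
    exact k.commutator_H_le h (commutator_mem_commutator (b⁻¹).2 (a⁻¹).2)
  letI : CommGroup (↥H ⧸ N) := { (inferInstance : Group (↥H ⧸ N)) with mul_comm := hcomm }
  have hexp : ∀ v : ↥H ⧸ N, v ^ p = 1 := by
    intro v
    obtain ⟨v, rfl⟩ := QuotientGroup.mk'_surjective N v
    rw [← map_pow]
    exact (QuotientGroup.eq_one_iff _).mpr (k.pow_mem h hp.out hcard v v.2)
  let inst : Module (ZMod p) (Additive (↥H ⧸ N)) := AddCommGroup.zmodModule fun x => hexp x.toMul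
  haveI := inst
  let act : ↥M →* MulAut ↥H := H.normalizerMonoidHom.comp (Subgroup.inclusion h.M_le_normalizer_H)
  have hact : ∀ m : ↥M, N.map (act m).toMonoidHom = N := by
    intro m
    ext y
    constructor
    · rintro ⟨z, hz, rfl⟩
      exact s09_conj_mem (k.normal m.2) hz
    · intro hy
      refine ⟨(act m).symm y, ?_, (act m).apply_symm_apply y⟩
      rw [show (act m).symm = act m⁻¹ from (map_inv act m).symm]
      exact s09_conj_mem (k.normal (inv_mem m.2)) hy
  let f : ↥M → (Additive (↥H ⧸ N) →ₗ[ZMod p] Additive (↥H ⧸ N)) := fun m =>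
    (MonoidHom.toAdditive (QuotientGroup.congr N N (act m) (hact m)).toMonoidHom).toZModLinearMap p
  have hf : ∀ (m : ↥M) (x : ↥H),
      (f m) (Additive.ofMul (QuotientGroup.mk' N x)) = Additive.ofMul (QuotientGroup.mk' N (act m x)) :=
    fun m x => rfl
  have hv : ∀ v : Additive (↥H ⧸ N), ∃ x, Additive.ofMul (QuotientGroup.mk' N x) = v := fun v =>
    (QuotientGroup.mk'_surjective N v.toMul).imp fun x hx => congrArg Additive.ofMul hx
  let ρ : ↥M →* Module.End (ZMod p) (Additive (↥H ⧸ N)) :=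
    { toFun := f
      map_one' := LinearMap.ext fun v => by
        obtain ⟨x, rfl⟩ := hv v
        exact (hf 1 x).trans (by rw [map_one]; rfl)
      map_mul' := fun a b => LinearMap.ext fun v => by
        obtain ⟨x, rfl⟩ := hv v
        exact (hf (a * b) x).trans ((by rw [map_mul]; rfl :
          Additive.ofMul (QuotientGroup.mk' N (act (a * b) x)) =
            Additive.ofMul (QuotientGroup.mk' N (act a (act b x)))).trans
          ((congrArg (f a) (hf b x)).trans (hf a (act b x))).symm) }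
  let π : G → Additive (↥H ⧸ N) := fun x =>
    if hx : x ∈ H then Additive.ofMul (QuotientGroup.mk' N ⟨x, hx⟩) else 0
  have hπ : ∀ x, ∀ hx : x ∈ H, π x = Additive.ofMul (QuotientGroup.mk' N ⟨x, hx⟩) := fun x hx =>
    dif_pos hx
  refine ⟨Additive (↥H ⧸ N), inferInstance, inferInstance, inferInstance, π, ρ, ?_, ?_, ?_, ?_, ?_⟩
  · show Nat.card (↥H ⧸ N) = _
    refine Nat.eq_of_mul_eq_mul_right (Nat.card_pos (α := H₀)) ?_
    rw [← hcard, Subgroup.card_eq_card_quotient_mul_card_subgroup N,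
      Nat.card_congr (Subgroup.subgroupOfEquivOfLe k.H₀_le).toEquiv]
  · intro v
    obtain ⟨x, hx⟩ := QuotientGroup.mk'_surjective N v.toMul
    exact ⟨x, x.2, (hπ _ x.2).trans (congrArg Additive.ofMul hx)⟩
  · intro x hx y hy
    rw [hπ _ hx, hπ _ hy, hπ _ (mul_mem hx hy)]
    rfl
  · intro x hx
    rw [hπ _ hx]
    exact (QuotientGroup.eq_one_iff (⟨x, hx⟩ : ↥H))
  · intro m x hx
    rw [hπ _ hx, hπ _ (s09_conj_mem (h.M_le_normalizer_H m.2) hx)]
    rfl

end Cfsg.Agent.PF
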