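import Cfsg.Agent.OddChar.PF.S09Ctx
import Cfsg.Agent.Chars.AbelianInertiaInduce
import Cfsg.Agent.S1487

/-!
# Section 9: linear constituents and their stabilisers
-/

set_option linter.unusedSectionVars false
set_option linter.unusedVariables false
set_option linter.style.haveILetI false

universe u

namespace Cfsg.Agent.PF

open Cfsg.Lib.Chars Cfsg.Lib.InducedFamily
open Subgroup
open scoped commutatorElement

section Generic

variable {L : Type u} [Group L] [Fintype L] {K : Subgroup L} [K.Normal]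

/-- Restriction from `K` to a smaller subgroup. -/
def resTo {Q : Subgroup L} (h : Q ≤ K) (θ : ↥K → ℂ) : ↥Q → ℂ := fun x => θ ⟨x, h x.2⟩

/-- A linear constituent of the restriction to a subgroup abelian modulo the kernel. -/
theorem s09_linear_constituent (Q A : Subgroup L) [Fintype ↥Q] (hQK : Q ≤ K)
    (hab : ∀ a ∈ Q, ∀ b ∈ Q, a * b * a⁻¹ * b⁻¹ ∈ A) {θ : ↥K → ℂ}
    (hθ : Cfsg.IsIrrCharacter ↥K θ) (hA : Above θ A) :
    ∃ f : ↥Q →* ℂˣ, (∀ a : ↥Q, (a : L) ∈ A → f a = 1) ∧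
      Cfsg.classInner (resTo hQK θ) (Cfsg.Lib.Dual.ev f) ≠ 0 := by
  classical
  have hr : Cfsg.IsCharacter ↥Q (resTo hQK θ) :=
    IsCharacter.comp_hom (isCharacter_of_irr hθ) (Subgroup.inclusion hQK)
  obtain ⟨ψ, hψ⟩ : ∃ ψ : Cfsg.IrrCharacter ↥Q, Cfsg.classInner (resTo hQK θ) (ψ : ↥Q → ℂ) ≠ 0 := by
    by_contra h
    push Not at h
    have h0 := congrFun (eq_zero_of_classInner_eq_zero (isClassFunction_isChar hr) h) 1
    exact IsIrrCharacter.apply_one_ne_zero hθ h0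
  have hc : ∀ a : ↥Q, (a : L) ∈ A → (ψ : ↥Q → ℂ) a = (ψ : ↥Q → ℂ) 1 := fun a ha =>
    constituent_const hr ψ.2 hψ (hA ⟨a, hQK a.2⟩ ha)
  obtain ⟨f, hf⟩ := s09_exists_hom_of_derived ψ.2 fun a b => hc _ (by simpa using hab a a.2 b b.2)
  refine ⟨f, fun a ha => Units.ext ?_, by rwa [hf] at hψ⟩
  have := hc a ha
  rw [hf] at this
  simpa using this

/-- Clifford's theorem for the restriction to a smaller normal subgroup. -/
theorem s09_orbit (Q : Subgroup L) [Q.Normal] [Fintype ↥Q] (hQK : Q ≤ K) {θ : ↥K → ℂ}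
    (hθ : Cfsg.IsIrrCharacter ↥K θ) {g : ↥Q → ℂ} (hg : Cfsg.IsIrrCharacter ↥Q g)
    (hc : Cfsg.classInner (resTo hQK θ) g ≠ 0) :
    ∃ (O : Finset (↥Q → ℂ)) (m : ℕ), 0 < m ∧
      (∀ h, h ∈ O ↔ ∃ k ∈ K, Cfsg.Lib.Chars.conjN Q k g = h) ∧
      resTo hQK θ = (m : ℂ) • ∑ h ∈ O, h ∧ O.card = (inertia Q g ⊓ K).relIndex K := by
  classical
  haveI := Fintype.ofFinite ↥K
  set N := Q.subgroupOf K with hN
  haveI : N.Normal := inferInstance
  haveI := Fintype.ofFinite ↥N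
  let e : ↥N ≃* ↥Q := Subgroup.subgroupOfEquivOfLe hQK
  let g' : ↥N → ℂ := fun x => g (e x)
  have hg' : Cfsg.IsIrrCharacter ↥N g' := IsIrrCharacter.comp_mulEquiv hg e
  have hc' : Cfsg.classInner (fun n : ↥N => θ (n : ↥K)) g' ≠ 0 := by
    intro h
    apply hc
    rw [← classInner_comp_equiv e.toEquiv]
    exact h
  obtain ⟨m, hm⟩ := IsCharacter.exists_mult (IsCharacter.restrict (isCharacter_of_irr hθ) N) hg'
  have hm0 : 0 < m := Nat.pos_of_ne_zero fun h => hc' (by rw [hm, h, Nat.cast_zero])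
  have hcl := clifford N hθ hg' hc'
  have hconj : ∀ k : ↥K, Cfsg.Lib.Chars.conjN N k g' =
      fun x => Cfsg.Lib.Chars.conjN Q (k : L) g (e x) := fun k => rfl
  have hinj : Function.Injective (fun (h : ↥Q → ℂ) (x : ↥N) => h (e x)) := fun h h' eq =>
    funext fun y => by simpa using congrFun eq (e.symm y)
  let O : Finset (↥Q → ℂ) := Finset.univ.image fun k : ↥K => Cfsg.Lib.Chars.conjN Q (k : L) g
  have hmemO : ∀ h, h ∈ O ↔ ∃ k ∈ K, Cfsg.Lib.Chars.conjN Q k g = h := fun h => by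
    simp only [O, Finset.mem_image, Finset.mem_univ, true_and]
    exact ⟨fun ⟨k, hk⟩ => ⟨k, k.2, hk⟩, fun ⟨k, hk, h'⟩ => ⟨⟨k, hk⟩, h'⟩⟩
  have himg : conjOrbit N g' = O.image fun (h : ↥Q → ℂ) (x : ↥N) => h (e x) := by
    ext h
    rw [mem_conjOrbit]
    simp only [O, Finset.mem_image, Finset.mem_univ, true_and, exists_exists_eq_and]
    exact ⟨fun ⟨k, hk⟩ => ⟨k, hk⟩, fun ⟨k, hk⟩ => ⟨k, hk⟩⟩
  refine ⟨O, m, hm0, hmemO, ?_, ?_⟩
  · funext y
    have := congrFun hcl (e.symm y)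
    rw [hm, himg, Finset.sum_image fun a _ b _ h => hinj h] at this
    simp only [Pi.smul_apply, Finset.sum_apply, smul_eq_mul, MulEquiv.apply_symm_apply] at this
    simp only [Pi.smul_apply, Finset.sum_apply, smul_eq_mul, resTo]
    exact this
  · have h1 := card_conjOrbit N g'
    rw [himg, Finset.card_image_of_injective _ hinj] at h1
    have hI : inertia N g' = (inertia Q g ⊓ K).subgroupOf K := by
      ext k
      rw [mem_inertia, Subgroup.mem_subgroupOf]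
      exact ⟨fun h => ⟨hinj h, k.2⟩, fun h => by
        rw [hconj, show Cfsg.Lib.Chars.conjN Q (k : L) g = g from h.1]⟩
    rw [hI] at h1
    have h2 := Subgroup.card_mul_index ((inertia Q g ⊓ K).subgroupOf K)
    rw [mul_comm] at h2
    exact Nat.eq_of_mul_eq_mul_right Nat.card_pos (h1.trans h2.symm)

theorem s09_deg_orbit (Q : Subgroup L) [Q.Normal] [Fintype ↥Q] (hQK : Q ≤ K) {θ : ↥K → ℂ}
    (hθ : Cfsg.IsIrrCharacter ↥K θ) (f : ↥Q →* ℂˣ)
    (hc : Cfsg.classInner (resTo hQK θ) (Cfsg.Lib.Dual.ev f) ≠ 0) :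
    (inertia Q (Cfsg.Lib.Dual.ev f) ⊓ K).relIndex K ∣ deg θ := by
  obtain ⟨O, m, -, hO, hres, hcard⟩ := s09_orbit Q hQK hθ (Cfsg.Lib.Dual.isIrr_ev f) hc
  refine ⟨m, Nat.cast_injective (R := ℂ) ?_⟩
  have h1 := congrFun hres 1
  simp only [Pi.smul_apply, Finset.sum_apply, smul_eq_mul] at h1
  rw [Finset.sum_congr rfl (g := fun _ => (1 : ℂ)) fun h hh => ?_, Finset.sum_const, nsmul_eq_mul,
    mul_one, hcard] at h1
  · rw [← IsCharacter.apply_one_eq_deg (isCharacter_of_irr hθ)]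
    push_cast
    rw [mul_comm]
    exact h1
  · obtain ⟨k, -, rfl⟩ := (hO h).mp hh
    simp [Cfsg.Lib.Chars.conjN, Cfsg.Lib.Dual.ev,
      show (⟨(1 : L), Q.one_mem⟩ : ↥Q) = 1 from rfl]

/-- If a linear constituent is trivial on a normal subgroup then so is the character. -/
theorem s09_above_of_constituent (Q A : Subgroup L) [Q.Normal] [A.Normal] [Fintype ↥Q] (hQK : Q ≤ K)
    (hAQ : A ≤ Q) {θ : ↥K → ℂ} (hθ : Cfsg.IsIrrCharacter ↥K θ) (f : ↥Q →* ℂˣ)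
    (hc : Cfsg.classInner (resTo hQK θ) (Cfsg.Lib.Dual.ev f) ≠ 0)
    (hf : ∀ a : ↥Q, (a : L) ∈ A → f a = 1) : Above θ A := by
  obtain ⟨O, m, -, hO, hres, -⟩ := s09_orbit Q hQK hθ (Cfsg.Lib.Dual.isIrr_ev f) hc
  have key : ∀ a : ↥Q, (a : L) ∈ A → resTo hQK θ a = resTo hQK θ 1 := by
    intro a ha
    rw [hres]
    simp only [Pi.smul_apply, Finset.sum_apply]
    congr 1
    refine Finset.sum_congr rfl fun h hh => ?_
    obtain ⟨k, -, rfl⟩ := (hO h).mp hh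
    show (f ⟨k * a * k⁻¹, _⟩ : ℂ) = (f ⟨k * ((1 : ↥Q) : L) * k⁻¹, _⟩ : ℂ)
    rw [hf _ ((inferInstance : A.Normal).conj_mem _ ha k), hf _ (by simp)]
  exact fun a ha => key ⟨a, hAQ ha⟩ ha

/-- A character of a normal subgroup with abelian quotient: degree dividing the index. -/
theorem s09_deg_dvd_index (Q : Subgroup L) [Q.Normal] [Fintype ↥Q] (hQK : Q ≤ K)
    (hab : ∀ a ∈ K, ∀ b ∈ K, a * b * a⁻¹ * b⁻¹ ∈ Q) {θ : ↥K → ℂ}
    (hθ : Cfsg.IsIrrCharacter ↥K θ) (f : ↥Q →* ℂˣ)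
    (hc : Cfsg.classInner (resTo hQK θ) (Cfsg.Lib.Dual.ev f) ≠ 0) :
    deg θ ∣ Q.relIndex K := by
  classical
  haveI := Fintype.ofFinite ↥K
  set N := Q.subgroupOf K with hN
  haveI := Fintype.ofFinite ↥N
  let e : ↥N ≃* ↥Q := Subgroup.subgroupOfEquivOfLe hQK
  let g' : ↥N → ℂ := fun x => Cfsg.Lib.Dual.ev f (e x)
  have hg' : Cfsg.IsIrrCharacter ↥N g' :=
    IsIrrCharacter.comp_mulEquiv (Cfsg.Lib.Dual.isIrr_ev f) e
  obtain ⟨k, C, -, hC, hcard, hind, hdeg, hNT, -⟩ := indFun_abelian_inertia N (inertia N g') hg'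
    (fun x => ⟨fun h n => congrFun h n, fun h => funext h⟩)
    (fun x _ y _ => Subgroup.mem_subgroupOf.mpr (hab x x.2 y y.2))
  have hne : Cfsg.classInner (Cfsg.indFun N g') θ ≠ 0 := by
    rw [frobenius_reciprocity N g' (isClassFunction_irr ⟨θ, hθ⟩), ← classInner_conj_symm]
    intro h
    apply hc
    rw [← classInner_comp_equiv e.toEquiv]
    exact (map_eq_zero _).mp h
  have hθC : θ ∈ C := by
    by_contra hθC
    refine hne ?_
    rw [hind, classInner_smul_left, classInner_sum_left,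
      Finset.sum_eq_zero fun χ hχ => by
        rw [classInner_irrChar (hC χ hχ) hθ, if_neg fun (h : χ = θ) => hθC (h ▸ hχ)], mul_zero]
  have h1 : deg θ = (inertia N g').index * k := by
    apply Nat.cast_injective (R := ℂ)
    rw [← IsCharacter.apply_one_eq_deg (isCharacter_of_irr hθ), hdeg θ hθC]
    simp [g', Cfsg.Lib.Dual.ev, e]
  show deg θ ∣ N.index
  rw [h1, ← Subgroup.relIndex_mul_index hNT, mul_comm (N.relIndex _), ← hcard, sq, mul_assoc k k]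
  exact Nat.mul_dvd_mul_left _ (dvd_mul_right k _)

/-- The character of `K` induced from a linear character of a normal subgroup. -/
noncomputable def indK [Fintype ↥K] (Q : Subgroup L) (hQK : Q ≤ K) (f : ↥Q →* ℂˣ) : ↥K → ℂ :=
  Cfsg.indFun (Q.subgroupOf K) (fun x => (f ⟨(x : L), Subgroup.mem_subgroupOf.mp x.2⟩ : ℂ))

/-- When only `Q` fixes the linear character, the induced character is irreducible. -/
theorem s09_indK_irr [Fintype ↥K] (Q : Subgroup L) [Q.Normal] (hQK : Q ≤ K) (f : ↥Q →* ℂˣ)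
    (h : inertia Q (Cfsg.Lib.Dual.ev f) ⊓ K ≤ Q) : Cfsg.IsIrrCharacter ↥K (indK Q hQK f) := by
  let e : ↥(Q.subgroupOf K) ≃* ↥Q := Subgroup.subgroupOfEquivOfLe hQK
  refine s09_indFun_irr (K := Q.subgroupOf K)
    (IsIrrCharacter.comp_mulEquiv (Cfsg.Lib.Dual.isIrr_ev f) e) fun g hg => ?_
  refine Subgroup.mem_subgroupOf.mpr (h ⟨?_, g.2⟩)
  show Cfsg.Lib.Chars.conjN Q (g : L) (Cfsg.Lib.Dual.ev f) = Cfsg.Lib.Dual.ev f
  funext y
  exact congrFun hg (e.symm y)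

theorem s09_indK_one [Fintype ↥K] (Q : Subgroup L) (hQK : Q ≤ K) (f : ↥Q →* ℂˣ) :
    indK Q hQK f 1 = (Q.relIndex K : ℂ) := by
  rw [indK, indFun_one]
  rw [show (⟨((1 : ↥(Q.subgroupOf K)) : L), Subgroup.mem_subgroupOf.mp (1 : ↥(Q.subgroupOf K)).2⟩ : ↥Q)
    = 1 from rfl, map_one, Units.val_one, mul_one]
  rfl

theorem s09_indK_constituent [Fintype ↥K] (Q : Subgroup L) [Fintype ↥Q] (hQK : Q ≤ K) (f : ↥Q →* ℂˣ)
    (hirr : Cfsg.IsIrrCharacter ↥K (indK Q hQK f)) :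
    Cfsg.classInner (resTo hQK (indK Q hQK f)) (Cfsg.Lib.Dual.ev f) ≠ 0 := by
  haveI := Fintype.ofFinite ↥(Q.subgroupOf K)
  let e : ↥(Q.subgroupOf K) ≃* ↥Q := Subgroup.subgroupOfEquivOfLe hQK
  have h1 := classInner_self_irr hirr
  rw [indK, frobenius_reciprocity _ _ (isClassFunction_indFun _ _), ← classInner_conj_symm] at h1
  intro h
  rw [← classInner_comp_equiv e.toEquiv] at h
  exact one_ne_zero (h1.symm.trans ((map_eq_zero _).mpr h))

end Generic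

namespace Ctx9

variable {L : Type u} [Group L] [Fintype L] {K H H₀ U C W W₂ : Subgroup L} {q p : ℕ}

/-- The stabiliser in `U` of a linear character of `H`. -/
noncomputable def stab (U : Subgroup L) {H : Subgroup L} [H.Normal] (f : ↥H →* ℂˣ) : Subgroup L :=
  inertia H (Cfsg.Lib.Dual.ev f) ⊓ U

theorem stab_le (U : Subgroup L) {H : Subgroup L} [H.Normal] (f : ↥H →* ℂˣ) : stab U f ≤ U :=
  inf_le_right

theorem mem_stab_iff {U : Subgroup L} {H : Subgroup L} [hH : H.Normal] {f : ↥H →* ℂˣ} {x : L} :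
    x ∈ stab U f ↔ x ∈ U ∧ ∀ h : ↥H, f ⟨x * h * x⁻¹, hH.conj_mem h h.2 x⟩ = f h := by
  constructor
  · exact fun h => ⟨h.2, fun y => Units.ext (congrFun h.1 y)⟩
  · exact fun h => ⟨funext fun y => congrArg Units.val (h.2 y), h.1⟩

theorem stab_commutator {U : Subgroup L} {H : Subgroup L} [hH : H.Normal] {f : ↥H →* ℂˣ} {x : L}
    (hx : x ∈ stab U f) (h : ↥H) (hm : ⁅(h : L), x⁆ ∈ H) : f ⟨⁅(h : L), x⁆, hm⟩ = 1 := by
  have e : (⟨⁅(h : L), x⁆, hm⟩ : ↥H) =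
      h * ⟨x * ((h⁻¹ : ↥H) : L) * x⁻¹, hH.conj_mem _ (h⁻¹).2 x⟩ :=
    Subtype.ext (by simp only [commutatorElement_def, Subgroup.coe_mul, Subgroup.coe_inv]; group)
  rw [e, map_mul, (mem_stab_iff.mp hx).2 h⁻¹, map_inv, mul_inv_cancel]

theorem C_le_stab (c : Ctx9 K H H₀ U C W W₂ q p) [H.Normal] {f : ↥H →* ℂˣ}
    (hf : ∀ a : ↥H, (a : L) ∈ H₀ → f a = 1) : C ≤ stab U f := by
  intro x hx
  refine mem_stab_iff.mpr ⟨c.C_le hx, fun h => ?_⟩
  have hm : ⁅(h : L), x⁆⁻¹ ∈ H₀ := inv_mem (c.comm_C h.2 hx)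
  have e : (⟨x * h * x⁻¹, (inferInstance : H.Normal).conj_mem h h.2 x⟩ : ↥H) =
      ⟨⁅(h : L), x⁆⁻¹, c.H₀_le hm⟩ * h :=
    Subtype.ext (by simp only [commutatorElement_def, Subgroup.coe_mul]; group)
  rw [e, map_mul, hf _ hm, one_mul]

theorem stab_eq_of_free (c : Ctx9 K H H₀ U C W W₂ q p) [H.Normal] (hfree : Free9 H H₀ U C)
    {f : ↥H →* ℂˣ} (hf : ∀ a : ↥H, (a : L) ∈ H₀ → f a = 1) (hne : f ≠ 1) : stab U f = C := by
  refine le_antisymm (fun x hx => ?_) (c.C_le_stab hf)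
  by_contra hxC
  refine hne (MonoidHom.ext fun h' => ?_)
  obtain ⟨h, hh, hm⟩ := hfree x hx.2 hxC h' h'.2
  have hcm : ⁅h, x⁆ ∈ H := by
    have e : ⁅h, x⁆ = h * (x * h⁻¹ * x⁻¹) := by simp only [commutatorElement_def]; group
    rw [e]
    exact mul_mem hh (c.H_normal.conj_mem _ (inv_mem hh) x)
  have e : h' = (⟨⁅h, x⁆, hcm⟩ : ↥H) * ⟨⁅h, x⁆⁻¹ * h', c.H₀_le hm⟩ :=
    Subtype.ext (mul_inv_cancel_left ⁅h, x⁆ (h' : L)).symm
  rw [e, map_mul, stab_commutator hx ⟨h, hh⟩ hcm, hf _ hm, one_mul, MonoidHom.one_apply]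

theorem U_normalizes_stab (c : Ctx9 K H H₀ U C W W₂ q p) [H.Normal] {f : ↥H →* ℂˣ}
    (hf : ∀ a : ↥H, (a : L) ∈ H₀ → f a = 1) : U ≤ normalizer (stab U f : Set L) := by
  refine s09_le_normalizer_of_conj fun a ha x hx => ?_
  have e : a * x * a⁻¹ = ⁅a, x⁆ * x := by simp only [commutatorElement_def]; group
  rw [e]
  exact mul_mem (c.C_le_stab hf (c.derived_U (commutator_mem_commutator ha hx.2))) hx

/-- A non-trivial character of `H / H₀` with a `W`-invariant stabiliser is fixed only by `C`. -/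
theorem stab_eq_of_invariant (c : Ctx9 K H H₀ U C W W₂ q p) [H.Normal] {f : ↥H →* ℂˣ}
    (hf : ∀ a : ↥H, (a : L) ∈ H₀ → f a = 1) (hne : f ≠ 1)
    (hW : W ≤ normalizer (stab U f : Set L)) : stab U f = C := by
  refine le_antisymm (fun x hx => ?_) (c.C_le_stab hf)
  have hcm : ∀ a ∈ H, ∀ y : L, ⁅a, y⁆ ∈ H := by
    intro a ha y
    have e : ⁅a, y⁆ = a * (y * a⁻¹ * y⁻¹) := by simp only [commutatorElement_def]; group
    rw [e]
    exact mul_mem ha (c.H_normal.conj_mem _ (inv_mem ha) y)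
  have hle : ⁅H, stab U f⁆ ≤ H := by
    rw [commutator_le]; exact fun a ha y _ => hcm a ha y
  set N := H₀ ⊔ ⁅H, stab U f⁆ with hN
  have hNle : N ≤ H := sup_le c.H₀_le hle
  have hNn : N.Normal := by
    refine c.normal_of (s09_le_normalizer_of_conj fun a ha y hy => ?_) ?_ ?_
    · have e : a * y * a⁻¹ = ⁅a, y⁆ * y := by simp only [commutatorElement_def]; group
      rw [e]
      exact mul_mem (mem_sup_left (c.derived_H (commutator_mem_commutator ha (hNle hy)))) hy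
    all_goals
      intro a ha
      rw [← Cfsg.Lib.Coprime.conjMap_eq_self_iff, hN, Cfsg.Lib.Coprime.conjMap_sup,
        Cfsg.Lib.Coprime.conjMap_eq_self (c.le_normalizer_H₀ ⊤ (mem_top a))]
      congr 1
      rw [Cfsg.Lib.Coprime.conjMap, map_commutator,
        show H.map (MulAut.conj a).toMonoidHom = H from
          Cfsg.Lib.Coprime.conjMap_eq_self (c.le_normalizer_H ⊤ (mem_top a))]
      congr 1
    · exact Cfsg.Lib.Coprime.conjMap_eq_self (c.U_normalizes_stab hf ha)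
    · exact Cfsg.Lib.Coprime.conjMap_eq_self (hW ha)
  rcases c.chief N hNn le_sup_left hNle with e | e
  · exact (c.mem_C x).mpr ⟨hx.2, fun a ha =>
      e.le (mem_sup_right (commutator_mem_commutator ha hx))⟩
  · exfalso
    refine hne (MonoidHom.ext fun h' => ?_)
    let D : Subgroup L := f.ker.map H.subtype
    have hD : N ≤ D := by
      refine sup_le (fun a ha => ⟨⟨a, c.H₀_le ha⟩, hf _ ha, rfl⟩) ?_
      rw [commutator_le]
      exact fun a ha y hy => ⟨⟨⁅a, y⁆, hcm a ha y⟩, stab_commutator hy ⟨a, ha⟩ _, rfl⟩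
    obtain ⟨z, hz, hzz⟩ := hD (e.ge h'.2)
    rw [← show z = h' from Subtype.ext hzz]
    exact hz

/-- On a line where the character is non-trivial only the stabiliser of the line can fix it. -/
theorem stab_le_line (c : Ctx9 K H H₀ U C W W₂ q p) [H.Normal] {f : ↥H →* ℂˣ}
    (hf : ∀ a : ↥H, (a : L) ∈ H₀ → f a = 1) {N : Subgroup L} (h1 : H₀ ≤ N)
    (hcard : Nat.card N = p * Nat.card H₀) (hUN : U ≤ normalizer (N : Set L)) (hNH : N ≤ H)
    {h' : ↥H} (hN' : (h' : L) ∈ N) (hne : f h' ≠ 1) {x : L} (hx : x ∈ stab U f) :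
    ∀ h ∈ N, ⁅h, x⁆ ∈ H₀ := by
  intro h hh
  by_contra hcon
  apply hne
  let D : Subgroup L := f.ker.map H.subtype ⊓ N
  have h0D : H₀ ≤ D := fun a ha => ⟨⟨⟨a, c.H₀_le ha⟩, hf _ ha, rfl⟩, h1 ha⟩
  have hcmN : ⁅h, x⁆ ∈ N := by
    have e : ⁅h, x⁆ = h * (x * h⁻¹ * x⁻¹) := by simp only [commutatorElement_def]; group
    rw [e]
    exact mul_mem hh (s09_conj_mem (hUN hx.2) (inv_mem hh))
  have hmem : ⁅h, x⁆ ∈ D := ⟨⟨⟨⁅h, x⁆, hNH hcmN⟩, stab_commutator hx ⟨h, hNH hh⟩ _, rfl⟩, hcmN⟩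
  obtain ⟨r, hr⟩ := Subgroup.card_dvd_of_le h0D
  have hrp : r ∣ p := by
    have := Subgroup.card_dvd_of_le (inf_le_right : D ≤ N)
    rw [hr, hcard, mul_comm p] at this
    exact Nat.dvd_of_mul_dvd_mul_left Nat.card_pos this
  have hDN : D = N := by
    rcases (Nat.dvd_prime c.p_prime).mp hrp with e | e
    · rw [e, mul_one] at hr
      exact absurd ((Subgroup.eq_of_le_of_card_ge h0D hr.le).ge hmem) hcon
    · exact Subgroup.eq_of_le_of_card_ge inf_le_right (by rw [hr, e, hcard, mul_comm])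
  obtain ⟨z, hz, hzz⟩ := ((hDN.ge hN') : (h' : L) ∈ D).1
  rw [← show z = h' from Subtype.ext hzz]
  exact hz

theorem stab_dvd_line (c : Ctx9 K H H₀ U C W W₂ q p) [H.Normal] {H₁ C₁ : Subgroup L} {a : ℕ}
    (l : LineCtx H H₀ U W H₁ C₁ p a) {f : ↥H →* ℂˣ}
    (hf : ∀ a : ↥H, (a : L) ∈ H₀ → f a = 1) (hne : f ≠ 1) :
    a ∣ (stab U f).relIndex U := by
  obtain ⟨w, h', hw', hne'⟩ : ∃ w : ↥W, ∃ h' : ↥H,
      (h' : L) ∈ Cfsg.Lib.Coprime.conjMap (w : L) H₁ ∧ f h' ≠ 1 := by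
    by_contra hcon
    push Not at hcon
    refine hne (MonoidHom.ext fun y => ?_)
    have hle : H ≤ f.ker.map H.subtype := by
      conv_lhs => rw [← l.span]
      refine iSup_le fun w z hz => ?_
      have hzH : z ∈ H := by
        rw [← l.span]
        exact le_iSup (fun w : W => H₁.map (MulAut.conj (w : L)).toMonoidHom) w hz
      exact ⟨⟨z, hzH⟩, hcon w ⟨z, hzH⟩ hz, rfl⟩
    obtain ⟨z, hz, hzz⟩ := hle y.2
    rw [← show z = y from Subtype.ext hzz]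
    exact hz
  set N := Cfsg.Lib.Coprime.conjMap (w : L) H₁ with hN
  have hw0 : Cfsg.Lib.Coprime.conjMap (w : L) H₀ = H₀ :=
    Cfsg.Lib.Coprime.conjMap_eq_self (c.le_normalizer_H₀ ⊤ (mem_top _))
  have h1 : H₀ ≤ N := hw0 ▸ Cfsg.Lib.Coprime.conjMap_mono l.ge
  have hNH : N ≤ H := (Cfsg.Lib.Coprime.conjMap_mono l.le).trans
    (Cfsg.Lib.Coprime.conjMap_eq_self (c.le_normalizer_H ⊤ (mem_top _))).le
  have hUN : U ≤ normalizer (N : Set L) := by
    rw [hN, Cfsg.Lib.Coprime.normalizer_conjMap]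
    intro x hx
    exact Cfsg.Lib.Coprime.mem_conjMap.mpr (l.normal (s09_conj_mem' (c.W_normalizes_U w.2) hx))
  set C' := Cfsg.Lib.Coprime.conjMap (w : L) C₁ with hC'
  have hC₁U : C₁ ≤ U := fun x hx => ((l.mem_C₁ x).mp hx).1
  have hUw : Cfsg.Lib.Coprime.conjMap (w : L) U = U :=
    Cfsg.Lib.Coprime.conjMap_eq_self (c.W_normalizes_U w.2)
  have hsub : stab U f ≤ C' := by
    intro x hx
    have hc := c.stab_le_line hf h1 ((Cfsg.Lib.Coprime.card_conjMap _ _).trans l.card) hUN hNH hw'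
      hne' hx
    refine Cfsg.Lib.Coprime.mem_conjMap.mpr ((l.mem_C₁ _).mpr
      ⟨s09_conj_mem' (c.W_normalizes_U w.2) hx.2, fun h hh => ?_⟩)
    have e : ⁅h, (w : L)⁻¹ * x * w⁆ = (w : L)⁻¹ * ⁅(w : L) * h * (w : L)⁻¹, x⁆ * w := by
      simp only [commutatorElement_def]; group
    rw [e]
    simpa using c.H₀_normal.conj_mem _ (hc _ ⟨h, hh, rfl⟩) (w : L)⁻¹
  have hidx : C'.relIndex U = a := by
    conv_lhs => rw [← hUw]
    rw [hC', Cfsg.Lib.Coprime.conjMap, Cfsg.Lib.Coprime.conjMap,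
      Subgroup.relIndex_map_map_of_injective _ _ (MulAut.conj (w : L)).injective, l.index]
  have hC'U : C' ≤ U := hUw ▸ Cfsg.Lib.Coprime.conjMap_mono hC₁U
  rw [← Subgroup.relIndex_mul_relIndex _ _ _ hsub hC'U, hidx]
  exact dvd_mul_left a _

theorem inertia_inf_K (c : Ctx9 K H H₀ U C W W₂ q p) [H.Normal] (f : ↥H →* ℂˣ) :
    inertia H (Cfsg.Lib.Dual.ev f) ⊓ K = H ⊔ stab U f := by
  have hle : H ≤ inertia H (Cfsg.Lib.Dual.ev f) :=
    le_inertia (isClassFunction_irr ⟨_, Cfsg.Lib.Dual.isIrr_ev f⟩)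
  conv_lhs => rw [← c.K_eq, inf_comm]
  rw [Cfsg.Lib.Coprime.sup_inf_dedekind (c.le_normalizer_H U) hle, stab, inf_comm U]

/-- The stabilisers of the constituents on `H` divide the degree. -/
theorem stab_relIndex_dvd (c : Ctx9 K H H₀ U C W W₂ q p) [H.Normal] [K.Normal] [Fintype ↥H]
    {θ : ↥K → ℂ} (hθ : Cfsg.IsIrrCharacter ↥K θ) {f : ↥H →* ℂˣ}
    (hc : Cfsg.classInner (resTo c.H_le θ) (Cfsg.Lib.Dual.ev f) ≠ 0) :
    (stab U f).relIndex U ∣ deg θ := by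
  have h := s09_deg_orbit H c.H_le hθ f hc
  rwa [c.inertia_inf_K, c.relIndex_sup (stab_le U f)] at h

/-- A character non-trivial on `H` and trivial on `H₀` has a non-trivial constituent on `H`. -/
theorem exists_constituent_H (c : Ctx9 K H H₀ U C W W₂ q p) [H.Normal] [K.Normal] [Fintype ↥H]
    {θ : ↥K → ℂ} (hθ : Cfsg.IsIrrCharacter ↥K θ) (h0 : Above θ H₀) (hH : ¬ Above θ H) :
    ∃ f : ↥H →* ℂˣ, (∀ a : ↥H, (a : L) ∈ H₀ → f a = 1) ∧ f ≠ 1 ∧
      Cfsg.classInner (resTo c.H_le θ) (Cfsg.Lib.Dual.ev f) ≠ 0 := by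
  obtain ⟨f, hf, hc⟩ := s09_linear_constituent H H₀ c.H_le (fun a ha b hb =>
    c.derived_H (by simpa [commutatorElement_def] using commutator_mem_commutator ha hb)) hθ h0
  refine ⟨f, hf, fun e => hH ?_, hc⟩
  exact s09_above_of_constituent H H c.H_le le_rfl hθ f hc fun a _ => by rw [e, MonoidHom.one_apply]

/-- In the Galois case the index of `C` divides all degrees. -/
theorem free_dvd_deg (c : Ctx9 K H H₀ U C W W₂ q p) (hfree : Free9 H H₀ U C) {θ : ↥K → ℂ}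
    (hθ : Cfsg.IsIrrCharacter ↥K θ) (h0 : Above θ H₀) (hH : ¬ Above θ H) :
    C.relIndex U ∣ deg θ := by
  haveI := c.H_normal
  haveI := c.K_normal
  haveI := Fintype.ofFinite ↥H
  obtain ⟨f, hf, hne, hc⟩ := c.exists_constituent_H hθ h0 hH
  exact c.stab_eq_of_free hfree hf hne ▸ c.stab_relIndex_dvd hθ hc

/-- In the non-Galois case the index of the stabiliser of a line divides all degrees. -/
theorem line_dvd_deg (c : Ctx9 K H H₀ U C W W₂ q p) {H₁ C₁ : Subgroup L} {a : ℕ}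
    (l : LineCtx H H₀ U W H₁ C₁ p a) {θ : ↥K → ℂ}
    (hθ : Cfsg.IsIrrCharacter ↥K θ) (h0 : Above θ H₀) (hH : ¬ Above θ H) : a ∣ deg θ := by
  haveI := c.H_normal
  haveI := c.K_normal
  haveI := Fintype.ofFinite ↥H
  obtain ⟨f, hf, hne, hc⟩ := c.exists_constituent_H hθ h0 hH
  exact (c.stab_dvd_line l hf hne).trans (c.stab_relIndex_dvd hθ hc)

/-- Characters trivial on `H₀ C'` have degree dividing the index of `C`. -/
theorem deg_dvd_u (c : Ctx9 K H H₀ U C W W₂ q p) {θ : ↥K → ℂ}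
    (hθ : Cfsg.IsIrrCharacter ↥K θ) (h0 : Above θ (H₀ ⊔ ⁅C, C⁆)) :
    deg θ ∣ C.relIndex U := by
  haveI := c.P_normal
  haveI := c.K_normal
  haveI := Fintype.ofFinite ↥(H ⊔ C)
  obtain ⟨f, -, hc⟩ := s09_linear_constituent (H ⊔ C) _ c.P_le c.derived_P hθ h0
  exact c.P_relIndex ▸ s09_deg_dvd_index (H ⊔ C) c.P_le c.derived_K hθ f hc

end Ctx9

end Cfsg.Agent.PF
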