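import Cfsg.Agent.OddChar.PF.S09Count
import Cfsg.Agent.OddChar.PF.S09Galois

/-!
# Section 9: the setting inside the maximal subgroup, from the setting in the whole group
-/

set_option linter.unusedSectionVars false
set_option linter.unusedVariables false
set_option linter.style.haveILetI false

universe u

namespace Cfsg.Agent.PF

open Subgroup
open scoped commutatorElement

variable {G : Type u} [Group G] [Finite G] {M W₁ U W₂ H₀ : Subgroup G}

theorem s09_card_subgroupOf {X : Subgroup G} (h : X ≤ M) :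
    Nat.card ↥(X.subgroupOf M) = Nat.card X :=
  Nat.card_congr (Subgroup.subgroupOfEquivOfLe h).toEquiv

theorem s09_commutator_subgroupOf {A : Subgroup G} (hA : A ≤ M) :
    (⁅A, A⁆ : Subgroup G).subgroupOf M = ⁅A.subgroupOf M, A.subgroupOf M⁆ := by
  refine Subgroup.map_injective M.subtype_injective ?_
  rw [Subgroup.map_commutator, Subgroup.map_subgroupOf_eq_of_le hA,
    Subgroup.map_subgroupOf_eq_of_le ((Subgroup.commutator_le_self A).trans hA)]

namespace Hyp9

theorem W₂_le (h : Hyp9 M W₁ U W₂) : W₂ ≤ M := h.W₂_le_H.trans h.H_le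

theorem derived_le (_h : Hyp9 M W₁ U W₂) : ⁅M, M⁆ ≤ M := Subgroup.commutator_le_self M

theorem nilpotent_subgroupOf {X : Subgroup G} (hX : X ≤ M) (hn : Group.IsNilpotent X) :
    Group.IsNilpotent ↥(X.subgroupOf M) :=
  haveI := hn
  Group.nilpotent_of_mulEquiv (Subgroup.subgroupOfEquivOfLe hX).symm

theorem centMod_subgroupOf_le (h : Hyp9 M W₁ U W₂) (X : Subgroup G) : centMod U X H₀ ≤ M :=
  (centMod_le _ _ _).trans h.U_le

/-- The setting, inside `M`. -/
theorem ctx (h : Hyp9 M W₁ U W₂) (k : Kernel9 M U H₀) (hodd : Odd (Nat.card G)) {p : ℕ}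
    (hp : p.Prime) (hcard : Nat.card (Cfsg.fittingHallOf M) = p ^ Nat.card W₁ * Nat.card H₀) :
    Ctx9 ((⁅M, M⁆ : Subgroup G).subgroupOf M) ((Cfsg.fittingHallOf M).subgroupOf M)
      (H₀.subgroupOf M) (U.subgroupOf M)
      ((centMod U (Cfsg.fittingHallOf M) H₀).subgroupOf M) (W₁.subgroupOf M) (W₂.subgroupOf M)
      (Nat.card W₁) p := by
  have hH₀M : H₀ ≤ M := k.H₀_le.trans h.H_le
  obtain ⟨r, hr, -, hrc, hW₂⟩ := k.prime_structure h
  have hpr : p = r := Nat.pow_left_injective (Nat.card_pos (α := W₁)).ne'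
    (Nat.eq_of_mul_eq_mul_right Nat.card_pos (hcard.symm.trans hrc))
  refine
    { K_normal := ?_
      H_normal := ?_
      H₀_normal := ?_
      H_le := ?_
      U_le := ?_
      K_eq := ?_
      H_inf_U := ?_
      K_sup_W := ?_
      K_inf_W := ?_
      W_cyclic := ?_
      card_W := ?_
      q_prime := h.q_prime
      coprime := ?_
      odd := ?_
      p_prime := hp
      card_H := ?_
      H₀_lt := ?_
      nilpotent_H := ?_
      nilpotent_U := ?_
      derived_H := ?_
      chief := ?_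
      mem_C := ?_
      C_lt := ?_
      derived_U := ?_
      W_normalizes_U := ?_
      fpf := ?_
      centW := ?_
      W₂_le := ?_
      W₂_cyclic := ?_
      W₂_card := ?_ }
  · exact (Subgroup.normal_subgroupOf_iff_le_normalizer h.derived_le).mpr h.M_le_normalizer_derived
  · exact (Subgroup.normal_subgroupOf_iff_le_normalizer h.H_le).mpr h.M_le_normalizer_H
  · exact (Subgroup.normal_subgroupOf_iff_le_normalizer hH₀M).mpr k.normal
  · exact Subgroup.comap_mono h.H_le_derived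
  · exact Subgroup.comap_mono h.U_le_derived
  · rw [← Subgroup.subgroupOf_sup h.H_le h.U_le, h.derived_eq]
  · rw [Subgroup.subgroupOf, Subgroup.subgroupOf, ← Subgroup.comap_inf, h.typeP.U_compl.2.2.1,
      MonoidHom.comap_bot, Subgroup.ker_subtype]
  · rw [← Subgroup.subgroupOf_sup h.derived_le h.W₁_le, ← h.derived_eq, h.M_eq,
      Subgroup.subgroupOf_self]
  · rw [Subgroup.subgroupOf, Subgroup.subgroupOf, ← Subgroup.comap_inf, h.typeP.W₁_compl.2.2.1,
      MonoidHom.comap_bot, Subgroup.ker_subtype]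
  · haveI := h.typeP.W₁_cyclic
    exact isCyclic_of_surjective (Subgroup.subgroupOfEquivOfLe h.W₁_le).symm.toMonoidHom
      (Subgroup.subgroupOfEquivOfLe h.W₁_le).symm.surjective
  · exact s09_card_subgroupOf h.W₁_le
  · rw [s09_card_subgroupOf h.derived_le]
    exact h.coprime_derived
  · exact hodd.of_dvd_nat (Subgroup.card_subgroup_dvd_card M)
  · rw [s09_card_subgroupOf h.H_le, s09_card_subgroupOf hH₀M, hcard]
  · refine lt_of_le_of_ne (Subgroup.comap_mono k.H₀_le) fun e => k.lt.ne ?_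
    rw [← Subgroup.map_subgroupOf_eq_of_le hH₀M, ← Subgroup.map_subgroupOf_eq_of_le h.H_le, e]
  · exact nilpotent_subgroupOf h.H_le h.nilpotent_H
  · exact nilpotent_subgroupOf h.U_le h.typeP.U_nilpotent
  · rw [← s09_commutator_subgroupOf h.H_le]
    exact Subgroup.comap_mono (k.commutator_H_le h)
  · intro N hN h0 hle
    have hmap : M ≤ normalizer (N.map M.subtype : Set G) := by
      refine s09_le_normalizer_of_conj fun m hm x hx => ?_
      obtain ⟨y, hy, rfl⟩ := hx
      exact ⟨_, hN.conj_mem y hy ⟨m, hm⟩, rfl⟩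
    rcases k.chief (N.map M.subtype) (by
        rw [← Subgroup.map_subgroupOf_eq_of_le hH₀M]; exact Subgroup.map_mono h0) (by
        rw [← Subgroup.map_subgroupOf_eq_of_le h.H_le]; exact Subgroup.map_mono hle) hmap with e | e
    · left
      refine Subgroup.map_injective M.subtype_injective ?_
      rw [e, Subgroup.map_subgroupOf_eq_of_le hH₀M]
    · right
      refine Subgroup.map_injective M.subtype_injective ?_
      rw [e, Subgroup.map_subgroupOf_eq_of_le h.H_le]
  · intro x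
    rw [Subgroup.mem_subgroupOf, k.mem_C h]
    constructor
    · rintro ⟨h1, h2⟩
      exact ⟨h1, fun y hy => h2 y hy⟩
    · rintro ⟨h1, h2⟩
      exact ⟨h1, fun y hy => h2 ⟨y, h.H_le hy⟩ hy⟩
  · refine lt_of_le_of_ne (Subgroup.comap_mono (centMod_le _ _ _)) fun e => (k.C_lt h).ne ?_
    rw [← Subgroup.map_subgroupOf_eq_of_le (h.centMod_subgroupOf_le _), e,
      Subgroup.map_subgroupOf_eq_of_le h.U_le]
  · rw [← s09_commutator_subgroupOf h.U_le]
    exact Subgroup.comap_mono (k.derived_U_le h)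
  · refine s09_le_normalizer_of_conj fun a ha x hx => ?_
    show (a : G) * x * (a : G)⁻¹ ∈ U
    exact s09_conj_mem (h.W₁_le_normalizer_U ha) hx
  · intro w hw hw1 x hx e
    exact Subtype.ext (h.fpf' w hw (fun e1 => hw1 (Subtype.ext e1)) x hx (congrArg Subtype.val e))
  · intro w hw hw1
    ext x
    have hc := h.typeP.W₂_centralizer (w : G) hw fun e1 => hw1 (Subtype.ext e1)
    constructor
    · intro hx
      refine hc.le ⟨hx.1, ?_⟩
      exact mem_centralizer_singleton_iff.mpr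
        (congrArg Subtype.val (mem_centralizer_singleton_iff.mp hx.2))
    · intro hx
      have hx' := hc.ge hx
      exact ⟨hx'.1, mem_centralizer_singleton_iff.mpr
        (Subtype.ext (mem_centralizer_singleton_iff.mp hx'.2))⟩
  · exact Subgroup.comap_mono h.W₂_le_H
  · haveI := h.typeP.selfNormalizing.2.2.2.2.1
    haveI : IsCyclic W₂ :=
      isCyclic_of_injective (Subgroup.inclusion (le_sup_right : W₂ ≤ W₁ ⊔ W₂))
        (Subgroup.inclusion_injective _)
    exact isCyclic_of_surjective (Subgroup.subgroupOfEquivOfLe h.W₂_le).symm.toMonoidHom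
      (Subgroup.subgroupOfEquivOfLe h.W₂_le).symm.surjective
  · rw [hpr, s09_card_subgroupOf h.W₂_le,
      show W₂.subgroupOf M ⊓ H₀.subgroupOf M = (W₂ ⊓ H₀).subgroupOf M from rfl,
      s09_card_subgroupOf (inf_le_left.trans h.W₂_le)]
    exact hW₂

/-- A line, inside `M`. -/
theorem lineCtx (h : Hyp9 M W₁ U W₂) (k : Kernel9 M U H₀) {p a : ℕ} {H₁ : Subgroup G}
    (l : Line9 M W₁ U H₀ H₁ p a) :
    LineCtx ((Cfsg.fittingHallOf M).subgroupOf M) (H₀.subgroupOf M) (U.subgroupOf M)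
      (W₁.subgroupOf M) (H₁.subgroupOf M) ((centMod U H₁ H₀).subgroupOf M) p a := by
  have hH₀M : H₀ ≤ M := k.H₀_le.trans h.H_le
  have hH₁M : H₁ ≤ M := l.le.trans h.H_le
  refine
    { le := Subgroup.comap_mono l.le
      ge := Subgroup.comap_mono l.ge
      card := ?_
      normal := ?_
      span := ?_
      mem_C₁ := ?_
      index := ?_
      one_lt := l.one_lt
      two_mul_le := l.two_mul_le
      dvd := l.dvd }
  · rw [s09_card_subgroupOf hH₁M, s09_card_subgroupOf hH₀M, l.card]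
  · refine s09_le_normalizer_of_conj fun a ha x hx => ?_
    show (a : G) * x * (a : G)⁻¹ ∈ H₁
    exact s09_conj_mem (l.normal ha) hx
  · refine le_antisymm (iSup_le fun w => ?_) ?_
    · rintro x ⟨y, hy, rfl⟩
      show ((w : ↥M) : G) * y * ((w : ↥M) : G)⁻¹ ∈ Cfsg.fittingHallOf M
      exact s09_conj_mem (h.M_le_normalizer_H (h.W₁_le w.2)) (l.le hy)
    · intro x hx
      have hle : Cfsg.fittingHallOf M ≤ (⨆ w : ↥(W₁.subgroupOf M),
          (H₁.subgroupOf M).map (MulAut.conj (w : ↥M)).toMonoidHom).map M.subtype := by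
        conv_lhs => rw [← l.span]
        refine iSup_le fun w => ?_
        rintro z ⟨y, hy, rfl⟩
        refine ⟨_, Subgroup.mem_iSup_of_mem
          (⟨⟨(w : G), h.W₁_le w.2⟩, w.2⟩ : ↥(W₁.subgroupOf M))
          ⟨⟨y, hH₁M hy⟩, hy, rfl⟩, rfl⟩
      obtain ⟨z, hz, hzz⟩ := hle (Subgroup.mem_subgroupOf.mp hx)
      rw [← show z = x from Subtype.ext hzz]
      exact hz
  · intro x
    rw [Subgroup.mem_subgroupOf, mem_centMod l.normal (k.U_le_normalizer h)]
    constructor
    · rintro ⟨h1, h2⟩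
      exact ⟨h1, fun y hy => h2 y hy⟩
    · rintro ⟨h1, h2⟩
      exact ⟨h1, fun y hy => h2 ⟨y, hH₁M hy⟩ hy⟩
  · rw [Subgroup.relIndex_subgroupOf h.U_le]
    exact l.index

theorem relIndex_C (h : Hyp9 M W₁ U W₂) :
    ((centMod U (Cfsg.fittingHallOf M) H₀).subgroupOf M).relIndex (U.subgroupOf M) =
      (centMod U (Cfsg.fittingHallOf M) H₀).relIndex U :=
  Subgroup.relIndex_subgroupOf h.U_le

/-- In the Galois case `U` is free modulo `C`. -/
theorem free (h : Hyp9 M W₁ U W₂) (k : Kernel9 M U H₀) (hgal : IsGalois9 M U H₀) {p : ℕ}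
    (hp : p.Prime) (hcard : Nat.card (Cfsg.fittingHallOf M) = p ^ Nat.card W₁ * Nat.card H₀) :
    Free9 ((Cfsg.fittingHallOf M).subgroupOf M) (H₀.subgroupOf M) (U.subgroupOf M)
      ((centMod U (Cfsg.fittingHallOf M) H₀).subgroupOf M) := by
  obtain ⟨-, -, F, iF, iFt, f, ψ, -, hsur, hadd, hzero, hψ, -, hψC, -⟩ :=
    s9Galois G M W₁ U W₂ h H₀ k hgal p hp hcard
  intro x hx0 hxC y hy0
  have hx : (x : G) ∈ U := hx0
  have hy : (y : G) ∈ Cfsg.fittingHallOf M := hy0
  have hne : (1 : F) - ψ (x : G) ≠ 0 := sub_ne_zero.mpr fun e => hxC ((hψC _ hx).mp e.symm)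
  obtain ⟨z, hz, hfz⟩ := hsur (f (y : G) / (1 - ψ (x : G)))
  refine ⟨⟨z, h.H_le hz⟩, hz, ?_⟩
  show ⁅z, (x : G)⁆⁻¹ * (y : G) ∈ H₀
  have hxz : (x : G) * z⁻¹ * (x : G)⁻¹ ∈ Cfsg.fittingHallOf M :=
    s09_conj_mem (h.M_le_normalizer_H x.2) (inv_mem hz)
  have hc : ⁅z, (x : G)⁆ = z * ((x : G) * z⁻¹ * (x : G)⁻¹) := by
    simp only [commutatorElement_def]; group
  have hcm : ⁅z, (x : G)⁆ ∈ Cfsg.fittingHallOf M := hc ▸ mul_mem hz hxz
  have hf1 : f 1 = 0 := (hzero 1 (one_mem _)).mpr (one_mem _)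
  have hinv : ∀ b ∈ Cfsg.fittingHallOf M, f b⁻¹ = - f b := fun b hb => by
    refine eq_neg_of_add_eq_zero_left ?_
    rw [← hadd _ (inv_mem hb) _ hb, inv_mul_cancel, hf1]
  have hfc : f ⁅z, (x : G)⁆ = f (y : G) := by
    rw [hc, hadd _ hz _ hxz, (hψ _ hx).2 _ (inv_mem hz), hinv _ hz, hfz]
    field_simp
    ring
  refine (hzero _ (mul_mem (inv_mem hcm) hy)).mp ?_
  rw [hadd _ (inv_mem hcm) _ hy, hinv _ hcm, hfc, neg_add_cancel]

end Hyp9

end Cfsg.Agent.PF
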