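import Cfsg.Agent.OddChar.PF.S09Members

/-!
# Section 9: supports and the permutation character on a line stabiliser
-/

set_option linter.unusedSectionVars false
set_option linter.unusedVariables false
set_option linter.style.haveILetI false

universe u

namespace Cfsg.Agent.PF

open Cfsg.Lib.Chars Cfsg.Lib.InducedFamily
open Subgroup
open scoped commutatorElement ComplexConjugate

/-- An irreducible character not constant on a normal subgroup vanishes at the elements acting on it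
without fixed points. -/
theorem s09_eq_zero_of_fpf {P : Type u} [Group P] [Fintype P] (N : Subgroup P) [N.Normal]
    {χ : P → ℂ} (hχ : Cfsg.IsIrrCharacter P χ) {x : P} (hx : ∀ y ∈ N, x * y = y * x → y = 1)
    (hN : ¬ ∀ a ∈ N, χ a = χ 1) : χ x = 0 := by
  classical
  set π := QuotientGroup.mk' N with hπdef
  have hπ : Function.Surjective π := QuotientGroup.mk'_surjective N
  haveI := Fintype.ofFinite (P ⧸ N)
  let F : Cfsg.IrrCharacter (P ⧸ N) → Cfsg.IrrCharacter P := fun η =>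
    ⟨_, IsIrrCharacter.comp_surjective η.2 π hπ⟩
  have hF : Function.Injective F := fun η η' h => by
    refine Subtype.ext (funext fun y => ?_)
    obtain ⟨z, rfl⟩ := hπ y
    exact congrFun (congrArg Subtype.val h) z
  have hnot : (⟨χ, hχ⟩ : Cfsg.IrrCharacter P) ∉ Finset.univ.image F := by
    simp only [Finset.mem_image, Finset.mem_univ, true_and, not_exists]
    refine fun η h => hN fun a ha => ?_
    have e := congrArg Subtype.val h
    have e' : (fun z => (η : P ⧸ N → ℂ) (π z)) = χ := e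
    rw [← e']
    show (η : P ⧸ N → ℂ) (π a) = (η : P ⧸ N → ℂ) (π 1)
    rw [map_one, show π a = 1 from (QuotientGroup.eq_one_iff a).mpr ha]
  have hcol : ∀ (Q : Type u) [Group Q] [Finite Q] (y : Q),
      ∑ η : Cfsg.IrrCharacter Q, Complex.normSq ((η : Q → ℂ) y) =
        (Nat.card (centralizer ({y} : Set Q)) : ℝ) := by
    intro Q _ _ y
    have h := second_orthogonality y y
    rw [if_pos (IsConj.refl y)] at h
    simp only [Complex.mul_conj] at h
    exact_mod_cast h
  have hcard : Nat.card (centralizer ({x} : Set P)) ≤ Nat.card (centralizer ({π x} : Set (P ⧸ N))) := by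
    let f : ↥(centralizer ({x} : Set P)) → ↥(centralizer ({π x} : Set (P ⧸ N))) := fun z =>
      ⟨π z, mem_centralizer_singleton_iff.mpr (by
        rw [← map_mul, ← map_mul, mem_centralizer_singleton_iff.mp z.2])⟩
    refine Nat.card_le_card_of_injective f fun z z' h => ?_
    have h1 : π (z : P) = π (z' : P) := congrArg Subtype.val h
    have hm : (z : P)⁻¹ * z' ∈ N := QuotientGroup.eq.mp h1
    have hc := mem_centralizer_singleton_iff.mp
      ((centralizer ({x} : Set P)).mul_mem ((centralizer ({x} : Set P)).inv_mem z.2) z'.2)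
    exact Subtype.ext (inv_mul_eq_one.mp (hx _ hm hc.symm))
  have h1 := hcol P x
  have h2 := hcol (P ⧸ N) (π x)
  have h3 : ∑ η ∈ insert (⟨χ, hχ⟩ : Cfsg.IrrCharacter P) (Finset.univ.image F),
      Complex.normSq ((η : P → ℂ) x) ≤ (Nat.card (centralizer ({x} : Set P)) : ℝ) :=
    h1 ▸ Finset.sum_le_sum_of_subset_of_nonneg (Finset.subset_univ _)
      fun _ _ _ => Complex.normSq_nonneg _
  rw [Finset.sum_insert hnot, Finset.sum_image fun a _ b _ e => hF e] at h3
  have h4 : Complex.normSq (χ x) ≤ 0 := by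
    have h5 : (Nat.card (centralizer ({x} : Set P)) : ℝ) ≤
        Nat.card (centralizer ({π x} : Set (P ⧸ N))) := by exact_mod_cast hcard
    rw [← h2] at h5
    simp only [F] at h3
    linarith
  exact Complex.normSq_eq_zero.mp (le_antisymm h4 (Complex.normSq_nonneg _))

namespace Ctx9

variable {L : Type u} [Group L] [Fintype L] {K H H₀ U C W W₂ : Subgroup L} {q p : ℕ}
  {H₁ C₁ : Subgroup L} {a : ℕ}

/-- A member of `S(A)` vanishes outside `K` and at elements acting on `H` without fixed points. -/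
theorem seqIndD_vanish (c : Ctx9 K H H₀ U C W W₂ q p) [K.Normal] [H.Normal] (A : Subgroup L)
    [A.Normal] {φ : L → ℂ} (hφ : φ ∈ seqIndD K H A) {x : L}
    (hx : x ∈ K → ∀ y ∈ H, x * y = y * x → y = 1) : φ x = 0 := by
  obtain ⟨θ, hθ, -, hnH, rfl⟩ := s09_seqIndD_exists hφ
  by_cases hxK : x ∈ K
  swap
  · exact indFun_normal_not_mem K θ hxK
  haveI := Fintype.ofFinite ↥K
  haveI : (H.subgroupOf K).Normal := Subgroup.normal_subgroupOf
  rw [show x = ((⟨x, hxK⟩ : ↥K) : L) from rfl, indFun_normal_mem]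
  refine mul_eq_zero_of_right _ (Finset.sum_eq_zero fun g _ => ?_)
  refine s09_eq_zero_of_fpf (H.subgroupOf K) hθ ?_ fun h => hnH fun a ha => h a ha
  intro y hy hc
  have hc' : g * x * g⁻¹ * (y : L) = (y : L) * (g * x * g⁻¹) := congrArg Subtype.val hc
  have h1 : g⁻¹ * (y : L) * g = 1 := hx hxK _
    (by simpa using c.H_normal.conj_mem _ (Subgroup.mem_subgroupOf.mp hy) g⁻¹) (by
      calc x * (g⁻¹ * (y : L) * g) = g⁻¹ * (g * x * g⁻¹ * (y : L)) * g := by group
        _ = g⁻¹ * ((y : L) * (g * x * g⁻¹)) * g := by rw [hc']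
        _ = g⁻¹ * (y : L) * g * x := by group)
  refine Subtype.ext ?_
  calc (y : L) = g * (g⁻¹ * (y : L) * g) * g⁻¹ := by group
    _ = ((1 : ↥K) : L) := by rw [h1]; simp

/-- No element of `H C₁` acts on `H` without fixed points. -/
theorem line_not_fpf (c : Ctx9 K H H₀ U C W W₂ q p) (l : LineCtx H H₀ U W H₁ C₁ p a) {x : L}
    (hx : x ∈ H ⊔ C₁) : ∃ y ∈ H, y ≠ 1 ∧ x * y = y * x := by
  classical
  by_contra hno
  push Not at hno
  obtain ⟨h, hh, u, hu, rfl⟩ :=
    (Cfsg.Lib.Coprime.mem_sup_of_le_normalizer (c.le_normalizer_H C₁)).mp hx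
  set x := h * u with hxdef
  have hinj : ∀ y ∈ H, ∀ z ∈ H, ⁅y, x⁆ = ⁅z, x⁆ → y = z := by
    intro y hy z hz e
    have e' : z⁻¹ * y * x = x * (z⁻¹ * y) := by
      simp only [commutatorElement_def] at e
      have e2 : y * x * y⁻¹ = z * x * z⁻¹ := mul_right_cancel e
      calc z⁻¹ * y * x = z⁻¹ * (y * x * y⁻¹) * y := by group
        _ = z⁻¹ * (z * x * z⁻¹) * y := by rw [e2]
        _ = x * (z⁻¹ * y) := by group
    by_contra hne
    exact hno _ (mul_mem (inv_mem hz) hy) (fun e1 => hne (inv_mul_eq_one.mp e1).symm) e'.symm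
  have hmem : ∀ y ∈ H₀, ⁅y, x⁆ ∈ H₀ := fun y hy => by
    have e : ⁅y, x⁆ = y * (x * y⁻¹ * x⁻¹) := by simp only [commutatorElement_def]; group
    rw [e]
    exact mul_mem hy (c.H₀_normal.conj_mem _ (inv_mem hy) x)
  obtain ⟨h', hh', hh'0⟩ : ∃ y ∈ H₁, y ∉ H₀ := by
    by_contra hcon
    push Not at hcon
    have e := l.card
    rw [show H₁ = H₀ from le_antisymm hcon l.ge] at e
    have hp := c.p_prime.two_le
    have : Nat.card H₀ * 2 ≤ Nat.card H₀ * p := Nat.mul_le_mul_left _ hp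
    have := Nat.card_pos (α := H₀)
    rw [mul_comm p] at e
    omega
  let f : ↥H₀ → ↥H₀ := fun y => ⟨⁅(y : L), x⁆, hmem _ y.2⟩
  have hf : Function.Surjective f := Finite.surjective_of_injective fun y z e =>
    Subtype.ext (hinj _ (c.H₀_le y.2) _ (c.H₀_le z.2) (congrArg Subtype.val e))
  have hx0 : ⁅h', x⁆ ∈ H₀ := by
    have e : ⁅h', h * u⁆ = ⁅h', h⁆ * (h * ⁅h', u⁆ * h⁻¹) := by
      simp only [commutatorElement_def]; group
    rw [hxdef, e]
    exact mul_mem (c.derived_H (commutator_mem_commutator (l.le hh') hh))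
      (c.H₀_normal.conj_mem _ (((l.mem_C₁ u).mp hu).2 h' hh') h)
  obtain ⟨y, hy⟩ := hf ⟨_, hx0⟩
  exact hh'0 (hinj _ (c.H₀_le y.2) _ (l.le hh') (congrArg Subtype.val hy) ▸ y.2)

/-- No element outside `K` normalises `H C₁` when `u ≠ a`. -/
theorem line_not_normalizes (c : Ctx9 K H H₀ U C W W₂ q p) (l : LineCtx H H₀ U W H₁ C₁ p a)
    (hne : C.relIndex U ≠ a) {x : L} (hx : x ∉ K) :
    x ∉ normalizer ((H ⊔ C₁ : Subgroup L) : Set L) := by
  intro hxN
  haveI := c.K_normal
  obtain ⟨k, hk, w, hw, rfl⟩ := c.decomp x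
  have hkN : k ∈ normalizer ((H ⊔ C₁ : Subgroup L) : Set L) := by
    have hKN : K ≤ normalizer ((H ⊔ C₁ : Subgroup L) : Set L) := by
      rw [← c.K_eq]
      exact sup_le (le_normalizer.trans' le_sup_left)
        (Cfsg.Lib.Coprime.le_normalizer_sup (c.le_normalizer_H U) (c.U_normalizes_C₁ l))
    exact hKN hk
  have hwN : w ∈ normalizer ((H ⊔ C₁ : Subgroup L) : Set L) := by
    simpa using mul_mem (inv_mem hkN) hxN
  have hw1 : w ≠ 1 := fun e => hx (by rw [e, mul_one]; exact hk)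
  -- `W` normalises `C₁`
  have hwC : w ∈ normalizer (C₁ : Set L) := by
    refine (Subgroup.mem_normalizer_iff_map_conj_eq ..).mpr (Subgroup.eq_of_le_of_card_ge ?_ ?_)
    · rintro z ⟨y, hy, rfl⟩
      have h1 : w * y * w⁻¹ ∈ U := s09_conj_mem (c.W_normalizes_U hw) (c.C₁_le l hy)
      have h2 : w * y * w⁻¹ ∈ H ⊔ C₁ := s09_conj_mem hwN (mem_sup_right hy)
      obtain ⟨h', hh', y', hy', e⟩ :=
        (Cfsg.Lib.Coprime.mem_sup_of_le_normalizer (c.le_normalizer_H C₁)).mp h2
      have h3 : h' ∈ H ⊓ U := ⟨hh', by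
        rw [show h' = w * y * w⁻¹ * y'⁻¹ by rw [← e]; group]
        exact U.mul_mem h1 (U.inv_mem (c.C₁_le l hy'))⟩
      rw [c.H_inf_U, mem_bot] at h3
      show w * y * w⁻¹ ∈ C₁
      rw [← e, h3, one_mul]
      exact hy'
    · rw [Subgroup.card_map_of_injective (MulAut.conj w).injective]
  have hgen : W ≤ normalizer (C₁ : Set L) := by
    intro v hv
    haveI := Fact.mk c.q_prime
    obtain ⟨j, hj⟩ := mem_zpowers_of_prime_card (p := q) c.card_W
      (g := (⟨w, hw⟩ : ↥W)) (g' := (⟨v, hv⟩ : ↥W)) (fun e => hw1 (congrArg Subtype.val e))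
    rw [← show w ^ j = v from congrArg Subtype.val hj]
    exact zpow_mem hwC j
  -- so it centralises all lines
  refine hne ?_
  have hCC : C₁ ≤ C := by
    intro y hy
    refine (c.mem_C y).mpr ⟨c.C₁_le l hy, ?_⟩
    have hsub : H ≤ fmod (zpowers y) H H₀ (c.le_normalizer_H₀ H) := by
      conv_lhs => rw [← l.span]
      refine iSup_le fun v => ?_
      rintro z ⟨z₁, hz₁, rfl⟩
      refine ⟨c.H_normal.conj_mem _ (l.le hz₁) _, fun y' hy' => ?_⟩
      have hy1 : (v : L)⁻¹ * y' * v ∈ C₁ := by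
        simpa using s09_conj_mem ((normalizer (C₁ : Set L)).inv_mem (hgen v.2))
          ((zpowers_le.mpr hy) hy')
      have e : ⁅(v : L) * z₁ * (v : L)⁻¹, y'⁆ =
          (v : L) * ⁅z₁, (v : L)⁻¹ * y' * v⁆ * (v : L)⁻¹ := by
        simp only [commutatorElement_def]; group
      show ⁅(v : L) * z₁ * (v : L)⁻¹, y'⁆ ∈ H₀
      rw [e]
      exact c.H₀_normal.conj_mem _ (((l.mem_C₁ _).mp hy1).2 z₁ hz₁) _
    exact fun h hh => (hsub hh).2 y (mem_zpowers y)
  rw [← l.index, le_antisymm hCC (c.C_le_C₁ l)]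

/-- The character induced from the principal character of `H C₁`. -/
noncomputable def lineI {L : Type u} [Group L] [Fintype L] (H C₁ : Subgroup L) : L → ℂ :=
  Cfsg.indFun (H ⊔ C₁) (fun _ => 1)

theorem lineI_one (c : Ctx9 K H H₀ U C W W₂ q p) (l : LineCtx H H₀ U W H₁ C₁ p a) :
    lineI H C₁ 1 = ((q * a : ℕ) : ℂ) := by
  have hle : H ⊔ C₁ ≤ K := sup_le c.H_le ((c.C₁_le l).trans c.U_le)
  rw [lineI, indFun_one, mul_one, ← Subgroup.relIndex_mul_index hle,
    c.relIndex_sup (c.C₁_le l), l.index, c.index_K, mul_comm]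

theorem lineI_vanish (c : Ctx9 K H H₀ U C W W₂ q p) (l : LineCtx H H₀ U W H₁ C₁ p a) {x : L}
    (hx : x ∈ K → ∀ y ∈ H, x * y = y * x → y = 1) : lineI H C₁ x = 0 := by
  haveI := c.K_normal
  refine indFun_eq_zero_of_forall _ _ x fun g hg => ?_
  have hle : H ⊔ C₁ ≤ K := sup_le c.H_le ((c.C₁_le l).trans c.U_le)
  obtain ⟨y, hy, hy1, hc⟩ := c.line_not_fpf l hg
  have hxK : x ∈ K := by simpa [mul_assoc] using c.K_normal.conj_mem _ (hle hg) g
  have h1 := hx hxK (g * y * g⁻¹) (c.H_normal.conj_mem _ hy g) (by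
    calc x * (g * y * g⁻¹) = g * (g⁻¹ * x * g * y) * g⁻¹ := by group
      _ = g * (y * (g⁻¹ * x * g)) * g⁻¹ := by rw [hc]
      _ = g * y * g⁻¹ * x := by group)
  exact hy1 (conj_eq_one_iff.mp h1)

/-- `lineI` is orthogonal to the irreducible members of `S(A)`. -/
theorem lineI_orth (c : Ctx9 K H H₀ U C W W₂ q p) [K.Normal] [H.Normal] (A : Subgroup L) [A.Normal]
    {φ : L → ℂ} (hφ : φ ∈ seqIndD K H A) (hirr : Cfsg.IsIrrCharacter L φ) :
    Cfsg.classInner (lineI H C₁) φ = 0 := by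
  haveI := Fintype.ofFinite ↥(H ⊔ C₁)
  haveI := Fintype.ofFinite ↥K
  by_contra hne
  obtain ⟨θ, hθ, -, hnH, rfl⟩ := s09_seqIndD_exists hφ
  have hI : Cfsg.IsCharacter L (lineI H C₁) :=
    IsCharacter.indFun (isCharacter_of_irr isIrrCharacter_one)
  have hker : ∀ h ∈ H, lineI H C₁ h = lineI H C₁ 1 := by
    intro h hh
    simp only [lineI, indFun_apply]
    congr 1
    refine Finset.sum_congr rfl fun g _ => ?_
    rw [extendByZero_mem _ (mem_sup_left (by simpa using c.H_normal.conj_mem h hh g⁻¹)),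
      extendByZero_mem _ (by simp)]
  refine hnH fun b hb => ?_
  have h1 : Cfsg.indFun K θ b = Cfsg.indFun K θ 1 :=
    constituent_const hI hirr hne (hker _ hb)
  have h2 : Cfsg.classInner (fun k : ↥K => Cfsg.indFun K θ k) θ ≠ 0 := by
    rw [← classInner_conj_symm, ← frobenius_reciprocity K θ (isClassFunction_indFun K θ),
      classInner_self_irr hirr, map_one]
    exact one_ne_zero
  exact constituent_const (IsCharacter.restrict (isCharacter_of_irr hirr) K) hθ h2 h1

/-- The norm of `lineI`. -/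
theorem lineI_norm (c : Ctx9 K H H₀ U C W W₂ q p) (l : LineCtx H H₀ U W H₁ C₁ p a)
    (hne : C.relIndex U ≠ a) :
    3 * (Cfsg.classInner (lineI H C₁) (lineI H C₁)).re ≤ ((q + 2) * a : ℕ) := by
  classical
  haveI := c.K_normal
  set Q := H ⊔ C₁ with hQdef
  haveI := Fintype.ofFinite ↥Q
  have hle : Q ≤ K := sup_le c.H_le ((c.C₁_le l).trans c.U_le)
  let n : L → ℕ := fun g => (Finset.univ.filter fun y : ↥Q => g⁻¹ * (y : L) * g ∈ Q).card
  have hval : Cfsg.classInner (lineI H C₁) (lineI H C₁) =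
      (((∑ g : L, n g : ℕ) : ℝ) / (Nat.card Q : ℝ) ^ 2 : ℝ) := by
    conv_lhs => arg 1; rw [lineI]
    rw [frobenius_reciprocity (H ⊔ C₁) _
      (show Cfsg.IsClassFunction L (lineI H C₁) from isClassFunction_indFun _ _), classInner_def]
    have hy : ∀ y : ↥Q, lineI H C₁ (y : L) = (Nat.card Q : ℂ)⁻¹ *
        ((Finset.univ.filter fun g : L => g⁻¹ * (y : L) * g ∈ Q).card : ℂ) := by
      intro y
      rw [lineI, indFun_apply, Finset.card_filter, Nat.cast_sum]
      congr 1
      refine Finset.sum_congr rfl fun g _ => ?_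
      split_ifs with h
      · rw [extendByZero_mem _ h, Nat.cast_one]
      · rw [extendByZero_not_mem _ h, Nat.cast_zero]
    simp only [one_mul, hy, map_mul, map_inv₀, map_natCast, Finset.card_filter, n]
    rw [← Finset.mul_sum, ← mul_assoc, ← Nat.cast_sum, Finset.sum_comm]
    push_cast
    simp only [apply_ite Complex.ofReal, apply_ite (Nat.cast : ℕ → ℂ), Nat.cast_one, Nat.cast_zero,
      Complex.ofReal_one, Complex.ofReal_zero, hQdef]
    ring
  rw [hval, Complex.ofReal_re]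
  have hQodd : Odd (Nat.card Q) := c.odd.of_dvd_nat (Subgroup.card_subgroup_dvd_card Q)
  have hn1 : ∀ g, n g ≤ Nat.card Q := fun g => by
    rw [Nat.card_eq_fintype_card]; exact Finset.card_le_univ _
  have hn3 : ∀ g, g ∉ K → 3 * n g ≤ Nat.card Q := by
    intro g hg
    set X := Cfsg.Lib.Coprime.conjMap g Q ⊓ Q with hX
    have hnX : n g = Nat.card X := by
      rw [← Nat.card_congr (Subgroup.subgroupOfEquivOfLe (inf_le_right : X ≤ Q)).toEquiv,
        Nat.card_eq_fintype_card, Fintype.card_subtype]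
      refine congrArg Finset.card (Finset.filter_congr fun y _ => ?_)
      rw [Subgroup.mem_subgroupOf, Subgroup.mem_inf, Cfsg.Lib.Coprime.mem_conjMap]
      exact ⟨fun h => ⟨h, y.2⟩, fun h => h.1⟩
    obtain ⟨m, hm⟩ := Subgroup.card_dvd_of_le (inf_le_right : X ≤ Q)
    have hm1 : m ≠ 1 := by
      intro e
      rw [e, mul_one] at hm
      have hXQ : X = Q := Subgroup.eq_of_le_of_card_ge inf_le_right hm.le
      refine c.line_not_normalizes l hne hg (Cfsg.Lib.Coprime.conjMap_eq_self_iff.mp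
        (Subgroup.eq_of_le_of_card_ge (hXQ.ge.trans inf_le_left) ?_).symm)
      rw [Cfsg.Lib.Coprime.card_conjMap]
    have hm3 : 3 ≤ m := by
      obtain ⟨j, hj⟩ := (Nat.odd_mul.mp (hm ▸ hQodd : Odd (Nat.card X * m))).2
      omega
    rw [hnX, hm, mul_comm 3]
    exact Nat.mul_le_mul_left _ hm3
  have hL : Nat.card L = Nat.card K * q := by rw [← c.index_K, K.card_mul_index]
  have hK : Nat.card K = Nat.card Q * a := by
    rw [← l.index, ← c.relIndex_sup (c.C₁_le l), ← hQdef, Subgroup.relIndex,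
      ← Nat.card_congr (Subgroup.subgroupOfEquivOfLe hle).toEquiv, Subgroup.card_mul_index]
  have hsum : 3 * ∑ g : L, n g ≤ (q + 2) * a * Nat.card Q ^ 2 := by
    have hb : ∀ g, 3 * n g ≤ Nat.card Q + if g ∈ K then 2 * Nat.card Q else 0 := fun g => by
      by_cases hg : g ∈ K
      · rw [if_pos hg]; have := hn1 g; omega
      · rw [if_neg hg]; have := hn3 g hg; omega
    rw [Finset.mul_sum]
    refine (Finset.sum_le_sum fun g _ => hb g).trans_eq ?_
    rw [Finset.sum_add_distrib, ← Finset.sum_filter, Finset.sum_const, Finset.sum_const,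
      Finset.card_univ, ← Nat.card_eq_fintype_card, ← Fintype.card_subtype,
      ← Nat.card_eq_fintype_card, show Nat.card {g : L // g ∈ K} = Nat.card K from rfl, hL, hK]
    simp only [smul_eq_mul]
    ring
  have hQ0 : (0 : ℝ) < Nat.card Q := by exact_mod_cast Nat.card_pos
  rw [← mul_div_assoc, div_le_iff₀ (by positivity)]
  exact_mod_cast hsum

end Ctx9

/-- The elements of `M'` centralising an element of `M_F` lie in `A(M)`. -/
theorem Hyp9.mem_typeA {G : Type u} [Group G] [Finite G] {M W₁ U W₂ : Subgroup G}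
    (h : Hyp9 M W₁ U W₂) {x : ↥M} (hx : x ∈ (⁅M, M⁆ : Subgroup G).subgroupOf M) (hx1 : x ≠ 1)
    {y : ↥M} (hy : y ∈ (Cfsg.fittingHallOf M).subgroupOf M) (hy1 : y ≠ 1) (hc : x * y = y * x) :
    (x : G) ∈ Cfsg.typeA M := by
  have hx' : (x : G) ≠ 1 := fun e => hx1 (Subtype.ext e)
  have hy' : (y : G) ≠ 1 := fun e => hy1 (Subtype.ext e)
  have hc' : (x : G) * y = y * x := congrArg Subtype.val hc
  have hcore : Cfsg.fittingHallOf M ≤ Cfsg.typeCore M := by
    unfold Cfsg.typeCore
    split_ifs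
    · exact h.H_le_derived
    · exact le_rfl
  unfold Cfsg.typeA
  split_ifs
  · exact ⟨x.2, hx', y, Subgroup.mem_subgroupOf.mp hy, hy', hc'⟩
  · exact ⟨Subgroup.mem_subgroupOf.mp hx, hx', y, hcore (Subgroup.mem_subgroupOf.mp hy), hy', hc'⟩

end Cfsg.Agent.PF
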