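import Mathlib.Algebra.BigOperators.Ring.Finset
import Mathlib.Algebra.Order.BigOperators.Group.Finset
import Mathlib.Data.Int.Cast.Lemmas
import Mathlib.Data.Int.Lemmas
import Mathlib.Data.ZMod.Basic
import Mathlib.Tactic.Linarith
import Mathlib.Tactic.Ring
import Mathlib.Tactic.NormNum
import Mathlib.Tactic.LinearCombination
import Mathlib.Tactic.IntervalCases

/-!
# Sections 10 and 11: the integer inequalities on the coefficients in the cyclic TI family

The coefficients of a class function that vanishes on `W` outside both factors are `u r + v k`.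
In the situations of Sections 10 and 11 `v` takes one value on the columns `k ≠ 1`.  The lemmas
below are the estimates on the sums of squares that the two sections use; `I` indexes the rows,
`i₀` is the trivial row, `p` is the number of columns and `q` the number of rows.
-/

set_option autoImplicit false

namespace Cfsg.Agent.PF

open Finset

variable {I : Type*} [Fintype I]

/-- The basic estimate: `Σ u² + (p - 1) Σ (u + v)² + 2 δ v` is positive unless `u = 0` and `v = 0`. -/
theorem s10_base_nonneg (u : I → ℤ) (v δ p : ℤ) (hp : 3 ≤ p) (hδ : δ = 1 ∨ δ = -1) {i₀ : I}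
    (h₀ : u i₀ = 0) (h2 : ∃ i, i ≠ i₀) :
    0 ≤ (∑ i, (u i ^ 2 + (p - 1) * (u i + v) ^ 2)) + 2 * δ * v ∧
      ((∑ i, (u i ^ 2 + (p - 1) * (u i + v) ^ 2)) + 2 * δ * v ≤ 0 → (∀ i, u i = 0) ∧ v = 0) := by
  classical
  rw [← Finset.add_sum_erase _ _ (Finset.mem_univ i₀), h₀]
  have hrest : ∀ i ∈ Finset.univ.erase i₀, 0 ≤ u i ^ 2 + (p - 1) * (u i + v) ^ 2 :=
    fun i _ => by nlinarith [sq_nonneg (u i), sq_nonneg (u i + v)]
  have hv : 0 ≤ (p - 1) * v ^ 2 + 2 * δ * v := by
    have h1 : 0 ≤ 2 * v ^ 2 + 2 * δ * v := by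
      rcases hδ with rfl | rfl
      · rcases le_or_gt 0 v with h | h
        · nlinarith
        · nlinarith [mul_nonneg_of_nonpos_of_nonpos h.le (show v + 1 ≤ 0 by omega)]
      · rcases le_or_gt v 0 with h | h
        · nlinarith
        · nlinarith [mul_nonneg h.le (show 0 ≤ v - 1 by omega)]
    nlinarith [sq_nonneg v]
  have hs := Finset.sum_nonneg hrest
  refine ⟨by nlinarith, fun hle => ?_⟩
  have hsum : ∑ i ∈ Finset.univ.erase i₀, (u i ^ 2 + (p - 1) * (u i + v) ^ 2) = 0 := by nlinarith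
  have hz := (Finset.sum_eq_zero_iff_of_nonneg hrest).mp hsum
  have hu : ∀ i, i ≠ i₀ → u i = 0 ∧ u i + v = 0 := by
    intro i hi
    have h := hz i (Finset.mem_erase.mpr ⟨hi, Finset.mem_univ i⟩)
    have e1 : u i ^ 2 = 0 := by nlinarith [sq_nonneg (u i), sq_nonneg (u i + v)]
    have e2 : (u i + v) ^ 2 = 0 := by nlinarith [sq_nonneg (u i), sq_nonneg (u i + v)]
    exact ⟨pow_eq_zero_iff (two_ne_zero) |>.mp e1, pow_eq_zero_iff (two_ne_zero) |>.mp e2⟩
  obtain ⟨i, hi⟩ := h2
  obtain ⟨e1, e2⟩ := hu i hi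
  refine ⟨fun j => ?_, by omega⟩
  by_cases hj : j = i₀
  · rw [hj, h₀]
  · exact (hu j hj).1

/-- One row of the image of a sum of characters whose two columns differ by `δ`. -/
theorem s10_row_cost (x δ p : ℤ) (hp : 3 ≤ p) (hδ : δ = 1 ∨ δ = -1) :
    1 ≤ (p - 1) * x ^ 2 + (x + δ) ^ 2 ∧
      ((p - 1) * x ^ 2 + (x + δ) ^ 2 ≤ 1 → x = 0) := by
  have hδ2 : δ ^ 2 = 1 := by rcases hδ with rfl | rfl <;> rfl
  have key : x ≠ 0 → 1 < (p - 1) * x ^ 2 + (x + δ) ^ 2 := by
    intro hx
    have : 1 ≤ x ^ 2 := by nlinarith [Int.one_le_abs hx, sq_abs x, abs_nonneg x]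
    nlinarith [sq_nonneg (x + δ)]
  by_cases hx : x = 0
  · subst hx
    exact ⟨by rw [zero_add, hδ2]; norm_num, fun _ => rfl⟩
  · exact ⟨(key hx).le, fun h => absurd h (not_le.mpr (key hx))⟩

/-- A sum of a function invariant under an involution with a single fixed point has the parity of
its value there. -/
theorem s10_sum_parity (u : I → ℤ) (inv : I → I) (hinv : ∀ i, inv (inv i) = i) {i₀ : I}
    (hfix : ∀ i, inv i = i ↔ i = i₀) (hu : ∀ i, u (inv i) = u i) :
    (2 : ℤ) ∣ (∑ i, u i) - u i₀ := by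
  classical
  rw [show (2 : ℤ) = ((2 : ℕ) : ℤ) from rfl,
    ← ZMod.intCast_eq_intCast_iff_dvd_sub (a := u i₀) (c := 2) (b := ∑ i, u i),
    Int.cast_sum, ← Finset.add_sum_erase _ _ (Finset.mem_univ i₀)]
  have h0 : inv i₀ = i₀ := (hfix i₀).mpr rfl
  have hsum : ∑ i ∈ Finset.univ.erase i₀, ((u i : ℤ) : ZMod 2) = 0 := by
    refine Finset.sum_involution (fun i _ => inv i) (fun i _ => ?_) (fun i hi _ => ?_)
      (fun i hi => ?_) fun i _ => hinv i
    · rw [hu, ← two_mul]
      rw [show (2 : ZMod 2) = 0 from rfl, zero_mul]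
    · exact fun e => (Finset.mem_erase.mp hi).1 ((hfix i).mp e)
    · refine Finset.mem_erase.mpr ⟨fun e => (Finset.mem_erase.mp hi).1 ?_, Finset.mem_univ _⟩
      rw [← hinv i, e, h0]
  rw [hsum, add_zero]

/-- The estimate on the image of the principal column minus `ζ`: with coefficients `1 + u` in the
trivial column and `u + v` in the others, a sum of squares at most `q` forces the trivial solution
unless the column sum `b` is nonzero, and then the sum of squares is at least `p`. -/
theorem s10_beta_case (u : I → ℤ) (v p q : ℤ) (hp : 3 ≤ p) (hq : (Fintype.card I : ℤ) = q)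
    (inv : I → I) (hinv : ∀ i, inv (inv i) = i) {i₀ : I} (hfix : ∀ i, inv i = i ↔ i = i₀)
    (hu : ∀ i, u (inv i) = u i) (h₀ : u i₀ = 0) {T : ℤ}
    (hT : T = ∑ i, ((1 + u i) ^ 2 + (p - 1) * (u i + v) ^ 2)) (hTq : T ≤ q) :
    ((∀ i, u i = 0) ∧ v = 0 ∧ T = q) ∨ ((∑ i, u i) + q * v ≠ 0 ∧ p ≤ T) := by
  classical
  by_cases hb : (∑ i, u i) + q * v = 0
  · left
    have hexp : T = q * (1 - v) ^ 2 + p * ∑ i, (u i + v) ^ 2 := by
      have e : ∀ i, (1 + u i) ^ 2 + (p - 1) * (u i + v) ^ 2 =
          (1 - v) ^ 2 + 2 * (1 - v) * (u i + v) + p * (u i + v) ^ 2 := fun i => by ring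
      rw [hT]
      simp only [e, Finset.sum_add_distrib, ← Finset.mul_sum, Finset.sum_const, Finset.card_univ,
        nsmul_eq_mul]
      rw [hq]
      linear_combination 2 * (1 - v) * hb
    have hx0 : 0 ≤ ∑ i, (u i + v) ^ 2 := Finset.sum_nonneg fun i _ => sq_nonneg _
    have hx1 : v ^ 2 ≤ ∑ i, (u i + v) ^ 2 := by
      have := Finset.single_le_sum (f := fun i => (u i + v) ^ 2) (fun i _ => sq_nonneg _)
        (Finset.mem_univ i₀)
      simpa [h₀] using this
    have hq0 : 0 ≤ q := hq ▸ Int.natCast_nonneg _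
    have hv1 : v = 0 ∨ v = 1 := by
      by_contra h
      push Not at h
      obtain ⟨ha, hb'⟩ := h
      have h1 : 1 ≤ (1 - v) ^ 2 := by
        nlinarith [Int.one_le_abs (show (1 - v : ℤ) ≠ 0 by omega), sq_abs (1 - v),
          abs_nonneg (1 - v)]
      have h2 : 1 ≤ v ^ 2 := by nlinarith [Int.one_le_abs ha, sq_abs v, abs_nonneg v]
      nlinarith
    rcases hv1 with rfl | rfl
    · have hz : ∑ i, (u i + 0) ^ 2 = 0 := by nlinarith
      have hu0 : ∀ i, u i = 0 := fun i => by
        have := (Finset.sum_eq_zero_iff_of_nonneg fun i _ => sq_nonneg (u i + 0)).mp hz i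
          (Finset.mem_univ i)
        simpa using this
      refine ⟨hu0, rfl, ?_⟩
      rw [hexp, hz]
      ring
    · exfalso
      have hodd := s10_sum_parity (fun i => u i + 1) inv hinv hfix fun i => by simp [hu]
      rw [Finset.sum_add_distrib, Finset.sum_const, Finset.card_univ, nsmul_eq_mul, hq,
        h₀] at hodd
      simp only [mul_one, zero_add] at hodd hb
      rw [hb] at hodd
      omega
  · right
    refine ⟨hb, ?_⟩
    rw [hT, Finset.sum_add_distrib]
    have h1 : (1 : ℤ) ≤ ∑ i, (1 + u i) ^ 2 := by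
      have := Finset.single_le_sum (f := fun i => (1 + u i) ^ 2) (fun i _ => sq_nonneg _)
        (Finset.mem_univ i₀)
      simpa [h₀] using this
    have h2 : (1 : ℤ) ≤ ∑ i, (u i + v) ^ 2 := by
      by_contra h
      have hz : ∑ i, (u i + v) ^ 2 = 0 := by
        have := Finset.sum_nonneg (s := (Finset.univ : Finset I)) fun i _ => sq_nonneg (u i + v)
        omega
      refine hb ?_
      have hz' := (Finset.sum_eq_zero_iff_of_nonneg fun i _ => sq_nonneg (u i + v)).mp hz
      have : ∑ i, (u i + v) = 0 :=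
        Finset.sum_eq_zero fun i hi => pow_eq_zero_iff (two_ne_zero) |>.mp (hz' i hi)
      rw [Finset.sum_add_distrib, Finset.sum_const, Finset.card_univ, nsmul_eq_mul, hq] at this
      exact this
    rw [← Finset.mul_sum]
    nlinarith

end Cfsg.Agent.PF
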