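import Cfsg.Agent.OddChar.PF.S10Maps

/-!
# Section 10: the differences `α = μ (φ ψ) - δ μ φ - n ζ` and `β = μ₀ - ζ`

`Y` is a set of irreducible members of degree `q` with a map `z` that is isometric and agrees with
the Dade map on differences.
-/

set_option linter.unusedSectionVars false
set_option linter.unusedVariables false
set_option linter.style.haveILetI false
set_option autoImplicit false

universe u

namespace Cfsg.Agent.PF

open Cfsg.Lib.Chars Cfsg.Lib.CyclicTI Cfsg.Lib.Coherence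
open scoped ComplexConjugate

namespace Setup10

variable {G : Type u} [Group G] [Fintype G] {M K W₁ W₂ : Subgroup G} [Fintype M]

local notation "W" => (W₁ ⊔ W₂ : Subgroup G)

/-- The degree `d`, the multiplicity `n` and the sign `e` of the nontrivial columns. -/
structure Deg (c : Setup10 M K W₁ W₂) (d n : ℕ) (e : ℤ) : Prop where
  sign : e = 1 ∨ e = -1
  eq : (d : ℤ) = e + n * Nat.card W₁
  one_lt : 1 < d
  pos : 0 < n
  apply : ∀ ψ ∈ c.cols, c.μ ψ 1 = (d : ℂ) ∧ c.δ ψ = (e : ℂ)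

/-- Irreducible members of degree `q` with a coherent map. -/
structure Base (c : Setup10 M K W₁ W₂) (Y : Finset (↥M → ℂ)) (z : (↥M → ℂ) → (G → ℂ)) : Prop where
  mem : ∀ χ ∈ Y, χ ∈ Cfsg.inducedIrrAbove (K.subgroupOf M) ⊥
  irr : ∀ χ ∈ Y, Cfsg.IsIrrCharacter ↥M χ
  deg : ∀ χ ∈ Y, χ 1 = (Nat.card W₁ : ℂ)
  closed : ∀ χ ∈ Y, Cfsg.conjFun χ ∈ Y
  gen : ∀ χ ∈ Y, Cfsg.IsGeneralizedCharacter G (z χ)
  norm : ∀ χ ∈ Y, Cfsg.classInner (z χ) (z χ) = 1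
  ortho : ∀ χ ∈ Y, ∀ χ' ∈ Y, χ ≠ χ' → Cfsg.classInner (z χ) (z χ') = 0
  diff : ∀ χ ∈ Y, ∀ χ' ∈ Y, c.τ (χ - χ') = z χ - z χ'
  eta : ∀ χ ∈ Y, ∀ ω, Cfsg.classInner (z χ) (c.η ω) = 0

/-- The function `α` of a row, a column and a member of `Y`. -/
noncomputable def alpha (c : Setup10 M K W₁ W₂) (n : ℕ) (e : ℤ) (φ ψ : ↥W →* ℂˣ)
    (ζ : ↥M → ℂ) : ↥M → ℂ :=
  c.μ (φ * ψ) - (e : ℂ) • c.μ φ - (n : ℂ) • ζ

/-- The principal column less `ζ`. -/
noncomputable def beta (c : Setup10 M K W₁ W₂) (ζ : ↥M → ℂ) : ↥M → ℂ := redChar c.μ 1 - ζ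

variable (c : Setup10 M K W₁ W₂) {d n : ℕ} {e : ℤ}
include c

theorem exists_Deg : ∃ (d n : ℕ) (e : ℤ), c.Deg d n e := by
  obtain ⟨d, n, e, h1, h2, h3, h4, h5⟩ := c.exists_deg
  exact ⟨d, n, e, h1, h2, h3, h4, h5⟩

/-! ### Membership and supports -/

theorem member_class {χ : ↥M → ℂ} (hχ : χ ∈ Cfsg.inducedIrrAbove (K.subgroupOf M) ⊥) :
    Cfsg.IsClassFunction ↥M χ := isClassFunction_isChar (c.system.isCharacter χ hχ)

theorem member_gen {χ : ↥M → ℂ} (hχ : χ ∈ Cfsg.inducedIrrAbove (K.subgroupOf M) ⊥) :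
    Cfsg.IsGeneralizedCharacter ↥M χ := IsCharacter.isGeneralized (c.system.isCharacter χ hχ)

theorem supp_member_sub {χ χ' : ↥M → ℂ} (hχ : χ ∈ Cfsg.inducedIrrAbove (K.subgroupOf M) ⊥)
    (hχ' : χ' ∈ Cfsg.inducedIrrAbove (K.subgroupOf M) ⊥) (a b : ℂ) (h1 : a * χ 1 = b * χ' 1) :
    c.Supp (a • χ - b • χ') :=
  c.supp_of_K (by simp [h1]) fun l hl => by simp [c.vanish_off hχ hl, c.vanish_off hχ' hl]

theorem supp_sub {χ χ' : ↥M → ℂ} (hχ : χ ∈ Cfsg.inducedIrrAbove (K.subgroupOf M) ⊥)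
    (hχ' : χ' ∈ Cfsg.inducedIrrAbove (K.subgroupOf M) ⊥) (h1 : χ 1 = χ' 1) :
    c.Supp (χ - χ') := by
  simpa using c.supp_member_sub hχ hχ' 1 1 (by rw [h1])

theorem mu_mul_one (φ : ↥W →* ℂˣ) : c.μ (φ * 1) = c.μ φ := by rw [hom_mul_one]

theorem mu_eq_of_W₁ {φ ψ : ↥W →* ℂˣ} (hφ : φ ∈ c.rows) (hψ : OnSecond ψ) (l : M) (w : ↥W)
    (hlw : (l : G) = (w : G)) (hw1 : (w : G) ∈ W₁) (hw2 : (w : G) ∉ W₂) :
    c.μ (φ * ψ) l = c.δ ψ * c.μ φ l := by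
  rw [c.chars.apply_off _ l w hlw hw2, c.chars.apply_off φ l w hlw hw2, c.delta_col hφ,
    c.delta_row hφ, one_mul, MonoidHom.mul_apply, hψ w hw1, mul_one]

theorem alpha_class (φ ψ : ↥W →* ℂˣ) {ζ : ↥M → ℂ}
    (hζ : ζ ∈ Cfsg.inducedIrrAbove (K.subgroupOf M) ⊥) :
    Cfsg.IsClassFunction ↥M (c.alpha n e φ ψ ζ) := fun l x => by
  simp [alpha, c.mu_class _ l x, c.member_class hζ l x]

theorem alpha_gen (φ ψ : ↥W →* ℂˣ) {ζ : ↥M → ℂ}
    (hζ : ζ ∈ Cfsg.inducedIrrAbove (K.subgroupOf M) ⊥) :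
    Cfsg.IsGeneralizedCharacter ↥M (c.alpha n e φ ψ ζ) := by
  rw [alpha, Int.cast_smul_eq_zsmul ℂ e, show ((n : ℂ) • ζ) = ((n : ℤ) • ζ) by
    rw [← Int.cast_smul_eq_zsmul ℂ (n : ℤ), Int.cast_natCast]]
  exact IsGeneralizedCharacter.sub (IsGeneralizedCharacter.sub
    (IsCharacter.isGeneralized (isCharacter_of_irr (c.chars.irr _)))
    (IsGeneralizedCharacter.zsmul (IsCharacter.isGeneralized (isCharacter_of_irr (c.chars.irr _))) e))
    (IsGeneralizedCharacter.zsmul (c.member_gen hζ) _)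

theorem alpha_supp (hd : c.Deg d n e) {φ ψ : ↥W →* ℂˣ} (hφ : φ ∈ c.rows) (hψ : ψ ∈ c.cols)
    {ζ : ↥M → ℂ} (hζ : ζ ∈ Cfsg.inducedIrrAbove (K.subgroupOf M) ⊥)
    (hζ1 : ζ 1 = (Nat.card W₁ : ℂ)) : c.Supp (c.alpha n e φ ψ ζ) := by
  intro l hl
  by_cases hlK : (l : G) ∈ K
  · have h1 : l = 1 := by
      by_contra h
      exact hl (c.pd.A_subset_A₀ ⟨hlK, fun h' => h (Subtype.ext h')⟩)
    subst h1
    simp only [alpha, Pi.sub_apply, Pi.smul_apply, smul_eq_mul, c.mu_apply_one_col hφ,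
      (hd.apply ψ hψ).1, c.mu_row_one hφ, hζ1]
    have := congrArg (Int.cast : ℤ → ℂ) hd.eq
    push_cast at this
    linear_combination this
  · obtain ⟨m, hm, w, hw, hw2, he⟩ := c.exists_conj_off l.2 hlK
    have hw1 : w ∈ W₁ := by
      by_contra hw1
      exact hl (he ▸ c.pd.V_subset m hm w hw hw1 hw2)
    have hconj : l = (⟨m, hm⟩ : M) * ⟨w, c.W_le hw⟩ * (⟨m, hm⟩ : M)⁻¹ := Subtype.ext he
    have hwK : ((⟨w, c.W_le hw⟩ : M) : G) ∉ K := c.not_K_of_off (w := ⟨w, hw⟩) hw2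
    rw [hconj, c.alpha_class φ ψ hζ]
    simp only [alpha, Pi.sub_apply, Pi.smul_apply, smul_eq_mul, c.vanish_off hζ hwK,
      c.mu_eq_of_W₁ hφ (c.mem_cols.mp hψ).1 ⟨w, c.W_le hw⟩ ⟨w, hw⟩ rfl hw1 hw2,
      (hd.apply ψ hψ).2]
    ring

theorem beta_class {ζ : ↥M → ℂ} (hζ : ζ ∈ Cfsg.inducedIrrAbove (K.subgroupOf M) ⊥) :
    Cfsg.IsClassFunction ↥M (c.beta ζ) := fun l x => by
  simp [beta, c.redChar_eq, Finset.sum_apply, c.mu_class _ l x, c.member_class hζ l x]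

theorem beta_gen {ζ : ↥M → ℂ} (hζ : ζ ∈ Cfsg.inducedIrrAbove (K.subgroupOf M) ⊥) :
    Cfsg.IsGeneralizedCharacter ↥M (c.beta ζ) := by
  rw [beta, c.red_ind 1 onSecond_one]
  exact IsGeneralizedCharacter.sub (IsCharacter.isGeneralized
    (IsCharacter.indFun (isCharacter_of_irr (c.chars.res_irr 1)))) (c.member_gen hζ)

theorem beta_supp {ζ : ↥M → ℂ} (hζ : ζ ∈ Cfsg.inducedIrrAbove (K.subgroupOf M) ⊥)
    (hζ1 : ζ 1 = (Nat.card W₁ : ℂ)) : c.Supp (c.beta ζ) := by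
  haveI := c.normal
  refine c.supp_of_K ?_ fun l hl => ?_
  · simp [beta, c.redChar_one, c.mu_one, hζ1]
  · rw [beta, Pi.sub_apply, c.red_ind 1 onSecond_one, c.vanish_off hζ hl,
      indFun_normal_not_mem _ _ (show l ∉ K.subgroupOf M from hl), sub_zero]

theorem diff_cols (hd : c.Deg d n e) {ψ ψ' : ↥W →* ℂˣ} (hψ : ψ ∈ c.cols) (hψ' : ψ' ∈ c.cols) :
    c.Supp (redChar c.μ ψ - redChar c.μ ψ') ∧
      c.τ (redChar c.μ ψ - redChar c.μ ψ') = (e : ℂ) • (c.colSum ψ - c.colSum ψ') := by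
  classical
  have h := fun φ (hφ : φ ∈ c.rows) => c.image_col φ ψ ψ' (c.mem_rows.mp hφ) (c.mem_cols.mp hψ).1
    (c.mem_cols.mp hψ').1 (c.mem_cols.mp hψ).2 (c.mem_cols.mp hψ').2
    (by rw [c.mu_apply_one_col hφ, c.mu_apply_one_col hφ, (hd.apply ψ hψ).1, (hd.apply ψ' hψ').1])
  rw [c.redChar_eq, c.redChar_eq, ← Finset.sum_sub_distrib]
  refine ⟨fun l hl => ?_, ?_⟩
  · rw [Finset.sum_apply]
    exact Finset.sum_eq_zero fun φ hφ => (h φ hφ).2.1 l hl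
  · rw [colSum, colSum, ← Finset.sum_sub_distrib, Finset.smul_sum]
    have hlin : ∀ s : Finset (↥W →* ℂˣ), ∀ f : (↥W →* ℂˣ) → (↥M → ℂ),
        c.τ (∑ φ ∈ s, f φ) = ∑ φ ∈ s, c.τ (f φ) := by
      intro s f
      induction s using Finset.induction_on with
      | empty => have := c.tau_zsmul 0 0; simpa using this
      | insert a s ha ih => rw [Finset.sum_insert ha, Finset.sum_insert ha, c.tau_add, ih]
    rw [hlin]
    refine Finset.sum_congr rfl fun φ hφ => ?_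
    rw [← (hd.apply ψ hψ).2]
    exact (h φ hφ).2.2

/-! ### Inner products on `M` -/

theorem mu_inner_member_sub {ω : ↥W →* ℂˣ} {χ χ' : ↥M → ℂ}
    (hχ : χ ∈ Cfsg.inducedIrrAbove (K.subgroupOf M) ⊥) (hirr : Cfsg.IsIrrCharacter ↥M χ)
    (hχ' : χ' ∈ Cfsg.inducedIrrAbove (K.subgroupOf M) ⊥) (hirr' : Cfsg.IsIrrCharacter ↥M χ') :
    Cfsg.classInner (c.μ ω) (χ - χ') = 0 := by
  rw [classInner_sub_right, c.mu_inner_irr hχ hirr, c.mu_inner_irr hχ' hirr', sub_zero]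

theorem alpha_inner_irr {φ ψ : ↥W →* ℂˣ} {ζ χ : ↥M → ℂ} [Decidable (ζ = χ)]
    (hζ : Cfsg.IsIrrCharacter ↥M ζ) (hχ : χ ∈ Cfsg.inducedIrrAbove (K.subgroupOf M) ⊥)
    (hirr : Cfsg.IsIrrCharacter ↥M χ) :
    Cfsg.classInner (c.alpha n e φ ψ ζ) χ = if ζ = χ then -(n : ℂ) else 0 := by
  classical
  rw [alpha, classInner_sub_left, classInner_sub_left, classInner_smul_left,
    classInner_smul_left, c.mu_inner_irr hχ hirr, c.mu_inner_irr hχ hirr,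
    classInner_irrChar hζ hirr]
  split_ifs with h1 <;> simp_all

theorem alpha_inner_redChar {φ ψ ψ' : ↥W →* ℂˣ} (hφ : φ ∈ c.rows) (hψ : ψ ∈ c.cols)
    (hψ' : ψ' ∈ c.cols) {ζ : ↥M → ℂ} (hζ : ζ ∈ Cfsg.inducedIrrAbove (K.subgroupOf M) ⊥)
    (hirr : Cfsg.IsIrrCharacter ↥M ζ) [Decidable (ψ' = ψ)] :
    Cfsg.classInner (c.alpha n e φ ψ ζ) (redChar c.μ ψ') = if ψ' = ψ then 1 else 0 := by
  classical
  rw [alpha, classInner_sub_left, classInner_sub_left, classInner_smul_left,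
    classInner_smul_left, c.mu_inner_redChar hφ (c.mem_cols.mp hψ).1 (c.mem_cols.mp hψ').1,
    c.irr_inner_redChar hζ hirr hψ', ← hom_mul_one φ,
    c.mu_inner_redChar hφ onSecond_one (c.mem_cols.mp hψ').1, if_neg (c.mem_cols.mp hψ').2]
  simp

theorem alpha_norm {φ ψ : ↥W →* ℂˣ} (hφ : φ ∈ c.rows) (hψ : ψ ∈ c.cols) (he : e = 1 ∨ e = -1)
    {ζ : ↥M → ℂ} (hζ : ζ ∈ Cfsg.inducedIrrAbove (K.subgroupOf M) ⊥)
    (hirr : Cfsg.IsIrrCharacter ↥M ζ) :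
    Cfsg.classInner (c.alpha n e φ ψ ζ) (c.alpha n e φ ψ ζ) = 2 + (n : ℂ) ^ 2 := by
  classical
  have hne : φ * ψ ≠ φ := fun h => (c.mem_cols.mp hψ).2
    ((c.eta_mul_eq hφ hφ (c.mem_cols.mp hψ).1 onSecond_one).mp (h.trans (hom_mul_one φ).symm)).2
  have h1 : ∀ ω, Cfsg.classInner ζ (c.μ ω) = 0 := fun ω => by
    rw [← classInner_conj_symm, c.mu_inner_irr hζ hirr, map_zero]
  simp only [alpha, classInner_sub_left, classInner_sub_right, classInner_smul_left,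
    classInner_smul_right, h1, c.mu_inner_irr hζ hirr, c.mu_inner, classInner_self_irr hirr,
    if_neg hne, if_neg hne.symm, if_pos, map_intCast, map_natCast]
  rcases he with rfl | rfl <;> push_cast <;> ring

theorem beta_inner_irr {ζ χ : ↥M → ℂ} [Decidable (ζ = χ)] (hζ : Cfsg.IsIrrCharacter ↥M ζ)
    (hχ : χ ∈ Cfsg.inducedIrrAbove (K.subgroupOf M) ⊥) (hirr : Cfsg.IsIrrCharacter ↥M χ) :
    Cfsg.classInner (c.beta ζ) χ = if ζ = χ then -1 else 0 := by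
  classical
  rw [beta, classInner_sub_left, c.redChar_eq, classInner_sum_left,
    Finset.sum_eq_zero fun φ _ => c.mu_inner_irr hχ hirr (φ * 1), classInner_irrChar hζ hirr]
  split_ifs with h1 <;> simp_all

theorem beta_inner_redChar {ζ : ↥M → ℂ} {ψ : ↥W →* ℂˣ} (hψ : ψ ∈ c.cols)
    (hζ : ζ ∈ Cfsg.inducedIrrAbove (K.subgroupOf M) ⊥) (hirr : Cfsg.IsIrrCharacter ↥M ζ) :
    Cfsg.classInner (c.beta ζ) (redChar c.μ ψ) = 0 := by
  classical
  rw [beta, classInner_sub_left, c.irr_inner_redChar hζ hirr hψ,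
    c.redChar_inner onSecond_one (c.mem_cols.mp hψ).1, if_neg (c.mem_cols.mp hψ).2, sub_zero]

theorem beta_norm {ζ : ↥M → ℂ} (hζ : ζ ∈ Cfsg.inducedIrrAbove (K.subgroupOf M) ⊥)
    (hirr : Cfsg.IsIrrCharacter ↥M ζ) :
    Cfsg.classInner (c.beta ζ) (c.beta ζ) = (Nat.card W₁ : ℂ) + 1 := by
  classical
  have h1 : Cfsg.classInner (redChar c.μ 1) ζ = 0 := by
    rw [c.redChar_eq, classInner_sum_left]
    exact Finset.sum_eq_zero fun φ _ => c.mu_inner_irr hζ hirr _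
  have h2 : Cfsg.classInner ζ (redChar c.μ 1) = 0 := by rw [← classInner_conj_symm, h1, map_zero]
  rw [beta, classInner_sub_left, classInner_sub_right, classInner_sub_right, h1, h2,
    c.redChar_inner onSecond_one onSecond_one, classInner_self_irr hirr, if_pos rfl]
  ring

theorem alpha_inner_one {φ ψ : ↥W →* ℂˣ} (hφ : φ ∈ c.rows) (hψ : ψ ∈ c.cols) {ζ : ↥M → ℂ}
    (hζ : ζ ∈ Cfsg.inducedIrrAbove (K.subgroupOf M) ⊥) (hirr : Cfsg.IsIrrCharacter ↥M ζ)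
    [Decidable (φ = 1)] :
    Cfsg.classInner (c.alpha n e φ ψ ζ) (fun _ => 1) = if φ = 1 then -(e : ℂ) else 0 := by
  classical
  have hne : φ * ψ ≠ 1 := fun h => (c.mem_cols.mp hψ).2
    ((c.eta_mul_eq hφ c.one_mem_rows (c.mem_cols.mp hψ).1 onSecond_one).mp
      (h.trans (hom_mul_one 1).symm)).2
  rw [← c.mu_one, alpha, classInner_sub_left, classInner_sub_left, classInner_smul_left,
    classInner_smul_left, c.mu_inner, c.mu_inner, if_neg hne, ← classInner_conj_symm (c.μ 1) ζ,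
    c.mu_inner_irr hζ hirr, map_zero]
  split_ifs <;> simp

theorem beta_inner_one {ζ : ↥M → ℂ} (hζ : ζ ∈ Cfsg.inducedIrrAbove (K.subgroupOf M) ⊥)
    (hirr : Cfsg.IsIrrCharacter ↥M ζ) : Cfsg.classInner (c.beta ζ) (fun _ => 1) = 1 := by
  classical
  rw [← c.mu_one, beta, classInner_sub_left, ← classInner_conj_symm (c.μ 1) ζ,
    c.mu_inner_irr hζ hirr,
    c.redChar_eq, classInner_sum_left, Finset.sum_eq_single (1 : ↥W →* ℂˣ)]
  · rw [hom_one_mul, c.mu_inner, if_pos rfl, map_zero, sub_zero]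
  · intro φ _ hne
    rw [c.mu_inner, if_neg (by rwa [hom_mul_one])]
  · exact fun h => absurd c.one_mem_rows h

end Setup10

end Cfsg.Agent.PF
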