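import Cfsg.Agent.OddChar.PrimeCyclicChars
import Cfsg.Agent.Chars.Extraspecial

/-!
# The irreducible characters over a linear character of a central subgroup
-/

set_option linter.unusedSectionVars false
set_option linter.style.haveILetI false
set_option autoImplicit false

universe u

namespace Cfsg.Agent.PF.CentralSums

open Cfsg.Lib.Chars Cfsg.Lib.PrimeCyclic
open scoped ComplexConjugate

variable {G : Type u} [Group G] [Fintype G] (Z : Subgroup G) [Fintype Z]

/-- An irreducible character is a multiple of a linear character on a central subgroup. -/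
theorem exists_hom (hZ : Z ≤ Subgroup.center G) {θ : G → ℂ} (hθ : Cfsg.IsIrrCharacter G θ) :
    ∃ l : Z →* ℂˣ, ∀ z : Z, θ z = θ 1 * (l z : ℂ) := by
  have h1 := IsIrrCharacter.apply_one_ne_zero hθ
  have hmul : ∀ z w : Z, θ ((z : G) * w) * θ 1 = θ z * θ w := fun z w =>
    center_mul_of_irr hθ (hZ z.2) w
  have hne : ∀ z : Z, θ z ≠ 0 := fun z h0 => h1 (by
    have h := hmul z z⁻¹
    rw [Subgroup.coe_inv, mul_inv_cancel, h0, zero_mul] at h
    exact (mul_self_eq_zero).mp h)
  refine ⟨MonoidHom.mk' (fun z => Units.mk0 (θ z / θ 1) (div_ne_zero (hne z) h1)) fun z w => ?_,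
    fun z => ?_⟩
  · refine Units.ext ?_
    simp only [Units.val_mk0, Units.val_mul, Subgroup.coe_mul]
    rw [div_mul_div_comm, ← hmul z w, mul_div_mul_right _ _ h1]
  · simp only [MonoidHom.mk'_apply, Units.val_mk0]
    rw [mul_div_cancel₀ _ h1]

open Classical in
/-- The irreducible characters whose restriction to `Z` is a multiple of `l`. -/
noncomputable def lying (l : Z →* ℂˣ) : Finset (Cfsg.IrrCharacter G) :=
  Finset.univ.filter fun θ => ∀ z : Z, (θ : G → ℂ) z = (θ : G → ℂ) 1 * (l z : ℂ)

theorem mem_lying {l : Z →* ℂˣ} {θ : Cfsg.IrrCharacter G} :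
    θ ∈ lying Z l ↔ ∀ z : Z, (θ : G → ℂ) z = (θ : G → ℂ) 1 * (l z : ℂ) := by
  simp [lying]

open Classical in
/-- The coefficients of the induced character. -/
theorem inner_indFun_lin (hZ : Z ≤ Subgroup.center G) (l : Z →* ℂˣ) (θ : Cfsg.IrrCharacter G) :
    Cfsg.classInner (Cfsg.indFun Z fun z => (l z : ℂ)) (θ : G → ℂ) =
      if θ ∈ lying Z l then (deg (θ : G → ℂ) : ℂ) else 0 := by
  obtain ⟨m, hm⟩ := exists_hom Z hZ θ.2
  have hd := IsCharacter.apply_one_eq_deg (isCharacter_of_irr θ.2)
  rw [frobenius_reciprocity Z _ (isClassFunction_irr θ),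
    show (fun z : Z => (θ : G → ℂ) z) = (deg (θ : G → ℂ) : ℂ) • fun z : Z => (m z : ℂ) from
      funext fun z => by rw [hm z, hd]; rfl,
    classInner_smul_right, Complex.conj_natCast, inner_lin]
  have hiff : θ ∈ lying Z l ↔ l = m := by
    rw [mem_lying]
    refine ⟨fun h => MonoidHom.ext fun z => Units.ext ?_, fun h => h ▸ hm⟩
    exact mul_left_cancel₀ (IsIrrCharacter.apply_one_ne_zero θ.2) ((h z).symm.trans (hm z))
  by_cases h : l = m
  · rw [if_pos h, if_pos (hiff.mpr h), mul_one]
  · rw [if_neg h, if_neg (mt hiff.mp h), mul_zero]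

/-- The squares of the degrees over `l` sum to the index. -/
theorem sum_deg_sq_lying (hZ : Z ≤ Subgroup.center G) (l : Z →* ℂˣ) :
    ∑ θ ∈ lying Z l, deg (θ : G → ℂ) ^ 2 = Z.index := by
  classical
  have h := classFunction_expand_apply (isClassFunction_indFun (G := G) Z fun z => (l z : ℂ)) 1
  rw [indFun_one] at h
  simp only [map_one, Units.val_one, mul_one, inner_indFun_lin Z hZ l, ite_mul, zero_mul,
    Finset.sum_ite_mem, Finset.univ_inter] at h
  apply Nat.cast_injective (R := ℂ)
  rw [h, Nat.cast_sum]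
  refine Finset.sum_congr rfl fun θ _ => ?_
  rw [IsCharacter.apply_one_eq_deg (isCharacter_of_irr θ.2), Nat.cast_pow, sq]

/-- The multiplicity of `l` in the restriction of a class function. -/
theorem inner_restrict (hZ : Z ≤ Subgroup.center G) (l : Z →* ℂˣ) {f : G → ℂ}
    (hf : Cfsg.IsClassFunction G f) :
    Cfsg.classInner (fun z : Z => f z) (fun z => (l z : ℂ)) =
      ∑ θ ∈ lying Z l, (deg (θ : G → ℂ) : ℂ) * Cfsg.classInner f (θ : G → ℂ) := by
  classical
  rw [← frobenius_reciprocity' Z _ hf,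
    classFunction_expand (isClassFunction_indFun (G := G) Z fun z => (l z : ℂ)), classInner_sum_right]
  simp only [classInner_smul_right, inner_indFun_lin Z hZ l, apply_ite (starRingEnd ℂ),
    Complex.conj_natCast, map_zero, ite_mul, zero_mul, Finset.sum_ite_mem, Finset.univ_inter]

section Comm

variable {A : Type u} [Group A] [Fintype A]

/-- A function on an abelian group with equal coefficients at the non-trivial characters is
constant off `1`. -/
theorem const_of_coeff (hA : ∀ a b : A, a * b = b * a) {f : A → ℂ} {b : ℂ}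
    (h : ∀ l : A →* ℂˣ, l ≠ 1 → Cfsg.classInner f (fun a => (l a : ℂ)) = b) {y y' : A}
    (hy : y ≠ 1) (hy' : y' ≠ 1) : f y = f y' := by
  classical
  have key : ∀ a : A, a ≠ 1 → f a = Cfsg.classInner f (fun _ => (1 : ℂ)) - b := by
    intro a ha
    obtain ⟨g, hg⟩ := exists_lin_ne_one hA ha
    have hsum : ∑ l : A →* ℂˣ, (l a : ℂ) = 0 := by
      have e : ∑ l : A →* ℂˣ, (l a : ℂ) = (g a : ℂ) * ∑ l : A →* ℂˣ, (l a : ℂ) := by
        rw [Finset.mul_sum]
        refine (Fintype.sum_equiv (Equiv.mulLeft g) _ _ fun l => ?_).symm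
        simp
      have h2 : ((g a : ℂ) - 1) * ∑ l : A →* ℂˣ, (l a : ℂ) = 0 := by
        linear_combination -e
      exact (mul_eq_zero.mp h2).resolve_left
        (sub_ne_zero.mpr fun e' => hg (Units.ext e'))
    rw [lin_expand hA f a, ← Finset.add_sum_erase _ _ (Finset.mem_univ (1 : A →* ℂˣ)),
      Finset.sum_congr rfl fun l hl => by rw [h l (Finset.mem_erase.mp hl).1],
      ← Finset.mul_sum]
    rw [← Finset.add_sum_erase _ _ (Finset.mem_univ (1 : A →* ℂˣ))] at hsum
    simp only [MonoidHom.one_apply, Units.val_one, mul_one] at hsum ⊢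
    linear_combination b * hsum
  rw [key y hy, key y' hy']

/-- The coefficients of a function constant off `1`. -/
theorem coeff_of_const {f : A → ℂ} {v : ℂ} (h : ∀ a : A, a ≠ 1 → f a = v) {l : A →* ℂˣ}
    (hl : l ≠ 1) :
    (Nat.card A : ℂ) * Cfsg.classInner f (fun a => (l a : ℂ)) = f 1 - v := by
  classical
  have h0 := sum_lin_mul (1 : A →* ℂˣ) l
  rw [if_neg (Ne.symm hl)] at h0
  simp only [MonoidHom.one_apply, Units.val_one, one_mul] at h0
  rw [classInner_def, ← mul_assoc, mul_inv_cancel₀ (Nat.cast_ne_zero.mpr Nat.card_pos.ne'),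
    one_mul, ← Finset.add_sum_erase _ _ (Finset.mem_univ (1 : A)),
    Finset.sum_congr rfl fun a ha => by rw [h a (Finset.mem_erase.mp ha).1], ← Finset.mul_sum]
  rw [← Finset.add_sum_erase _ _ (Finset.mem_univ (1 : A))] at h0
  simp only [map_one, Units.val_one, mul_one] at h0 ⊢
  linear_combination v * h0

end Comm

end Cfsg.Agent.PF.CentralSums
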