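import Cfsg.Agent.OddChar.PF.S10Setup

/-!
# Section 10: the characters `μ`, their degrees, and field automorphisms
-/

set_option linter.unusedSectionVars false
set_option linter.unusedVariables false
set_option linter.style.haveILetI false
set_option autoImplicit false

universe u

namespace Cfsg.Agent.PF

open Cfsg.Lib.Chars Cfsg.Lib.CyclicTI Cfsg.Lib.Dade Cfsg.Lib.Dual
open scoped ComplexConjugate

namespace Setup10

variable {G : Type u} [Group G] [Fintype G] {M K W₁ W₂ : Subgroup G} [Fintype M]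

local notation "W" => (W₁ ⊔ W₂ : Subgroup G)

/-- The characters of `W` trivial on `W₂`. -/
noncomputable def rows (_c : Setup10 M K W₁ W₂) : Finset (↥W →* ℂˣ) :=
  (Set.toFinite {φ : ↥W →* ℂˣ | OnFirst φ}).toFinset

/-- The nontrivial characters of `W` trivial on `W₁`. -/
noncomputable def cols (_c : Setup10 M K W₁ W₂) : Finset (↥W →* ℂˣ) :=
  (Set.toFinite {ψ : ↥W →* ℂˣ | OnSecond ψ ∧ ψ ≠ 1}).toFinset

variable (c : Setup10 M K W₁ W₂)
include c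

/-! ### The rows and columns -/

/-- The sum of the column `ψ` of the cyclic TI family. -/
noncomputable def colSum (ψ : ↥W →* ℂˣ) : G → ℂ := ∑ φ ∈ c.rows, c.η (φ * ψ)

/-- The Dade map of the section. -/
noncomputable abbrev τ : (↥M → ℂ) → (G → ℂ) := Cfsg.dadeIsometry c.A₀ M c.R

theorem mem_rows {φ : ↥W →* ℂˣ} : φ ∈ c.rows ↔ OnFirst φ := by simp [rows]

theorem mem_cols {ψ : ↥W →* ℂˣ} : ψ ∈ c.cols ↔ OnSecond ψ ∧ ψ ≠ 1 := by simp [cols]

theorem one_mem_rows : (1 : ↥W →* ℂˣ) ∈ c.rows := c.mem_rows.mpr onFirst_one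

theorem card_rows : c.rows.card = Nat.card W₁ := by
  rw [← card_onFirst c.hW, rows, ← Set.ncard_eq_toFinset_card _ (Set.toFinite _)]
  exact (Nat.card_coe_set_eq _).symm

theorem card_cols : c.cols.card + 1 = Nat.card W₂ := by
  classical
  haveI := Fintype.ofFinite (↥W →* ℂˣ)
  have h : c.cols.card = Fintype.card (Second W₁ W₂) := by
    rw [Fintype.card_subtype, cols]
    congr 1
    ext ψ
    simp
  rw [h, card_second c.hW]

theorem inv_mem_rows {φ : ↥W →* ℂˣ} (h : φ ∈ c.rows) : φ⁻¹ ∈ c.rows := by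
  rw [mem_rows] at h ⊢
  intro w hw
  rw [MonoidHom.inv_apply, h w hw, inv_one]

theorem inv_mem_cols {ψ : ↥W →* ℂˣ} (h : ψ ∈ c.cols) : ψ⁻¹ ∈ c.cols := by
  rw [mem_cols] at h ⊢
  refine ⟨fun w hw => ?_, fun e => h.2 (MonoidHom.ext fun w => inv_eq_one.mp (DFunLike.congr_fun e w))⟩
  rw [MonoidHom.inv_apply, h.1 w hw, inv_one]

theorem redChar_eq (ψ : ↥W →* ℂˣ) : redChar c.μ ψ = ∑ φ ∈ c.rows, c.μ (φ * ψ) := by
  rw [redChar, finsum_mem_eq_finite_toFinset_sum _ (Set.toFinite _)]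
  rfl

/-- A sum over all of the characters of `W`, by rows and columns. -/
theorem sum_grid {β : Type*} [AddCommMonoid β] [Fintype (↥W →* ℂˣ)] (f : (↥W →* ℂˣ) → β) :
    ∑ ω, f ω = ∑ φ ∈ c.rows, (f φ + ∑ ψ ∈ c.cols, f (φ * ψ)) := by
  classical
  haveI := Fintype.ofFinite {φ : ↥W →* ℂˣ // OnFirst φ}
  haveI := Fintype.ofFinite {ψ : ↥W →* ℂˣ // OnSecond ψ}
  rw [← (dualEquiv c.hW).sum_comp f, Fintype.sum_prod_type]
  show ∑ x : {φ : ↥W →* ℂˣ // OnFirst φ}, ∑ y : {ψ : ↥W →* ℂˣ // OnSecond ψ}, f (x.1 * y.1) = _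
  rw [← Finset.sum_subtype c.rows (fun φ => c.mem_rows)
      (fun φ => ∑ y : {ψ : ↥W →* ℂˣ // OnSecond ψ}, f (φ * y.1))]
  refine Finset.sum_congr rfl fun φ hφ => ?_
  rw [← Finset.sum_subtype (insert 1 c.cols) (fun ψ => ?_) (fun ψ => f (φ * ψ)),
    Finset.sum_insert (by simp [mem_cols]), hom_mul_one]
  by_cases h : ψ = 1
  · simp [h, onSecond_one]
  · simp [h, mem_cols]

theorem exists_off : ∃ a ∈ W₁, a ≠ 1 ∧ a ∉ W₂ := by
  obtain ⟨a, ha, ha1⟩ := (Subgroup.bot_or_exists_ne_one W₁).resolve_left c.hW.1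
  exact ⟨a, ha, ha1, fun h => ha1 (Subgroup.mem_bot.mp (c.hW.2.2.1 ▸ ⟨ha, h⟩))⟩

/-- A character of `W` constant off `W₂` is trivial, and the constant is `1`. -/
theorem eq_of_off {ω ω' : ↥W →* ℂˣ} {e e' : ℂ} (he : e ≠ 0)
    (h : ∀ w : ↥W, (w : G) ∉ W₂ → e * (ω w : ℂ) = e' * (ω' w : ℂ)) : ω = ω' ∧ e = e' := by
  obtain ⟨a, ha, ha1, ha2⟩ := c.exists_off
  set x : ↥W := ⟨a, Subgroup.mem_sup_left ha⟩
  set χ : ↥W →* ℂˣ := ω * ω'⁻¹ with hχ
  have hval : ∀ w : ↥W, (w : G) ∉ W₂ → (χ w : ℂ) = e' / e := by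
    intro w hw
    rw [hχ, MonoidHom.mul_apply, MonoidHom.inv_apply, Units.val_mul, Units.val_inv_eq_inv_val,
      eq_div_iff he, mul_comm, ← mul_assoc, h w hw, mul_assoc,
      mul_inv_cancel₀ (Units.ne_zero _), mul_one]
  have h2 : ∀ w : ↥W, (w : G) ∈ W₂ → χ w = 1 := by
    intro w hw
    have hxw : ((x * w : ↥W) : G) ∉ W₂ := fun hh => ha2 ((W₂.mul_mem_cancel_right hw).mp hh)
    have e1 := hval (x * w) hxw
    rw [map_mul, Units.val_mul, hval x ha2] at e1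
    have hne : e' / e ≠ 0 := by rw [← hval x ha2]; exact Units.ne_zero _
    exact Units.ext (mul_left_cancel₀ hne (e1.trans (mul_one _).symm))
  have hx2 : a * a ∉ W₂ := by
    intro hh
    have h4 : a * a = 1 := Subgroup.mem_bot.mp (c.hW.2.2.1 ▸ ⟨W₁.mul_mem ha ha, hh⟩)
    have h5 : orderOf a ∣ 2 := orderOf_dvd_of_pow_eq_one (by rw [pow_two, h4])
    have h6 : Odd (orderOf a) := c.card_facts.1.of_dvd_nat (Subgroup.orderOf_dvd_natCard W₁ ha)
    rcases (Nat.dvd_prime Nat.prime_two).mp h5 with h7 | h7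
    · exact ha1 (orderOf_eq_one_iff.mp h7)
    · rw [h7] at h6; exact absurd h6 (by decide)
  have e2 := hval (x * x) hx2
  rw [map_mul, Units.val_mul, hval x ha2] at e2
  have hne : e' / e ≠ 0 := by rw [← hval x ha2]; exact Units.ne_zero _
  have hone : e' / e = 1 := mul_left_cancel₀ hne (e2.trans (mul_one _).symm)
  refine ⟨?_, ((div_eq_one_iff_eq he).mp hone).symm⟩
  have : χ = 1 := MonoidHom.ext fun w => by
    by_cases hw : (w : G) ∈ W₂
    · exact h2 w hw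
    · exact Units.ext (by rw [hval w hw, hone]; rfl)
  exact mul_inv_eq_one.mp this

theorem δ_ne_zero (ω : ↥W →* ℂˣ) : c.δ ω ≠ 0 := by
  rcases c.chars.sign ω with h | h <;> simp [h]

theorem δ_one : c.δ 1 = 1 := c.chars.sign_one 1 fun _ _ => rfl

/-- Recognition of `μ ω` by its values off `W₂`. -/
theorem ident {θ : ↥M → ℂ} (hθ : Cfsg.IsIrrCharacter ↥M θ) {ω : ↥W →* ℂˣ} {e : ℂ} (he : e ≠ 0)
    (hval : ∀ l : M, ∀ w : ↥W, (l : G) = (w : G) → (w : G) ∉ W₂ → θ l = e * (ω w : ℂ)) :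
    θ = c.μ ω ∧ e = c.δ ω := by
  obtain ⟨a, ha, ha1, ha2⟩ := c.exists_off
  obtain ⟨ω', rfl⟩ : ∃ ω', θ = c.μ ω' := by
    by_contra hno
    push Not at hno
    have h0 := c.chars.vanish θ hθ hno ⟨a, c.W₁_le ha⟩ (Subgroup.mem_sup_left ha) ha2
    rw [hval ⟨a, c.W₁_le ha⟩ ⟨a, Subgroup.mem_sup_left ha⟩ rfl ha2] at h0
    exact mul_ne_zero he (Units.ne_zero _) h0
  obtain ⟨rfl, h⟩ := c.eq_of_off he fun w hw =>
    (hval ⟨w, c.W_le w.2⟩ w rfl hw).symm.trans (c.chars.apply_off ω' ⟨w, c.W_le w.2⟩ w rfl hw)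
  exact ⟨rfl, h⟩

theorem mu_one : c.μ 1 = fun _ => 1 :=
  ((c.ident isIrrCharacter_one one_ne_zero fun l w _ _ => by simp).1).symm

/-- Applying a field automorphism to `μ ω`. -/
theorem mu_auto (σ : ℂ ≃+* ℂ) (ω : ↥W →* ℂˣ) :
    (fun l => σ (c.μ ω l)) = c.μ (autHom σ ω) ∧ c.δ ω = c.δ (autHom σ ω) := by
  refine c.ident (IsIrrCharacter.map_auto (c.chars.irr ω) σ) (c.δ_ne_zero ω) fun l w hlw hw => ?_
  show σ (c.μ ω l) = _
  rw [c.chars.apply_off ω l w hlw hw, map_mul, autHom_apply]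
  congr 1
  rcases c.chars.sign ω with h | h <;> simp [h]

theorem mu_class (ω : ↥W →* ℂˣ) : Cfsg.IsClassFunction ↥M (c.μ ω) :=
  isClassFunction_isChar (isCharacter_of_irr (c.chars.irr ω))

theorem mu_inner (ω ω' : ↥W →* ℂˣ) [Decidable (ω = ω')] :
    Cfsg.classInner (c.μ ω) (c.μ ω') = if ω = ω' then 1 else 0 := by
  classical
  rw [classInner_irrChar (c.chars.irr ω) (c.chars.irr ω')]
  exact if_congr ⟨fun e => c.chars.injective e, fun e => congrArg c.μ e⟩ rfl rfl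

/-! ### Field automorphisms -/

theorem autHom_rows {σ : ℂ ≃+* ℂ} {φ : ↥W →* ℂˣ} (h : φ ∈ c.rows) : autHom σ φ ∈ c.rows := by
  rw [mem_rows] at h ⊢
  exact fun w hw => Units.ext (by rw [autHom_apply, h w hw]; simp)

theorem autHom_cols {σ : ℂ ≃+* ℂ} {ψ : ↥W →* ℂˣ} (h : ψ ∈ c.cols) : autHom σ ψ ∈ c.cols := by
  rw [mem_cols] at h ⊢
  exact ⟨fun w hw => Units.ext (by rw [autHom_apply, h.1 w hw]; simp),
    fun e => h.2 (autHom_injective σ (e.trans (autHom_one σ).symm))⟩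

/-- All nontrivial columns are conjugate. -/
theorem exists_auto {ψ ψ' : ↥W →* ℂˣ} (h : ψ ∈ c.cols) (h' : ψ' ∈ c.cols) :
    ∃ σ : ℂ ≃+* ℂ, autHom σ ψ = ψ' := by
  classical
  rw [mem_cols] at h h'
  haveI := Fact.mk c.p_prime
  set p := Nat.card W₂
  obtain ⟨g, hg2, hg⟩ : ∃ g : ↥W, (g : G) ∈ W₂ ∧ ψ g ≠ 1 := by
    by_contra hno
    push Not at hno
    refine h.2 (MonoidHom.ext fun w => ?_)
    rw [← pr_mul c.hW w, map_mul, h.1 _ (pr₁_mem c.hW w), hno _ (pr₂_mem c.hW w), mul_one,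
      MonoidHom.one_apply]
  have hg1 : (⟨(g : G), hg2⟩ : W₂) ≠ 1 := fun e => hg (by
    rw [show g = 1 from Subtype.ext (congrArg (fun x : W₂ => (x : G)) e), map_one])
  have hgen := zpowers_eq_top_of_prime_card (p := p) rfl hg1
  have hpow : ∀ χ : ↥W →* ℂˣ, χ g ^ p = 1 := fun χ => by
    rw [← map_pow, show g ^ p = 1 from Subtype.ext (pow_card_mem hg2), map_one]
  have hprim : IsPrimitiveRoot ((ψ g : ℂˣ) : ℂ) p := by
    have ho : orderOf ((ψ g : ℂˣ) : ℂ) = p := orderOf_eq_prime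
      (by rw [← Units.val_pow_eq_pow_val, hpow, Units.val_one]) (fun e => hg (Units.ext e))
    exact ho ▸ IsPrimitiveRoot.orderOf _
  obtain ⟨k, -, hk⟩ := hprim.eq_pow_of_pow_eq_one (ξ := ((ψ' g : ℂˣ) : ℂ)) (by
    rw [← Units.val_pow_eq_pow_val, hpow, Units.val_one])
  have hext : ∀ χ : ↥W →* ℂˣ, OnSecond χ → χ g = 1 → χ = 1 := by
    intro χ hχ hχg
    refine MonoidHom.ext fun w => ?_
    obtain ⟨m, hm⟩ := Subgroup.mem_zpowers_iff.mp
      (hgen ▸ Subgroup.mem_top (⟨(pr₂ c.hW w : G), pr₂_mem c.hW w⟩ : W₂))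
    have : pr₂ c.hW w = g ^ m := Subtype.ext (by
      have := congrArg (fun x : W₂ => (x : G)) hm
      simpa using this.symm)
    rw [← pr_mul c.hW w, map_mul, hχ _ (pr₁_mem c.hW w), this, map_zpow, hχg, one_zpow, one_mul,
      MonoidHom.one_apply]
  have hkp : k.Coprime p := (c.p_prime.coprime_iff_not_dvd.mpr fun hd => h'.2 (hext ψ' h'.1 (by
    refine Units.ext ?_
    obtain ⟨e, he⟩ := hd
    rw [← hk, he, pow_mul, hprim.pow_eq_one, one_pow]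
    rfl))).symm
  haveI : NeZero p := ⟨c.p_prime.ne_zero⟩
  obtain ⟨σ, hσ⟩ := exists_galConj_auto hkp
  refine ⟨σ, mul_inv_eq_one.mp (hext _ ?_ ?_)⟩
  · intro w hw
    rw [MonoidHom.mul_apply, MonoidHom.inv_apply, h'.1 w hw, inv_one, mul_one]
    exact Units.ext (by rw [autHom_apply, h.1 w hw]; simp)
  · rw [MonoidHom.mul_apply, MonoidHom.inv_apply, mul_inv_eq_one]
    exact Units.ext (by rw [autHom_apply, hσ _ hprim.pow_eq_one, hk])

/-- Complex conjugation as a ring automorphism. -/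
theorem autHom_conj (ω : ↥W →* ℂˣ) : autHom (starRingAut (R := ℂ)) ω = ω⁻¹ := by
  refine MonoidHom.ext fun w => Units.ext ?_
  rw [autHom_apply, MonoidHom.inv_apply, Units.val_inv_eq_inv_val, starRingAut_apply]
  have h := Cfsg.Lib.Chars.IsCharacter.conj_inv (isCharacter_linear ω) w
  rw [map_inv, Units.val_inv_eq_inv_val] at h
  exact h.symm

theorem eta_inv (ω : ↥W →* ℂˣ) : c.η ω⁻¹ = Cfsg.conjFun (c.η ω) := by
  funext g
  rw [← c.autHom_conj ω, ← family_map_auto c.hW c.odd_W c.fam]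
  rfl

theorem eta_signed (ω : ↥W →* ℂˣ) : IsSignedIrr G (c.η ω) := c.fam.irr_or_neg ω

theorem eta_gen (ω : ↥W →* ℂˣ) : Cfsg.IsGeneralizedCharacter G (c.η ω) :=
  (c.eta_signed ω).generalized

/-! ### The degrees -/

theorem mu_apply_one_col {φ ψ : ↥W →* ℂˣ} (hφ : φ ∈ c.rows) :
    c.μ (φ * ψ) 1 = c.μ ψ 1 := by
  refine c.chars.column_on_K _ _ (fun w hw => ?_) 1 (one_mem K)
  rw [MonoidHom.mul_apply, c.mem_rows.mp hφ w hw, one_mul]

theorem delta_col {φ ψ : ↥W →* ℂˣ} (hφ : φ ∈ c.rows) : c.δ (φ * ψ) = c.δ ψ := by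
  refine c.chars.sign_column _ _ fun w hw => ?_
  rw [MonoidHom.mul_apply, c.mem_rows.mp hφ w hw, one_mul]

theorem mu_row_one {φ : ↥W →* ℂˣ} (hφ : φ ∈ c.rows) : c.μ φ 1 = 1 := by
  have := c.mu_apply_one_col (ψ := 1) hφ
  rwa [hom_mul_one, c.mu_one] at this

theorem delta_row {φ : ↥W →* ℂˣ} (hφ : φ ∈ c.rows) : c.δ φ = 1 :=
  c.chars.sign_one φ fun w hw => by rw [c.mem_rows.mp hφ w hw, MonoidHom.one_apply]

theorem col_conjugate {ψ ψ' : ↥W →* ℂˣ} (h : ψ ∈ c.cols) (h' : ψ' ∈ c.cols) :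
    c.μ ψ 1 = c.μ ψ' 1 ∧ c.δ ψ = c.δ ψ' := by
  obtain ⟨σ, rfl⟩ := c.exists_auto h h'
  obtain ⟨m, -, hm⟩ := IsIrrCharacter.apply_one (c.chars.irr ψ)
  refine ⟨?_, (c.mu_auto σ ψ).2⟩
  rw [← congrFun (c.mu_auto σ ψ).1 1, hm, map_natCast]

theorem cols_nonempty : c.cols.Nonempty := by
  rw [← Finset.card_pos]
  have := c.card_cols
  have := c.p_three
  omega

theorem W₂_in_derived {v : ↥W} (hv : (v : G) ∈ W₂) :
    (⟨(v : G), c.W_le v.2⟩ : M) ∈ commutator ↥M := by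
  have h : (v : G) ∈ (commutator ↥M).map M.subtype := by
    rw [commutator_def, Subgroup.map_commutator, ← MonoidHom.range_eq_map, Subgroup.range_subtype,
      ← c.K_eq]
    exact c.W₂_le_K hv
  obtain ⟨y, hy, e⟩ := Subgroup.mem_map.mp h
  rwa [← show y = ⟨(v : G), c.W_le v.2⟩ from Subtype.ext e]

/-- The degree and the sign of the nontrivial columns. -/
theorem exists_deg : ∃ (d n : ℕ) (e : ℤ), (e = 1 ∨ e = -1) ∧ (d : ℤ) = e + n * Nat.card W₁ ∧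
    1 < d ∧ 0 < n ∧ ∀ ψ ∈ c.cols, c.μ ψ 1 = (d : ℂ) ∧ c.δ ψ = (e : ℂ) := by
  obtain ⟨ψ, hψ⟩ := c.cols_nonempty
  obtain ⟨d, hd0, hd⟩ := IsIrrCharacter.apply_one (c.chars.irr ψ)
  obtain ⟨m, hm⟩ := c.chars.degree ψ
  obtain ⟨e, he, hδ⟩ : ∃ e : ℤ, (e = 1 ∨ e = -1) ∧ c.δ ψ = (e : ℂ) := by
    rcases c.chars.sign ψ with h | h
    · exact ⟨1, Or.inl rfl, by simp [h]⟩
    · exact ⟨-1, Or.inr rfl, by simp [h]⟩
  rw [hd, hδ] at hm
  have hz : (d : ℤ) = e + m * Nat.card W₁ := by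
    have : ((d : ℤ) : ℂ) = ((e + m * Nat.card W₁ : ℤ) : ℂ) := by
      push_cast
      linear_combination hm
    exact_mod_cast this
  have hd1 : d ≠ 1 := by
    intro h1
    -- a linear character kills the fixed points of `W₁`
    rw [h1, Nat.cast_one] at hd
    obtain ⟨f, hf⟩ := exists_hom_of_deg_one (isCharacter_of_irr (c.chars.irr ψ)) hd
    refine (c.mem_cols.mp hψ).2 (MonoidHom.ext fun w => ?_)
    obtain ⟨a, ha, ha1, ha2⟩ := c.exists_off
    set x : ↥W := ⟨a, Subgroup.mem_sup_left ha⟩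
    rw [MonoidHom.one_apply, ← pr_mul c.hW w, map_mul, (c.mem_cols.mp hψ).1 _ (pr₁_mem c.hW w),
      one_mul]
    set v := pr₂ c.hW w
    have hv : (v : G) ∈ W₂ := pr₂_mem c.hW w
    have hf1 : f ⟨(v : G), c.W_le v.2⟩ = 1 := by
      have hker : (⟨(v : G), c.W_le v.2⟩ : M) ∈ (commutator ↥M) := c.W₂_in_derived hv
      exact Abelianization.commutator_subset_ker f hker
    have hxv : ((x * v : ↥W) : G) ∉ W₂ := fun hh => ha2 ((W₂.mul_mem_cancel_right hv).mp hh)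
    have e1 := c.chars.apply_off ψ ⟨((x * v : ↥W) : G), c.W_le (x * v).2⟩ (x * v) rfl hxv
    have e2 := c.chars.apply_off ψ ⟨(x : G), c.W_le x.2⟩ x rfl ha2
    rw [hf] at e1 e2
    simp only [map_mul, Units.val_mul] at e1 e2
    rw [show (⟨((x * v : ↥W) : G), c.W_le (x * v).2⟩ : M) =
      ⟨(x : G), c.W_le x.2⟩ * ⟨(v : G), c.W_le v.2⟩ from rfl, map_mul, hf1, mul_one, e2,
      ← mul_assoc] at e1
    have hne : c.δ ψ * (ψ x : ℂ) ≠ 0 := mul_ne_zero (c.δ_ne_zero ψ) (Units.ne_zero _)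
    exact Units.ext (mul_left_cancel₀ hne ((mul_one _).trans e1).symm)
  have hq := c.q_three
  have hm1 : 0 < m := by
    by_contra hle
    push Not at hle
    have : m * (Nat.card W₁ : ℤ) ≤ 0 := mul_nonpos_of_nonpos_of_nonneg hle (Int.natCast_nonneg _)
    rcases he with rfl | rfl <;> omega
  lift m to ℕ using hm1.le
  refine ⟨d, m, e, he, hz, by omega, by exact_mod_cast hm1, fun ψ' hψ' => ?_⟩
  obtain ⟨e1, e2⟩ := c.col_conjugate hψ hψ'
  exact ⟨e1 ▸ hd, e2 ▸ hδ⟩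

end Setup10

end Cfsg.Agent.PF
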