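import Cfsg.Agent.OddChar.PF.S10Glue
import Cfsg.Agent.OddChar.PF.S07Coherent
import Cfsg.Agent.OddChar.KernelCoherence

/-!
# Section 10: (10.4), (10.5) and the values of the coherent map outside the Dade support
-/

set_option linter.unusedSectionVars false
set_option linter.unusedVariables false
set_option linter.style.haveILetI false
set_option autoImplicit false

universe u

namespace Cfsg.Agent.PF

open Cfsg.Lib.Chars Cfsg.Lib.CyclicTI Cfsg.Lib.Coherence
open scoped ComplexConjugate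

namespace Setup10

variable {G : Type u} [Group G] [Fintype G] {M K W₁ W₂ : Subgroup G} [Fintype M]

local notation "W" => (W₁ ⊔ W₂ : Subgroup G)

variable (c : Setup10 M K W₁ W₂) {d n : ℕ} {e : ℤ}
include c

/-- An image of a member with norm one and the right product with `χ - χ̄` avoids the family. -/
theorem image_orth_eta {χ : ↥M → ℂ} (hχ : χ ∈ Cfsg.inducedIrrAbove (K.subgroupOf M) ⊥)
    (hirr : Cfsg.IsIrrCharacter ↥M χ) {a : G → ℂ} (ha : Cfsg.IsGeneralizedCharacter G a)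
    (h1 : Cfsg.classInner a a = 1)
    (h2 : Cfsg.classInner a (c.τ (χ - Cfsg.conjFun χ)) = 1) (ω : ↥W →* ℂˣ) :
    Cfsg.classInner a (c.η ω) = 0 := by
  obtain ⟨-, k, hk⟩ := sys_tight c.system hχ ha (m := 1) (by rw [Int.cast_one]; exact h2)
    (by rw [h1]; simp)
  rw [hk]
  exact comb_inner_of_orth _ (fun α hα => c.irr_R χ hχ hirr α hα ω) _

/-- A coherent map gives a base. -/
theorem base_of_map {T : Set (↥M → ℂ)} (hT : T ⊆ Cfsg.inducedIrrAbove (K.subgroupOf M) ⊥)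
    {τ₁ : (↥M → ℂ) → (G → ℂ)} (h₁ : Cfsg.IsLinearIsometryOn (Cfsg.zspan T) τ₁)
    (hag : ∀ f ∈ Cfsg.zspanOn T {1}ᶜ, τ₁ f = c.τ f) {Y : Finset (↥M → ℂ)} (hYT : ↑Y ⊆ T)
    (hirr : ∀ χ ∈ Y, Cfsg.IsIrrCharacter ↥M χ) (hdeg : ∀ χ ∈ Y, χ 1 = (Nat.card W₁ : ℂ))
    (hclosed : ∀ χ ∈ Y, Cfsg.conjFun χ ∈ Y) : c.Base Y τ₁ := by
  classical
  have hm : ∀ χ ∈ Y, χ ∈ Cfsg.zspan T := fun χ h => subset_zspan (hYT h)
  have hon : ∀ χ ∈ Y, ∀ χ' ∈ Y, χ - χ' ∈ Cfsg.zspanOn T {1}ᶜ := fun χ h χ' h' =>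
    mem_one.mpr ⟨(Submodule.span ℤ T).sub_mem (hm χ h) (hm χ' h'),
      by simp [hdeg χ h, hdeg χ' h']⟩
  have hdiff : ∀ χ ∈ Y, ∀ χ' ∈ Y, c.τ (χ - χ') = τ₁ χ - τ₁ χ' := fun χ h χ' h' => by
    rw [← hag _ (hon χ h χ' h'), map_sub' (Submodule.span ℤ T) h₁ (hm χ h) (hm χ' h')]
  have hinner : ∀ χ ∈ Y, ∀ χ' ∈ Y, Cfsg.classInner (τ₁ χ) (τ₁ χ') = if χ = χ' then 1 else 0 :=
    fun χ h χ' h' => by
      rw [h₁.2.2.1 _ (hm χ h) _ (hm χ' h'), classInner_irrChar (hirr χ h) (hirr χ' h')]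
  refine ⟨fun χ h => hT (hYT h), hirr, hdeg, hclosed, fun χ h => h₁.2.2.2 _ (hm χ h),
    fun χ h => by rw [hinner χ h χ h, if_pos rfl],
    fun χ h χ' h' hne => by rw [hinner χ h χ' h', if_neg hne], hdiff, fun χ h => ?_⟩
  refine c.image_orth_eta (hT (hYT h)) (hirr χ h) (h₁.2.2.2 _ (hm χ h))
    (by rw [hinner χ h χ h, if_pos rfl]) ?_
  rw [hdiff χ h _ (hclosed χ h), classInner_sub_right, hinner χ h χ h,
    hinner χ h _ (hclosed χ h), if_pos rfl,
    if_neg (c.system.conj_ne χ (hT (hYT h))).symm, sub_zero]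

/-- The members over a subgroup containing the derived subgroup of `K`: irreducible of degree `q`. -/
theorem above_derived {H₁ : Subgroup M} [H₁.Normal]
    (hder : ⁅K.subgroupOf M, K.subgroupOf M⁆ ≤ H₁) {χ : ↥M → ℂ}
    (hχ : χ ∈ Cfsg.inducedIrrAbove (K.subgroupOf M) H₁) :
    Cfsg.IsIrrCharacter ↥M χ ∧ χ 1 = (Nat.card W₁ : ℂ) := by
  classical
  haveI := c.normal
  obtain ⟨θ, hθ, hne, hker, rfl⟩ := hχ
  letI : Fintype ↥(K.subgroupOf M) := Fintype.ofFinite _
  have h1 : θ 1 = 1 := by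
    have hb := Cfsg.Lib.InducedFamily.deg_sq_le_index hθ ⊤ fun z _ g => hker _ (hder (by
      simpa [commutatorElement_def] using Subgroup.commutator_mem_commutator z.2 g.2))
    rw [Subgroup.index_top] at hb
    have h := le_antisymm ((pow_le_one_iff (n := 2) two_ne_zero).mp hb) (deg_irr_pos ⟨θ, hθ⟩)
    rw [IsCharacter.apply_one_eq_deg (isCharacter_of_irr hθ)]
    exact_mod_cast h
  refine ⟨?_, by rw [indFun_one, c.index_K, h1, mul_one]⟩
  rcases c.classify θ hθ with h | ⟨ψ, hψ, rfl⟩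
  · exact h
  · exfalso
    by_cases h : ψ = 1
    · subst h
      exact hne (funext fun k => by rw [c.mu_one])
    · obtain ⟨d, n, e, hd⟩ := c.exists_Deg
      simp only [OneMemClass.coe_one, (hd.apply ψ (c.mem_cols.mpr ⟨hψ, h⟩)).1] at h1
      have : d = 1 := by exact_mod_cast h1
      have := hd.one_lt
      omega

theorem derived_lt : ⁅K.subgroupOf M, K.subgroupOf M⁆ < K.subgroupOf M := by
  haveI := c.solvable
  refine lt_of_le_of_ne (Subgroup.commutator_le_self _) fun h => ?_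
  haveI : Nontrivial ↥(K.subgroupOf M) := (Subgroup.nontrivial_iff_ne_bot _).mpr fun hb => by
    obtain ⟨w, hw, hw1⟩ := (Subgroup.bot_or_exists_ne_one W₂).resolve_left c.hW.2.1
    have : (⟨w, c.K_le (c.W₂_le_K hw)⟩ : M) ∈ K.subgroupOf M := c.W₂_le_K hw
    rw [hb, Subgroup.mem_bot] at this
    exact hw1 (congrArg Subtype.val this)
  refine (Group.IsSolvable.commutator_lt_top_of_nontrivial (G := ↥(K.subgroupOf M))).ne ?_
  refine Subgroup.map_injective (K.subgroupOf M).subtype_injective ?_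
  rw [commutator_def, Subgroup.map_commutator, ← MonoidHom.range_eq_map, Subgroup.range_subtype]
  exact h

/-- A member induced from a linear character of `K`. -/
theorem exists_linear : ∃ ζ ∈ Cfsg.inducedIrrAbove (K.subgroupOf M)
    ⁅K.subgroupOf M, K.subgroupOf M⁆, ζ ∈ Cfsg.inducedIrrAbove (K.subgroupOf M) ⊥ ∧
      Cfsg.IsIrrCharacter ↥M ζ ∧ ζ 1 = (Nat.card W₁ : ℂ) := by
  haveI := c.normal
  obtain ⟨ζ, hζ, -⟩ := Cfsg.Lib.InducedFamily.exists_minimal c.solvable _ c.derived_lt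
  exact ⟨ζ, hζ, Cfsg.Lib.InducedFamily.above_subset _ hζ, c.above_derived le_rfl hζ⟩

/-! ### (10.5) -/

theorem alpha_exact_coherent (hd : c.Deg d n e) {τ₁ : (↥M → ℂ) → (G → ℂ)}
    (h₁ : Cfsg.IsLinearIsometryOn (Cfsg.zspan (Cfsg.inducedIrrAbove (K.subgroupOf M) ⊥)) τ₁)
    (hag : ∀ f ∈ Cfsg.zspanOn (Cfsg.inducedIrrAbove (K.subgroupOf M) ⊥) {1}ᶜ, τ₁ f = c.τ f)
    {ζ : ↥M → ℂ} (hζ : ζ ∈ Cfsg.inducedIrrAbove (K.subgroupOf M) ⊥)
    (hirr : Cfsg.IsIrrCharacter ↥M ζ) (hζ1 : ζ 1 = (Nat.card W₁ : ℂ)) {φ ψ : ↥W →* ℂˣ}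
    (hφ : φ ∈ c.rows) (hψ : ψ ∈ c.cols) :
    c.τ (c.alpha n e φ ψ ζ) = (e : ℂ) • (c.η (φ * ψ) - c.η φ) - (n : ℂ) • τ₁ ζ := by
  classical
  haveI := Fintype.ofFinite (↥W →* ℂˣ)
  set S := Cfsg.inducedIrrAbove (K.subgroupOf M) ⊥ with hS
  have hne : Cfsg.conjFun ζ ≠ ζ := c.system.conj_ne ζ hζ
  have hζc : Cfsg.conjFun ζ ∈ S := c.system.conj_mem ζ hζ
  have hY : c.Base {ζ, Cfsg.conjFun ζ} τ₁ := by
    refine c.base_of_map (T := S) Set.Subset.rfl h₁ hag ?_ ?_ ?_ ?_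
    · intro χ hχ
      rcases Finset.mem_insert.mp (Finset.mem_coe.mp hχ) with rfl | h
      · exact hζ
      · exact (Finset.mem_singleton.mp h) ▸ hζc
    · intro χ hχ
      rcases Finset.mem_insert.mp hχ with rfl | h
      · exact hirr
      · exact (Finset.mem_singleton.mp h) ▸ IsIrrCharacter.conjugate hirr
    · intro χ hχ
      rcases Finset.mem_insert.mp hχ with rfl | h
      · exact hζ1
      · rw [Finset.mem_singleton.mp h, conj_apply_one (isCharacter_of_irr hirr), hζ1]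
    · intro χ hχ
      rcases Finset.mem_insert.mp hχ with rfl | h
      · exact Finset.mem_insert_of_mem (Finset.mem_singleton_self _)
      · rw [Finset.mem_singleton.mp h, conjFun_conjFun]
        exact Finset.mem_insert_self _ _
  obtain ⟨a, u, v, hu1, -, haz, hu, hineq, hexact⟩ :=
    c.alpha_data hd hY hφ hψ (Finset.mem_insert_self ζ _)
  have hαc := c.alpha_class (n := n) (e := e) φ ψ hζ
  have hαs := c.alpha_supp hd hφ hψ hζ hζ1
  -- the products with the images of the column sums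
  have hM : ∀ ψ' ∈ c.cols, Cfsg.classInner (c.τ (c.alpha n e φ ψ ζ)) (τ₁ (redChar c.μ ψ')) =
      (((if ψ' = ψ then 1 else 0) + (d : ℤ) * a : ℤ) : ℂ) := by
    intro ψ' hψ'
    have hm := c.redChar_mem hψ'
    have hin : redChar c.μ ψ' - (d : ℤ) • ζ ∈ Cfsg.zspanOn S {1}ᶜ := mem_one.mpr
      ⟨(Submodule.span ℤ S).sub_mem (subset_zspan hm)
        ((Submodule.span ℤ S).smul_mem _ (subset_zspan hζ)), by
        simp [c.redChar_one, (hd.apply ψ' hψ').1, hζ1]; ring⟩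
    have h := c.tau_inner hαc hαs (fun l x => by
      simp [c.member_class hm l x, c.member_class hζ l x])
      (c.supp_of_K (mem_one.mp hin).2 fun l hl => by
        simp [c.vanish_off hm hl, c.vanish_off hζ hl])
    rw [← hag _ hin, map_sub' (Submodule.span ℤ S) h₁ (subset_zspan hm)
      ((Submodule.span ℤ S).smul_mem _ (subset_zspan hζ)), h₁.2.1 _ (subset_zspan hζ),
      classInner_sub_right, classInner_sub_right, classInner_zsmul_right, classInner_zsmul_right,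
      haz, c.alpha_inner_redChar hφ hψ hψ' hζ hirr, c.alpha_inner_irr hirr hζ hirr, if_pos rfl] at h
    push_cast at h ⊢
    linear_combination h
  have hMM : ∀ ψ' ∈ c.cols, ∀ ψ'' ∈ c.cols, Cfsg.classInner (τ₁ (redChar c.μ ψ'))
      (τ₁ (redChar c.μ ψ'')) = if ψ' = ψ'' then ((Nat.card W₁ : ℝ) : ℂ) else 0 := by
    intro ψ' h' ψ'' h''
    rw [h₁.2.2.1 _ (subset_zspan (c.redChar_mem h')) _ (subset_zspan (c.redChar_mem h'')),
      c.redChar_inner (c.mem_cols.mp h').1 (c.mem_cols.mp h'').1, Complex.ofReal_natCast]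
    by_cases h : ψ' = ψ''
    · rw [if_pos h, if_pos h.symm]
    · rw [if_neg h, if_neg fun e' => h e'.symm]
  obtain ⟨hzero, hbes⟩ := project (({ζ, Cfsg.conjFun ζ} : Finset (↥M → ℂ)).disjSum c.cols)
    (e := Sum.elim τ₁ fun ψ' => τ₁ (redChar c.μ ψ'))
    (n := Sum.elim (fun _ => (1 : ℝ)) fun _ => (Nat.card W₁ : ℝ))
    (by
      rintro (χ | ψ') -
      · simp
      · simp)
    (by
      rintro (χ | ψ') hi (χ' | ψ'') hj
      · rw [Finset.inl_mem_disjSum] at hi hj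
        simp only [Sum.elim_inl, Sum.inl.injEq, Complex.ofReal_one]
        split_ifs with h
        · subst h; exact hY.norm χ hi
        · exact hY.ortho χ hi χ' hj h
      · rw [Finset.inl_mem_disjSum] at hi
        rw [Finset.inr_mem_disjSum] at hj
        simp only [Sum.elim_inl, Sum.elim_inr, reduceCtorEq, if_false]
        rw [h₁.2.2.1 _ (subset_zspan (hY.mem χ hi)) _ (subset_zspan (c.redChar_mem hj)),
          c.irr_inner_redChar (hY.mem χ hi) (hY.irr χ hi) hj]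
      · rw [Finset.inr_mem_disjSum] at hi
        rw [Finset.inl_mem_disjSum] at hj
        simp only [Sum.elim_inl, Sum.elim_inr, reduceCtorEq, if_false]
        rw [h₁.2.2.1 _ (subset_zspan (c.redChar_mem hi)) _ (subset_zspan (hY.mem χ' hj)),
          ← classInner_conj_symm, c.irr_inner_redChar (hY.mem χ' hj) (hY.irr χ' hj) hi, map_zero]
      · rw [Finset.inr_mem_disjSum] at hi hj
        simp only [Sum.elim_inr, Sum.inr.injEq]
        exact hMM ψ' hi ψ'' hj)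
    (a := c.τ (c.alpha n e φ ψ ζ))
    (x := Sum.elim (fun χ => if χ = ζ then (a : ℝ) - n else a)
      fun ψ' => (((if ψ' = ψ then 1 else 0) + (d : ℤ) * a : ℤ) : ℝ))
    (by
      rintro (χ | ψ') hi
      · rw [Finset.inl_mem_disjSum] at hi
        simp only [Sum.elim_inl]
        rcases Finset.mem_insert.mp hi with rfl | h
        · rw [if_pos rfl, haz]; push_cast; rfl
        · rw [Finset.mem_singleton.mp h, if_neg hne]
          have hd' := c.tau_inner hαc hαs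
            (fun l x => by simp [c.member_class hζ l x, c.member_class hζc l x])
            (c.supp_sub hζ hζc (by rw [conj_apply_one (isCharacter_of_irr hirr)]))
          rw [hY.diff ζ (Finset.mem_insert_self _ _) _
              (Finset.mem_insert_of_mem (Finset.mem_singleton_self _)),
            classInner_sub_right, classInner_sub_right, haz,
            c.alpha_inner_irr hirr hζ hirr, if_pos rfl,
            c.alpha_inner_irr hirr hζc (IsIrrCharacter.conjugate hirr), if_neg hne.symm] at hd'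
          push_cast at hd' ⊢
          linear_combination -hd'
      · rw [Finset.inr_mem_disjSum] at hi
        simp only [Sum.elim_inr]
        rw [hM ψ' hi, Complex.ofReal_intCast])
  have hpos := inner_self_re_nonneg (c.τ (c.alpha n e φ ψ ζ) -
    comb (({ζ, Cfsg.conjFun ζ} : Finset (↥M → ℂ)).disjSum c.cols)
      (Sum.elim τ₁ fun ψ' => τ₁ (redChar c.μ ψ')) fun i =>
        Sum.elim (fun χ => if χ = ζ then (a : ℝ) - n else a)
            (fun ψ' => (((if ψ' = ψ then 1 else 0) + (d : ℤ) * a : ℤ) : ℝ)) i /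
          Sum.elim (fun _ => (1 : ℝ)) (fun _ => (Nat.card W₁ : ℝ)) i)
  have hnorm : (Cfsg.classInner (c.τ (c.alpha n e φ ψ ζ)) (c.τ (c.alpha n e φ ψ ζ))).re =
      2 + (n : ℝ) ^ 2 := by
    rw [c.tau_inner hαc hαs hαc hαs, c.alpha_norm hφ hψ hd.sign hζ hirr]
    norm_cast
  have hp1 : (c.cols.card : ℝ) = (Nat.card W₂ : ℝ) - 1 := by
    rw [eq_sub_iff_add_eq]; exact_mod_cast c.card_cols
  have hq0 : (0 : ℝ) < (Nat.card W₁ : ℝ) := by exact_mod_cast Nat.card_pos
  have hkey : ((a : ℝ) - n) ^ 2 + (a : ℝ) ^ 2 +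
      (((Nat.card W₂ : ℝ) - 1) * ((d : ℝ) * a) ^ 2 + 2 * d * a + 1) / (Nat.card W₁ : ℝ) ≤
        2 + (n : ℝ) ^ 2 := by
    refine le_trans (le_of_eq ?_) (le_trans (le_add_of_nonneg_right hpos) (hbes.symm.trans hnorm).le)
    rw [Finset.sum_disjSum, Finset.sum_pair hne.symm]
    simp only [Sum.elim_inl, Sum.elim_inr, if_pos, if_neg hne, div_one]
    congr 1
    rw [← Finset.sum_div]
    congr 1
    have : ∀ ψ' ∈ c.cols, ((((if ψ' = ψ then 1 else 0) + (d : ℤ) * a : ℤ) : ℝ)) ^ 2 =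
        ((d : ℝ) * a) ^ 2 + if ψ' = ψ then 2 * (d : ℝ) * a + 1 else 0 := by
      intro ψ' _
      split_ifs <;> push_cast <;> ring
    rw [Finset.sum_congr rfl this, Finset.sum_add_distrib, Finset.sum_const, nsmul_eq_mul,
      Finset.sum_ite_eq' c.cols ψ, if_pos hψ, hp1]
    ring
  have ha0 : a = 0 := by
    by_contra ha
    rw [← sub_nonpos] at hkey
    have h' : 2 * (Nat.card W₁ : ℝ) * (a : ℝ) ^ 2 - 2 * (Nat.card W₁ : ℝ) * n * a +
        ((Nat.card W₂ : ℝ) - 1) * ((d : ℝ) * a) ^ 2 + 2 * d * a + 1 - 2 * (Nat.card W₁ : ℝ) ≤ 0 := by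
      have := mul_le_mul_of_nonneg_left hkey hq0.le
      rw [mul_zero] at this
      refine le_trans (le_of_eq ?_) this
      field_simp
      ring
    have hdq : (d : ℝ) = (e : ℝ) + (n : ℝ) * (Nat.card W₁ : ℝ) := by
      have := congrArg (Int.cast : ℤ → ℝ) hd.eq
      push_cast at this
      exact this
    have hd2 : (2 : ℝ) ≤ (d : ℝ) := by exact_mod_cast hd.one_lt
    have hp3 : (3 : ℝ) ≤ (Nat.card W₂ : ℝ) := by exact_mod_cast c.p_three
    have ha1 : (1 : ℝ) ≤ |(a : ℝ)| := by exact_mod_cast Int.one_le_abs ha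
    have hea : -|(a : ℝ)| ≤ (e : ℝ) * a := by
      rcases hd.sign with rfl | rfl
      · simpa using neg_abs_le (a : ℝ)
      · simpa using le_abs_self (a : ℝ)
    have hsq : (a : ℝ) ^ 2 = |(a : ℝ)| ^ 2 := (sq_abs _).symm
    have hbig : 8 * (a : ℝ) ^ 2 ≤ ((Nat.card W₂ : ℝ) - 1) * ((d : ℝ) * a) ^ 2 := by
      have h4 : (4 : ℝ) ≤ (d : ℝ) ^ 2 := by nlinarith
      have h5 : (8 : ℝ) ≤ ((Nat.card W₂ : ℝ) - 1) * (d : ℝ) ^ 2 := by nlinarith
      nlinarith [mul_le_mul_of_nonneg_right h5 (sq_nonneg (a : ℝ))]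
    have e2 : (Nat.card W₁ : ℝ) * n * a = (d : ℝ) * a - (e : ℝ) * a := by rw [hdq]; ring
    nlinarith [mul_le_mul_of_nonneg_left (one_le_pow₀ ha1 (n := 2)) hq0.le]
  obtain ⟨hu0, hv0⟩ := (s10_base_nonneg u v e (Nat.card W₂) (by exact_mod_cast c.p_three) hd.sign
    hu1 (by
      by_contra hno
      push Not at hno
      have h1 : Fintype.card ↥c.rows ≤ 1 :=
        Fintype.card_le_one_iff.mpr fun i j => (hno i).trans (hno j).symm
      rw [Fintype.card_coe, c.card_rows] at h1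
      exact absurd h1 (by have := c.q_three; omega))).2 (by simpa [ha0] using hineq)
  exact hexact ha0 hu0 hv0

/-- The image of a column sum is the signed column of the family. -/
theorem red_image (hd : c.Deg d n e) {τ₁ : (↥M → ℂ) → (G → ℂ)}
    (h₁ : Cfsg.IsLinearIsometryOn (Cfsg.zspan (Cfsg.inducedIrrAbove (K.subgroupOf M) ⊥)) τ₁)
    (hag : ∀ f ∈ Cfsg.zspanOn (Cfsg.inducedIrrAbove (K.subgroupOf M) ⊥) {1}ᶜ, τ₁ f = c.τ f)
    {ζ : ↥M → ℂ} (hζ : ζ ∈ Cfsg.inducedIrrAbove (K.subgroupOf M) ⊥)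
    (hirr : Cfsg.IsIrrCharacter ↥M ζ) (hζ1 : ζ 1 = (Nat.card W₁ : ℂ)) {ψ : ↥W →* ℂˣ}
    (hψ : ψ ∈ c.cols) : τ₁ (redChar c.μ ψ) = (e : ℂ) • c.colSum ψ := by
  classical
  haveI := Fintype.ofFinite (↥W →* ℂˣ)
  set S := Cfsg.inducedIrrAbove (K.subgroupOf M) ⊥ with hS
  set P := τ₁ (redChar c.μ ψ) with hP
  have hm := c.redChar_mem hψ
  have hPg : Cfsg.IsGeneralizedCharacter G P := h₁.2.2.2 _ (subset_zspan hm)
  have hPz : Cfsg.classInner P (τ₁ ζ) = 0 := by
    rw [h₁.2.2.1 _ (subset_zspan hm) _ (subset_zspan hζ), ← classInner_conj_symm,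
      c.irr_inner_redChar hζ hirr hψ, map_zero]
  choose x hx using fun ω : ↥W →* ℂˣ => inner_int hPg (c.eta_gen ω)
  have hrel : ∀ φ ∈ c.rows, ∀ ψ' ∈ c.cols,
      x (φ * ψ') = x φ + e * (if ψ' = ψ then 1 else 0) := by
    intro φ hφ ψ' hψ'
    have hin : redChar c.μ ψ - (d : ℤ) • ζ ∈ Cfsg.zspanOn S {1}ᶜ := mem_one.mpr
      ⟨(Submodule.span ℤ S).sub_mem (subset_zspan hm)
        ((Submodule.span ℤ S).smul_mem _ (subset_zspan hζ)), by
        simp [c.redChar_one, (hd.apply ψ hψ).1, hζ1]; ring⟩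
    have h := c.tau_inner (c.alpha_class (n := n) (e := e) φ ψ' hζ) (c.alpha_supp hd hφ hψ' hζ hζ1)
      (fun l x => by simp [c.member_class hm l x, c.member_class hζ l x])
      (c.supp_of_K (mem_one.mp hin).2 fun l hl => by
        simp [c.vanish_off hm hl, c.vanish_off hζ hl])
    rw [← hag _ hin, map_sub' (Submodule.span ℤ S) h₁ (subset_zspan hm)
      ((Submodule.span ℤ S).smul_mem _ (subset_zspan hζ)), h₁.2.1 _ (subset_zspan hζ), ← hP,
      c.alpha_exact_coherent hd h₁ hag hζ hirr hζ1 hφ hψ'] at h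
    simp only [classInner_sub_right, classInner_zsmul_right] at h
    rw [c.alpha_inner_redChar hφ hψ' hψ hζ hirr, c.alpha_inner_irr hirr hζ hirr, if_pos rfl] at h
    have hzz : Cfsg.classInner (τ₁ ζ) (τ₁ ζ) = 1 := by
      rw [h₁.2.2.1 _ (subset_zspan hζ) _ (subset_zspan hζ), classInner_self_irr hirr]
    have hzP : Cfsg.classInner (τ₁ ζ) P = 0 := by rw [← classInner_conj_symm, hPz, map_zero]
    have hη0 : ∀ ω, Cfsg.classInner (c.η ω) (τ₁ ζ) = 0 := fun ω => by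
      rw [← classInner_conj_symm, c.image_orth_eta hζ hirr (h₁.2.2.2 _ (subset_zspan hζ)) hzz ?_ ω,
        map_zero]
      have hz' : ζ - Cfsg.conjFun ζ ∈ Cfsg.zspanOn S {1}ᶜ := sub_conj_mem c.system hζ
      have hirr' : Cfsg.IsIrrCharacter ↥M (Cfsg.conjFun ζ) := IsIrrCharacter.conjugate hirr
      rw [← hag _ hz', h₁.2.2.1 _ (subset_zspan hζ) _ hz'.1, classInner_sub_right,
        classInner_self_irr hirr, classInner_irrChar hirr hirr',
        if_neg (c.system.conj_ne ζ hζ).symm, sub_zero]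
    have e1 : Cfsg.classInner (c.η (φ * ψ')) P = (x (φ * ψ') : ℂ) := by
      rw [← classInner_conj_symm, hx, map_intCast]
    have e2 : Cfsg.classInner (c.η φ) P = (x φ : ℂ) := by
      rw [← classInner_conj_symm, hx, map_intCast]
    simp only [classInner_sub_left, classInner_smul_left, e1, e2, hzP,
      hη0, hzz] at h
    have h' : ((x (φ * ψ') - x φ : ℤ) : ℂ) = ((e * (if ψ' = ψ then 1 else 0) : ℤ) : ℂ) := by
      have he : (e : ℂ) * e = 1 := by rcases hd.sign with rfl | rfl <;> norm_num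
      push_cast
      rw [show (if ψ' = ψ then (1 : ℂ) else 0) = if ψ = ψ' then 1 else 0 by
        by_cases hh : ψ' = ψ
        · rw [if_pos hh, if_pos hh.symm]
        · rw [if_neg hh, if_neg fun e' => hh e'.symm]]
      push_cast at h
      linear_combination (e : ℂ) * h - ((x (φ * ψ') : ℂ) - (x φ : ℂ)) * he
    have h'' : x (φ * ψ') - x φ = e * (if ψ' = ψ then 1 else 0) := by exact_mod_cast h'
    linarith
  have hsq : ∑ ω, x ω ^ 2 =
      ∑ φ ∈ c.rows, (((Nat.card W₂ : ℤ) - 1) * x φ ^ 2 + (x φ + e) ^ 2) := by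
    rw [c.sum_grid]
    refine Finset.sum_congr rfl fun φ hφ => ?_
    have : ∀ ψ' ∈ c.cols, x (φ * ψ') ^ 2 =
        x φ ^ 2 + if ψ' = ψ then (x φ + e) ^ 2 - x φ ^ 2 else 0 := fun ψ' h' => by
      rw [hrel φ hφ ψ' h']
      split_ifs <;> ring
    rw [Finset.sum_congr rfl this, Finset.sum_add_distrib, Finset.sum_const, nsmul_eq_mul,
      Finset.sum_ite_eq' c.cols ψ, if_pos hψ,
      show (c.cols.card : ℤ) = (Nat.card W₂ : ℤ) - 1 by have := c.card_cols; omega]
    ring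
  have hnorm : (Cfsg.classInner P P).re = (Nat.card W₁ : ℝ) := by
    rw [h₁.2.2.1 _ (subset_zspan hm) _ (subset_zspan hm),
      c.redChar_inner (c.mem_cols.mp hψ).1 (c.mem_cols.mp hψ).1, if_pos rfl, Complex.natCast_re]
  have hsp := c.norm_split (∅ : Finset (Fin 0)) (e := fun i => i.elim0) (n := fun _ => 1)
    (x := fun _ => 0) (by simp) (by simp) (by simp) (θ := P) (by simp) hx
  have hle : ∑ φ ∈ c.rows, (((Nat.card W₂ : ℤ) - 1) * x φ ^ 2 + (x φ + e) ^ 2) ≤
      (Nat.card W₁ : ℤ) := by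
    have h := hsp.1
    rw [Finset.sum_empty, zero_add, hnorm, hsq] at h
    exact_mod_cast h
  have hone : ∀ φ ∈ c.rows, (1 : ℤ) ≤ ((Nat.card W₂ : ℤ) - 1) * x φ ^ 2 + (x φ + e) ^ 2 :=
    fun φ _ => (s10_row_cost (x φ) e _ (by exact_mod_cast c.p_three) hd.sign).1
  have htot : ∑ φ ∈ c.rows, (((Nat.card W₂ : ℤ) - 1) * x φ ^ 2 + (x φ + e) ^ 2 - 1) ≤ 0 := by
    rw [Finset.sum_sub_distrib, Finset.sum_const, c.card_rows, nsmul_eq_mul, mul_one]
    linarith
  have hx0 : ∀ φ ∈ c.rows, x φ = 0 := fun φ hφ =>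
    (s10_row_cost (x φ) e (Nat.card W₂ : ℤ) (by exact_mod_cast c.p_three) hd.sign).2 (by
      have h := (Finset.sum_eq_zero_iff_of_nonneg fun φ hφ => sub_nonneg.mpr (hone φ hφ)).mp
        (le_antisymm htot (Finset.sum_nonneg fun φ hφ => sub_nonneg.mpr (hone φ hφ))) φ hφ
      linarith)
  rw [hsp.2 (by
    rw [Finset.sum_empty, zero_add, hnorm, hsq]
    have : (Nat.card W₁ : ℤ) ≤ ∑ φ ∈ c.rows, (((Nat.card W₂ : ℤ) - 1) * x φ ^ 2 + (x φ + e) ^ 2) := by
      refine le_trans (le_of_eq ?_) (Finset.sum_le_sum hone)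
      rw [Finset.sum_const, c.card_rows, nsmul_eq_mul, mul_one]
    exact_mod_cast this), Finset.sum_empty, zero_add, c.sum_grid, colSum, Finset.smul_sum]
  refine Finset.sum_congr rfl fun φ hφ => ?_
  rw [hx0 φ hφ, Int.cast_zero, zero_smul, zero_add, Finset.sum_eq_single ψ]
  · rw [hrel φ hφ ψ hψ, hx0 φ hφ, if_pos rfl, mul_one, zero_add]
  · intro ψ' h' hne
    rw [hrel φ hφ ψ' h', hx0 φ hφ, if_neg hne, mul_zero, add_zero, Int.cast_zero, zero_smul]
  · exact fun h => absurd hψ h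

/-- The values of the coherent map outside the support of the Dade map: rational integers, odd at
elements of order prime to `q`. -/
theorem values_outside (hd : c.Deg d n e) {τ₁ : (↥M → ℂ) → (G → ℂ)}
    (h₁ : Cfsg.IsLinearIsometryOn (Cfsg.zspan (Cfsg.inducedIrrAbove (K.subgroupOf M) ⊥)) τ₁)
    (hag : ∀ f ∈ Cfsg.zspanOn (Cfsg.inducedIrrAbove (K.subgroupOf M) ⊥) {1}ᶜ, τ₁ f = c.τ f)
    {ζ : ↥M → ℂ} (hζ : ζ ∈ Cfsg.inducedIrrAbove (K.subgroupOf M) ⊥)
    (hirr : Cfsg.IsIrrCharacter ↥M ζ) (hζ1 : ζ 1 = (Nat.card W₁ : ℂ)) {g : G}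
    (hg : g ∉ dadeSupp c.A₀ c.R) (hgq : (orderOf g).Coprime (Nat.card W₁)) :
    1 ≤ ‖τ₁ ζ g‖ := by
  classical
  set S := Cfsg.inducedIrrAbove (K.subgroupOf M) ⊥ with hS
  set z := τ₁ ζ g with hz
  have hvan : ∀ f : ↥M → ℂ, c.τ f g = 0 := fun f =>
    Cfsg.Lib.Dade.dade_eq_zero f fun a ha x u hu he => hg ⟨a, ha, u, hu, x, he⟩
  have hα : ∀ φ ∈ c.rows, ∀ ψ ∈ c.cols,
      (e : ℂ) * c.η (φ * ψ) g = (e : ℂ) * c.η φ g + (n : ℂ) * z := by
    intro φ hφ ψ hψ
    have h := hvan (c.alpha n e φ ψ ζ)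
    rw [c.alpha_exact_coherent hd h₁ hag hζ hirr hζ1 hφ hψ] at h
    simp only [Pi.sub_apply, Pi.smul_apply, smul_eq_mul] at h
    linear_combination h
  obtain ⟨ψ, hψ⟩ := c.cols_nonempty
  have hzsum : z = ∑ φ ∈ c.rows, c.η φ g := by
    have hm := c.redChar_mem hψ
    have hin : redChar c.μ ψ - (d : ℤ) • ζ ∈ Cfsg.zspanOn S {1}ᶜ := mem_one.mpr
      ⟨(Submodule.span ℤ S).sub_mem (subset_zspan hm)
        ((Submodule.span ℤ S).smul_mem _ (subset_zspan hζ)), by
        simp [c.redChar_one, (hd.apply ψ hψ).1, hζ1]; ring⟩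
    have h := hvan (redChar c.μ ψ - (d : ℤ) • ζ)
    rw [← hag _ hin, map_sub' (Submodule.span ℤ S) h₁ (subset_zspan hm)
      ((Submodule.span ℤ S).smul_mem _ (subset_zspan hζ)), h₁.2.1 _ (subset_zspan hζ),
      c.red_image hd h₁ hag hζ hirr hζ1 hψ] at h
    simp only [Pi.sub_apply, Pi.smul_apply, colSum, Finset.sum_apply, smul_eq_mul, zsmul_eq_mul,
      Finset.mul_sum, Finset.sum_congr rfl fun φ hφ => hα φ hφ ψ hψ, Finset.sum_add_distrib,
      Finset.sum_const, c.card_rows, nsmul_eq_mul] at h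
    rw [← Finset.mul_sum] at h
    have hdq : (d : ℂ) = (e : ℂ) + (n : ℂ) * (Nat.card W₁ : ℂ) := by
      have := congrArg (Int.cast : ℤ → ℂ) hd.eq
      push_cast at this
      exact this
    simp only [Pi.mul_apply, Pi.natCast_apply, Int.cast_natCast] at h
    rw [← hz, hdq] at h
    have he : (e : ℂ) ≠ 0 := by rcases hd.sign with rfl | rfl <;> norm_num
    exact mul_left_cancel₀ he (by linear_combination -h)
  -- a rational integer
  have hint : ∃ k : ℤ, z = k := by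
    have hsig : IsSignedIrr G (τ₁ ζ) := signed_of_norm_one (h₁.2.2.2 _ (subset_zspan hζ))
      (by rw [h₁.2.2.1 _ (subset_zspan hζ) _ (subset_zspan hζ), classInner_self_irr hirr])
    refine signed_value_int hsig fun σ => ?_
    have h1 := hα 1 c.one_mem_rows ψ hψ
    have h2 := hα 1 c.one_mem_rows _ (c.autHom_cols (σ := σ) hψ)
    rw [hom_one_mul] at h1 h2
    have h3 := congrArg σ h1
    simp only [map_add, map_mul, map_intCast, map_natCast,
      family_map_auto c.hW c.odd_W c.fam, autHom_one] at h3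
    have hn : (n : ℂ) ≠ 0 := Nat.cast_ne_zero.mpr hd.pos.ne'
    exact mul_left_cancel₀ hn (by linear_combination h2 - h3)
  -- the parity
  have hrow : ∀ φ ∈ c.rows, ∃ k : ℤ, c.η φ g = k := fun φ hφ => by
    refine family_int c.hW c.odd_W c.fam φ g (hgq.coprime_dvd_right ?_)
    refine orderOf_dvd_of_pow_eq_one (MonoidHom.ext fun w => ?_)
    show φ w ^ Nat.card W₁ = 1
    rw [← pr_mul c.hW w, map_mul, c.mem_rows.mp hφ _ (pr₂_mem c.hW w), mul_one, ← map_pow,
      show (pr₁ c.hW w) ^ Nat.card W₁ = 1 from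
        Subtype.ext (Cfsg.Lib.Dade.pow_card_mem (pr₁_mem c.hW w)), map_one]
  choose! k hk using hrow
  have hsumk : z = ((∑ φ : ↥c.rows, k φ : ℤ) : ℂ) := by
    rw [hzsum, Int.cast_sum, ← Finset.sum_coe_sort c.rows]
    exact Finset.sum_congr rfl fun φ _ => hk φ φ.2
  have hk1 : k 1 = 1 := by
    have := hk 1 c.one_mem_rows
    rw [c.fam.map_one] at this
    have h' : ((k 1 : ℤ) : ℂ) = (1 : ℂ) := this.symm
    exact_mod_cast h'
  have hpar := s10_sum_parity (fun φ : ↥c.rows => k φ)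
    (fun φ => ⟨(φ : ↥W →* ℂˣ)⁻¹, c.inv_mem_rows φ.2⟩)
    (fun φ => Subtype.ext (MonoidHom.ext fun w => by simp)) (i₀ := ⟨1, c.one_mem_rows⟩)
    (fun φ => by
      constructor
      · intro h
        have h2 : (φ : ↥W →* ℂˣ) ^ 2 = 1 := by
          rw [pow_two]
          nth_rewrite 1 [← congrArg Subtype.val h]
          exact MonoidHom.ext fun w => by simp
        refine Subtype.ext (MonoidHom.ext fun w => ?_)
        exact orderOf_eq_one_iff.mp (Nat.eq_one_of_dvd_coprimes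
          (Nat.coprime_two_left.mpr c.odd_W) (orderOf_dvd_of_pow_eq_one (DFunLike.congr_fun h2 w))
          (orderOf_dvd_of_pow_eq_one (by rw [← map_pow, pow_card_eq_one', map_one])))
      · rintro rfl
        exact Subtype.ext (MonoidHom.ext fun w => by simp))
    (fun φ => by
      have h1 := hk _ (c.inv_mem_rows φ.2)
      rw [c.eta_inv, Cfsg.conjFun, hk φ φ.2, map_intCast] at h1
      exact_mod_cast h1.symm)
  simp only [hk1] at hpar
  have hne : (∑ φ : ↥c.rows, k φ) ≠ 0 := fun h => by rw [h] at hpar; omega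
  rw [hsumk, Complex.norm_intCast]
  exact_mod_cast Int.one_le_abs hne

end Setup10

end Cfsg.Agent.PF
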