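import Cfsg.Agent.OddChar.PF.S10Base

/-!
# Section 10: the images of `α` and `β`, and the gluing of `Y` to the column sums

If `n ≤ |Y|` then, after possibly replacing `z` by `χ ↦ - z χ̄`, either the image of `μ_j - d ζ` is
`δ C_j - d z ζ`, or the column sums of the image of `μ₀ - ζ` are a common nonzero integer, and the
latter forces `p` and the part of that image in any further orthogonal family to be small.
-/

set_option linter.unusedSectionVars false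
set_option linter.unusedVariables false
set_option linter.style.haveILetI false
set_option autoImplicit false

universe u

namespace Cfsg.Agent.PF

open Cfsg.Lib.Chars Cfsg.Lib.CyclicTI Cfsg.Lib.Coherence
open scoped ComplexConjugate

namespace Setup10

variable {G : Type u} [Group G] [Fintype G] {M K W₁ W₂ : Subgroup G} [Fintype M]

local notation "W" => (W₁ ⊔ W₂ : Subgroup G)

/-- The image of `α` less the part predicted by its values on `V`. -/
noncomputable def devD (c : Setup10 M K W₁ W₂) (n : ℕ) (e : ℤ) (φ ψ : ↥W →* ℂˣ) (ζ : ↥M → ℂ) :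
    G → ℂ :=
  c.τ (c.alpha n e φ ψ ζ) - (e : ℂ) • (c.η (φ * ψ) - c.η φ)

variable (c : Setup10 M K W₁ W₂) {d n : ℕ} {e : ℤ} {Y : Finset (↥M → ℂ)}
  {z : (↥M → ℂ) → (G → ℂ)}
include c

theorem tau_sum {ι : Type*} (s : Finset ι) (f : ι → ↥M → ℂ) :
    c.τ (∑ i ∈ s, f i) = ∑ i ∈ s, c.τ (f i) := by
  classical
  induction s using Finset.induction_on with
  | empty => have := c.tau_zsmul 0 0; simpa using this
  | insert a s ha ih => rw [Finset.sum_insert ha, Finset.sum_insert ha, c.tau_add, ih]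

theorem tau_conj (f : ↥M → ℂ) : c.τ (Cfsg.conjFun f) = Cfsg.conjFun (c.τ f) :=
  (galFun_dade (starRingAut (R := ℂ)) f).symm

theorem conj_inner_eta {θ : G → ℂ} (h : ∀ ω, Cfsg.classInner θ (c.η ω) = 0) (ω : ↥W →* ℂˣ) :
    Cfsg.classInner (Cfsg.conjFun θ) (c.η ω) = 0 := by
  rw [← inv_inv ω, c.eta_inv, Cfsg.Lib.Coherence.classInner_conjFun, h, map_zero]

/-- Replacing `z χ` by `- z χ̄` when `Y` has two members. -/
theorem Base.swap (hY : c.Base Y z) (hcard : Y.card = 2) :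
    c.Base Y fun χ => -z (Cfsg.conjFun χ) := by
  classical
  refine ⟨hY.mem, hY.irr, hY.deg, hY.closed,
    fun χ h => IsGeneralizedCharacter.neg (hY.gen _ (hY.closed χ h)), fun χ h => ?_,
    fun χ h χ' h' hne => ?_, fun χ h χ' h' => ?_, fun χ h ω => ?_⟩
  · rw [classInner_neg_left, classInner_neg_right, neg_neg, hY.norm _ (hY.closed χ h)]
  · rw [classInner_neg_left, classInner_neg_right, neg_neg, hY.ortho _ (hY.closed χ h) _
      (hY.closed χ' h') fun e => hne (by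
        simpa [Cfsg.Lib.Coherence.conjFun_conjFun] using congrArg Cfsg.conjFun e)]
  · by_cases hne : χ = χ'
    · subst hne
      rw [sub_self, sub_self]
      have := c.tau_zsmul 0 0
      simpa using this
    have hc : Cfsg.conjFun χ ≠ χ := c.system.conj_ne χ (hY.mem χ h)
    have hYeq : Y = {χ, Cfsg.conjFun χ} := (Finset.eq_of_subset_of_card_le
      (Finset.insert_subset h (Finset.singleton_subset_iff.mpr (hY.closed χ h)))
      (by rw [Finset.card_pair hc.symm, hcard])).symm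
    have h2 : χ' = Cfsg.conjFun χ := by
      rw [hYeq, Finset.mem_insert, Finset.mem_singleton] at h'
      exact h'.resolve_left fun e => hne e.symm
    subst h2
    rw [hY.diff χ h _ (hY.closed χ h), Cfsg.Lib.Coherence.conjFun_conjFun]
    abel
  · rw [classInner_neg_left, hY.eta _ (hY.closed χ h), neg_zero]

theorem Base.two_le (hY : c.Base Y z) {ζ : ↥M → ℂ} (hζ : ζ ∈ Y) : 2 ≤ Y.card := by
  classical
  have h := Finset.card_le_card (Finset.insert_subset hζ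
    (Finset.singleton_subset_iff.mpr (hY.closed ζ hζ)))
  rwa [Finset.card_pair (c.system.conj_ne ζ (hY.mem ζ hζ)).symm] at h

theorem Base.supp (hY : c.Base Y z) {χ χ' : ↥M → ℂ} (h : χ ∈ Y) (h' : χ' ∈ Y) :
    c.Supp (χ - χ') :=
  c.supp_sub (hY.mem χ h) (hY.mem χ' h') (by rw [hY.deg χ h, hY.deg χ' h'])

/-- The coefficients on the images of `Y` of the image of a function. -/
theorem Base.coeff (hY : c.Base Y z) {f : ↥M → ℂ} (hf : Cfsg.IsGeneralizedCharacter ↥M f)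
    (hfs : c.Supp f) {ζ : ↥M → ℂ} (hζ : ζ ∈ Y) {k : ℤ} [DecidableEq (↥M → ℂ)]
    (hk : ∀ χ ∈ Y, Cfsg.classInner f χ = if χ = ζ then -(k : ℂ) else 0) :
    ∃ a : ℤ, ∀ χ ∈ Y, Cfsg.classInner (c.τ f) (z χ) =
      (((if χ = ζ then a - k else a) : ℤ) : ℂ) := by
  obtain ⟨a, ha⟩ := inner_int (c.tau_gen hf hfs) (hY.gen ζ hζ)
  refine ⟨a + k, fun χ hχ => ?_⟩
  split_ifs with h
  · subst h; rw [ha]; push_cast; ring
  · have h1 := c.tau_inner (isClassFunction_generalized hf) hfs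
      (fun l x => by simp [c.member_class (hY.mem χ hχ) l x, c.member_class (hY.mem ζ hζ) l x])
      (hY.supp c hχ hζ)
    rw [hY.diff χ hχ ζ hζ, classInner_sub_right, classInner_sub_right, ha, hk χ hχ, hk ζ hζ,
      if_neg h, if_pos rfl] at h1
    push_cast
    linear_combination h1

/-- Bessel's inequality with the images of `Y` separated. -/
theorem Base.split (hY : c.Base Y z) [Fintype (↥W →* ℂˣ)] [DecidableEq (↥M → ℂ)] {θ : G → ℂ}
    {ζ : ↥M → ℂ} (hζ : ζ ∈ Y) {a k : ℤ}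
    (ha : ∀ χ ∈ Y, Cfsg.classInner θ (z χ) = (((if χ = ζ then a - k else a) : ℤ) : ℂ))
    {y : (↥W →* ℂˣ) → ℤ} (hy : ∀ ω, Cfsg.classInner θ (c.η ω) = y ω)
    {ι : Type*} [DecidableEq ι] (s : Finset ι) {f : ι → G → ℂ} {m x : ι → ℝ}
    (hm : ∀ i ∈ s, m i ≠ 0)
    (hf : ∀ i ∈ s, ∀ j ∈ s, Cfsg.classInner (f i) (f j) = if i = j then (m i : ℂ) else 0)
    (hfη : ∀ i ∈ s, ∀ ω, Cfsg.classInner (f i) (c.η ω) = 0)
    (hfz : ∀ i ∈ s, ∀ χ ∈ Y, Cfsg.classInner (f i) (z χ) = 0)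
    (hx : ∀ i ∈ s, Cfsg.classInner θ (f i) = x i) :
    ((Y.card : ℝ) * (a : ℝ) ^ 2 - 2 * k * a + (k : ℝ) ^ 2) + ((∑ ω, y ω ^ 2 : ℤ) : ℝ) +
        ∑ i ∈ s, x i ^ 2 / m i ≤ (Cfsg.classInner θ θ).re ∧
      (a = 0 → s = ∅ → (Cfsg.classInner θ θ).re ≤ (k : ℝ) ^ 2 + ((∑ ω, y ω ^ 2 : ℤ) : ℝ) →
        θ = -((k : ℂ) • z ζ) + ∑ ω, (y ω : ℂ) • c.η ω) := by
  have h := c.norm_split (Y.disjSum s) (e := Sum.elim z f) (n := Sum.elim (fun _ => (1 : ℝ)) m)
    (x := Sum.elim (fun χ => (((if χ = ζ then a - k else a) : ℤ) : ℝ)) x) ?_ ?_ ?_ (θ := θ) ?_ hy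
  · have hsum : ∑ χ ∈ Y, ((((if χ = ζ then a - k else a) : ℤ) : ℝ)) ^ 2 =
        (Y.card : ℝ) * (a : ℝ) ^ 2 - 2 * k * a + (k : ℝ) ^ 2 := by
      rw [← Finset.add_sum_erase _ _ hζ, if_pos rfl,
        Finset.sum_congr rfl fun χ hχ => by rw [if_neg (Finset.mem_erase.mp hχ).1],
        Finset.sum_const, nsmul_eq_mul, Finset.card_erase_of_mem hζ,
        Nat.cast_sub (Finset.card_pos.mpr ⟨ζ, hζ⟩)]
      push_cast
      ring
    obtain ⟨h1, h2⟩ := h
    simp only [Finset.sum_disjSum, Sum.elim_inl, Sum.elim_inr, div_one, hsum] at h1 h2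
    refine ⟨by linarith, fun ha0 hs hle => ?_⟩
    subst ha0 hs
    rw [h2 (by simp only [Finset.sum_empty, Int.cast_zero]; linarith)]
    congr 1
    rw [Finset.sum_empty, add_zero, Finset.sum_eq_single ζ]
    · rw [if_pos rfl]; push_cast; simp
    · intro χ _ hne; rw [if_neg hne]; simp
    · exact fun hn => absurd hζ hn
  · rintro (χ | i) hi
    · simp
    · exact hm i (by simpa using hi)
  · rintro (χ | i) hi (χ' | j) hj
    · simp only [Sum.elim_inl, Sum.inl.injEq, Complex.ofReal_one]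
      rw [Finset.inl_mem_disjSum] at hi hj
      split_ifs with h
      · subst h; exact hY.norm χ hi
      · exact hY.ortho χ hi χ' hj h
    · simp only [Sum.elim_inl, Sum.elim_inr, reduceCtorEq, if_false]
      rw [Finset.inl_mem_disjSum] at hi
      rw [Finset.inr_mem_disjSum] at hj
      rw [← classInner_conj_symm, hfz j hj χ hi, map_zero]
    · simp only [Sum.elim_inl, Sum.elim_inr, reduceCtorEq, if_false]
      rw [Finset.inr_mem_disjSum] at hi
      rw [Finset.inl_mem_disjSum] at hj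
      exact hfz i hi χ' hj
    · simp only [Sum.elim_inr, Sum.inr.injEq]
      rw [Finset.inr_mem_disjSum] at hi hj
      exact hf i hi j hj
  · rintro (χ | i) hi ω
    · exact hY.eta χ (by simpa using hi) ω
    · exact hfη i (by simpa using hi) ω
  · rintro (χ | i) hi
    · simp only [Sum.elim_inl]
      exact (ha χ (by simpa using hi)).trans (Complex.ofReal_intCast _).symm
    · exact hx i (by simpa using hi)

/-! ### The image of `α` -/

theorem devD_gen (hd : c.Deg d n e) {φ ψ : ↥W →* ℂˣ} (hφ : φ ∈ c.rows) (hψ : ψ ∈ c.cols)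
    {ζ : ↥M → ℂ} (hζ : ζ ∈ Cfsg.inducedIrrAbove (K.subgroupOf M) ⊥)
    (hζ1 : ζ 1 = (Nat.card W₁ : ℂ)) : Cfsg.IsGeneralizedCharacter G (c.devD n e φ ψ ζ) := by
  rw [devD, Int.cast_smul_eq_zsmul ℂ e]
  exact IsGeneralizedCharacter.sub (c.tau_gen (c.alpha_gen φ ψ hζ) (c.alpha_supp hd hφ hψ hζ hζ1))
    (IsGeneralizedCharacter.zsmul (IsGeneralizedCharacter.sub (c.eta_gen _) (c.eta_gen _)) e)

theorem devD_V (hd : c.Deg d n e) {φ ψ : ↥W →* ℂˣ} (hφ : φ ∈ c.rows) (hψ : ψ ∈ c.cols)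
    {ζ : ↥M → ℂ} (hζ : ζ ∈ Cfsg.inducedIrrAbove (K.subgroupOf M) ⊥) (w : ↥W)
    (h1 : (w : G) ∉ W₁) (h2 : (w : G) ∉ W₂) : c.devD n e φ ψ ζ w = 0 := by
  rw [devD, Pi.sub_apply, c.tau_V (c.alpha_class φ ψ hζ) h1 h2]
  simp only [alpha, Pi.sub_apply, Pi.smul_apply, smul_eq_mul,
    c.chars.apply_off _ ⟨w, c.W_le w.2⟩ w rfl h2, c.fam.eq_on _ w h1 h2,
    c.vanish_off hζ (l := ⟨w, c.W_le w.2⟩) (c.not_K_of_off h2), c.delta_col hφ, c.delta_row hφ,
    (hd.apply ψ hψ).2]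
  ring

theorem devD_col (hd : c.Deg d n e) {φ ψ : ↥W →* ℂˣ} (hφ : φ ∈ c.rows) (hψ : ψ ∈ c.cols)
    {ζ : ↥M → ℂ} (hζ : ζ ∈ Cfsg.inducedIrrAbove (K.subgroupOf M) ⊥)
    (hirr : Cfsg.IsIrrCharacter ↥M ζ) (hζ1 : ζ 1 = (Nat.card W₁ : ℂ)) (k : ↥W →* ℂˣ)
    (hk : k ∈ c.cols) (k' : ↥W →* ℂˣ) (hk' : k' ∈ c.cols) :
    Cfsg.classInner (c.devD n e φ ψ ζ) (c.colSum k) =
      Cfsg.classInner (c.devD n e φ ψ ζ) (c.colSum k') := by
  classical
  obtain ⟨hs, hτ⟩ := c.diff_cols hd hk hk'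
  have h := c.tau_inner (c.alpha_class (n := n) (e := e) φ ψ hζ) (c.alpha_supp hd hφ hψ hζ hζ1)
    (fun l x => by
      simp [c.redChar_eq, Finset.sum_apply, c.mu_class _ l x]) hs
  rw [hτ, classInner_smul_right, classInner_sub_right, classInner_sub_right,
    c.alpha_inner_redChar hφ hψ hk hζ hirr, c.alpha_inner_redChar hφ hψ hk' hζ hirr,
    map_intCast] at h
  have hη : ∀ k ∈ c.cols, Cfsg.classInner (c.η (φ * ψ) - c.η φ) (c.colSum k) =
      if k = ψ then 1 else 0 := by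
    intro k hk
    rw [classInner_sub_left, ← classInner_conj_symm, c.colSum_inner_eta hφ (c.mem_cols.mp hψ).1
      (c.mem_cols.mp hk).1, ← classInner_conj_symm (c.colSum k), ← hom_mul_one φ,
      c.colSum_inner_eta hφ onSecond_one (c.mem_cols.mp hk).1, if_neg (c.mem_cols.mp hk).2,
      map_zero, sub_zero]
    split_ifs <;> simp
  have he : (e : ℂ) * e = 1 := by rcases hd.sign with rfl | rfl <;> norm_num
  simp only [devD, classInner_sub_left (c.τ _), classInner_smul_left]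
  rw [hη k hk, hη k' hk']
  linear_combination (e : ℂ) * h - (Cfsg.classInner (c.τ (c.alpha n e φ ψ ζ)) (c.colSum k) -
    Cfsg.classInner (c.τ (c.alpha n e φ ψ ζ)) (c.colSum k')) * he

theorem devD_one (hd : c.Deg d n e) {φ ψ : ↥W →* ℂˣ} (hφ : φ ∈ c.rows) (hψ : ψ ∈ c.cols)
    {ζ : ↥M → ℂ} (hζ : ζ ∈ Cfsg.inducedIrrAbove (K.subgroupOf M) ⊥)
    (hirr : Cfsg.IsIrrCharacter ↥M ζ) (hζ1 : ζ 1 = (Nat.card W₁ : ℂ)) :
    Cfsg.classInner (c.devD n e φ ψ ζ) (c.η 1) = ((0 : ℤ) : ℂ) := by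
  classical
  have hne : φ * ψ ≠ 1 := fun h => (c.mem_cols.mp hψ).2
    ((c.eta_mul_eq hφ c.one_mem_rows (c.mem_cols.mp hψ).1 onSecond_one).mp
      (h.trans (hom_mul_one 1).symm)).2
  rw [devD, classInner_sub_left, classInner_smul_left, classInner_sub_left,
    c.tau_inner_one (c.alpha_class φ ψ hζ) (c.alpha_supp hd hφ hψ hζ hζ1),
    c.alpha_inner_one hφ hψ hζ hirr, c.eta_inner, c.eta_inner, if_neg hne]
  split_ifs <;> simp

theorem devD_zeta (hY : c.Base Y z) (φ ψ : ↥W →* ℂˣ) {ζ ζ' : ↥M → ℂ} (hζ : ζ ∈ Y) (hζ' : ζ' ∈ Y)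
    (ω : ↥W →* ℂˣ) :
    Cfsg.classInner (c.devD n e φ ψ ζ) (c.η ω) = Cfsg.classInner (c.devD n e φ ψ ζ') (c.η ω) := by
  have h : c.devD n e φ ψ ζ - c.devD n e φ ψ ζ' = (n : ℂ) • (z ζ' - z ζ) := by
    rw [devD, devD, sub_sub_sub_cancel_right, ← c.tau_sub, ← hY.diff ζ' hζ' ζ hζ, ← c.tau_smul]
    congr 1
    simp only [alpha, smul_sub]
    abel
  have h' := congrArg (fun f => Cfsg.classInner f (c.η ω)) h
  simp only [classInner_sub_left, classInner_smul_left, hY.eta ζ hζ, hY.eta ζ' hζ', sub_zero,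
    mul_zero] at h'
  exact sub_eq_zero.mp h'

theorem devD_row (hd : c.Deg d n e) {φ φ' ψ : ↥W →* ℂˣ} (hφ : φ ∈ c.rows) (hφ' : φ' ∈ c.rows)
    (hψ : ψ ∈ c.cols) (ζ : ↥M → ℂ) : c.devD n e φ ψ ζ = c.devD n e φ' ψ ζ := by
  obtain ⟨-, h⟩ := c.image_four φ φ' ψ (c.mem_rows.mp hφ) (c.mem_rows.mp hφ') (c.mem_cols.mp hψ).1
  change c.τ _ = _ at h
  rw [(hd.apply ψ hψ).2] at h
  have he : (e : ℂ) * e = 1 := by rcases hd.sign with rfl | rfl <;> norm_num
  have hα : c.alpha n e φ ψ ζ - c.alpha n e φ' ψ ζ =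
      (e : ℂ) • ((e : ℂ) • (c.μ (φ * ψ) - c.μ (φ' * ψ)) - c.μ φ + c.μ φ') := by
    funext l
    simp only [alpha, Pi.sub_apply, Pi.add_apply, Pi.smul_apply, smul_eq_mul]
    linear_combination -(c.μ (φ * ψ) l - c.μ (φ' * ψ) l) * he
  have hτ := congrArg c.τ hα
  rw [c.tau_sub, c.tau_smul, h] at hτ
  funext g
  have := congrFun hτ g
  simp only [devD, Pi.sub_apply, Pi.add_apply, Pi.smul_apply, smul_eq_mul] at this ⊢
  linear_combination this

theorem devD_column (hd : c.Deg d n e) {φ ψ ψ' : ↥W →* ℂˣ} (hφ : φ ∈ c.rows) (hψ : ψ ∈ c.cols)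
    (hψ' : ψ' ∈ c.cols) (ζ : ↥M → ℂ) : c.devD n e φ ψ ζ = c.devD n e φ ψ' ζ := by
  obtain ⟨-, -, h⟩ := c.image_col φ ψ ψ' (c.mem_rows.mp hφ) (c.mem_cols.mp hψ).1
    (c.mem_cols.mp hψ').1 (c.mem_cols.mp hψ).2 (c.mem_cols.mp hψ').2
    (by rw [c.mu_apply_one_col hφ, c.mu_apply_one_col hφ, (hd.apply ψ hψ).1, (hd.apply ψ' hψ').1])
  change c.τ _ = _ at h
  rw [(hd.apply ψ hψ).2] at h
  have hα : c.alpha n e φ ψ ζ - c.alpha n e φ ψ' ζ = c.μ (φ * ψ) - c.μ (φ * ψ') := by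
    simp only [alpha]; abel
  have hτ := congrArg c.τ hα
  rw [c.tau_sub, h] at hτ
  funext g
  have := congrFun hτ g
  simp only [devD, Pi.sub_apply, Pi.smul_apply, smul_eq_mul] at this ⊢
  linear_combination this

theorem devD_conj (φ ψ : ↥W →* ℂˣ) (ζ : ↥M → ℂ) :
    Cfsg.conjFun (c.devD n e φ ψ ζ) = c.devD n e φ⁻¹ ψ⁻¹ (Cfsg.conjFun ζ) := by
  have hα : Cfsg.conjFun (c.alpha n e φ ψ ζ) = c.alpha n e φ⁻¹ ψ⁻¹ (Cfsg.conjFun ζ) := by
    funext l
    simp only [alpha, Cfsg.conjFun, Pi.sub_apply, Pi.smul_apply, smul_eq_mul, map_sub, map_mul,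
      map_intCast, map_natCast]
    rw [show φ⁻¹ * ψ⁻¹ = (φ * ψ)⁻¹ from MonoidHom.ext fun w => by simp [mul_comm], ← c.chars.conj,
      ← c.chars.conj]
    rfl
  rw [devD, devD, ← hα, c.tau_conj,
    show φ⁻¹ * ψ⁻¹ = (φ * ψ)⁻¹ from MonoidHom.ext fun w => by simp [mul_comm], c.eta_inv, c.eta_inv]
  funext g
  simp [Cfsg.conjFun]

/-- Everything the inequality says about the image of `α`. -/
theorem alpha_data (hd : c.Deg d n e) (hY : c.Base Y z) {φ ψ : ↥W →* ℂˣ} (hφ : φ ∈ c.rows)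
    (hψ : ψ ∈ c.cols) {ζ : ↥M → ℂ} (hζ : ζ ∈ Y) [Fintype (↥W →* ℂˣ)] :
    ∃ (a : ℤ) (u : ↥c.rows → ℤ) (v : ℤ), u ⟨1, c.one_mem_rows⟩ = 0 ∧
      (∀ φ' : ↥c.rows, u ⟨(φ' : ↥W →* ℂˣ)⁻¹, c.inv_mem_rows φ'.2⟩ = u φ') ∧
      Cfsg.classInner (c.τ (c.alpha n e φ ψ ζ)) (z ζ) = ((a - n : ℤ) : ℂ) ∧
      (∀ φ' : ↥c.rows, Cfsg.classInner (c.devD n e φ ψ ζ) (c.η φ') = (u φ' : ℂ)) ∧
      (Y.card : ℤ) * a ^ 2 - 2 * n * a +
        ((∑ φ', (u φ' ^ 2 + ((Nat.card W₂ : ℤ) - 1) * (u φ' + v) ^ 2)) + 2 * e * v) ≤ 0 ∧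
      (a = 0 → (∀ φ', u φ' = 0) → v = 0 →
        c.τ (c.alpha n e φ ψ ζ) = (e : ℂ) • (c.η (φ * ψ) - c.η φ) - (n : ℂ) • z ζ) := by
  classical
  have hζm := hY.mem ζ hζ
  have hirr := hY.irr ζ hζ
  have hζ1 := hY.deg ζ hζ
  obtain ⟨u, v, hu1, hu, huv⟩ := c.grid_data (c.devD_gen hd hφ hψ hζm hζ1)
    (c.devD_V hd hφ hψ hζm) (c.devD_one hd hφ hψ hζm hirr hζ1) (c.devD_col hd hφ hψ hζm hirr hζ1)
  simp only [zero_add] at hu
  obtain ⟨a, ha⟩ := hY.coeff c (c.alpha_gen (n := n) (e := e) φ ψ hζm)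
    (c.alpha_supp hd hφ hψ hζm hζ1) hζ (k := n) fun χ hχ => by
      rw [c.alpha_inner_irr hirr (hY.mem χ hχ) (hY.irr χ hχ), Int.cast_natCast]
      simp [eq_comm]
  choose yD hyD using fun ω : ↥W →* ℂˣ =>
    inner_int (c.devD_gen hd hφ hψ hζm hζ1) (c.eta_gen ω)
  have hyD1 : ∀ φ' : ↥c.rows, yD φ' = u φ' := fun φ' => by
    have : ((yD φ' : ℤ) : ℂ) = (u φ' : ℂ) := (hyD φ').symm.trans (hu φ')
    exact_mod_cast this
  have hyD2 : ∀ (φ' : ↥c.rows), ∀ k ∈ c.cols, yD (φ' * k) = u φ' + v := fun φ' k hk => by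
    have : ((yD (φ' * k) : ℤ) : ℂ) = ((u φ' + v : ℤ) : ℂ) := (hyD _).symm.trans (huv φ' k hk)
    exact_mod_cast this
  set y : (↥W →* ℂˣ) → ℤ := fun ω =>
    yD ω + e * ((if ω = φ * ψ then 1 else 0) - if ω = φ then 1 else 0) with hy
  have hτα : c.τ (c.alpha n e φ ψ ζ) =
      c.devD n e φ ψ ζ + (e : ℂ) • (c.η (φ * ψ) - c.η φ) := by rw [devD, sub_add_cancel]
  have hyv : ∀ ω, Cfsg.classInner (c.τ (c.alpha n e φ ψ ζ)) (c.η ω) = (y ω : ℂ) := by
    intro ω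
    rw [hτα, classInner_add_left, classInner_smul_left, classInner_sub_left, hyD, c.eta_inner,
      c.eta_inner, hy]
    have e1 : (if φ * ψ = ω then (1 : ℂ) else 0) = ((if ω = φ * ψ then (1 : ℤ) else 0 : ℤ) : ℂ) := by
      by_cases h : ω = φ * ψ
      · rw [if_pos h.symm, if_pos h, Int.cast_one]
      · rw [if_neg fun e' => h e'.symm, if_neg h, Int.cast_zero]
    have e2 : (if φ = ω then (1 : ℂ) else 0) = ((if ω = φ then (1 : ℤ) else 0 : ℤ) : ℂ) := by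
      by_cases h : ω = φ
      · rw [if_pos h.symm, if_pos h, Int.cast_one]
      · rw [if_neg fun e' => h e'.symm, if_neg h, Int.cast_zero]
    rw [e1, e2]
    push_cast
    ring
  have hne : φ * ψ ≠ φ := fun h => (c.mem_cols.mp hψ).2
    ((c.eta_mul_eq hφ hφ (c.mem_cols.mp hψ).1 onSecond_one).mp (h.trans (hom_mul_one φ).symm)).2
  have he2 : e * e = 1 := by rcases hd.sign with rfl | rfl <;> rfl
  have hysq : ∑ ω, y ω ^ 2 =
      (∑ φ', (u φ' ^ 2 + ((Nat.card W₂ : ℤ) - 1) * (u φ' + v) ^ 2)) + 2 * e * v + 2 := by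
    have h0 := c.grid_sq (y := yD) (u := u) (c₀ := 0) (v := v) (fun φ' => by simp [hyD1 φ']) hyD2
    simp only [zero_add] at h0
    have e1 : ∀ ω, y ω ^ 2 = yD ω ^ 2 + (if ω = φ * ψ then 2 * e * yD ω + 1 else 0) +
        (if ω = φ then -2 * e * yD ω + 1 else 0) := by
      intro ω
      rw [hy]
      by_cases h1 : ω = φ * ψ
      · subst h1
        simp only [if_pos, if_neg hne]
        linear_combination he2
      · by_cases h2 : ω = φ
        · simp only [if_neg h1, if_pos h2]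
          linear_combination he2
        · simp [h1, h2]
    rw [Finset.sum_congr rfl fun ω _ => e1 ω, Finset.sum_add_distrib, Finset.sum_add_distrib,
      Finset.sum_ite_eq' Finset.univ, Finset.sum_ite_eq' Finset.univ, if_pos (Finset.mem_univ _),
      if_pos (Finset.mem_univ _), h0, hyD2 ⟨φ, hφ⟩ ψ hψ, hyD1 ⟨φ, hφ⟩]
    ring
  have hnorm : (Cfsg.classInner (c.τ (c.alpha n e φ ψ ζ)) (c.τ (c.alpha n e φ ψ ζ))).re =
      2 + (n : ℝ) ^ 2 := by
    rw [c.tau_inner (c.alpha_class φ ψ hζm) (c.alpha_supp hd hφ hψ hζm hζ1)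
      (c.alpha_class φ ψ hζm) (c.alpha_supp hd hφ hψ hζm hζ1), c.alpha_norm hφ hψ hd.sign hζm hirr]
    norm_cast
  have hsp := hY.split c hζ ha hyv (∅ : Finset (Fin 0)) (f := fun i => i.elim0) (m := fun _ => 1)
    (x := fun _ => 0) (by simp) (by simp) (by simp) (by simp) (by simp)
  refine ⟨a, u, v, hu1, fun φ' => ?_, by rw [ha ζ hζ, if_pos rfl], hu, ?_, fun ha0 hu0 hv0 => ?_⟩
  · have hc : ∀ ω, Cfsg.classInner (Cfsg.conjFun (c.devD n e φ ψ ζ)) (c.η ω) =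
        Cfsg.classInner (c.devD n e φ ψ ζ) (c.η ω) := fun ω => by
      rw [c.devD_conj, c.devD_zeta hY φ⁻¹ ψ⁻¹ (hY.closed ζ hζ) hζ,
        c.devD_row hd (c.inv_mem_rows hφ) hφ (c.inv_mem_cols hψ),
        c.devD_column hd hφ (c.inv_mem_cols hψ) hψ]
    have h' := c.coef_symm (c.devD_gen hd hφ hψ hζm hζ1) hc (φ' : ↥W →* ℂˣ)
    rw [hu φ', show Cfsg.classInner (c.devD n e φ ψ ζ) (c.η (φ' : ↥W →* ℂˣ)⁻¹) =
      (u ⟨(φ' : ↥W →* ℂˣ)⁻¹, c.inv_mem_rows φ'.2⟩ : ℂ) from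
        hu ⟨(φ' : ↥W →* ℂˣ)⁻¹, c.inv_mem_rows φ'.2⟩] at h'
    exact_mod_cast h'
  · have h := hsp.1
    rw [hnorm, hysq, Finset.sum_empty, add_zero] at h
    push_cast at h
    have : (((Y.card : ℤ) * a ^ 2 - 2 * n * a +
        ((∑ φ', (u φ' ^ 2 + ((Nat.card W₂ : ℤ) - 1) * (u φ' + v) ^ 2)) + 2 * e * v) : ℤ) : ℝ) ≤
        ((0 : ℤ) : ℝ) := by push_cast; linarith
    exact_mod_cast this
  · have hS0 : (∑ φ', (u φ' ^ 2 + ((Nat.card W₂ : ℤ) - 1) * (u φ' + v) ^ 2)) = 0 :=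
      Finset.sum_eq_zero fun φ' _ => by simp [hu0 φ', hv0]
    rw [hsp.2 ha0 rfl (by rw [hnorm, hysq, hS0, hv0]; push_cast; linarith)]
    have hy0 : ∀ ω, y ω = e * ((if ω = φ * ψ then 1 else 0) - if ω = φ then 1 else 0) := by
      intro ω
      rw [hy]
      have : yD ω = 0 := by
        rw [← comp_mul_comp c.hW ω]
        have hφ' : ω.comp (pr₁ c.hW) ∈ c.rows := c.mem_rows.mpr (onFirst_comp c.hW ω)
        by_cases h : ω.comp (pr₂ c.hW) = 1
        · rw [h, hom_mul_one]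
          exact (hyD1 ⟨_, hφ'⟩).trans (hu0 _)
        · rw [hyD2 ⟨_, hφ'⟩ _ (c.mem_cols.mpr ⟨onSecond_comp c.hW ω, h⟩), hu0, hv0, add_zero]
      simp [this]
    simp only [hy0, Int.cast_mul, mul_smul, ← Finset.smul_sum, Int.cast_sub, sub_smul,
      Finset.sum_sub_distrib, Int.cast_ite, Int.cast_one, Int.cast_zero, ite_smul, one_smul,
      zero_smul, Finset.sum_ite_eq', Finset.mem_univ, if_true, Int.cast_natCast]
    abel

/-! ### The image of `β` -/

/-- The image of `β`: either exact for some choice of the map on `Y`, or with nonzero column sums. -/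
theorem beta_cases (hY : c.Base Y z) (hd : c.Deg d n e) {ζ : ↥M → ℂ} (hζ : ζ ∈ Y) :
    (∃ z', c.Base Y z' ∧ c.τ (c.beta ζ) = c.colSum 1 - z' ζ) ∨
    ∃ b : ℤ, b ≠ 0 ∧ (∀ ψ ∈ c.cols, Cfsg.classInner (c.τ (c.beta ζ)) (c.colSum ψ) = (b : ℂ)) ∧
      ∀ {ι : Type u} [DecidableEq ι] (s : Finset ι) (f : ι → G → ℂ) (m x : ι → ℝ),
        (∀ i ∈ s, m i ≠ 0) →
        (∀ i ∈ s, ∀ j ∈ s, Cfsg.classInner (f i) (f j) = if i = j then (m i : ℂ) else 0) →
        (∀ i ∈ s, ∀ ω, Cfsg.classInner (f i) (c.η ω) = 0) →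
        (∀ i ∈ s, ∀ χ ∈ Y, Cfsg.classInner (f i) (z χ) = 0) →
        (∀ i ∈ s, Cfsg.classInner (c.τ (c.beta ζ)) (f i) = x i) →
        (Nat.card W₂ : ℝ) + ∑ i ∈ s, x i ^ 2 / m i ≤ (Nat.card W₁ : ℝ) := by
  classical
  haveI := Fintype.ofFinite (↥W →* ℂˣ)
  have hζm := hY.mem ζ hζ
  have hirr := hY.irr ζ hζ
  have hζ1 := hY.deg ζ hζ
  have hbs := c.beta_supp hζm hζ1
  have hbg := c.tau_gen (c.beta_gen hζm) hbs
  have hV : ∀ w : ↥W, (w : G) ∉ W₁ → (w : G) ∉ W₂ → c.τ (c.beta ζ) w = 0 := by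
    intro w h1 h2
    haveI := c.normal
    rw [c.tau_V (c.beta_class hζm) h1 h2, beta, Pi.sub_apply, c.red_ind 1 onSecond_one,
      c.vanish_off hζm (l := ⟨w, c.W_le w.2⟩) (c.not_K_of_off h2),
      indFun_normal_not_mem _ _ (show (⟨w, c.W_le w.2⟩ : M) ∉ K.subgroupOf M from c.not_K_of_off h2),
      sub_zero]
  have hc0 : Cfsg.classInner (c.τ (c.beta ζ)) (c.η 1) = ((1 : ℤ) : ℂ) := by
    rw [c.tau_inner_one (c.beta_class hζm) hbs, c.beta_inner_one hζm hirr, Int.cast_one]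
  have hcol : ∀ k ∈ c.cols, ∀ k' ∈ c.cols, Cfsg.classInner (c.τ (c.beta ζ)) (c.colSum k) =
      Cfsg.classInner (c.τ (c.beta ζ)) (c.colSum k') := by
    intro k hk k' hk'
    obtain ⟨hs, hτ⟩ := c.diff_cols hd hk hk'
    have h := c.tau_inner (c.beta_class hζm) hbs (fun l x => by
      simp [c.redChar_eq, Finset.sum_apply, c.mu_class _ l x]) hs
    rw [hτ, classInner_smul_right, classInner_sub_right, classInner_sub_right,
      c.beta_inner_redChar hk hζm hirr, c.beta_inner_redChar hk' hζm hirr, sub_zero, map_intCast,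
      mul_eq_zero] at h
    refine sub_eq_zero.mp (h.resolve_left ?_)
    rcases hd.sign with rfl | rfl <;> norm_num
  obtain ⟨u, v, hu1, hu, huv⟩ := c.grid_data hbg hV hc0 hcol
  obtain ⟨a, ha⟩ := hY.coeff c (c.beta_gen hζm) hbs hζ (k := 1) fun χ hχ => by
    rw [c.beta_inner_irr hirr (hY.mem χ hχ) (hY.irr χ hχ), Int.cast_one]
    simp [eq_comm]
  choose y hy using fun ω : ↥W →* ℂˣ => inner_int hbg (c.eta_gen ω)
  have hy1 : ∀ φ' : ↥c.rows, y φ' = 1 + u φ' := fun φ' => by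
    have : ((y φ' : ℤ) : ℂ) = ((1 + u φ' : ℤ) : ℂ) := (hy φ').symm.trans (hu φ')
    exact_mod_cast this
  have hy2 : ∀ (φ' : ↥c.rows), ∀ k ∈ c.cols, y (φ' * k) = u φ' + v := fun φ' k hk => by
    have : ((y (φ' * k) : ℤ) : ℂ) = ((u φ' + v : ℤ) : ℂ) := (hy _).symm.trans (huv φ' k hk)
    exact_mod_cast this
  have hsq := c.grid_sq hy1 hy2
  set T : ℤ := ∑ φ', ((1 + u φ') ^ 2 + ((Nat.card W₂ : ℤ) - 1) * (u φ' + v) ^ 2) with hT
  have hnorm : (Cfsg.classInner (c.τ (c.beta ζ)) (c.τ (c.beta ζ))).re = (Nat.card W₁ : ℝ) + 1 := by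
    rw [c.tau_inner (c.beta_class hζm) hbs (c.beta_class hζm) hbs, c.beta_norm hζm hirr]
    norm_cast
  have hsymm : ∀ φ' : ↥c.rows, u ⟨(φ' : ↥W →* ℂˣ)⁻¹, c.inv_mem_rows φ'.2⟩ = u φ' := by
    intro φ'
    have hc : ∀ ω, Cfsg.classInner (Cfsg.conjFun (c.τ (c.beta ζ))) (c.η ω) =
        Cfsg.classInner (c.τ (c.beta ζ)) (c.η ω) := by
      intro ω
      have hb : Cfsg.conjFun (c.beta ζ) = c.beta ζ + (ζ - Cfsg.conjFun ζ) := by
        have h1 : Cfsg.conjFun (redChar c.μ 1) = redChar c.μ 1 := by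
          rw [c.redChar_eq]
          have : Cfsg.conjFun (∑ φ ∈ c.rows, c.μ (φ * 1)) =
              ∑ φ ∈ c.rows, Cfsg.conjFun (c.μ (φ * 1)) := by
            funext l; simp [Cfsg.conjFun, Finset.sum_apply]
          rw [this]
          refine Finset.sum_nbij' (fun φ => φ⁻¹) (fun φ => φ⁻¹) (fun φ h => c.inv_mem_rows h)
            (fun φ h => c.inv_mem_rows h) (fun φ _ => inv_inv φ) (fun φ _ => inv_inv φ)
            fun φ _ => ?_
          rw [c.chars.conj, hom_mul_one, hom_mul_one]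
        funext l
        have := congrFun h1 l
        simp only [Cfsg.conjFun] at this
        simp only [beta, Cfsg.conjFun, Pi.sub_apply, Pi.add_apply, map_sub, this]
        ring
      rw [← c.tau_conj, hb, c.tau_add, hY.diff ζ hζ _ (hY.closed ζ hζ), classInner_add_left,
        classInner_sub_left, hY.eta ζ hζ, hY.eta _ (hY.closed ζ hζ), sub_zero, add_zero]
    have h' := c.coef_symm hbg hc (φ' : ↥W →* ℂˣ)
    rw [hu φ', show Cfsg.classInner (c.τ (c.beta ζ)) (c.η (φ' : ↥W →* ℂˣ)⁻¹) =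
      ((1 + u ⟨(φ' : ↥W →* ℂˣ)⁻¹, c.inv_mem_rows φ'.2⟩ : ℤ) : ℂ) from
        hu ⟨(φ' : ↥W →* ℂˣ)⁻¹, c.inv_mem_rows φ'.2⟩] at h'
    have : 1 + u ⟨(φ' : ↥W →* ℂˣ)⁻¹, c.inv_mem_rows φ'.2⟩ = 1 + u φ' := by exact_mod_cast h'
    linarith
  have hN := hY.two_le c hζ
  have hf : (0 : ℤ) ≤ (Y.card : ℤ) * a ^ 2 - 2 * a := by
    rcases le_or_gt a 0 with h | h
    · nlinarith
    · have : (2 : ℤ) * a ^ 2 ≤ (Y.card : ℤ) * a ^ 2 := by
        exact mul_le_mul_of_nonneg_right (by exact_mod_cast hN) (sq_nonneg a)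
      nlinarith
  have hfam : ∀ {ι : Type u} [DecidableEq ι] (s : Finset ι) (f : ι → G → ℂ) (m x : ι → ℝ),
      (∀ i ∈ s, m i ≠ 0) →
      (∀ i ∈ s, ∀ j ∈ s, Cfsg.classInner (f i) (f j) = if i = j then (m i : ℂ) else 0) →
      (∀ i ∈ s, ∀ ω, Cfsg.classInner (f i) (c.η ω) = 0) →
      (∀ i ∈ s, ∀ χ ∈ Y, Cfsg.classInner (f i) (z χ) = 0) →
      (∀ i ∈ s, Cfsg.classInner (c.τ (c.beta ζ)) (f i) = x i) →
      (((Y.card : ℤ) * a ^ 2 - 2 * a : ℤ) : ℝ) + (T : ℝ) + ∑ i ∈ s, x i ^ 2 / m i ≤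
        (Nat.card W₁ : ℝ) := by
    intro ι _ s f m x hm hf hfη hfz hx
    have h := (hY.split c hζ ha hy s hm hf hfη hfz hx).1
    rw [hnorm, hsq] at h
    push_cast at h ⊢
    linarith
  have h0 := hfam (∅ : Finset (ULift.{u} (Fin 0))) (fun _ => 0) (fun _ => 1) (fun _ => 0)
    (by simp) (by simp) (by simp) (by simp) (by simp)
  rw [Finset.sum_empty, add_zero] at h0
  have h0' : (Y.card : ℤ) * a ^ 2 - 2 * a + T ≤ (Nat.card W₁ : ℤ) := by exact_mod_cast h0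
  have hfix : ∀ φ' : ↥c.rows, (⟨(φ' : ↥W →* ℂˣ)⁻¹, c.inv_mem_rows φ'.2⟩ : ↥c.rows) = φ' ↔
      φ' = ⟨1, c.one_mem_rows⟩ := by
    intro φ'
    constructor
    · intro h
      have h2 : (φ' : ↥W →* ℂˣ) ^ 2 = 1 := by
        rw [pow_two]
        nth_rewrite 1 [← congrArg Subtype.val h]
        exact MonoidHom.ext fun w => by simp
      refine Subtype.ext (MonoidHom.ext fun w => ?_)
      have hw2 : ((φ' : ↥W →* ℂˣ) w) ^ 2 = 1 := DFunLike.congr_fun h2 w
      have hwn : ((φ' : ↥W →* ℂˣ) w) ^ Nat.card ↥W = 1 := by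
        rw [← map_pow, pow_card_eq_one', map_one]
      have hco : Nat.Coprime 2 (Nat.card ↥W) := Nat.coprime_two_left.mpr c.odd_W
      exact orderOf_eq_one_iff.mp (Nat.eq_one_of_dvd_coprimes hco (orderOf_dvd_of_pow_eq_one hw2)
        (orderOf_dvd_of_pow_eq_one hwn))
    · rintro rfl
      exact Subtype.ext (MonoidHom.ext fun w => by simp)
  rcases s10_beta_case u v (Nat.card W₂) (Nat.card W₁) (by exact_mod_cast c.p_three)
      (by rw [Fintype.card_coe, c.card_rows])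
      (fun φ' => ⟨(φ' : ↥W →* ℂˣ)⁻¹, c.inv_mem_rows φ'.2⟩)
      (fun φ' => Subtype.ext (MonoidHom.ext fun w => by simp)) hfix hsymm hu1 hT (by linarith) with
    ⟨hu0, hv0, hTq⟩ | ⟨hb, hpT⟩
  · left
    have hf0 : (Y.card : ℤ) * a ^ 2 - 2 * a = 0 := by linarith
    -- a choice of the map with coefficient zero
    obtain ⟨z', hY', ha'⟩ : ∃ z', c.Base Y z' ∧ ∀ χ ∈ Y,
        Cfsg.classInner (c.τ (c.beta ζ)) (z' χ) =
          (((if χ = ζ then (0 : ℤ) - 1 else 0) : ℤ) : ℂ) := by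
      by_cases ha0 : a = 0
      · exact ⟨z, hY, fun χ hχ => by rw [ha χ hχ, ha0]⟩
      have hNa : (Y.card : ℤ) * a = 2 := by
        have : a * ((Y.card : ℤ) * a - 2) = 0 := by linear_combination hf0
        rcases mul_eq_zero.mp this with h | h
        · exact absurd h ha0
        · linarith
      have ha1 : a = 1 := by
        have h1 : 0 < a := by
          by_contra h
          have : (Y.card : ℤ) * a ≤ 0 :=
            mul_nonpos_of_nonneg_of_nonpos (Int.natCast_nonneg _) (not_lt.mp h)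
          omega
        by_contra h
        have : (2 : ℤ) * 2 ≤ (Y.card : ℤ) * a :=
          mul_le_mul (by exact_mod_cast hN) (by omega) (by norm_num) (Int.natCast_nonneg _)
        omega
      subst ha1
      have hcard : Y.card = 2 := by exact_mod_cast (by linarith : (Y.card : ℤ) = 2)
      refine ⟨_, hY.swap c hcard, fun χ hχ => ?_⟩
      rw [classInner_neg_right, ha _ (hY.closed χ hχ)]
      have hc : Cfsg.conjFun χ ≠ χ := c.system.conj_ne χ (hY.mem χ hχ)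
      have hYeq : Y = {χ, Cfsg.conjFun χ} := (Finset.eq_of_subset_of_card_le
        (Finset.insert_subset hχ (Finset.singleton_subset_iff.mpr (hY.closed χ hχ)))
        (by rw [Finset.card_pair hc.symm, hcard])).symm
      rw [hYeq, Finset.mem_insert, Finset.mem_singleton] at hζ
      rcases hζ with h | h
      · rw [if_neg (by rw [h]; exact hc), if_pos h.symm]; simp
      · rw [if_pos h.symm, if_neg (by rw [h]; exact fun e => hc e.symm)]; simp
    refine ⟨z', hY', ?_⟩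
    have hsp := (hY'.split c hζ ha' hy (∅ : Finset (Fin 0)) (f := fun i => i.elim0)
      (m := fun _ => 1) (x := fun _ => 0) (by simp) (by simp) (by simp) (by simp) (by simp)).2
      rfl rfl (by rw [hnorm, hsq, hTq]; push_cast; linarith)
    rw [hsp, sub_eq_add_neg, add_comm (c.colSum 1)]
    refine congrArg₂ _ (by simp) ?_
    rw [colSum, c.sum_grid, Finset.sum_congr rfl]
    intro φ hφ
    rw [Finset.sum_eq_zero, add_zero, hom_mul_one, show y φ = 1 from by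
      rw [hy1 ⟨φ, hφ⟩, hu0]; rfl, Int.cast_one, one_smul]
    intro k hk
    rw [hy2 ⟨φ, hφ⟩ k hk, hu0, hv0]
    simp
  · refine Or.inr ⟨(∑ φ', u φ') + Nat.card W₁ * v, hb, fun k hk => ?_,
      fun s f m x h1 h2 h3 h4 h5 => ?_⟩
    · rw [c.inner_colSum, ← Finset.sum_coe_sort c.rows,
        Finset.sum_congr rfl fun φ' _ => huv φ' k hk]
      push_cast
      rw [Finset.sum_add_distrib, Finset.sum_const, Finset.card_univ, Fintype.card_coe,
        c.card_rows, nsmul_eq_mul]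
    · have h := hfam s f m x h1 h2 h3 h4 h5
      have hpT' : (Nat.card W₂ : ℝ) ≤ (T : ℝ) := by exact_mod_cast hpT
      have hf' : (0 : ℝ) ≤ (((Y.card : ℤ) * a ^ 2 - 2 * a : ℤ) : ℝ) := by exact_mod_cast hf
      linarith

/-- When the image of `β` is exact and `n ≤ |Y|`, so are those of the `α`. -/
theorem alpha_exact (hd : c.Deg d n e) (hY : c.Base Y z) (hn : n ≤ Y.card) {ζ : ↥M → ℂ}
    (hζ : ζ ∈ Y) (hβ : c.τ (c.beta ζ) = c.colSum 1 - z ζ) {φ ψ : ↥W →* ℂˣ} (hφ : φ ∈ c.rows)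
    (hψ : ψ ∈ c.cols) :
    c.τ (c.alpha n e φ ψ ζ) = (e : ℂ) • (c.η (φ * ψ) - c.η φ) - (n : ℂ) • z ζ := by
  classical
  haveI := Fintype.ofFinite (↥W →* ℂˣ)
  obtain ⟨a, u, v, hu1, hsymm, haz, hu, hineq, hexact⟩ := c.alpha_data hd hY hφ hψ hζ
  have hζm := hY.mem ζ hζ
  have hirr := hY.irr ζ hζ
  have hζ1 := hY.deg ζ hζ
  have hbase := s10_base_nonneg u v e (Nat.card W₂) (by exact_mod_cast c.p_three) hd.sign hu1 (by
    by_contra hno
    push Not at hno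
    have h1 : Fintype.card ↥c.rows ≤ 1 :=
      Fintype.card_le_one_iff.mpr fun i j => (hno i).trans (hno j).symm
    rw [Fintype.card_coe, c.card_rows] at h1
    exact absurd h1 (by have := c.q_three; omega))
  -- the inner product with the image of `β`
  have hsum : ∑ φ', u φ' = a := by
    have h := c.tau_inner (c.alpha_class (n := n) (e := e) φ ψ hζm)
      (c.alpha_supp hd hφ hψ hζm hζ1) (c.beta_class hζm) (c.beta_supp hζm hζ1)
    rw [hβ, classInner_sub_right, haz, c.inner_colSum] at h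
    have h1 : ∀ φ' ∈ c.rows, Cfsg.classInner (c.τ (c.alpha n e φ ψ ζ)) (c.η (φ' * 1)) =
        Cfsg.classInner (c.devD n e φ ψ ζ) (c.η φ') - if φ' = φ then (e : ℂ) else 0 := by
      intro φ' hφ'
      rw [hom_mul_one, show c.τ (c.alpha n e φ ψ ζ) =
        c.devD n e φ ψ ζ + (e : ℂ) • (c.η (φ * ψ) - c.η φ) by rw [devD, sub_add_cancel],
        classInner_add_left, classInner_smul_left, classInner_sub_left, c.eta_inner, c.eta_inner,
        if_neg fun e' : φ * ψ = φ' => (c.mem_cols.mp hψ).2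
          ((c.eta_mul_eq hφ hφ' (c.mem_cols.mp hψ).1 onSecond_one).mp
            (e'.trans (hom_mul_one φ').symm)).2]
      by_cases h2 : φ' = φ
      · rw [if_pos h2.symm, if_pos h2]; ring
      · rw [if_neg fun e' => h2 e'.symm, if_neg h2]; ring
    rw [Finset.sum_congr rfl h1, Finset.sum_sub_distrib, Finset.sum_ite_eq' c.rows φ, if_pos hφ,
      ← Finset.sum_coe_sort c.rows, Finset.sum_congr rfl fun φ' _ => hu φ'] at h
    have hab : Cfsg.classInner (c.alpha n e φ ψ ζ) (c.beta ζ) = -(e : ℂ) + n := by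
      have h1 : ∀ ω, Cfsg.classInner (c.μ ω) ζ = 0 := c.mu_inner_irr hζm hirr
      have h2 : Cfsg.classInner ζ (redChar c.μ 1) = 0 := by
        rw [c.redChar_eq, classInner_sum_right]
        exact Finset.sum_eq_zero fun φ' _ => by rw [← classInner_conj_symm, h1, map_zero]
      have h3 : Cfsg.classInner (c.μ φ) (redChar c.μ 1) = 1 := by
        rw [← hom_mul_one φ, c.mu_inner_redChar hφ onSecond_one onSecond_one, if_pos rfl]
      simp only [alpha, beta, classInner_sub_left, classInner_sub_right, classInner_smul_left, h1,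
        h2, h3, c.mu_inner_redChar hφ (c.mem_cols.mp hψ).1 onSecond_one,
        if_neg (Ne.symm (c.mem_cols.mp hψ).2), classInner_self_irr hirr]
      ring
    rw [hab] at h
    have : ((∑ φ', u φ' : ℤ) : ℂ) = (a : ℂ) := by push_cast at h ⊢; linear_combination h
    exact_mod_cast this
  have hcases : a = 0 ∨ a = 1 ∨ (a = 2 ∧ 0 ≤ (Y.card : ℤ) * a ^ 2 - 2 * n * a) := by
    have hnN : (n : ℤ) ≤ (Y.card : ℤ) := by exact_mod_cast hn
    have hN : (2 : ℤ) ≤ (Y.card : ℤ) := by exact_mod_cast hY.two_le c hζ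
    by_contra hno
    push Not at hno
    obtain ⟨h1, h2, h3⟩ := hno
    rcases lt_or_gt_of_ne h1 with h | h
    · nlinarith [hbase.1]
    · by_cases h4 : a = 2
      · have h5 := h3 h4
        subst h4
        nlinarith
      · have : 3 ≤ a := by omega
        have h6 : 0 < (Y.card : ℤ) * a * (a - 2) :=
          mul_pos (mul_pos (by linarith) (by linarith)) (by linarith)
        nlinarith [hbase.1, mul_le_mul_of_nonneg_right hnN (show (0 : ℤ) ≤ 2 * a by omega)]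
  rcases hcases with rfl | rfl | ⟨rfl, hge⟩
  · obtain ⟨hu0, hv0⟩ := hbase.2 (by simpa using hineq)
    exact hexact rfl hu0 hv0
  · exfalso
    have hp := s10_sum_parity u (fun φ' => ⟨(φ' : ↥W →* ℂˣ)⁻¹, c.inv_mem_rows φ'.2⟩)
      (fun φ' => Subtype.ext (MonoidHom.ext fun w => by simp)) (i₀ := ⟨1, c.one_mem_rows⟩) (fun φ' => by
        constructor
        · intro h
          have h2 : (φ' : ↥W →* ℂˣ) ^ 2 = 1 := by
            rw [pow_two]
            nth_rewrite 1 [← congrArg Subtype.val h]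
            exact MonoidHom.ext fun w => by simp
          refine Subtype.ext (MonoidHom.ext fun w => ?_)
          exact orderOf_eq_one_iff.mp (Nat.eq_one_of_dvd_coprimes
            (Nat.coprime_two_left.mpr c.odd_W) (orderOf_dvd_of_pow_eq_one (DFunLike.congr_fun h2 w))
            (orderOf_dvd_of_pow_eq_one (by rw [← map_pow, pow_card_eq_one', map_one])))
        · rintro rfl
          exact Subtype.ext (MonoidHom.ext fun w => by simp)) hsymm
    rw [hsum, hu1] at hp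
    omega
  · exfalso
    obtain ⟨hu0, -⟩ := hbase.2 (by linarith)
    rw [Finset.sum_eq_zero fun φ' _ => hu0 φ'] at hsum
    exact absurd hsum (by norm_num)

/-- The gluing of `Y` to the column sums. -/
theorem glue (hY : c.Base Y z) (hd : c.Deg d n e) (hn : n ≤ Y.card) {ζ : ↥M → ℂ} (hζ : ζ ∈ Y) :
    (∃ z', c.Base Y z' ∧ ∀ ψ ∈ c.cols, c.τ (redChar c.μ ψ - (d : ℂ) • ζ) =
      (e : ℂ) • c.colSum ψ - (d : ℂ) • z' ζ) ∨
    ∃ b : ℤ, b ≠ 0 ∧ (∀ ψ ∈ c.cols, Cfsg.classInner (c.τ (c.beta ζ)) (c.colSum ψ) = (b : ℂ)) ∧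
      ∀ {ι : Type u} [DecidableEq ι] (s : Finset ι) (f : ι → G → ℂ) (m x : ι → ℝ),
        (∀ i ∈ s, m i ≠ 0) →
        (∀ i ∈ s, ∀ j ∈ s, Cfsg.classInner (f i) (f j) = if i = j then (m i : ℂ) else 0) →
        (∀ i ∈ s, ∀ ω, Cfsg.classInner (f i) (c.η ω) = 0) →
        (∀ i ∈ s, ∀ χ ∈ Y, Cfsg.classInner (f i) (z χ) = 0) →
        (∀ i ∈ s, Cfsg.classInner (c.τ (c.beta ζ)) (f i) = x i) →
        (Nat.card W₂ : ℝ) + ∑ i ∈ s, x i ^ 2 / m i ≤ (Nat.card W₁ : ℝ) := by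
  rcases c.beta_cases hY hd hζ with ⟨z', hY', hβ⟩ | h
  swap
  · exact Or.inr h
  refine Or.inl ⟨z', hY', fun ψ hψ => ?_⟩
  have hd' : (d : ℂ) = (e : ℂ) + (n : ℂ) * (Nat.card W₁ : ℂ) := by
    have := congrArg (Int.cast : ℤ → ℂ) hd.eq
    push_cast at this
    exact this
  have hsum : redChar c.μ ψ - (d : ℂ) • ζ =
      (∑ φ ∈ c.rows, c.alpha n e φ ψ ζ) + (e : ℂ) • c.beta ζ := by
    funext l
    simp only [alpha, beta, c.redChar_eq, hom_mul_one, Pi.sub_apply, Pi.add_apply, Pi.smul_apply,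
      smul_eq_mul, Finset.sum_apply]
    simp only [Finset.sum_sub_distrib, ← Finset.mul_sum, Finset.sum_const,
      c.card_rows, nsmul_eq_mul, hd']
    ring
  rw [hsum, c.tau_add, c.tau_sum, c.tau_smul, hβ,
    Finset.sum_congr rfl fun φ hφ => c.alpha_exact hd hY' hn hζ hβ hφ hψ]
  funext g
  simp only [colSum, hom_mul_one, Pi.sub_apply, Pi.add_apply, Pi.smul_apply, smul_eq_mul,
    Finset.sum_apply]
  simp only [Finset.sum_sub_distrib, ← Finset.mul_sum, Finset.sum_const, c.card_rows,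
    nsmul_eq_mul, hd']
  ring

end Setup10

end Cfsg.Agent.PF
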