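import Cfsg.Agent.OddChar.PF.S10Chars
import Cfsg.Agent.S1501

/-!
# Section 10: the Dade map and the coefficients in the cyclic TI family
-/

set_option linter.unusedSectionVars false
set_option linter.unusedVariables false
set_option linter.style.haveILetI false
set_option autoImplicit false

universe u

namespace Cfsg.Agent.PF

open Cfsg.Lib.Chars Cfsg.Lib.CyclicTI Cfsg.Lib.Dade Cfsg.Lib.Coherence
open scoped ComplexConjugate

namespace Setup10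

variable {G : Type u} [Group G] [Fintype G] {M K W₁ W₂ : Subgroup G} [Fintype M]

local notation "W" => (W₁ ⊔ W₂ : Subgroup G)

/-- `f` vanishes outside `A₀`. -/
def Supp (c : Setup10 M K W₁ W₂) (f : ↥M → ℂ) : Prop := ∀ l : M, (l : G) ∉ c.A₀ → f l = 0

variable (c : Setup10 M K W₁ W₂)
include c

/-! ### The Dade map -/

theorem supp_of_K {f : ↥M → ℂ} (h1 : f 1 = 0) (hK : ∀ l : M, (l : G) ∉ K → f l = 0) : c.Supp f := by
  intro l hl
  by_cases hlK : (l : G) ∈ K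
  · by_cases h : (l : G) = 1
    · rw [show l = 1 from Subtype.ext h, h1]
    · exact absurd (c.pd.A_subset_A₀ ⟨hlK, h⟩) hl
  · exact hK l hlK

theorem tau_inner {f g : ↥M → ℂ} (hf : Cfsg.IsClassFunction M f) (hfs : c.Supp f)
    (hg : Cfsg.IsClassFunction M g) (hgs : c.Supp g) :
    Cfsg.classInner (c.τ f) (c.τ g) = Cfsg.classInner f g :=
  (Cfsg.Agent.S1500.result c.A₀ M c.R c.hD f hf hfs).1 g hg hgs

theorem tau_gen {f : ↥M → ℂ} (hf : Cfsg.IsGeneralizedCharacter M f) (hfs : c.Supp f) :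
    Cfsg.IsGeneralizedCharacter G (c.τ f) :=
  Cfsg.Agent.S1501.result c.A₀ M c.R c.hD f hf hfs

theorem tau_inner_one {f : ↥M → ℂ} (hf : Cfsg.IsClassFunction M f) (hfs : c.Supp f) :
    Cfsg.classInner (c.τ f) (c.η 1) = Cfsg.classInner f (fun _ => 1) := by
  rw [c.fam.map_one, inner_dade c.hD hf hfs (fun _ _ => rfl), classInner_def, classInner_def]
  congr 1
  refine Finset.sum_congr rfl fun l _ => ?_
  by_cases hl : (l : G) ∈ c.A₀
  · rw [rho_one hl]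
  · rw [hfs l hl, zero_mul, zero_mul]

theorem mem_A₀_of_V {w : ↥W} (h1 : (w : G) ∉ W₁) (h2 : (w : G) ∉ W₂) : (w : G) ∈ c.A₀ := by
  simpa using c.pd.V_subset 1 (one_mem M) w w.2 h1 h2

theorem not_K_of_off {w : ↥W} (h2 : (w : G) ∉ W₂) : (w : G) ∉ K := fun h => h2 (c.W_inf_K w.2 h)

theorem tau_V {f : ↥M → ℂ} (hf : Cfsg.IsClassFunction M f) {w : ↥W} (h1 : (w : G) ∉ W₁)
    (h2 : (w : G) ∉ W₂) : c.τ f w = f ⟨w, c.W_le w.2⟩ :=
  dade_apply c.hD hf ⟨w, c.W_le w.2⟩ (c.mem_A₀_of_V h1 h2) (one_mem (c.R (w : G))) (x := 1) (by simp)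

theorem tau_add (f g : ↥M → ℂ) : c.τ (f + g) = c.τ f + c.τ g := dade_add f g

theorem tau_sub (f g : ↥M → ℂ) : c.τ (f - g) = c.τ f - c.τ g := dade_sub f g

theorem tau_zsmul (n : ℤ) (f : ↥M → ℂ) : c.τ (n • f) = n • c.τ f := dade_zsmul n f

theorem tau_smul (a : ℂ) (f : ↥M → ℂ) : c.τ (a • f) = a • c.τ f := by
  funext g
  simp only [Setup10.τ, Cfsg.dadeIsometry, Pi.smul_apply]
  split_ifs <;> simp

/-! ### Coefficients in the family -/

theorem eta_inner (ω ω' : ↥W →* ℂˣ) [Decidable (ω = ω')] :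
    Cfsg.classInner (c.η ω) (c.η ω') = if ω = ω' then 1 else 0 := by
  classical
  exact (c.fam.orthonormal ω ω').trans (by congr)

theorem eta_mul_eq {φ φ' ψ ψ' : ↥W →* ℂˣ} (hφ : φ ∈ c.rows) (hφ' : φ' ∈ c.rows)
    (hψ : OnSecond ψ) (hψ' : OnSecond ψ') : φ * ψ = φ' * ψ' ↔ φ = φ' ∧ ψ = ψ' :=
  mul_eq_iff c.hW (c.mem_rows.mp hφ) hψ (c.mem_rows.mp hφ') hψ'

theorem coef_add {θ : G → ℂ} (hθ : Cfsg.IsClassFunction G θ)
    (hV : ∀ w : ↥W, (w : G) ∉ W₁ → (w : G) ∉ W₂ → θ w = 0) {φ ψ : ↥W →* ℂˣ} (hφ : φ ∈ c.rows)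
    (hψ : OnSecond ψ) :
    Cfsg.classInner θ (c.η (φ * ψ)) =
      Cfsg.classInner θ (c.η φ) + Cfsg.classInner θ (c.η ψ) - Cfsg.classInner θ (c.η 1) := by
  haveI := Fintype.ofFinite ↥W
  exact coeff_add c.fam hθ hV (c.mem_rows.mp hφ) hψ

theorem inner_colSum (θ : G → ℂ) (ψ : ↥W →* ℂˣ) :
    Cfsg.classInner θ (c.colSum ψ) = ∑ φ ∈ c.rows, Cfsg.classInner θ (c.η (φ * ψ)) := by
  rw [colSum, classInner_sum_right]

theorem colSum_inner_eta {φ ψ ψ' : ↥W →* ℂˣ} (hφ : φ ∈ c.rows) (hψ : OnSecond ψ)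
    (hψ' : OnSecond ψ') [Decidable (ψ' = ψ)] :
    Cfsg.classInner (c.colSum ψ') (c.η (φ * ψ)) = if ψ' = ψ then 1 else 0 := by
  classical
  rw [colSum, classInner_sum_left, Finset.sum_congr rfl fun φ' hφ' => show
    Cfsg.classInner (c.η (φ' * ψ')) (c.η (φ * ψ)) =
      if φ' = φ then (if ψ' = ψ then (1 : ℂ) else 0) else 0 from ?_]
  · rw [Finset.sum_ite_eq' c.rows φ, if_pos hφ]
  · rw [c.eta_inner]
    by_cases h : φ' = φ <;> by_cases h' : ψ' = ψ <;> simp [c.eta_mul_eq hφ' hφ hψ' hψ, h, h']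

theorem colSum_inner {ψ ψ' : ↥W →* ℂˣ} (hψ : OnSecond ψ) (hψ' : OnSecond ψ')
    [Decidable (ψ' = ψ)] :
    Cfsg.classInner (c.colSum ψ') (c.colSum ψ) = if ψ' = ψ then (Nat.card W₁ : ℂ) else 0 := by
  rw [c.inner_colSum, Finset.sum_congr rfl fun φ hφ => c.colSum_inner_eta hφ hψ hψ',
    Finset.sum_const, c.card_rows]
  split_ifs <;> simp

theorem colSum_gen (ψ : ↥W →* ℂˣ) : Cfsg.IsGeneralizedCharacter G (c.colSum ψ) := by
  classical
  unfold colSum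
  induction c.rows using Finset.induction_on with
  | empty => simpa using isGeneralized_zero
  | insert a s ha ih =>
    rw [Finset.sum_insert ha]
    exact IsGeneralizedCharacter.add (c.eta_gen _) ih

theorem colSum_inv (ψ : ↥W →* ℂˣ) : c.colSum ψ⁻¹ = Cfsg.conjFun (c.colSum ψ) := by
  have hsum : Cfsg.conjFun (c.colSum ψ) = ∑ φ ∈ c.rows, Cfsg.conjFun (c.η (φ * ψ)) := by
    funext g
    simp [colSum, Cfsg.conjFun, Finset.sum_apply]
  rw [hsum, colSum]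
  refine Finset.sum_nbij' (fun φ => φ⁻¹) (fun φ => φ⁻¹) (fun φ h => c.inv_mem_rows h)
    (fun φ h => c.inv_mem_rows h) (fun φ _ => inv_inv φ) (fun φ _ => inv_inv φ) fun φ _ => ?_
  rw [← c.eta_inv]
  congr 1
  refine MonoidHom.ext fun w => ?_
  simp [MonoidHom.mul_apply, mul_comm]

/-- The integer coefficients of a virtual character vanishing on `V`, with equal column sums off
the trivial column; `c₀` is its coefficient at the principal character. -/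
theorem grid_data {θ : G → ℂ} (hθ : Cfsg.IsGeneralizedCharacter G θ)
    (hV : ∀ w : ↥W, (w : G) ∉ W₁ → (w : G) ∉ W₂ → θ w = 0) {c₀ : ℤ}
    (h₀ : Cfsg.classInner θ (c.η 1) = c₀)
    (hcol : ∀ ψ ∈ c.cols, ∀ ψ' ∈ c.cols,
      Cfsg.classInner θ (c.colSum ψ) = Cfsg.classInner θ (c.colSum ψ')) :
    ∃ (u : ↥c.rows → ℤ) (v : ℤ), u ⟨1, c.one_mem_rows⟩ = 0 ∧
      (∀ φ : ↥c.rows, Cfsg.classInner θ (c.η φ) = ((c₀ + u φ : ℤ) : ℂ)) ∧
      ∀ (φ : ↥c.rows), ∀ ψ ∈ c.cols, Cfsg.classInner θ (c.η (φ * ψ)) = ((u φ + v : ℤ) : ℂ) := by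
  classical
  choose z hz using fun ω : ↥W →* ℂˣ => inner_int hθ (c.eta_gen ω)
  obtain ⟨ψ₀, hψ₀⟩ := c.cols_nonempty
  refine ⟨fun φ => z φ - c₀, z ψ₀, ?_, fun φ => by rw [hz]; simp, fun φ ψ hψ => ?_⟩
  · have : ((z 1 : ℤ) : ℂ) = (c₀ : ℂ) := (hz 1).symm.trans h₀
    have h1 : z 1 = c₀ := by exact_mod_cast this
    simp [h1]
  · have hθc := isClassFunction_generalized hθ
    have hz0 : ∀ ψ ∈ c.cols, Cfsg.classInner θ (c.η ψ) = (z ψ₀ : ℂ) := by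
      intro ψ hψ
      have h := hcol ψ hψ ψ₀ hψ₀
      rw [c.inner_colSum, c.inner_colSum,
        Finset.sum_congr rfl fun φ hφ => c.coef_add hθc hV hφ (c.mem_cols.mp hψ).1,
        Finset.sum_congr rfl fun φ hφ => c.coef_add hθc hV hφ (c.mem_cols.mp hψ₀).1] at h
      simp only [Finset.sum_sub_distrib, Finset.sum_add_distrib, Finset.sum_const, c.card_rows,
        nsmul_eq_mul] at h
      rw [hz ψ₀] at h
      have hq : (Nat.card W₁ : ℂ) ≠ 0 := Nat.cast_ne_zero.mpr Nat.card_pos.ne'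
      exact mul_left_cancel₀ hq (by linear_combination h)
    rw [c.coef_add hθc hV φ.2 (c.mem_cols.mp hψ).1, hz (φ : ↥W →* ℂˣ), hz0 ψ hψ, h₀]
    push_cast
    ring

/-- Symmetry of the coefficients under conjugation. -/
theorem coef_symm {θ : G → ℂ} (hθ : Cfsg.IsGeneralizedCharacter G θ)
    (h : ∀ ω, Cfsg.classInner (Cfsg.conjFun θ) (c.η ω) = Cfsg.classInner θ (c.η ω))
    (ω : ↥W →* ℂˣ) : Cfsg.classInner θ (c.η ω⁻¹) = Cfsg.classInner θ (c.η ω) := by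
  obtain ⟨z, hz⟩ := inner_int hθ (c.eta_gen ω)
  rw [← h, c.eta_inv, Cfsg.Lib.Coherence.classInner_conjFun, hz, map_intCast]

/-- The sum of the squares of coefficients given by `grid_data`. -/
theorem grid_sq [Fintype (↥W →* ℂˣ)] {y : (↥W →* ℂˣ) → ℤ} {u : ↥c.rows → ℤ} {c₀ v : ℤ}
    (h1 : ∀ φ : ↥c.rows, y φ = c₀ + u φ)
    (h2 : ∀ (φ : ↥c.rows), ∀ ψ ∈ c.cols, y (φ * ψ) = u φ + v) :
    ∑ ω, y ω ^ 2 = ∑ φ, ((c₀ + u φ) ^ 2 + ((Nat.card W₂ : ℤ) - 1) * (u φ + v) ^ 2) := by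
  rw [c.sum_grid, ← Finset.sum_coe_sort c.rows]
  refine Finset.sum_congr rfl fun φ _ => ?_
  rw [h1, Finset.sum_congr rfl fun ψ hψ => by rw [h2 φ ψ hψ], Finset.sum_const, nsmul_eq_mul]
  congr 2
  have := c.card_cols
  omega

/-- Bessel's inequality for the cyclic TI family with an orthogonal family beside it, and the case
of equality. -/
theorem norm_split [Fintype (↥W →* ℂˣ)] {ι : Type*} [DecidableEq ι] (s : Finset ι) {e : ι → G → ℂ} {n x : ι → ℝ}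
    (hn : ∀ i ∈ s, n i ≠ 0)
    (he : ∀ i ∈ s, ∀ j ∈ s, Cfsg.classInner (e i) (e j) = if i = j then (n i : ℂ) else 0)
    (heη : ∀ i ∈ s, ∀ ω, Cfsg.classInner (e i) (c.η ω) = 0) {θ : G → ℂ}
    (hx : ∀ i ∈ s, Cfsg.classInner θ (e i) = x i) {y : (↥W →* ℂˣ) → ℤ}
    (hy : ∀ ω, Cfsg.classInner θ (c.η ω) = y ω) :
    ∑ i ∈ s, x i ^ 2 / n i + ((∑ ω, y ω ^ 2 : ℤ) : ℝ) ≤ (Cfsg.classInner θ θ).re ∧
      ((Cfsg.classInner θ θ).re ≤ ∑ i ∈ s, x i ^ 2 / n i + ((∑ ω, y ω ^ 2 : ℤ) : ℝ) →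
        θ = (∑ i ∈ s, ((x i / n i : ℝ) : ℂ) • e i) + ∑ ω, (y ω : ℂ) • c.η ω) := by
  classical
  set e' : ι ⊕ (↥W →* ℂˣ) → G → ℂ := Sum.elim e c.η with he'
  set n' : ι ⊕ (↥W →* ℂˣ) → ℝ := Sum.elim n fun _ => 1 with hn'
  set x' : ι ⊕ (↥W →* ℂˣ) → ℝ := Sum.elim x fun ω => (y ω : ℝ) with hx'
  set t : Finset (ι ⊕ (↥W →* ℂˣ)) := s.disjSum Finset.univ with ht
  have h := project t (e := e') (n := n') ?_ ?_ (a := θ) (x := x') ?_
  · obtain ⟨-, hN⟩ := h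
    have hpos := inner_self_re_nonneg (θ - comb t e' fun i => x' i / n' i)
    have hsum : ∑ i ∈ t, x' i ^ 2 / n' i =
        ∑ i ∈ s, x i ^ 2 / n i + ((∑ ω, y ω ^ 2 : ℤ) : ℝ) := by
      simp [t, Finset.sum_disjSum, n', x']
    refine ⟨by linarith, fun hle => ?_⟩
    have hz := eq_zero_of_inner_self_re (f := θ - comb t e' fun i => x' i / n' i) (by linarith)
    rw [sub_eq_zero.mp hz]
    simp [comb, t, Finset.sum_disjSum, e', n', x']
  · rintro (i | ω) hi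
    · exact hn i (by simpa [t] using hi)
    · simp [n']
  · rintro (i | ω) hi (j | ω') hj
    · simp only [e', n', Sum.elim_inl, Sum.inl.injEq]
      exact he i (by simpa [t] using hi) j (by simpa [t] using hj)
    · simp only [e', n', Sum.elim_inl, Sum.elim_inr, reduceCtorEq, if_false]
      exact heη i (by simpa [t] using hi) ω'
    · simp only [e', n', Sum.elim_inl, Sum.elim_inr, reduceCtorEq, if_false]
      rw [← classInner_conj_symm, heη j (by simpa [t] using hj) ω, map_zero]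
    · simp only [e', n', Sum.elim_inr, Sum.inr.injEq, Complex.ofReal_one]
      exact c.eta_inner ω ω'
  · rintro (i | ω) hi
    · exact hx i (by simpa [t] using hi)
    · simp only [e', x', Sum.elim_inr, hy]
      simp

/-! ### The members of the induced family -/

theorem redChar_one {ψ : ↥W →* ℂˣ} : redChar c.μ ψ 1 = (Nat.card W₁ : ℂ) * c.μ ψ 1 := by
  rw [c.redChar_eq, Finset.sum_apply, Finset.sum_congr rfl fun φ hφ => c.mu_apply_one_col hφ,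
    Finset.sum_const, c.card_rows, nsmul_eq_mul]

theorem mu_inner_redChar {φ ψ ψ' : ↥W →* ℂˣ} (hφ : φ ∈ c.rows) (hψ : OnSecond ψ)
    (hψ' : OnSecond ψ') [Decidable (ψ' = ψ)] :
    Cfsg.classInner (c.μ (φ * ψ)) (redChar c.μ ψ') = if ψ' = ψ then 1 else 0 := by
  classical
  rw [c.redChar_eq, classInner_sum_right, Finset.sum_congr rfl fun φ' hφ' => show
    Cfsg.classInner (c.μ (φ * ψ)) (c.μ (φ' * ψ')) =
      if φ' = φ then (if ψ' = ψ then (1 : ℂ) else 0) else 0 from ?_]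
  · rw [Finset.sum_ite_eq' c.rows φ, if_pos hφ]
  · rw [c.mu_inner]
    have := c.eta_mul_eq hφ hφ' hψ hψ'
    by_cases h : φ' = φ <;> by_cases h' : ψ' = ψ <;>
      simp [this, h, h', Ne.symm, eq_comm (a := φ), eq_comm (a := ψ)]

theorem redChar_inner {ψ ψ' : ↥W →* ℂˣ} (hψ : OnSecond ψ) (hψ' : OnSecond ψ')
    [Decidable (ψ' = ψ)] :
    Cfsg.classInner (redChar c.μ ψ) (redChar c.μ ψ') = if ψ' = ψ then (Nat.card W₁ : ℂ) else 0 := by
  conv_lhs => rw [c.redChar_eq ψ]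
  rw [classInner_sum_left, Finset.sum_congr rfl fun φ hφ => c.mu_inner_redChar hφ hψ hψ',
    Finset.sum_const, c.card_rows]
  split_ifs <;> simp

theorem redChar_mem {ψ : ↥W →* ℂˣ} (hψ : ψ ∈ c.cols) :
    redChar c.μ ψ ∈ Cfsg.inducedIrrAbove (K.subgroupOf M) ⊥ := by
  obtain ⟨d, n, e, -, -, hd, -, hdeg⟩ := c.exists_deg
  refine ⟨_, c.chars.res_irr ψ, fun h => ?_,
    fun a ha => by rw [show a = 1 from Subtype.ext (Subgroup.mem_bot.mp ha)],
    c.red_ind ψ (c.mem_cols.mp hψ).1⟩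
  have h1 := congrFun h 1
  simp only [OneMemClass.coe_one, (hdeg ψ hψ).1] at h1
  have : d = 1 := by exact_mod_cast h1
  omega

theorem redChar_not_irr {ψ : ↥W →* ℂˣ} (hψ : OnSecond ψ) :
    ¬ Cfsg.IsIrrCharacter ↥M (redChar c.μ ψ) := by
  classical
  intro h
  have h1 := classInner_self_irr h
  rw [c.redChar_inner hψ hψ, if_pos rfl] at h1
  have : Nat.card W₁ = 1 := by exact_mod_cast h1
  have := c.q_three
  omega

/-- A member of the family is irreducible or one of the column sums. -/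
theorem member_cases {χ : ↥M → ℂ} (hχ : χ ∈ Cfsg.inducedIrrAbove (K.subgroupOf M) ⊥) :
    Cfsg.IsIrrCharacter ↥M χ ∨ ∃ ψ ∈ c.cols, χ = redChar c.μ ψ := by
  obtain ⟨θ, hθ, h1, -, rfl⟩ := hχ
  rcases c.classify θ hθ with h | ⟨ψ, hψ, rfl⟩
  · exact Or.inl h
  · refine Or.inr ⟨ψ, c.mem_cols.mpr ⟨hψ, ?_⟩, (c.red_ind ψ hψ).symm⟩
    rintro rfl
    exact h1 (funext fun k => by rw [c.mu_one])

theorem irr_inner_redChar {χ : ↥M → ℂ} (hχ : χ ∈ Cfsg.inducedIrrAbove (K.subgroupOf M) ⊥)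
    (hirr : Cfsg.IsIrrCharacter ↥M χ) {ψ : ↥W →* ℂˣ} (hψ : ψ ∈ c.cols) :
    Cfsg.classInner χ (redChar c.μ ψ) = 0 :=
  c.system.orthogonal χ hχ _ (c.redChar_mem hψ) fun e =>
    c.redChar_not_irr (c.mem_cols.mp hψ).1 (e ▸ hirr)

theorem vanish_off {χ : ↥M → ℂ} (hχ : χ ∈ Cfsg.inducedIrrAbove (K.subgroupOf M) ⊥) {l : M}
    (hl : (l : G) ∉ K) : χ l = 0 := by
  haveI := c.normal
  obtain ⟨θ, -, -, -, rfl⟩ := hχ
  exact indFun_normal_not_mem _ θ hl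

theorem mu_inner_irr {χ : ↥M → ℂ} (hχ : χ ∈ Cfsg.inducedIrrAbove (K.subgroupOf M) ⊥)
    (hirr : Cfsg.IsIrrCharacter ↥M χ) (ω : ↥W →* ℂˣ) : Cfsg.classInner (c.μ ω) χ = 0 := by
  classical
  rw [classInner_irrChar (c.chars.irr ω) hirr, if_neg]
  rintro rfl
  obtain ⟨a, ha, ha1, ha2⟩ := c.exists_off
  have h0 := c.vanish_off hχ (l := ⟨a, c.W₁_le ha⟩)
    (c.not_K_of_off (w := ⟨a, Subgroup.mem_sup_left ha⟩) ha2)
  rw [c.chars.apply_off ω ⟨a, c.W₁_le ha⟩ ⟨a, Subgroup.mem_sup_left ha⟩ rfl ha2] at h0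
  exact mul_ne_zero (c.δ_ne_zero ω) (Units.ne_zero _) h0

end Setup10

end Cfsg.Agent.PF
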