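import Cfsg.Agent.OddChar.PF.S10Coherent
import Cfsg.Agent.Chars.IrrTools

/-!
# Section 10: coherence through one pivot, and the general bounds

A subfamily is coherent as soon as the images of its differences with one member have the predicted
products with one image of that member.
-/

set_option linter.unusedSectionVars false
set_option linter.unusedVariables false
set_option linter.style.haveILetI false
set_option autoImplicit false

universe u v

namespace Cfsg.Agent.PF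

open Cfsg.Lib.Chars Cfsg.Lib.CyclicTI Cfsg.Lib.Coherence
open scoped ComplexConjugate

/-- Coherence through a pivot. -/
theorem coherent_pivot {L : Type u} [Group L] [Fintype L] {G : Type v} [Group G] [Fintype G]
    {S T : Set (L → ℂ)} {τ : (L → ℂ) → (G → ℂ)} {R : (L → ℂ) → Finset (G → ℂ)}
    (hS : Cfsg.IsCoherenceSystem S τ R) (hTS : T ⊆ S) {ζ : L → ℂ} (hζ : ζ ∈ T)
    (hζc : Cfsg.conjFun ζ ∈ T) {z : G → ℂ} (hz : Cfsg.IsGeneralizedCharacter G z)
    (hzn : Cfsg.classInner z z = Cfsg.classInner ζ ζ)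
    (h : ∀ t ∈ T, ∃ m : ℤ, t 1 = (m : ℂ) * ζ 1 ∧
      Cfsg.classInner (τ (t - m • ζ)) z = Cfsg.classInner t ζ - (m : ℂ) * Cfsg.classInner ζ ζ) :
    Cfsg.IsCoherent T {1}ᶜ τ := by
  classical
  have hne : ∀ φ ∈ S, φ ≠ 0 := fun φ hφ h0 => hS.conj_ne φ hφ (by
    rw [h0]; funext x; simp [Cfsg.conjFun])
  have hζ1 : ζ 1 ≠ 0 := fun h0 => hne ζ (hTS hζ) (by
    have hchar := hS.isCharacter ζ (hTS hζ)
    exact eq_zero_of_apply_one hchar h0)
  obtain ⟨τ₁, hτ₁v, hτ₁⟩ := exists_ext (G := G) ({ζ} : Set (L → ℂ))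
    (fun φ hφ => hne φ (hTS (Set.mem_singleton_iff.mp hφ ▸ hζ)))
    (fun φ hφ ψ hψ hne' => absurd ((Set.mem_singleton_iff.mp hφ).trans
      (Set.mem_singleton_iff.mp hψ).symm) hne')
    (fun _ => z) (fun _ _ => hz) (fun φ hφ ψ hψ => by
      rw [Set.mem_singleton_iff.mp hφ, Set.mem_singleton_iff.mp hψ, hzn])
  have hiso : Cfsg.IsLinearIsometryOn (Cfsg.zspanOn T {1}ᶜ) τ :=
    ⟨fun a ha b hb => hS.isometry.1 a (zspanOn_mono hTS ha) b (zspanOn_mono hTS hb),
      fun a ha => hS.isometry.2.1 a (zspanOn_mono hTS ha),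
      fun a ha b hb => hS.isometry.2.2.1 a (zspanOn_mono hTS ha) b (zspanOn_mono hTS hb),
      fun a ha => hS.isometry.2.2.2 a (zspanOn_mono hTS ha)⟩
  refine isCoherent_extend (S₁ := ({ζ} : Set (L → ℂ))) (Set.singleton_subset_iff.mpr hζ)
    (fun φ hφ => hne φ (hTS hφ))
    (fun φ hφ ψ hψ hne' => hS.orthogonal φ (hTS hφ) ψ (hTS hψ) hne') hiso hτ₁ ?_ ?_ ?_
  · intro f hf
    obtain ⟨hfs, hf1⟩ := mem_one.mp hf
    obtain ⟨k, rfl⟩ := Submodule.mem_span_singleton.mp hfs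
    have hk : (k : ℂ) * ζ 1 = 0 := by simpa using hf1
    have : k = 0 := by exact_mod_cast (mul_eq_zero.mp hk).resolve_right hζ1
    subst this
    rw [zero_smul, map_zero, map_zero' (spanOn T {1}ᶜ) hiso]
  · intro t ht
    obtain ⟨m, hm, hin⟩ := h t ht
    refine ⟨m • ζ, (Submodule.span ℤ _).smul_mem m (subset_zspan rfl), by simp [hm],
      fun φ hφ => ?_⟩
    rw [Set.mem_singleton_iff.mp hφ, hτ₁v ζ rfl, hin, classInner_sub_left, classInner_zsmul_left]
  · exact ⟨ζ - Cfsg.conjFun ζ, mem_one.mpr ⟨(Submodule.span ℤ T).sub_mem (subset_zspan hζ)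
      (subset_zspan hζc), by simp [conj_apply_one (hS.isCharacter ζ (hTS hζ))]⟩,
      sub_ne_zero.mpr (hS.conj_ne ζ (hTS hζ)).symm⟩

namespace Setup10

variable {G : Type u} [Group G] [Fintype G] {M K W₁ W₂ : Subgroup G} [Fintype M]

local notation "W" => (W₁ ⊔ W₂ : Subgroup G)

variable (c : Setup10 M K W₁ W₂) {d n : ℕ} {e : ℤ} {Y : Finset (↥M → ℂ)}
  {z : (↥M → ℂ) → (G → ℂ)}
include c

/-- Every member has a degree `q m`. -/
theorem member_deg {χ : ↥M → ℂ} (hχ : χ ∈ Cfsg.inducedIrrAbove (K.subgroupOf M) ⊥) :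
    ∃ m : ℕ, 0 < m ∧ χ 1 = (Nat.card W₁ : ℂ) * m := by
  haveI := c.normal
  letI : Fintype ↥(K.subgroupOf M) := Fintype.ofFinite _
  obtain ⟨θ, hθ, -, -, rfl⟩ := hχ
  obtain ⟨m, hm0, hm⟩ := IsIrrCharacter.apply_one hθ
  exact ⟨m, hm0, by rw [indFun_one, c.index_K, hm]⟩

theorem pivot_supp {φ ζ : ↥M → ℂ} (hφ : φ ∈ Cfsg.inducedIrrAbove (K.subgroupOf M) ⊥)
    (hζ : ζ ∈ Cfsg.inducedIrrAbove (K.subgroupOf M) ⊥) {m : ℤ} (h1 : φ 1 = (m : ℂ) * ζ 1) :
    c.Supp (φ - m • ζ) := by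
  rw [← Int.cast_smul_eq_zsmul ℂ]
  simpa using c.supp_member_sub hφ hζ 1 m (by rw [one_mul, h1])

theorem pivot_gen {φ ζ : ↥M → ℂ} (hφ : φ ∈ Cfsg.inducedIrrAbove (K.subgroupOf M) ⊥)
    (hζ : ζ ∈ Cfsg.inducedIrrAbove (K.subgroupOf M) ⊥) (m : ℤ) :
    Cfsg.IsGeneralizedCharacter ↥M (φ - m • ζ) :=
  IsGeneralizedCharacter.sub (c.member_gen hφ) (IsGeneralizedCharacter.zsmul (c.member_gen hζ) m)

open Classical in
/-- The coefficients on `Y` of the image of `φ - m ζ`, for `φ` outside `Y`. -/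
theorem pivot_coeff (hY : c.Base Y z) {φ ζ : ↥M → ℂ}
    (hφ : φ ∈ Cfsg.inducedIrrAbove (K.subgroupOf M) ⊥) (hφY : φ ∉ Y) (hζ : ζ ∈ Y) {m : ℕ}
    (h1 : φ 1 = (m : ℂ) * ζ 1) :
    ∃ a : ℤ, ∀ χ ∈ Y, Cfsg.classInner (c.τ (φ - (m : ℤ) • ζ)) (z χ) =
      (((if χ = ζ then a - m else a) : ℤ) : ℂ) := by
  have hζm := hY.mem ζ hζ
  refine hY.coeff c (c.pivot_gen hφ hζm m) (c.pivot_supp hφ hζm (by simpa using h1)) hζ
    fun χ hχ => ?_
  rw [classInner_sub_left, classInner_zsmul_left, c.system.orthogonal φ hφ χ (hY.mem χ hχ)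
    (fun e' => hφY (e' ▸ hχ)), classInner_irrChar (hY.irr ζ hζ) (hY.irr χ hχ)]
  by_cases h : χ = ζ
  · rw [if_pos h, if_pos h.symm]; simp
  · rw [if_neg h, if_neg fun e' => h e'.symm]; simp

/-- The norm of `φ - m ζ`. -/
theorem pivot_norm {φ ζ : ↥M → ℂ} (hφ : φ ∈ Cfsg.inducedIrrAbove (K.subgroupOf M) ⊥)
    (hζ : ζ ∈ Cfsg.inducedIrrAbove (K.subgroupOf M) ⊥) (hirr : Cfsg.IsIrrCharacter ↥M ζ)
    (hne : φ ≠ ζ) {m : ℕ} (h1 : φ 1 = (m : ℂ) * ζ 1) :
    (Cfsg.classInner (c.τ (φ - (m : ℤ) • ζ)) (c.τ (φ - (m : ℤ) • ζ))).re =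
      (Cfsg.classInner φ φ).re + (m : ℝ) ^ 2 := by
  have hs := c.pivot_supp hφ hζ (m := (m : ℤ)) (by simpa using h1)
  have hc := isClassFunction_generalized (c.pivot_gen hφ hζ (m : ℤ))
  rw [c.tau_inner hc hs hc hs]
  simp only [classInner_sub_left, classInner_sub_right, classInner_zsmul_left,
    classInner_zsmul_right, c.system.orthogonal φ hφ ζ hζ hne,
    c.system.orthogonal ζ hζ φ hφ hne.symm, classInner_self_irr hirr]
  simp [sq]

/-- The bound on the common coefficient. -/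
theorem pivot_bound (hY : c.Base Y z) (hd : c.Deg d n e) (heven : Even Y.card) {φ ζ : ↥M → ℂ}
    (hφ : φ ∈ Cfsg.inducedIrrAbove (K.subgroupOf M) ⊥) (hφY : φ ∉ Y) (hζ : ζ ∈ Y) {m : ℕ}
    (h1 : φ 1 = (m : ℂ) * ζ 1) {a : ℤ}
    (ha : ∀ [DecidableEq (↥M → ℂ)], ∀ χ ∈ Y, Cfsg.classInner (c.τ (φ - (m : ℤ) • ζ)) (z χ) =
      (((if χ = ζ then a - m else a) : ℤ) : ℂ)) :
    (Y.card : ℤ) * a ^ 2 - 2 * m * a ≤ 0 := by
  classical
  haveI := Fintype.ofFinite (↥W →* ℂˣ)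
  have hζm := hY.mem ζ hζ
  have hfg := c.pivot_gen hφ hζm (m : ℤ)
  have hfs := c.pivot_supp hφ hζm (m := (m : ℤ)) (by simpa using h1)
  have hfc := isClassFunction_generalized hfg
  have hτg := c.tau_gen hfg hfs
  choose y hy using fun ω : ↥W →* ℂˣ => inner_int hτg (c.eta_gen ω)
  have hsp := (hY.split c hζ ha hy (∅ : Finset (Fin 0)) (f := fun i => i.elim0)
    (m := fun _ => 1) (x := fun _ => 0) (by simp) (by simp) (by simp) (by simp) (by simp)).1
  rw [c.pivot_norm hφ hζm (hY.irr ζ hζ) (fun e' => hφY (e' ▸ hζ)) h1, Finset.sum_empty,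
    add_zero] at hsp
  rcases c.member_cases hφ with hirr | ⟨ψ, hψ, rfl⟩
  · rw [classInner_self_irr hirr, Complex.one_re] at hsp
    have hy0 : (0 : ℝ) ≤ ((∑ ω, y ω ^ 2 : ℤ) : ℝ) := by
      exact_mod_cast Finset.sum_nonneg fun ω _ => sq_nonneg (y ω)
    have hle : (Y.card : ℤ) * a ^ 2 - 2 * m * a ≤ 1 := by
      have : (Y.card : ℝ) * (a : ℝ) ^ 2 - 2 * (m : ℝ) * a ≤ 1 := by push_cast at hsp hy0 ⊢; linarith
      exact_mod_cast this
    obtain ⟨k, hk⟩ := heven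
    have h2 : (Y.card : ℤ) = (k : ℤ) + k := by exact_mod_cast hk
    rw [h2] at hle ⊢
    have e2 : ((k : ℤ) + k) * a ^ 2 - 2 * m * a = 2 * ((k : ℤ) * a ^ 2 - m * a) := by ring
    rw [e2] at hle ⊢
    omega
  · -- the grid takes at least `q`
    have hψ' := c.mem_cols.mp hψ
    have hirr0 := hY.irr ζ hζ
    rw [c.redChar_inner hψ'.1 hψ'.1, if_pos rfl, Complex.natCast_re] at hsp
    have hone : Cfsg.classInner (c.τ (redChar c.μ ψ - (m : ℤ) • ζ)) (c.η 1) = ((0 : ℤ) : ℂ) := by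
      rw [c.tau_inner_one hfc hfs, classInner_sub_left, classInner_zsmul_left, ← c.mu_one,
        ← classInner_conj_symm (c.μ 1) ζ, c.mu_inner_irr hζm hirr0, map_zero, mul_zero, sub_zero,
        c.redChar_eq, classInner_sum_left, Int.cast_zero]
      refine Finset.sum_eq_zero fun φ' hφ' => ?_
      rw [c.mu_inner, if_neg]
      intro h
      exact hψ'.2 ((c.eta_mul_eq hφ' c.one_mem_rows hψ'.1 onSecond_one).mp
        (h.trans (hom_mul_one 1).symm)).2
    have hV : ∀ w : ↥W, (w : G) ∉ W₁ → (w : G) ∉ W₂ → c.τ (redChar c.μ ψ - (m : ℤ) • ζ) w = 0 := by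
      intro w h1' h2'
      rw [c.tau_V hfc h1' h2', Pi.sub_apply, Pi.smul_apply,
        c.vanish_off (c.redChar_mem hψ) (l := ⟨w, c.W_le w.2⟩) (c.not_K_of_off h2'),
        c.vanish_off hζm (l := ⟨w, c.W_le w.2⟩) (c.not_K_of_off h2'), smul_zero, sub_zero]
    have hcol : ∀ k ∈ c.cols, ∀ k' ∈ c.cols,
        Cfsg.classInner (c.τ (redChar c.μ ψ - (m : ℤ) • ζ)) (c.colSum k) - Cfsg.classInner (c.τ (redChar c.μ ψ - (m : ℤ) • ζ)) (c.colSum k') =
          (e : ℂ) * (Nat.card W₁ : ℂ) *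
            ((if k = ψ then 1 else 0) - if k' = ψ then 1 else 0) := by
      intro k hk k' hk'
      obtain ⟨hs, hτ⟩ := c.diff_cols hd hk hk'
      have h := c.tau_inner hfc hfs (fun l x => by
        simp [c.redChar_eq, Finset.sum_apply, c.mu_class _ l x]) hs
      rw [hτ, classInner_smul_right, classInner_sub_right, map_intCast,
        classInner_sub_left, classInner_sub_right, classInner_sub_right,
        classInner_zsmul_left, classInner_zsmul_left, c.irr_inner_redChar hζm hirr0 hk,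
        c.irr_inner_redChar hζm hirr0 hk', mul_zero, sub_zero, sub_zero,
        c.redChar_inner hψ'.1 (c.mem_cols.mp hk).1, c.redChar_inner hψ'.1 (c.mem_cols.mp hk').1] at h
      have he : (e : ℂ) * e = 1 := by rcases hd.sign with rfl | rfl <;> norm_num
      generalize Cfsg.classInner (c.τ (redChar c.μ ψ - (m : ℤ) • ζ)) (c.colSum k) = X at h ⊢
      generalize Cfsg.classInner (c.τ (redChar c.μ ψ - (m : ℤ) • ζ)) (c.colSum k') = X' at h ⊢
      by_cases h1' : k = ψ <;> by_cases h2' : k' = ψ <;>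
        simp only [h1', h2', if_true, if_false] at h ⊢ <;>
        linear_combination (e : ℂ) * h - (X - X') * he
    -- integers
    have hy0 : y 1 = 0 := by
      have : ((y 1 : ℤ) : ℂ) = ((0 : ℤ) : ℂ) := (hy 1).symm.trans hone
      exact_mod_cast this
    have hgrid : ∀ φ' ∈ c.rows, ∀ k ∈ c.cols, y (φ' * k) = y φ' + y k := by
      intro φ' hφ' k hk
      have h := c.coef_add (isClassFunction_generalized hτg) hV hφ' (c.mem_cols.mp hk).1
      rw [hy, hy, hy, hy, hy0, Int.cast_zero, sub_zero] at h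
      exact_mod_cast h
    have hyk : ∀ k ∈ c.cols, y k - e * (if k = ψ then 1 else 0) = y ψ - e := by
      intro k hk
      have h := hcol k hk ψ hψ
      rw [c.inner_colSum, c.inner_colSum,
        Finset.sum_congr rfl fun φ' hφ' => (hy (φ' * k)).trans
          (congrArg (fun j : ℤ => (j : ℂ)) (hgrid φ' hφ' k hk)),
        Finset.sum_congr rfl fun φ' hφ' => (hy (φ' * ψ)).trans
          (congrArg (fun j : ℤ => (j : ℂ)) (hgrid φ' hφ' ψ hψ))] at h
      push_cast at h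
      rw [Finset.sum_add_distrib, Finset.sum_add_distrib, Finset.sum_const, Finset.sum_const,
        c.card_rows, nsmul_eq_mul, nsmul_eq_mul, if_pos rfl] at h
      have hq : (Nat.card W₁ : ℂ) ≠ 0 := Nat.cast_ne_zero.mpr Nat.card_pos.ne'
      have h' : ((y k - e * (if k = ψ then 1 else 0) : ℤ) : ℂ) = ((y ψ - e : ℤ) : ℂ) := by
        refine mul_left_cancel₀ hq ?_
        by_cases h1' : k = ψ
        · rw [if_pos h1'] at h ⊢; push_cast at h ⊢; linear_combination h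
        · rw [if_neg h1'] at h ⊢; push_cast at h ⊢; linear_combination h
      exact_mod_cast h'
    set v := y ψ - e with hv
    have hkv : ∀ k ∈ c.cols, y k = v + e * (if k = ψ then 1 else 0) := fun k hk => by
      have := hyk k hk; linarith
    have hrow : ∀ φ' ∈ c.rows, (1 : ℤ) ≤ y φ' ^ 2 + ∑ k ∈ c.cols, y (φ' * k) ^ 2 := by
      intro φ' hφ'
      rw [← Finset.add_sum_erase _ _ hψ, hgrid φ' hφ' ψ hψ, hkv ψ hψ, if_pos rfl]
      obtain ⟨k, hk⟩ : (c.cols.erase ψ).Nonempty := by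
        rw [← Finset.card_pos, Finset.card_erase_of_mem hψ]
        have := c.card_cols
        have := c.p_three
        omega
      have hge : y (φ' * k) ^ 2 ≤ ∑ k ∈ c.cols.erase ψ, y (φ' * k) ^ 2 :=
        Finset.single_le_sum (fun j _ => sq_nonneg (y (φ' * j))) hk
      obtain ⟨hne, hkc⟩ := Finset.mem_erase.mp hk
      rw [hgrid φ' hφ' k hkc, hkv k hkc, if_neg hne, mul_zero, add_zero] at hge
      by_contra hlt
      have hzero : y φ' = 0 ∧ y φ' + v = 0 ∧ y φ' + (v + e * 1) = 0 := by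
        have h3 : y φ' ^ 2 = 0 ∧ (y φ' + v) ^ 2 = 0 ∧ (y φ' + (v + e * 1)) ^ 2 = 0 := by
          have a1 := sq_nonneg (y φ')
          have a2 := sq_nonneg (y φ' + v)
          have a3 := sq_nonneg (y φ' + (v + e * 1))
          omega
        exact ⟨(pow_eq_zero_iff two_ne_zero).mp h3.1, (pow_eq_zero_iff two_ne_zero).mp h3.2.1,
          (pow_eq_zero_iff two_ne_zero).mp h3.2.2⟩
      rcases hd.sign with rfl | rfl <;> omega
    have hsum : (Nat.card W₁ : ℤ) ≤ ∑ ω, y ω ^ 2 := by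
      rw [c.sum_grid]
      refine le_trans (le_of_eq ?_) (Finset.sum_le_sum hrow)
      rw [Finset.sum_const, c.card_rows, nsmul_eq_mul, mul_one]
    have hsum' : (Nat.card W₁ : ℝ) ≤ ((∑ ω, y ω ^ 2 : ℤ) : ℝ) := by exact_mod_cast hsum
    have hle : (Y.card : ℝ) * (a : ℝ) ^ 2 - 2 * (m : ℝ) * a ≤ 0 := by
      push_cast at hsp hsum' ⊢; linarith
    exact_mod_cast hle

end Setup10

end Cfsg.Agent.PF
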