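import Cfsg.Agent.OddChar.PF.S04Interface
import Cfsg.Agent.OddChar.PF.S07DadeMap
import Cfsg.Agent.OddChar.PF.S09Linear
import Cfsg.Agent.OddChar.PF.S12Signed
import Cfsg.Agent.OddChar.PF.S10Arith
import Cfsg.Agent.OddChar.PrimeCyclicChars

/-!
# Section 10: the setting

A maximal subgroup `M` of type III, IV or V, seen through the Dade hypothesis on `A₀ = K# ∪ V^M`,
`K = M'`, with the characters `μ`, the cyclic TI family `η` and the coherence system on the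
characters induced from `K`.
-/

set_option linter.unusedSectionVars false
set_option linter.unusedVariables false
set_option linter.style.haveILetI false
set_option autoImplicit false

universe u

namespace Cfsg.Agent.PF

open Cfsg.Lib.Chars Cfsg.Lib.CyclicTI Cfsg.Lib.Dade Cfsg.Lib.Dual
open scoped ComplexConjugate

/-- The data of Sections 10 and 11 on a subgroup `M` with `M = K W₁`. -/
structure Setup10 {G : Type u} [Group G] [Fintype G] (M K W₁ W₂ : Subgroup G) [Fintype M] where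
  A₀ : Set G
  R : G → Subgroup G
  μ : (↥(W₁ ⊔ W₂) →* ℂˣ) → (↥M → ℂ)
  δ : (↥(W₁ ⊔ W₂) →* ℂˣ) → ℂ
  η : (↥(W₁ ⊔ W₂) →* ℂˣ) → (G → ℂ)
  Rs : (↥M → ℂ) → Finset (G → ℂ)
  pd : PrimeDade M K W₁ W₂ K ((K : Set G) \ {1}) A₀ R
  A₀_le : ∀ a ∈ A₀, a ∈ (K : Set G) ∨
    ∃ m ∈ M, ∃ w ∈ W₁ ⊔ W₂, w ∉ W₁ ∧ w ∉ W₂ ∧ a = m * w * m⁻¹
  chars : PrimeTIChars M K W₁ W₂ μ δ
  red_ind : ∀ ψ, OnSecond ψ → redChar μ ψ =
    Cfsg.indFun (K.subgroupOf M) (fun k : ↥(K.subgroupOf M) => μ ψ k)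
  classify : ∀ θ : ↥(K.subgroupOf M) → ℂ, Cfsg.IsIrrCharacter _ θ →
    Cfsg.IsIrrCharacter ↥M (Cfsg.indFun (K.subgroupOf M) θ) ∨
      ∃ ψ, OnSecond ψ ∧ θ = fun k : ↥(K.subgroupOf M) => μ ψ k
  fam : Cfsg.IsCyclicTIFamily W₁ W₂ η
  image_col : ∀ φ ψ ψ', OnFirst φ → OnSecond ψ → OnSecond ψ' → ψ ≠ 1 → ψ' ≠ 1 →
    μ (φ * ψ) 1 = μ (φ * ψ') 1 →
    δ ψ = δ ψ' ∧
    (∀ l : M, (l : G) ∉ A₀ → (μ (φ * ψ) - μ (φ * ψ')) l = 0) ∧
    Cfsg.dadeIsometry A₀ M R (μ (φ * ψ) - μ (φ * ψ')) = δ ψ • (η (φ * ψ) - η (φ * ψ'))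
  image_four : ∀ φ φ' ψ, OnFirst φ → OnFirst φ' → OnSecond ψ →
    (∀ l : M, (l : G) ∉ A₀ → (δ ψ • (μ (φ * ψ) - μ (φ' * ψ)) - μ φ + μ φ') l = 0) ∧
    Cfsg.dadeIsometry A₀ M R (δ ψ • (μ (φ * ψ) - μ (φ' * ψ)) - μ φ + μ φ') =
      η (φ * ψ) - η (φ' * ψ) - η φ + η φ'
  system : Cfsg.IsCoherenceSystem (Cfsg.inducedIrrAbove (K.subgroupOf M) ⊥)
    (Cfsg.dadeIsometry A₀ M R) Rs
  irr_R : ∀ χ ∈ Cfsg.inducedIrrAbove (K.subgroupOf M) ⊥, Cfsg.IsIrrCharacter ↥M χ →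
    ∀ α ∈ Rs χ, ∀ ω, Cfsg.classInner α (η ω) = 0
  K_eq : K = ⁅M, M⁆
  p_prime : (Nat.card W₂).Prime
  solvable : Group.IsSolvable ↥(K.subgroupOf M)

namespace Setup10

variable {G : Type u} [Group G] [Fintype G] {M K W₁ W₂ : Subgroup G} [Fintype M]

local notation "W" => (W₁ ⊔ W₂ : Subgroup G)

variable (c : Setup10 M K W₁ W₂)
include c

/-! ### Elementary facts -/

theorem hW : Cfsg.IsSelfNormalizingCyclic W₁ W₂ := c.pd.cycTI

theorem hD : Cfsg.DadeHypothesis c.A₀ M c.R := c.pd.dade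

theorem K_le : K ≤ M := c.pd.compl.1

theorem W₁_le : W₁ ≤ M := c.pd.compl.2.1

theorem W₂_le_K : W₂ ≤ K := c.pd.W₂_le

theorem W_le : W ≤ M := sup_le c.W₁_le (c.W₂_le_K.trans c.K_le)

theorem normal : (K.subgroupOf M).Normal :=
  (Subgroup.normal_subgroupOf_iff_le_normalizer c.K_le).mpr c.pd.K_normal

theorem odd_W : Odd (Nat.card ↥W) := c.pd.odd.of_dvd_nat (Subgroup.card_dvd_of_le c.W_le)

theorem card_facts : Odd (Nat.card W₁) ∧ Odd (Nat.card W₂) ∧ 3 ≤ Nat.card W₁ ∧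
    3 ≤ Nat.card W₂ ∧ Nat.card W₁ ≠ Nat.card W₂ :=
  two_le_card_first c.hW c.odd_W

theorem q_three : 3 ≤ Nat.card W₁ := c.card_facts.2.2.1

theorem p_three : 3 ≤ Nat.card W₂ := c.card_facts.2.2.2.1

theorem isComplement : Subgroup.IsComplement' (K.subgroupOf M) (W₁.subgroupOf M) := by
  haveI := c.normal
  refine Subgroup.isComplement'_of_disjoint_and_mul_eq_univ ?_ ?_
  · rw [disjoint_iff, eq_bot_iff]
    rintro ⟨x, hxM⟩ ⟨hx, hx'⟩
    have : x ∈ K ⊓ W₁ := ⟨hx, hx'⟩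
    rw [c.pd.compl.2.2.1, Subgroup.mem_bot] at this
    exact Subgroup.mem_bot.mpr (Subtype.ext this)
  · refine Set.eq_univ_of_forall fun x => ?_
    obtain ⟨a, ha, b, hb, he⟩ := c.pd.compl.2.2.2 x x.2
    exact ⟨⟨a, c.K_le ha⟩, ha, ⟨b, c.W₁_le hb⟩, hb, Subtype.ext he.symm⟩

theorem index_K : (K.subgroupOf M).index = Nat.card W₁ := by
  rw [c.isComplement.symm.index_eq_card]
  exact Nat.card_congr (Subgroup.subgroupOfEquivOfLe c.W₁_le).toEquiv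

theorem card_K : Nat.card ↥(K.subgroupOf M) = Nat.card K :=
  Nat.card_congr (Subgroup.subgroupOfEquivOfLe c.K_le).toEquiv

theorem card_M : Nat.card M = Nat.card K * Nat.card W₁ := by
  rw [← Subgroup.card_mul_index (K.subgroupOf M), c.index_K, c.card_K]

theorem W_inf_K {w : G} (hw : w ∈ W) (hK : w ∈ K) : w ∈ W₂ := by
  obtain ⟨a, ha, b, hb, e⟩ : ∃ a ∈ W₁, ∃ b ∈ W₂, w = a * b :=
    ⟨pr₁ c.hW ⟨w, hw⟩, pr₁_mem _ _, pr₂ c.hW ⟨w, hw⟩, pr₂_mem _ _,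
      (congrArg Subtype.val (pr_mul c.hW ⟨w, hw⟩)).symm⟩
  have haK : a ∈ K := by
    have := mul_mem hK (inv_mem (c.W₂_le_K hb))
    rwa [e, mul_inv_cancel_right] at this
  have : a = 1 := by
    have h : a ∈ K ⊓ W₁ := ⟨haK, ha⟩
    rwa [c.pd.compl.2.2.1, Subgroup.mem_bot] at h
  rwa [e, this, one_mul]

/-- An element conjugating an element of `W ∖ W₂` into `W` lies in `W`. -/
theorem conj_off {x g : G} (hx : x ∈ W) (hx2 : x ∉ W₂) (hg : g ∈ M) (h : g * x * g⁻¹ ∈ W) :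
    g ∈ W := by
  obtain ⟨hg1, -⟩ : g ∈ W ∧ g * x * g⁻¹ = x := by
    obtain ⟨a, ha, b, hb, rfl⟩ : ∃ a ∈ W₁, ∃ b ∈ W₂, x = a * b :=
      ⟨pr₁ c.hW ⟨x, hx⟩, pr₁_mem _ _, pr₂ c.hW ⟨x, hx⟩, pr₂_mem _ _,
        (congrArg Subtype.val (pr_mul c.hW ⟨x, hx⟩)).symm⟩
    obtain ⟨a', ha', b', hb', he⟩ : ∃ a' ∈ W₁, ∃ b' ∈ W₂, g * (a * b) * g⁻¹ = a' * b' :=
      ⟨pr₁ c.hW ⟨_, h⟩, pr₁_mem _ _, pr₂ c.hW ⟨_, h⟩, pr₂_mem _ _,
        (congrArg Subtype.val (pr_mul c.hW ⟨_, h⟩)).symm⟩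
    have hcomm : ∀ u ∈ W₁, ∀ v ∈ W₂, Commute u v := fun u hu v hv =>
      congrArg Subtype.val (comm c.hW ⟨u, Subgroup.mem_sup_left hu⟩ ⟨v, Subgroup.mem_sup_right hv⟩)
    obtain ⟨t, ht0, ht1⟩ := Nat.chineseRemainder (coprime_card c.hW).symm 0 1
    have hpow : ∀ u ∈ W₁, ∀ v ∈ W₂, (u * v) ^ t = u := by
      intro u hu v hv
      rw [(hcomm u hu v hv).mul_pow]
      obtain ⟨d, hd⟩ := Nat.modEq_zero_iff_dvd.mp ht0
      rw [show v ^ t = 1 by rw [hd, pow_mul, pow_card_mem hv, one_pow], mul_one]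
      conv_rhs => rw [← pow_one u]
      exact pow_eq_pow_iff_modEq.mpr
        (ht1.of_dvd (orderOf_dvd_of_pow_eq_one (pow_card_mem hu)))
    have h1 := congrArg (fun z => z ^ t) he
    simp only [conj_pow, hpow a ha b hb, hpow a' ha' b' hb'] at h1
    obtain ⟨k, hk, w, hw, rfl⟩ := c.pd.compl.2.2.2 g hg
    have hwa : w * a * w⁻¹ = a := by
      rw [show w * a = a * w from congrArg Subtype.val
        (comm c.hW ⟨w, Subgroup.mem_sup_left hw⟩ ⟨a, Subgroup.mem_sup_left ha⟩),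
        mul_inv_cancel_right]
    rw [show k * w * a * (k * w)⁻¹ = k * (w * a * w⁻¹) * k⁻¹ by group, hwa] at h1
    have haa : a' = a := by
      have hmem : a⁻¹ * a' ∈ K ⊓ W₁ := by
        refine ⟨?_, W₁.mul_mem (W₁.inv_mem ha) ha'⟩
        rw [← h1, ← mul_assoc]
        refine K.mul_mem ?_ (K.inv_mem hk)
        rw [← mul_assoc]
        have := (Subgroup.mem_normalizer_iff.mp (c.pd.K_normal (M.inv_mem (c.W₁_le ha))) k).mp hk
        simpa [mul_assoc] using this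
      rw [c.pd.compl.2.2.1, Subgroup.mem_bot, inv_mul_eq_one] at hmem
      exact hmem.symm
    rw [haa, mul_inv_eq_iff_eq_mul] at h1
    have hk2 : k ∈ K ⊓ Subgroup.centralizer ({a} : Set G) :=
      ⟨hk, Subgroup.mem_centralizer_singleton_iff.mpr h1⟩
    have ha1 : a ≠ 1 := fun e => hx2 (by rw [e, one_mul]; exact hb)
    rw [c.pd.cent a ha ha1] at hk2
    have hgW : k * w ∈ W := mul_mem (Subgroup.mem_sup_right hk2) (Subgroup.mem_sup_left hw)
    refine ⟨hgW, ?_⟩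
    rw [show k * w * (a * b) = a * b * (k * w) from congrArg Subtype.val
      (comm c.hW ⟨k * w, hgW⟩ ⟨a * b, hx⟩), mul_inv_cancel_right]
  exact hg1

/-- Every element of `M` outside `K` is conjugate to an element of `W` outside `W₂`. -/
theorem exists_conj_off {l : G} (hl : l ∈ M) (hlK : l ∉ K) :
    ∃ m ∈ M, ∃ w ∈ W, w ∉ W₂ ∧ l = m * w * m⁻¹ := by
  classical
  have hWs : (W).subgroupOf M ≤ ⊤ := le_top
  let N := {x : ↥M // (x : G) ∈ W ∧ (x : G) ∉ W₂}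
  let T := {x : ↥M // (x : G) ∉ K}
  let F : (↥M ⧸ (W).subgroupOf M) × N → T := fun p =>
    ⟨p.1.out * p.2.1 * p.1.out⁻¹, fun hK => p.2.2.2 (c.W_inf_K p.2.2.1 (by
      have := (Subgroup.mem_normalizer_iff.mp
        (c.pd.K_normal (inv_mem p.1.out.2)) _).mp hK
      simpa [mul_assoc] using this))⟩
  have hF : Function.Injective F := by
    rintro ⟨a, x⟩ ⟨b, y⟩ h
    have h' : (a.out : G) * x.1 * (a.out : G)⁻¹ = b.out * y.1 * (b.out : G)⁻¹ :=
      congrArg (fun t : T => ((t.1 : ↥M) : G)) h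
    have h2 : ((b.out : G)⁻¹ * a.out) * x.1 * ((b.out : G)⁻¹ * a.out)⁻¹ = y.1 := by
      have := congrArg (fun z => (b.out : G)⁻¹ * z * b.out) h'
      simpa [mul_assoc] using this
    have hmem : (b.out : G)⁻¹ * a.out ∈ W := c.conj_off x.2.1 x.2.2
      (mul_mem (inv_mem b.out.2) a.out.2) (h2.symm ▸ y.2.1)
    have hab : b = a := by
      rw [← Quotient.out_eq b, ← Quotient.out_eq a]
      exact QuotientGroup.eq.mpr (by rw [Subgroup.mem_subgroupOf]; simpa using hmem)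
    subst hab
    simp only [inv_mul_cancel, one_mul, inv_one, mul_one] at h2
    exact Prod.ext rfl (Subtype.ext (Subtype.ext h2))
  have hKs : Nat.card T = Nat.card K * Nat.card W₁ - Nat.card K := by
    rw [← c.card_M, ← c.card_K, Nat.card_eq_fintype_card, Nat.card_eq_fintype_card,
      Nat.card_eq_fintype_card, Fintype.card_subtype_compl]
    congr 1
  have hN : Nat.card N = Nat.card W₁ * Nat.card W₂ - Nat.card W₂ := by
    have e1 : Nat.card {x : ↥M // (x : G) ∈ W} = Nat.card W₁ * Nat.card W₂ := by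
      rw [Nat.card_congr (show {x : ↥M // (x : G) ∈ W} ≃ ↥W from
        ⟨fun x => ⟨(x.1 : G), x.2⟩, fun w => ⟨⟨(w : G), c.W_le w.2⟩, w.2⟩,
          fun _ => rfl, fun _ => rfl⟩),
        ← card_hom (A := ↥W) (comm c.hW), ← Nat.card_congr (dualEquiv c.hW), Nat.card_prod,
        card_onFirst c.hW, card_onSecond c.hW]
    have e2 : Nat.card {x : ↥M // (x : G) ∈ W₂} = Nat.card W₂ :=
      Nat.card_congr ⟨fun x => ⟨(x.1 : G), x.2⟩,
        fun w => ⟨⟨(w : G), c.K_le (c.W₂_le_K w.2)⟩, w.2⟩, fun _ => rfl, fun _ => rfl⟩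
    rw [← e1, ← e2, Nat.card_eq_fintype_card, Nat.card_eq_fintype_card, Nat.card_eq_fintype_card,
      Fintype.card_subtype, Fintype.card_subtype, Fintype.card_subtype]
    rw [← Finset.card_sdiff_of_subset fun x hx => by
      simp only [Finset.mem_filter, Finset.mem_univ, true_and] at hx ⊢
      exact Subgroup.mem_sup_right hx]
    congr 1
    ext x
    simp
  have hidx : Nat.card (↥M ⧸ (W).subgroupOf M) * (Nat.card W₁ * Nat.card W₂) =
      Nat.card K * Nat.card W₁ := by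
    rw [← c.card_M]
    have := Subgroup.index_mul_card ((W).subgroupOf M)
    rw [Subgroup.index_eq_card] at this
    conv_rhs => rw [← this]
    congr 1
    rw [Nat.card_congr (Subgroup.subgroupOfEquivOfLe c.W_le).toEquiv,
      ← card_hom (A := ↥W) (comm c.hW), ← Nat.card_congr (dualEquiv c.hW), Nat.card_prod,
      card_onFirst c.hW, card_onSecond c.hW]
  have hcard : Nat.card ((↥M ⧸ (W).subgroupOf M) × N) = Nat.card T := by
    rw [Nat.card_prod, hN, hKs, Nat.mul_sub, hidx]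
    congr 1
    have h := hidx
    rw [mul_comm (Nat.card W₁), ← mul_assoc] at h
    exact Nat.eq_of_mul_eq_mul_right Nat.card_pos h
  obtain ⟨⟨a, x⟩, hax⟩ :=
    ((Nat.bijective_iff_injective_and_card F).mpr ⟨hF, hcard⟩).2 ⟨⟨l, hl⟩, hlK⟩
  exact ⟨a.out, a.out.2, x.1, x.2.1, x.2.2,
    (congrArg (fun t : T => ((t.1 : ↥M) : G)) hax).symm⟩

end Setup10

end Cfsg.Agent.PF
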