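import Cfsg.Agent.OddChar.PF.S11Group
import Cfsg.Agent.OddChar.PF.S10Glue

/-!
# Section 11: the characters

`Y` is the family over `M'' = H C` and consists of `(u - 1) / q` irreducible characters of degree `q`,
enough to glue it to the column sums.  An exact gluing would make `S(H₀ C)` coherent; so the other
alternative holds, which gives `p + I ≤ q` for the number `I` of irreducible members of degree `q u`
of `S(H₀ C)`.  Counting linear characters of `H C` then gives the bound on `p ^ q` and excludes the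
non-Galois case.
-/

set_option linter.unusedSectionVars false
set_option linter.unusedVariables false
set_option linter.style.haveILetI false
set_option autoImplicit false

universe u

namespace Cfsg.Agent.PF

open Cfsg.Lib.Chars Cfsg.Lib.CyclicTI Cfsg.Lib.Coherence Cfsg.Lib.InducedFamily
open Subgroup
open scoped commutatorElement ComplexConjugate

namespace Ctx11

variable {G : Type u} [Group G] [Fintype G] {M W₁ U W₂ H₀ : Subgroup G} [Fintype M]
  {c : Setup10 M ⁅M, M⁆ W₁ W₂}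

set_option quotPrecheck false

local notation "Kl" => ((⁅M, M⁆ : Subgroup G).subgroupOf M)
local notation "Hl" => ((Cfsg.fittingHallOf M).subgroupOf M)
local notation "Ul" => (U.subgroupOf M)
local notation "Wl" => (W₁.subgroupOf M)
local notation "Cl" => ((centMod U (Cfsg.fittingHallOf M) H₀).subgroupOf M)
local notation "Nl" => (H₀.subgroupOf M ⊔ (centMod U (Cfsg.fittingHallOf M) H₀).subgroupOf M)
local notation "uu" =>
  (((centMod U (Cfsg.fittingHallOf M) H₀).subgroupOf M).relIndex (U.subgroupOf M))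
local notation "qq" => (Nat.card W₁)
local notation "pp" => (Nat.card W₂)

variable (x : Ctx11 c U H₀)
include x

theorem ctx9 : Ctx9 Kl Hl (H₀.subgroupOf M) Ul Cl Wl (W₂.subgroupOf M) qq pp :=
  x.hyp.ctx x.kern x.odd x.W₂_prime x.card_H

theorem uu_eq : uu = (U ⊓ centralizer (Cfsg.fittingHallOf M : Set G)).relIndex U := by
  rw [x.hyp.relIndex_C, x.centMod_eq]

theorem uu_le : uu ≤ Nat.card U := by
  rw [x.uu_eq]
  exact Nat.le_of_dvd Nat.card_pos (Subgroup.relIndex_dvd_card _ _)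

theorem uu_ne_one : uu ≠ 1 := by
  rw [x.uu_eq]
  exact fun e => x.CH_ne_U (le_antisymm inf_le_left (Subgroup.relIndex_eq_one.mp e))

theorem uu_modEq : uu ≡ 1 [MOD qq] := by
  set CH := U ⊓ centralizer (Cfsg.fittingHallOf M : Set G)
  rw [x.uu_eq]
  have hW : W₂ ≤ Cfsg.fittingHallOf M ⊔ CH := x.hyp.W₂_le_H.trans le_sup_left
  have h1 := s11_card_modEq x.hyp.q_prime rfl (x.hyp.W₁_le.trans x.hyp.M_le_normalizer_derived)
    (x.centralizer_W₁ le_rfl (hW.trans x.HC_le_K))
  have h2 := s11_card_modEq x.hyp.q_prime rfl (x.hyp.W₁_le.trans x.M_normalizes_HC)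
    (x.centralizer_W₁ x.HC_le_K hW)
  have hcU : CH.relIndex U * Nat.card CH = Nat.card U := by
    have h := Subgroup.card_mul_index (CH.subgroupOf U)
    rw [Nat.card_congr (Subgroup.subgroupOfEquivOfLe (inf_le_left : CH ≤ U)).toEquiv,
      mul_comm] at h
    exact h
  rw [show Nat.card ↥(⁅M, M⁆ : Subgroup G) =
    CH.relIndex U * Nat.card ↥(Cfsg.fittingHallOf M ⊔ CH) by
      rw [x.hyp.card_derived, x.card_HC, ← hcU]; ring] at h1
  have h3 := (h2.mul_left (CH.relIndex U)).symm.trans h1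
  exact Nat.ModEq.cancel_right_of_coprime
    ((Nat.coprime_primes x.hyp.q_prime x.W₂_prime).mpr x.prime_data.1.symm) (by rwa [one_mul])

theorem q_lt_u : qq < uu := by
  have h := x.uu_modEq
  have hne := x.uu_ne_one
  by_contra hle
  push Not at hle
  rcases hle.lt_or_eq with hlt | he
  · rw [Nat.ModEq, Nat.mod_eq_of_lt hlt, Nat.mod_eq_of_lt x.hyp.q_prime.one_lt] at h
    exact hne h
  · rw [Nat.ModEq, he, Nat.mod_self, Nat.mod_eq_of_lt x.hyp.q_prime.one_lt] at h
    exact zero_ne_one h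

/-- The columns have degree `u` and sign `1`. -/
theorem exists_deg_eq : ∃ n : ℕ, c.Deg uu n 1 := by
  classical
  haveI := c.normal
  obtain ⟨d, n, e, hd⟩ := c.exists_Deg
  obtain ⟨A, hA, hA1, -⟩ := x.ctx9.invariant_set
  obtain ⟨θ, hθ⟩ : A.Nonempty := by
    rw [← Finset.card_pos, hA]
    have := c.p_three
    omega
  obtain ⟨h0, hH, hW⟩ := hA1 θ hθ
  have hdeg := x.ctx9.deg_of_invariant θ.2
    (h0.mono (sup_le_sup_left (Subgroup.commutator_le_self _) _)) hH hW
  rcases c.classify θ θ.2 with h | ⟨ψ, hψ, he⟩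
  · exact absurd h (x.ctx9.inner_invariant θ.2 hW).2.2
  have hψ1 : ψ ≠ 1 := by
    rintro rfl
    refine x.uu_ne_one ?_
    rw [← hdeg, he, c.mu_one]
    simp [deg]
  have hd1 := (hd.apply ψ (c.mem_cols.mpr ⟨hψ, hψ1⟩)).1
  have hdu : d = uu := by
    have h1 := IsCharacter.apply_one_eq_deg (isCharacter_of_irr θ.2)
    rw [hdeg, he] at h1
    simp only [OneMemClass.coe_one, hd1] at h1
    exact_mod_cast h1
  subst hdu
  suffices e = 1 by exact ⟨n, this ▸ hd⟩
  refine hd.sign.resolve_right fun he' => ?_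
  subst he'
  have h1 : ((uu : ℕ) : ZMod qq) = ((1 : ℕ) : ZMod qq) :=
    (ZMod.natCast_eq_natCast_iff _ _ _).mpr x.uu_modEq
  have h2 := congrArg (Int.cast : ℤ → ZMod qq) hd.eq
  push_cast at h2 h1
  rw [h1, ZMod.natCast_self, mul_zero, add_zero] at h2
  have h3 : ((2 : ℕ) : ZMod qq) = 0 := by push_cast; linear_combination h2
  have h4 := Nat.le_of_dvd two_pos ((ZMod.natCast_eq_zero_iff _ _).mp h3) |>.trans_lt
    (show 2 < 3 by norm_num)
  have := c.q_three
  omega

/-- The family over `H C`. -/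
theorem exists_base : ∃ (Y : Finset (↥M → ℂ)) (z : (↥M → ℂ) → (G → ℂ)),
    c.Base Y z ∧ (∀ χ, χ ∈ Y ↔ χ ∈ Cfsg.inducedIrrAbove Kl (Hl ⊔ Cl)) ∧ Y.card * qq + 1 = uu := by
  classical
  haveI := c.normal
  haveI := x.ctx9.P_normal
  have hder : ⁅Kl, Kl⁆ ≤ Hl ⊔ Cl := by
    rw [commutator_le]
    intro a ha b hb
    simpa [commutatorElement_def] using x.ctx9.derived_K a ha b hb
  have hlt : Hl ⊔ Cl < Kl := by
    refine lt_of_le_of_ne x.ctx9.P_le fun e => x.uu_ne_one ?_
    rw [← x.ctx9.P_relIndex, e, Subgroup.relIndex_self]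
  obtain ⟨-, τ₁, h₁, hag⟩ := coherent_above_derived c.solvable c.system (Hl ⊔ Cl) hder hlt
  set Y := (finite_above (K := Kl) (Hl ⊔ Cl)).toFinset with hY
  have hmem : ∀ χ, χ ∈ Y ↔ χ ∈ Cfsg.inducedIrrAbove Kl (Hl ⊔ Cl) := fun χ =>
    Set.Finite.mem_toFinset _
  refine ⟨Y, τ₁, c.base_of_map (above_subset _) h₁ hag (fun χ h => (hmem χ).mp h)
    (fun χ h => (c.above_derived hder ((hmem χ).mp h)).1)
    (fun χ h => (c.above_derived hder ((hmem χ).mp h)).2)
    (fun χ h => (hmem _).mpr (conj_mem_above _ ((hmem χ).mp h))), hmem, ?_⟩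
  have hterm : ∀ φ ∈ Y, (deg φ : ℝ) ^ 2 / (Cfsg.classInner φ φ).re = (qq : ℝ) ^ 2 := by
    intro φ hφ
    obtain ⟨hi, h1⟩ := c.above_derived hder ((hmem φ).mp hφ)
    have h2 : deg φ = qq := by
      rw [IsCharacter.apply_one_eq_deg (isCharacter_of_irr hi)] at h1
      exact_mod_cast h1
    rw [h2, classInner_self_irr hi]
    simp
  have hsum := sum_ratio (K := Kl) (Hl ⊔ Cl)
  rw [← hY, Finset.sum_congr rfl hterm, Finset.sum_const, nsmul_eq_mul, x.index_K,
    x.ctx9.P_relIndex] at hsum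
  have hq0 : (qq : ℝ) ≠ 0 := by exact_mod_cast Nat.card_pos.ne'
  have : ((Y.card * qq + 1 : ℕ) : ℝ) = (uu : ℝ) := by
    push_cast
    have h := mul_left_cancel₀ hq0 (show (qq : ℝ) * ((Y.card : ℝ) * qq) = qq * ((uu : ℝ) - 1) by
      rw [← hsum]; ring)
    linarith
  exact_mod_cast this

/-- An exact gluing of `Y` to the columns would make `S(H₀ C)` coherent. -/
theorem not_exact {n : ℕ} (hd : c.Deg uu n 1) {Y : Finset (↥M → ℂ)} {z : (↥M → ℂ) → (G → ℂ)}
    (hY : c.Base Y z) {ζ : ↥M → ℂ} (hζ : ζ ∈ Y)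
    (hex : ∀ ψ ∈ c.cols, c.τ (redChar c.μ ψ - (uu : ℂ) • ζ) =
      ((1 : ℤ) : ℂ) • c.colSum ψ - (uu : ℂ) • z ζ) : False := by
  classical
  haveI := c.normal
  haveI := x.ctx9.sup_C_normal
  set S := Cfsg.inducedIrrAbove Kl ⊥
  obtain ⟨ψ₀, hψ₀⟩ := c.cols_nonempty
  have hζS := hY.mem ζ hζ
  have hirr := hY.irr ζ hζ
  have hζ1 := hY.deg ζ hζ
  have hm : ∀ ψ ∈ c.cols, redChar c.μ ψ ∈ S := fun ψ h => c.redChar_mem h
  have hnY : ∀ ψ ∈ c.cols, redChar c.μ ψ ∉ Y := fun ψ h hmem =>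
    c.redChar_not_irr (c.mem_cols.mp h).1 (hY.irr _ hmem)
  have hconj : Cfsg.conjFun (redChar c.μ ψ₀) = redChar c.μ ψ₀⁻¹ := by
    rw [c.redChar_eq, c.redChar_eq]
    have hs : Cfsg.conjFun (∑ φ ∈ c.rows, c.μ (φ * ψ₀)) =
        ∑ φ ∈ c.rows, Cfsg.conjFun (c.μ (φ * ψ₀)) := by
      funext g
      simp [Cfsg.conjFun, Finset.sum_apply]
    rw [hs]
    refine Finset.sum_nbij' (fun φ => φ⁻¹) (fun φ => φ⁻¹) (fun φ h => c.inv_mem_rows h)
      (fun φ h => c.inv_mem_rows h) (fun φ _ => inv_inv φ) (fun φ _ => inv_inv φ) fun φ _ => ?_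
    rw [c.chars.conj]
    congr 1
    refine MonoidHom.ext fun w => ?_
    simp [MonoidHom.mul_apply, mul_comm]
  -- the family with the two columns
  set T₀ : Finset (↥M → ℂ) := Y ∪ {redChar c.μ ψ₀, redChar c.μ ψ₀⁻¹} with hT₀
  have hT₀mem : ∀ t, t ∈ T₀ → t ∈ Y ∨ ∃ ψ ∈ c.cols, t = redChar c.μ ψ := by
    intro t ht
    simp only [hT₀, Finset.mem_union, Finset.mem_insert, Finset.mem_singleton] at ht
    rcases ht with h | h | h
    · exact Or.inl h
    · exact Or.inr ⟨ψ₀, hψ₀, h⟩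
    · exact Or.inr ⟨ψ₀⁻¹, c.inv_mem_cols hψ₀, h⟩
  have hT₀S : (↑T₀ : Set (↥M → ℂ)) ⊆ S := fun t ht => by
    rcases hT₀mem t ht with h | ⟨ψ, hψ, rfl⟩
    · exact hY.mem t h
    · exact hm ψ hψ
  have hT₀c : ∀ t ∈ T₀, Cfsg.conjFun t ∈ T₀ := by
    intro t ht
    simp only [hT₀, Finset.mem_union, Finset.mem_insert, Finset.mem_singleton] at ht ⊢
    rcases ht with h | h | h
    · exact Or.inl (hY.closed t h)
    · exact Or.inr (Or.inr (h ▸ hconj))
    · refine Or.inr (Or.inl ?_)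
      rw [h, ← hconj, Cfsg.Lib.Coherence.conjFun_conjFun]
  -- coherence of that family
  have hcoh₀ : Cfsg.IsCoherent (↑T₀ : Set (↥M → ℂ)) {1}ᶜ c.τ := by
    obtain ⟨T, hT, hTiso⟩ := exists_ext ({ζ} : Set (↥M → ℂ))
      (fun φ hφ => by rw [Set.mem_singleton_iff.mp hφ]; exact sys_ne_zero c.system hζS)
      (fun φ hφ ψ hψ hne => absurd ((Set.mem_singleton_iff.mp hφ).trans
        (Set.mem_singleton_iff.mp hψ).symm) hne) (fun _ => z ζ) (fun _ _ => hY.gen ζ hζ)
      (fun φ hφ ψ hψ => by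
        rw [Set.mem_singleton_iff.mp hφ, Set.mem_singleton_iff.mp hψ, hY.norm ζ hζ,
          classInner_self_irr hirr])
    have hTζ : T ζ = z ζ := hT ζ rfl
    refine isCoherent_extend (S₁ := {ζ})
      (Set.singleton_subset_iff.mpr (Finset.mem_union_left _ hζ))
      (fun φ hφ => sys_ne_zero c.system (hT₀S hφ))
      (fun φ hφ ψ hψ => c.system.orthogonal φ (hT₀S hφ) ψ (hT₀S hψ))
      ⟨fun a ha b hb => c.system.isometry.1 a (zspanOn_mono hT₀S ha) b (zspanOn_mono hT₀S hb),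
        fun a ha => c.system.isometry.2.1 a (zspanOn_mono hT₀S ha),
        fun a ha b hb => c.system.isometry.2.2.1 a (zspanOn_mono hT₀S ha) b (zspanOn_mono hT₀S hb),
        fun a ha => c.system.isometry.2.2.2 a (zspanOn_mono hT₀S ha)⟩
      (τ₁ := T) hTiso ?_ ?_ ?_
    · intro f hf
      obtain ⟨hf', hf1⟩ := mem_one.mp hf
      obtain ⟨k, hk⟩ := Submodule.mem_span_singleton.mp hf'
      subst hk
      have hk0 : k = 0 := by
        rw [Pi.smul_apply, hζ1, zsmul_eq_mul] at hf1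
        exact_mod_cast (mul_eq_zero.mp hf1).resolve_right (Nat.cast_ne_zero.mpr Nat.card_pos.ne')
      subst hk0
      rw [zero_smul, map_zero]
      have := c.tau_zsmul 0 0
      simpa using this.symm
    · intro t ht
      have hz0 : ∀ ψ, Cfsg.classInner (c.colSum ψ) (z ζ) = 0 := fun ψ => by
        rw [← classInner_conj_symm, c.inner_colSum, Finset.sum_eq_zero fun φ _ => hY.eta ζ hζ _,
          map_zero]
      rcases hT₀mem t ht with h | ⟨ψ, hψ, rfl⟩
      · refine ⟨ζ, subset_zspan rfl, by simp [hY.deg t h, hζ1], fun φ hφ => ?_⟩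
        rw [Set.mem_singleton_iff.mp hφ, hTζ, hY.diff t h ζ hζ, classInner_sub_left,
          classInner_sub_left, hY.norm ζ hζ, classInner_self_irr hirr,
          classInner_irrChar (hY.irr t h) hirr]
        split_ifs with e
        · rw [e, hY.norm ζ hζ]
        · rw [hY.ortho t h ζ hζ e]
      · refine ⟨(uu : ℤ) • ζ, (Submodule.span ℤ _).smul_mem _ (subset_zspan rfl), ?_, fun φ hφ => ?_⟩
        · simp [c.redChar_one, (hd.apply ψ hψ).1, hζ1]; ring
        · rw [Set.mem_singleton_iff.mp hφ, hTζ, ← Int.cast_smul_eq_zsmul ℂ, Int.cast_natCast,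
            hex ψ hψ, classInner_sub_left, classInner_sub_left, classInner_smul_left,
            classInner_smul_left, classInner_smul_left, hz0, hY.norm ζ hζ,
            classInner_self_irr hirr, ← classInner_conj_symm ζ (redChar c.μ ψ),
            c.irr_inner_redChar hζS hirr hψ, map_zero]
          ring
    · refine ⟨ζ - Cfsg.conjFun ζ, mem_one.mpr ⟨(Submodule.span ℤ _).sub_mem
        (subset_zspan (Finset.mem_union_left _ hζ))
        (subset_zspan (Finset.mem_union_left _ (hY.closed ζ hζ))), ?_⟩,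
        sub_ne_zero.mpr (c.system.conj_ne ζ hζS).symm⟩
      simp [conj_apply_one (isCharacter_of_irr hirr)]
  -- extend to all of `S(H₀ C)`
  set T := T₀ ∪ (finite_above (K := Kl) Nl).toFinset with hTdef
  have hTS : (↑T : Set (↥M → ℂ)) ⊆ S := fun t ht => by
    rcases Finset.mem_union.mp ht with h | h
    · exact hT₀S h
    · exact above_subset _ ((Set.Finite.mem_toFinset _).mp h)
  have hdu : 0 < uu := lt_of_le_of_lt (Nat.zero_le _) x.q_lt_u
  have hdegred : ∀ ψ ∈ c.cols, deg (redChar c.μ ψ) = qq * uu := by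
    intro ψ hψ
    have h1 := IsCharacter.apply_one_eq_deg (c.system.isCharacter _ (hm ψ hψ))
    rw [c.redChar_one, (hd.apply ψ hψ).1] at h1
    exact_mod_cast h1.symm
  have hdegζ : deg ζ = qq := by
    rw [IsCharacter.apply_one_eq_deg (isCharacter_of_irr hirr)] at hζ1
    exact_mod_cast hζ1
  have hne : redChar c.μ ψ₀ ≠ redChar c.μ ψ₀⁻¹ := fun e =>
    c.system.conj_ne _ (hm ψ₀ hψ₀) (by rw [hconj, e])
  have hcoh := coherent_extend c.system (T₀ := T₀) (T := T) Finset.subset_union_left hTS hT₀c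
    (fun t ht => by
      rcases Finset.mem_union.mp ht with h | h
      · exact Finset.mem_union_left _ (hT₀c t h)
      · exact Finset.mem_union_right _ ((Set.Finite.mem_toFinset _).mpr
          (conj_mem_above _ ((Set.Finite.mem_toFinset _).mp h))))
    hcoh₀ (χ₁ := ζ) (Finset.mem_union_left _ hζ) (by
      intro χ hχ hχ0
      obtain ⟨θ, hθ, -, hker, rfl⟩ :=
        (Set.Finite.mem_toFinset _).mp ((Finset.mem_union.mp hχ).resolve_left hχ0)
      rw [deg_indFun (isCharacter_of_irr hθ), x.index_K, hdegζ]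
      refine ⟨dvd_mul_right _ _, ?_⟩
      have hle : deg θ ≤ uu := Nat.le_of_dvd hdu (x.ctx9.deg_dvd_u hθ fun a ha =>
        hker a (sup_le_sup_left (Subgroup.commutator_le_self _) _ ha))
      have hterm : ∀ ψ ∈ c.cols, (deg (redChar c.μ ψ) : ℝ) ^ 2 /
          (Cfsg.classInner (redChar c.μ ψ) (redChar c.μ ψ)).re = (qq : ℝ) * (uu : ℝ) ^ 2 := by
        intro ψ hψ
        rw [hdegred ψ hψ, c.redChar_inner (c.mem_cols.mp hψ).1 (c.mem_cols.mp hψ).1, if_pos rfl,
          Complex.natCast_re, Nat.cast_mul]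
        have hq0 : (qq : ℝ) ≠ 0 := by exact_mod_cast Nat.card_pos.ne'
        field_simp
      have hge : (qq : ℝ) * (uu : ℝ) ^ 2 + (qq : ℝ) * (uu : ℝ) ^ 2 ≤
          ∑ φ ∈ T₀, (deg φ : ℝ) ^ 2 / (Cfsg.classInner φ φ).re := by
        refine le_trans (le_of_eq ?_) (Finset.sum_le_sum_of_subset_of_nonneg
          (Finset.subset_union_right (s₁ := Y)) fun φ _ _ =>
            div_nonneg (sq_nonneg _) (inner_self_re_nonneg φ))
        rw [Finset.sum_pair hne, hterm _ hψ₀, hterm _ (c.inv_mem_cols hψ₀)]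
      refine lt_of_lt_of_le ?_ hge
      have h1 : (deg θ : ℝ) ≤ (uu : ℝ) := by exact_mod_cast hle
      have h2 : (qq : ℝ) < (uu : ℝ) := by exact_mod_cast x.q_lt_u
      have hq0 : (0 : ℝ) < (qq : ℝ) := by exact_mod_cast Nat.card_pos
      push_cast
      nlinarith [mul_le_mul_of_nonneg_left h1 (mul_pos hq0 hq0).le,
        mul_lt_mul_of_pos_left h2 (mul_pos hq0 (show (0 : ℝ) < (uu : ℝ) by linarith))])
  obtain ⟨-, τ₁, hτ₁, hag⟩ := hcoh
  have hBT : Cfsg.inducedIrrAbove Kl Nl ⊆ ↑T := fun φ hφ =>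
    Finset.mem_union_right _ ((Set.Finite.mem_toFinset _).mpr hφ)
  obtain ⟨χ₂, hχ₂, -⟩ := exists_minimal c.solvable Nl (by
    refine lt_of_le_of_ne ((sup_le_sup_right x.ctx9.H₀_le _).trans x.ctx9.P_le) fun e =>
      x.uu_ne_one ?_
    rw [← x.ctx9.P_relIndex, le_antisymm x.ctx9.P_le
      (e.ge.trans (sup_le_sup_right x.ctx9.H₀_le _)), Subgroup.relIndex_self])
  refine x.not_coherent_H₀C ?_
  rw [← x.centMod_eq, x.hyp.subgroupOf_sup_C x.kern]
  refine ⟨⟨χ₂ - Cfsg.conjFun χ₂, mem_one.mpr ⟨(Submodule.span ℤ _).sub_mem (subset_zspan hχ₂)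
      (subset_zspan (conj_mem_above _ hχ₂)),
      by simp [conj_apply_one (c.system.isCharacter _ (above_subset _ hχ₂))]⟩,
      sub_ne_zero.mpr (c.system.conj_ne _ (above_subset _ hχ₂)).symm⟩, τ₁, ?_, ?_⟩
  · exact ⟨fun α hα β hβ => hτ₁.1 α (zspan_mono hBT hα) β (zspan_mono hBT hβ),
      fun α hα => hτ₁.2.1 α (zspan_mono hBT hα),
      fun α hα β hβ => hτ₁.2.2.1 α (zspan_mono hBT hα) β (zspan_mono hBT hβ),
      fun α hα => hτ₁.2.2.2 α (zspan_mono hBT hα)⟩
  · exact fun α hα => hag α (zspanOn_mono hBT hα)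

/-- The image of the difference of a member of degree `q u` and a column sum. -/
theorem split_red {n : ℕ} (hd : c.Deg uu n 1) {t : ↥M → ℂ}
    (ht : t ∈ Cfsg.inducedIrrAbove Kl ⊥) (hirr : Cfsg.IsIrrCharacter ↥M t)
    (ht1 : t 1 = ((qq * uu : ℕ) : ℂ)) {ψ : ↥(W₁ ⊔ W₂) →* ℂˣ} (hψ : ψ ∈ c.cols) :
    ∃ ν P : G → ℂ, c.τ (t - redChar c.μ ψ) = ν - P ∧ Cfsg.IsGeneralizedCharacter G ν ∧
      Cfsg.classInner ν ν = 1 ∧ (∀ ω, Cfsg.classInner ν (c.η ω) = 0) ∧
      (P = c.colSum ψ ∨ ∃ ψ' ∈ c.cols, ψ' ≠ ψ ∧ P = -c.colSum ψ') := by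
  classical
  haveI := c.normal
  haveI := Fintype.ofFinite (↥(W₁ ⊔ W₂) →* ℂˣ)
  set μs := redChar c.μ ψ with hμs
  have hm : μs ∈ Cfsg.inducedIrrAbove Kl ⊥ := c.redChar_mem hψ
  have hψ2 := (c.mem_cols.mp hψ).1
  have h1 : μs ≠ t := fun e => c.redChar_not_irr hψ2 (by rw [← hμs, e]; exact hirr)
  have h2 : μs ≠ Cfsg.conjFun t := fun e =>
    c.redChar_not_irr hψ2 (by rw [← hμs, e]; exact IsIrrCharacter.conjugate hirr)
  have hdeg : t 1 = μs 1 := by
    rw [ht1, hμs, c.redChar_one, (hd.apply ψ hψ).1, Nat.cast_mul]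
  obtain ⟨a, b, ha, hsum, hsq, he⟩ := split_diff c.system ht hm h1 h2 hdeg
    (n := 1) (by rw [classInner_self_irr hirr, Nat.cast_one])
  set ν := part (c.Rs t) a
  set P := part (c.Rs μs) b
  change c.τ (t - μs) = ν - P at he
  have hνη : ∀ ω, Cfsg.classInner ν (c.η ω) = 0 := fun ω =>
    comb_inner_of_orth _ (fun α hα => c.irr_R t ht hirr α hα ω) _
  have hge : (1 : ℤ) ≤ ∑ α ∈ c.Rs t, a α ^ 2 := by
    have := sum_le_sum_sq (c.Rs t) a
    rw [hsum] at this
    simpa using this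
  have hνν : Cfsg.classInner ν ν = 1 := by
    rw [part_part c.system ht a a]
    have : ∑ α ∈ c.Rs t, a α * a α = 1 := by
      have h := le_antisymm hsq hge
      simpa [pow_two] using h
    exact_mod_cast this
  have hνg : Cfsg.IsGeneralizedCharacter G ν := part_gen c.system ht a
  have hPg : Cfsg.IsGeneralizedCharacter G P := part_gen c.system hm b
  have hs : c.Supp (t - μs) := c.supp_sub ht hm hdeg
  have hcl : Cfsg.IsClassFunction ↥M (t - μs) := fun l y => by
    simp [c.member_class ht l y, c.member_class hm l y]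
  choose y hy using fun ω => inner_int hPg (c.eta_gen ω)
  have hyτ : ∀ ω, Cfsg.classInner (c.τ (t - μs)) (c.η ω) = -(y ω : ℂ) := fun ω => by
    rw [he, classInner_sub_left, hνη, hy, zero_sub]
  have htμ : ∀ ω, Cfsg.classInner t (c.μ ω) = 0 := fun ω => by
    rw [← classInner_conj_symm, c.mu_inner_irr ht hirr, map_zero]
  have hμμ : ∀ φ ∈ c.rows, ∀ ψ', OnSecond ψ' →
      Cfsg.classInner μs (c.μ (φ * ψ')) = if ψ = ψ' then 1 else 0 := by
    intro φ hφ ψ' hψ'
    rw [← classInner_conj_symm, c.mu_inner_redChar hφ hψ' hψ2]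
    split_ifs <;> simp
  -- the coefficient at the principal character
  have hy1 : y 1 = 0 := by
    have h := hyτ 1
    rw [c.tau_inner_one hcl hs, ← c.mu_one, classInner_sub_left, htμ,
      ← hom_mul_one (1 : ↥(W₁ ⊔ W₂) →* ℂˣ), hμμ 1 c.one_mem_rows 1 onSecond_one,
      if_neg (c.mem_cols.mp hψ).2, sub_zero] at h
    have h' : ((y (1 * 1) : ℤ) : ℂ) = 0 := by linear_combination h
    rw [hom_mul_one] at h'
    exact_mod_cast h'
  -- along the rows
  have hrow : ∀ φ ∈ c.rows, ∀ ψ' ∈ c.cols, y (φ * ψ') - y φ = y ψ' := by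
    intro φ hφ ψ' hψ'
    have hψ'2 := (c.mem_cols.mp hψ').1
    obtain ⟨hsupp, h4⟩ := c.image_four φ 1 ψ' (c.mem_rows.mp hφ) onFirst_one hψ'2
    change c.τ _ = _ at h4
    have h := c.tau_inner hcl hs (fun l r => by
      simp [c.mu_class _ l r]) hsupp
    rw [h4] at h
    simp only [classInner_sub_right, classInner_add_right, classInner_smul_right, hyτ,
      hom_one_mul] at h
    have e1 := hμμ φ hφ ψ' hψ'2
    have e2 := hμμ 1 c.one_mem_rows ψ' hψ'2
    have e3 := hμμ φ hφ 1 onSecond_one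
    have e4 := hμμ 1 c.one_mem_rows 1 onSecond_one
    rw [hom_one_mul] at e2
    rw [hom_mul_one, if_neg (c.mem_cols.mp hψ).2] at e3 e4
    rw [hy1] at h
    rw [classInner_sub_left, classInner_sub_left, classInner_sub_left, classInner_sub_left,
      htμ, htμ, htμ, htμ, e1, e2, e3, e4] at h
    have h' : ((y (φ * ψ') - y φ - y ψ' : ℤ) : ℂ) = 0 := by
      push_cast at h ⊢
      linear_combination -h
    have h'' : y (φ * ψ') - y φ - y ψ' = 0 := by exact_mod_cast h'
    omega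
  -- along the columns
  have hcol : ∀ ψ' ∈ c.cols, y ψ' = y ψ - 1 + if ψ' = ψ then 1 else 0 := by
    intro ψ' hψ'
    by_cases hh : ψ' = ψ
    · rw [if_pos hh, hh]; ring
    obtain ⟨hδ, hsupp, h2⟩ := c.image_col 1 ψ' ψ onFirst_one (c.mem_cols.mp hψ').1 hψ2
      (c.mem_cols.mp hψ').2 (c.mem_cols.mp hψ).2
      (by rw [hom_one_mul, hom_one_mul, (hd.apply ψ' hψ').1, (hd.apply ψ hψ).1])
    change c.τ _ = _ at h2
    have h := c.tau_inner hcl hs (fun l r => by simp [c.mu_class _ l r]) hsupp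
    rw [h2, (hd.apply ψ' hψ').2, Int.cast_one, one_smul] at h
    have e1 := hμμ 1 c.one_mem_rows ψ' (c.mem_cols.mp hψ').1
    have e2 := hμμ 1 c.one_mem_rows ψ hψ2
    rw [if_neg fun e => hh e.symm] at e1
    rw [if_pos rfl] at e2
    rw [classInner_sub_right, classInner_sub_right, hyτ, hyτ, classInner_sub_left,
      classInner_sub_left, htμ, htμ, e1, e2, hom_one_mul, hom_one_mul] at h
    have h' : ((y ψ' - (y ψ - 1) : ℤ) : ℂ) = 0 := by
      push_cast
      linear_combination -h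
    have h'' : y ψ' - (y ψ - 1) = 0 := by exact_mod_cast h'
    rw [if_neg hh]
    omega
  set v := y ψ - 1
  have hfull : ∀ φ ∈ c.rows, ∀ ψ' ∈ c.cols, y (φ * ψ') = y φ + v + if ψ' = ψ then 1 else 0 := by
    intro φ hφ ψ' hψ'
    have := hrow φ hφ ψ' hψ'
    rw [hcol ψ' hψ'] at this
    linarith
  -- the norm of `P`
  have hPP : (Cfsg.classInner P P).re = (qq : ℝ) := by
    have h := congrArg (fun f => Cfsg.classInner f f) he
    rw [c.tau_inner hcl hs hcl hs, classInner_sub_left, classInner_sub_right, classInner_sub_right,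
      classInner_self_irr hirr, c.redChar_inner hψ2 hψ2, if_pos rfl,
      c.irr_inner_redChar ht hirr hψ, ← classInner_conj_symm t μs,
      c.irr_inner_redChar ht hirr hψ, map_zero] at h
    have hνP : Cfsg.classInner ν P = 0 := by
      have hPν : Cfsg.classInner P ν = 0 := comb_inner_of_orth _ (fun β hβ => by
        show Cfsg.classInner β ν = 0
        rw [← classInner_conj_symm, part_orth c.system hm ht h1.symm
          (ne_symm_conj h2) a hβ, map_zero]) _
      rw [← classInner_conj_symm, hPν, map_zero]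
    rw [classInner_sub_left, classInner_sub_right, classInner_sub_right, hνν, hνP,
      ← classInner_conj_symm ν P, hνP, map_zero] at h
    have h' : Cfsg.classInner P P = (qq : ℂ) := by linear_combination -h
    rw [h', Complex.natCast_re]
  have hnsum : ∑ ω, y ω ^ 2 = ∑ φ ∈ c.rows,
      (y φ ^ 2 + (((pp : ℤ) - 2) * (y φ + v) ^ 2 + (y φ + v + 1) ^ 2)) := by
    rw [c.sum_grid]
    refine Finset.sum_congr rfl fun φ hφ => ?_
    have : ∀ ψ' ∈ c.cols, y (φ * ψ') ^ 2 =
        (y φ + v) ^ 2 + if ψ' = ψ then (y φ + v + 1) ^ 2 - (y φ + v) ^ 2 else 0 := fun ψ' h' => by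
      rw [hfull φ hφ ψ' h']
      split_ifs <;> ring
    rw [Finset.sum_congr rfl this, Finset.sum_add_distrib, Finset.sum_const, nsmul_eq_mul,
      Finset.sum_ite_eq' c.cols ψ, if_pos hψ,
      show (c.cols.card : ℤ) = (pp : ℤ) - 1 by have := c.card_cols; omega]
    ring
  have hsp := c.norm_split (∅ : Finset (Fin 0)) (e := fun i => i.elim0) (n := fun _ => 1)
    (x := fun _ => 0) (by simp) (by simp) (by simp) (θ := P) (by simp) hy
  have hp3 : (3 : ℤ) ≤ (pp : ℤ) := by exact_mod_cast c.p_three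
  have hcost : ∀ w : ℤ, 1 ≤ ((pp : ℤ) - 2) * w ^ 2 + (w + 1) ^ 2 := fun w => by
    rcases lt_trichotomy w 0 with h | h | h
    · nlinarith
    · subst h; norm_num
    · nlinarith
  have hle : ∑ φ ∈ c.rows,
      (y φ ^ 2 + (((pp : ℤ) - 2) * (y φ + v) ^ 2 + (y φ + v + 1) ^ 2) - 1) ≤ 0 := by
    rw [Finset.sum_sub_distrib, ← hnsum, Finset.sum_const, c.card_rows, nsmul_eq_mul, mul_one,
      sub_nonpos]
    have h := hsp.1
    rw [Finset.sum_empty, zero_add, hPP] at h
    exact_mod_cast h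
  have hnn : ∀ φ ∈ c.rows,
      0 ≤ y φ ^ 2 + (((pp : ℤ) - 2) * (y φ + v) ^ 2 + (y φ + v + 1) ^ 2) - 1 := fun φ _ => by
    have := hcost (y φ + v)
    have := sq_nonneg (y φ)
    linarith
  have hz := (Finset.sum_eq_zero_iff_of_nonneg hnn).mp (le_antisymm hle (Finset.sum_nonneg hnn))
  have hy0 : ∀ φ ∈ c.rows, y φ = 0 := fun φ hφ => by
    have := hz φ hφ
    have := hcost (y φ + v)
    have : y φ ^ 2 ≤ 0 := by linarith
    exact pow_eq_zero_iff two_ne_zero |>.mp (le_antisymm this (sq_nonneg _))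
  have hv : v = 0 ∨ (v = -1 ∧ (pp : ℤ) = 3) := by
    have h := hz 1 c.one_mem_rows
    rw [hy1, zero_add] at h
    rcases lt_trichotomy v (-1) with hv | hv | hv
    · exfalso; nlinarith
    · exact Or.inr ⟨hv, by rw [hv] at h; linarith⟩
    · rcases (show (0 : ℤ) ≤ v by omega).lt_or_eq with hv' | hv'
      · exfalso; nlinarith
      · exact Or.inl hv'.symm
  have hPe := hsp.2 (by
    rw [Finset.sum_empty, zero_add, hPP]
    have : (qq : ℤ) ≤ ∑ ω, y ω ^ 2 := by
      rw [hnsum]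
      refine le_trans (le_of_eq ?_) (Finset.sum_le_sum fun φ hφ => sub_nonneg.mp (hnn φ hφ))
      rw [Finset.sum_const, c.card_rows, nsmul_eq_mul, mul_one]
    exact_mod_cast this)
  rw [Finset.sum_empty, zero_add, c.sum_grid] at hPe
  refine ⟨ν, P, he, hνg, hνν, hνη, ?_⟩
  rcases hv with hv | ⟨hv, hp⟩
  · left
    rw [hPe, Setup10.colSum]
    refine Finset.sum_congr rfl fun φ hφ => ?_
    rw [hy0 φ hφ, Int.cast_zero, zero_smul, zero_add, Finset.sum_eq_single ψ]
    · rw [hfull φ hφ ψ hψ, hy0 φ hφ, hv, if_pos rfl]; simp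
    · intro ψ' h' hne
      rw [hfull φ hφ ψ' h', hy0 φ hφ, hv, if_neg hne]; simp
    · exact fun h => absurd hψ h
  · right
    obtain ⟨ψ', hψ', hne⟩ : ∃ ψ' ∈ c.cols, ψ' ≠ ψ := by
      refine Finset.exists_mem_ne ?_ ψ
      have := c.card_cols
      omega
    have hcols : c.cols = {ψ, ψ'} := (Finset.eq_of_subset_of_card_le
      (Finset.insert_subset hψ (Finset.singleton_subset_iff.mpr hψ'))
      (by rw [Finset.card_pair hne.symm]; have := c.card_cols; omega)).symm
    refine ⟨ψ', hψ', hne, ?_⟩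
    rw [hPe, Setup10.colSum, ← Finset.sum_neg_distrib]
    refine Finset.sum_congr rfl fun φ hφ => ?_
    rw [hy0 φ hφ, Int.cast_zero, zero_smul, zero_add, hcols, Finset.sum_pair hne.symm,
      hfull φ hφ ψ hψ, hfull φ hφ ψ' hψ', hy0 φ hφ, hv, if_pos rfl, if_neg hne]
    simp

/-- The irreducible members of degree `q u` are at most `q - p` in number. -/
theorem card_members_le : pp < qq ∧ ∀ D : Finset (↥M → ℂ), (∀ t ∈ D,
    t ∈ Cfsg.inducedIrrAbove Kl ⊥ ∧ Cfsg.IsIrrCharacter ↥M t ∧ t 1 = ((qq * uu : ℕ) : ℂ)) →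
    pp + D.card ≤ qq := by
  classical
  haveI := c.normal
  obtain ⟨n, hd⟩ := x.exists_deg_eq
  obtain ⟨Y, z, hY, hmemY, hYc⟩ := x.exists_base
  have hn : n ≤ Y.card := by
    have h := hd.eq
    rw [← hYc] at h
    push_cast at h
    have h' : (Y.card : ℤ) * qq = (n : ℤ) * qq := by linarith
    have : Y.card * qq = n * qq := by exact_mod_cast h'
    exact (Nat.eq_of_mul_eq_mul_right Nat.card_pos this).ge
  obtain ⟨ζ, hζ⟩ : Y.Nonempty := Finset.card_pos.mp (lt_of_lt_of_le hd.pos hn)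
  rcases c.glue hY hd hn hζ with ⟨z', hY', hex⟩ | ⟨b, hb0, hbcol, hbound⟩
  · exact (x.not_exact hd hY' hζ hex).elim
  obtain ⟨ψ, hψ⟩ := c.cols_nonempty
  have hmain : ∀ D : Finset (↥M → ℂ), (∀ t ∈ D,
      t ∈ Cfsg.inducedIrrAbove Kl ⊥ ∧ Cfsg.IsIrrCharacter ↥M t ∧ t 1 = ((qq * uu : ℕ) : ℂ)) →
      pp + D.card ≤ qq := by
    intro D hD
    choose! ν P hsplit hνg hνν hνη hP using fun t (ht : t ∈ D) =>
      x.split_red hd (hD t ht).1 (hD t ht).2.1 (hD t ht).2.2 hψ
    have hPη : ∀ t ∈ D, ∀ f : G → ℂ, (∀ ω, Cfsg.classInner f (c.η ω) = 0) →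
        Cfsg.classInner f (P t) = 0 := by
      intro t ht f hf
      have h0 : ∀ ψ', Cfsg.classInner f (c.colSum ψ') = 0 := fun ψ' => by
        rw [c.inner_colSum, Finset.sum_eq_zero fun φ _ => hf _]
      rcases hP t ht with e | ⟨ψ', -, -, e⟩
      · rw [e, h0]
      · rw [e, classInner_neg_right, h0, neg_zero]
    have hsupp : ∀ t ∈ D, c.Supp (t - redChar c.μ ψ) ∧
        Cfsg.IsClassFunction ↥M (t - redChar c.μ ψ) := fun t ht =>
      ⟨c.supp_sub (hD t ht).1 (c.redChar_mem hψ)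
        (by rw [(hD t ht).2.2, c.redChar_one, (hd.apply ψ hψ).1, Nat.cast_mul]),
        fun l y => by
          simp [c.member_class (hD t ht).1 l y, c.member_class (c.redChar_mem hψ) l y]⟩
    -- orthonormality
    have hortho : ∀ t ∈ D, ∀ t' ∈ D, t ≠ t' → Cfsg.classInner (ν t) (ν t') = 0 := by
      intro t ht t' ht' hne
      have h := c.tau_inner (hsupp t ht).2 (hsupp t ht).1 (hsupp t' ht').2 (hsupp t' ht').1
      rw [hsplit t ht, hsplit t' ht'] at h
      simp only [classInner_sub_left, classInner_sub_right] at h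
      rw [hPη t' ht' _ (hνη t ht), ← classInner_conj_symm (ν t') (P t),
        hPη t ht _ (hνη t' ht'), map_zero, classInner_irrChar (hD t ht).2.1 (hD t' ht').2.1,
        if_neg hne, c.irr_inner_redChar (hD t ht).1 (hD t ht).2.1 hψ,
        ← classInner_conj_symm t' (redChar c.μ ψ), c.irr_inner_redChar (hD t' ht').1 (hD t' ht').2.1 hψ,
        map_zero, c.redChar_inner (c.mem_cols.mp hψ).1 (c.mem_cols.mp hψ).1, if_pos rfl] at h
      have hPP : Cfsg.classInner (P t) (P t') = (qq : ℂ) ∨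
          Cfsg.classInner (P t) (P t') = 0 := by
        rcases hP t ht with e | ⟨ψ₁, h₁, n₁, e⟩ <;> rcases hP t' ht' with e' | ⟨ψ₂, h₂, n₂, e'⟩ <;>
          simp only [e, e', classInner_neg_left, classInner_neg_right, neg_neg]
        · left; rw [c.colSum_inner (c.mem_cols.mp hψ).1 (c.mem_cols.mp hψ).1, if_pos rfl]
        · right
          rw [c.colSum_inner (c.mem_cols.mp h₂).1 (c.mem_cols.mp hψ).1, if_neg (Ne.symm n₂),
            neg_zero]
        · right
          rw [c.colSum_inner (c.mem_cols.mp hψ).1 (c.mem_cols.mp h₁).1, if_neg n₁, neg_zero]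
        · by_cases h12 : ψ₁ = ψ₂
          · left
            rw [c.colSum_inner (c.mem_cols.mp h₂).1 (c.mem_cols.mp h₁).1, if_pos h12]
          · right
            rw [c.colSum_inner (c.mem_cols.mp h₂).1 (c.mem_cols.mp h₁).1, if_neg h12]
      rcases hPP with e | e
      · rw [e] at h; linear_combination h
      · exfalso
        rw [e] at h
        have hνv : Cfsg.classInner (ν t) (ν t') = (qq : ℂ) := by linear_combination h
        have h2 := inner_self_re_nonneg (ν t - ν t')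
        rw [classInner_sub_left, classInner_sub_right, classInner_sub_right, hνν t ht, hνν t' ht',
          ← classInner_conj_symm (ν t) (ν t'), hνv, map_natCast] at h2
        simp only [Complex.sub_re, Complex.one_re, Complex.natCast_re] at h2
        have h3 : (qq : ℝ) ≤ 1 := by linarith
        have : qq ≤ 1 := by exact_mod_cast h3
        have := c.q_three
        omega
    -- orthogonal to the images of `Y`
    have hzero : ∀ t ∈ D, ∀ χ ∈ Y, Cfsg.classInner (ν t) (z χ) = 0 := by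
      intro t ht χ hχ
      obtain ⟨k, hk⟩ := inner_int (hνg t ht) (hY.gen χ hχ)
      set χ' := Cfsg.conjFun χ
      have hχ' : χ' ∈ Y := hY.closed χ hχ
      have hne : χ ≠ χ' := (c.system.conj_ne χ (hY.mem χ hχ)).symm
      have hk' : Cfsg.classInner (ν t) (z χ') = (k : ℂ) := by
        have h := c.tau_inner (hsupp t ht).2 (hsupp t ht).1
          (fun l y => by
            simp [c.member_class (hY.mem χ hχ) l y, c.member_class (hY.mem χ' hχ') l y])
          (hY.supp c hχ hχ')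
        rw [hsplit t ht, hY.diff χ hχ χ' hχ'] at h
        have hnt : ∀ r ∈ Y, t ≠ r := fun r hr e => by
          have h1 := hY.deg r hr
          rw [← e, (hD t ht).2.2] at h1
          have h2 : qq * uu = qq := by exact_mod_cast h1
          have := x.q_lt_u
          have := c.q_three
          nlinarith
        have hPz : ∀ r ∈ Y, Cfsg.classInner (P t) (z r) = 0 := fun r hr => by
          rw [← classInner_conj_symm, hPη t ht _ (hY.eta r hr), map_zero]
        have hμz : ∀ r ∈ Y, Cfsg.classInner (redChar c.μ ψ) r = 0 := fun r hr => by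
          rw [← classInner_conj_symm, c.irr_inner_redChar (hY.mem r hr) (hY.irr r hr) hψ, map_zero]
        simp only [classInner_sub_left, classInner_sub_right] at h
        rw [hPz χ hχ, hPz χ' hχ', hμz χ hχ, hμz χ' hχ', classInner_irrChar (hD t ht).2.1 (hY.irr χ hχ),
          classInner_irrChar (hD t ht).2.1 (hY.irr χ' hχ'), if_neg (hnt χ hχ), if_neg (hnt χ' hχ'),
          hk] at h
        linear_combination -h
      have hpos := inner_self_re_nonneg (ν t - (k : ℂ) • (z χ + z χ'))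
      rw [classInner_sub_left, classInner_sub_right, classInner_sub_right, classInner_smul_left,
        classInner_smul_left, classInner_smul_right, classInner_smul_right, classInner_add_right,
        classInner_add_left, classInner_add_left, classInner_add_right, classInner_add_right,
        hνν t ht, ← classInner_conj_symm (ν t) (z χ), ← classInner_conj_symm (ν t) (z χ'), hk, hk',
        hY.norm χ hχ, hY.norm χ' hχ', hY.ortho χ hχ χ' hχ' hne, hY.ortho χ' hχ' χ hχ hne.symm,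
        map_intCast] at hpos
      simp only [Complex.sub_re, Complex.mul_re, Complex.add_re, Complex.add_im, Complex.intCast_re,
        Complex.intCast_im, Complex.one_re, Complex.one_im, Complex.zero_re, Complex.zero_im,
        Complex.mul_im, mul_zero, zero_mul, add_zero, zero_add, sub_zero] at hpos
      have hk2 : (k : ℝ) ^ 2 < 1 := by nlinarith
      have hk2' : k ^ 2 < 1 := by exact_mod_cast hk2
      have hk0 : k = 0 := by nlinarith
      rw [hk, hk0, Int.cast_zero]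
    -- the coefficients of the image of `β`
    have hζm := hY.mem ζ hζ
    have hx : ∀ t ∈ D, ∃ r : ℝ, Cfsg.classInner (c.τ (c.beta ζ)) (ν t) = r ∧ r ^ 2 = (b : ℝ) ^ 2 := by
      intro t ht
      have h := c.tau_inner (c.beta_class hζm) (c.beta_supp hζm (hY.deg ζ hζ))
        (hsupp t ht).2 (hsupp t ht).1
      rw [hsplit t ht, classInner_sub_right, classInner_sub_right,
        c.beta_inner_irr (hY.irr ζ hζ) (hD t ht).1 (hD t ht).2.1,
        c.beta_inner_redChar hψ hζm (hY.irr ζ hζ), if_neg] at h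
      · rcases hP t ht with e | ⟨ψ', hψ', -, e⟩
        · refine ⟨(b : ℝ), ?_, rfl⟩
          rw [e, hbcol ψ hψ] at h
          push_cast
          linear_combination h
        · refine ⟨-(b : ℝ), ?_, by ring⟩
          rw [e, classInner_neg_right, hbcol ψ' hψ'] at h
          push_cast
          linear_combination h
      · intro e
        have h1 := hY.deg ζ hζ
        rw [e, (hD t ht).2.2] at h1
        have h2 : qq * uu = qq := by exact_mod_cast h1
        have := x.q_lt_u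
        have := c.q_three
        nlinarith
    choose! r hr hr2 using hx
    have h := hbound D ν (fun _ => 1) r (fun _ _ => one_ne_zero)
      (fun t ht t' ht' => by
        split_ifs with e
        · subst e; rw [hνν t ht]; norm_num
        · exact hortho t ht t' ht' e)
      (fun t ht => hνη t ht) hzero hr
    have hge : (D.card : ℝ) ≤ ∑ t ∈ D, r t ^ 2 / 1 := by
      rw [← Nat.smul_one_eq_cast, ← Finset.sum_const]
      refine Finset.sum_le_sum fun t ht => ?_
      rw [div_one, hr2 t ht]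
      have : (1 : ℤ) ≤ b ^ 2 := by
        have := sq_pos_of_ne_zero hb0
        omega
      exact_mod_cast this
    have : ((pp + D.card : ℕ) : ℝ) ≤ (qq : ℝ) := by push_cast; linarith
    exact_mod_cast this
  refine ⟨lt_of_le_of_ne ?_ x.prime_data.1, hmain⟩
  simpa using hmain ∅ (by simp)

/-- The linear characters of `H C` counted by the characters they induce. -/
theorem card_chars_le [hHn : (Hl).Normal] (S : Finset (↥(Hl ⊔ Cl) →* ℂˣ))
    (hne : ∀ f ∈ S, f.comp (Subgroup.inclusion (le_sup_left : Hl ≤ Hl ⊔ Cl)) ≠ 1)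
    (hst : ∀ f ∈ S,
      Ctx9.stab Ul (f.comp (Subgroup.inclusion (le_sup_left : Hl ≤ Hl ⊔ Cl))) ≤ Cl)
    (hA : ∀ f ∈ S, ∀ y : ↥(Hl ⊔ Cl), (y : ↥M) ∈ Nl → f y = 1) :
    S.card ≤ ((pp - 1) + qq * (qq - pp)) * uu := by
  classical
  haveI := c.normal
  haveI := x.ctx9.sup_C_normal
  haveI := x.ctx9.P_normal_K
  haveI := Fintype.ofFinite ↥Kl
  haveI := Fintype.ofFinite ↥Wl
  haveI := Fintype.ofFinite (Cfsg.IrrCharacter ↥Kl)
  obtain ⟨A, hAc, -, hA'⟩ := x.ctx9.invariant_set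
  have hbound := x.card_members_le
  let Θ : Finset (Cfsg.IrrCharacter ↥Kl) := Finset.univ.filter fun θ =>
    Cfsg.IsIrrCharacter ↥M (Cfsg.indFun Kl (θ : ↥Kl → ℂ)) ∧
      deg (θ : ↥Kl → ℂ) = uu ∧ Above (θ : ↥Kl → ℂ) Nl ∧ ¬ Above (θ : ↥Kl → ℂ) Hl
  let D : Finset (↥M → ℂ) := Θ.image fun θ : Cfsg.IrrCharacter ↥Kl => Cfsg.indFun Kl (θ : ↥Kl → ℂ)
  have hD : D.card ≤ qq - pp := by
    have := hbound.2 D fun t ht => by
      obtain ⟨θ, hθ, rfl⟩ := Finset.mem_image.mp ht
      obtain ⟨hi, hdg, hab, hnH⟩ := (Finset.mem_filter.mp hθ).2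
      refine ⟨above_subset Nl ((s09_indFun_mem_seqIndD (Ms := Hl) θ.2).mpr ⟨hab, hnH⟩).1, hi, ?_⟩
      rw [x.ctx9.indFun_apply_one θ.2, hdg]
    omega
  have hΘ : Θ.card ≤ qq * D.card := by
    refine Finset.card_le_mul_card_image Θ qq fun t ht => ?_
    obtain ⟨θ₀, hθ₀, rfl⟩ := Finset.mem_image.mp ht
    let orb : Finset (↥Kl → ℂ) :=
      (Finset.univ : Finset ↥Wl).image fun w : ↥Wl => Cfsg.Lib.Chars.conjN Kl (w : ↥M) θ₀
    have horb : orb.card ≤ qq := by
      refine Finset.card_image_le.trans (le_of_eq ?_)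
      rw [Finset.card_univ, ← Nat.card_eq_fintype_card, x.ctx9.card_W]
    refine le_trans ?_ horb
    refine Finset.card_le_card_of_injOn (fun θ => (θ : ↥Kl → ℂ)) (fun θ hθ => ?_)
      Subtype.val_injective.injOn
    obtain ⟨g, hg⟩ := s09_conj_of_indFun_eq θ₀.2 θ.2 (Finset.mem_filter.mp hθ).2.symm
    obtain ⟨k, hk, w, hw, rfl⟩ := x.ctx9.decomp g
    refine Finset.mem_image.mpr ⟨⟨w, hw⟩, Finset.mem_univ _, ?_⟩
    show Cfsg.Lib.Chars.conjN Kl w (θ₀ : ↥Kl → ℂ) = (θ : ↥Kl → ℂ)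
    rw [← hg, Cfsg.Lib.Chars.conjN_mul,
      show Cfsg.Lib.Chars.conjN Kl k (θ₀ : ↥Kl → ℂ) = θ₀ from
        mem_inertia.mp (le_inertia (isClassFunction_irr θ₀) hk)]
  have h1 : S.card ≤ (A ∪ Θ).card * uu := by
    rw [← x.ctx9.P_relIndex]
    refine s09_card_indK (Hl ⊔ Cl) x.ctx9.P_le S (A ∪ Θ) (fun θ => (θ : ↥Kl → ℂ)) fun f hf => ?_
    obtain ⟨hirr, habove, hnH, -, hdeg⟩ := x.ctx9.indP_spec x.ctx9.P_le f (hne f hf) (hst f hf) Nl
      (sup_le_sup_right x.ctx9.H₀_le _) (hA f hf)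
    refine ⟨⟨_, hirr⟩, ?_, rfl⟩
    by_cases hinv : ∀ w ∈ Wl, Cfsg.Lib.Chars.conjN Kl w (indK (Hl ⊔ Cl) x.ctx9.P_le f) =
        indK (Hl ⊔ Cl) x.ctx9.P_le f
    · exact Finset.mem_union_left _
        (hA' _ (habove.mono (sup_le_sup_left (Subgroup.commutator_le_self _) _)) hnH hinv)
    · refine Finset.mem_union_right _ (Finset.mem_filter.mpr ⟨Finset.mem_univ _,
        x.ctx9.irr_of_not_invariant hirr hinv, ?_, habove, hnH⟩)
      rw [x.ctx9.indFun_apply_one hirr] at hdeg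
      have : qq * deg (indK (Hl ⊔ Cl) x.ctx9.P_le f) = qq * uu := by exact_mod_cast hdeg
      exact Nat.eq_of_mul_eq_mul_left Nat.card_pos this
  refine h1.trans (Nat.mul_le_mul_right _ ((Finset.card_union_le _ _).trans ?_))
  rw [hAc]
  exact Nat.add_le_add_left (hΘ.trans (Nat.mul_le_mul_left _ hD)) _

/-- `p < q`, the Galois case and the bound. -/
theorem main : pp < qq ∧ IsGalois9 M U H₀ ∧ pp ^ qq ≤ 1 + uu * (qq ^ 2 + pp) := by
  classical
  have hpq := x.card_members_le.1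
  haveI := x.ctx9.H_normal
  haveI := x.ctx9.P_normal
  haveI := x.ctx9.sup_C_normal
  have hgal : IsGalois9 M U H₀ := by
    by_contra hng
    obtain ⟨H₁, a, l⟩ :=
      s9NonGalois G x.odd M W₁ U W₂ x.hyp H₀ x.kern hng _ x.W₂_prime x.card_H
    obtain ⟨S, hS, hne, hst, hA⟩ := x.ctx9.line_chars (x.hyp.lineCtx x.kern l)
    have h1 := hS.trans (x.card_chars_le S hne hst hA)
    have h3 : uu ≤ a ^ (qq - 1) := by
      rw [x.hyp.relIndex_C]
      exact Nat.le_of_dvd (pow_pos (by have := l.one_lt; omega) _) l.card_dvd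
    have hp3 := c.p_three
    have hq5 : 5 ≤ qq := by
      have : qq ≠ 4 := fun e => by
        have := x.hyp.q_prime
        rw [e] at this
        exact absurd this (by norm_num)
      omega
    have h4 : 2 ^ (qq - 1) * uu ≤ (pp - 1) ^ (qq - 1) := by
      refine (Nat.mul_le_mul_left _ h3).trans ?_
      rw [← mul_pow]
      exact Nat.pow_le_pow_left l.two_mul_le _
    have h5 : (pp - 1) * 2 ^ (qq - 1) * (pp - 1) ^ (qq - 1) ≤
        (pp - 1 + qq * (qq - pp)) * (pp - 1) ^ (qq - 1) := by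
      calc (pp - 1) * 2 ^ (qq - 1) * (pp - 1) ^ (qq - 1)
          = 2 ^ (qq - 1) * (pp - 1) ^ (qq - 1 + 1) := by rw [pow_succ]; ring
        _ = 2 ^ (qq - 1) * (pp - 1) ^ qq := by rw [Nat.sub_add_cancel (by omega : 1 ≤ qq)]
        _ ≤ 2 ^ (qq - 1) * ((pp - 1 + qq * (qq - pp)) * uu) := Nat.mul_le_mul_left _ h1
        _ = (pp - 1 + qq * (qq - pp)) * (2 ^ (qq - 1) * uu) := by ring
        _ ≤ _ := Nat.mul_le_mul_left _ h4
    have h6 := Nat.le_of_mul_le_mul_right h5 (pow_pos (by omega) _)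
    have hgrow : ∀ m : ℕ, 5 ≤ m → m * m + m < 2 ^ m := by
      intro m hm
      induction m, hm using Nat.le_induction with
      | base => norm_num
      | succ k hk ih => rw [pow_succ]; nlinarith
    have h7 := hgrow qq hq5
    rw [show qq = qq - 1 + 1 by omega, pow_succ] at h7
    rw [Nat.sub_add_cancel (by omega : 1 ≤ qq)] at h7
    have h8 : 2 * 2 ^ (qq - 1) ≤ (pp - 1) * 2 ^ (qq - 1) := Nat.mul_le_mul_right _ (by omega)
    have h9 : qq * (qq - pp) ≤ qq * qq := Nat.mul_le_mul_left _ (Nat.sub_le _ _)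
    omega
  refine ⟨hpq, hgal, ?_⟩
  set X := (Nl).subgroupOf (Hl ⊔ Cl) with hX
  have hder : ∀ a b : ↥(Hl ⊔ Cl), a * b * a⁻¹ * b⁻¹ ∈ X := fun a b =>
    Subgroup.mem_subgroupOf.mpr
      (sup_le_sup_left (Subgroup.commutator_le_self _) _ (x.ctx9.derived_P a a.2 b b.2))
  haveI : X.Normal := Subgroup.normal_subgroupOf
  have hcard := s09_card_hom_above_not X ⊤ le_top hder
  rw [Subgroup.index_top] at hcard
  have hXi : X.index = pp ^ qq := by
    have c9 := x.ctx9
    have h2 := Subgroup.card_mul_index X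
    rw [Nat.card_congr (Subgroup.subgroupOfEquivOfLe (sup_le_sup_right c9.H₀_le _)).toEquiv,
      Cfsg.Lib.Coprime.card_sup_of_inf_eq_bot (c9.le_normalizer_H₀ _)
        (eq_bot_iff.mpr ((inf_le_inf c9.H₀_le c9.C_le).trans c9.H_inf_U.le)),
      Cfsg.Lib.Coprime.card_sup_of_inf_eq_bot (c9.le_normalizer_H _)
        (eq_bot_iff.mpr ((inf_le_inf le_rfl c9.C_le).trans c9.H_inf_U.le)), c9.card_H] at h2
    refine Nat.eq_of_mul_eq_mul_left (Nat.mul_pos (Nat.card_pos (α := ↥(H₀.subgroupOf M)))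
      (Nat.card_pos (α := ↥Cl))) ?_
    rw [h2]; ring
  haveI := Fintype.ofFinite
    {f : ↥(Hl ⊔ Cl) →* ℂˣ // X ≤ f.ker ∧ ¬ (⊤ : Subgroup ↥(Hl ⊔ Cl)) ≤ f.ker}
  let S : Finset (↥(Hl ⊔ Cl) →* ℂˣ) := (Finset.univ : Finset
    {f : ↥(Hl ⊔ Cl) →* ℂˣ // X ≤ f.ker ∧ ¬ (⊤ : Subgroup ↥(Hl ⊔ Cl)) ≤ f.ker}).image Subtype.val
  have hScard : S.card + 1 = pp ^ qq := by
    rw [Finset.card_image_of_injective _ Subtype.val_injective, Finset.card_univ,
      ← Nat.card_eq_fintype_card, hcard, hXi]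
  have hS : ∀ f ∈ S, (∀ y : ↥(Hl ⊔ Cl), (y : ↥M) ∈ Nl → f y = 1) ∧
      f.comp (Subgroup.inclusion (le_sup_left : Hl ≤ Hl ⊔ Cl)) ≠ 1 := by
    intro f hf
    obtain ⟨⟨f, hfX, hfT⟩, -, rfl⟩ := Finset.mem_image.mp hf
    have hkill : ∀ y : ↥(Hl ⊔ Cl), (y : ↥M) ∈ Nl → f y = 1 := fun y hy =>
      hfX (Subgroup.mem_subgroupOf.mpr hy)
    refine ⟨hkill, fun e => hfT fun y _ => ?_⟩
    obtain ⟨h, hh, d, hd, hye⟩ := x.ctx9.mem_P.mp y.2
    rw [MonoidHom.mem_ker, show y = ⟨h, mem_sup_left hh⟩ * ⟨d, mem_sup_right hd⟩ from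
      Subtype.ext hye.symm, map_mul,
      show f ⟨h, mem_sup_left hh⟩ = 1 from DFunLike.congr_fun e ⟨h, hh⟩,
      hkill ⟨d, mem_sup_right hd⟩ (mem_sup_right hd), one_mul]
  have hle := x.card_chars_le S (fun f hf => (hS f hf).2)
    (fun f hf => (x.ctx9.stab_eq_of_free (x.hyp.free x.kern hgal x.W₂_prime x.card_H)
      (fun y hy => (hS f hf).1 ⟨y, mem_sup_left y.2⟩ (mem_sup_left hy)) (hS f hf).2).le)
    (fun f hf => (hS f hf).1)
  have hnum : pp - 1 + qq * (qq - pp) ≤ qq ^ 2 + pp := by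
    have : qq * (qq - pp) ≤ qq * qq := Nat.mul_le_mul_left _ (Nat.sub_le _ _)
    rw [pow_two]
    omega
  have hfin := hle.trans (Nat.mul_le_mul_right _ hnum)
  rw [mul_comm (qq ^ 2 + pp)] at hfin
  omega

end Ctx11

end Cfsg.Agent.PF
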