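import Cfsg.Agent.OddChar.PF.S09Members
import Cfsg.Agent.OddChar.PF.S10Coherent
import Cfsg.Agent.OddChar.PF.S11Interface
import Cfsg.Agent.Coprime.CyclicQuotient
import Cfsg.Agent.S1519
import Cfsg.Agent.S1520

/-!
# Section 11: the structure of `M'` from the failure of coherence

`M` is a maximal subgroup with data of type `P`, `U` non-trivial and `|W₁|` prime, on which the
characters induced from `M'` are not coherent.  The bound on the coherent families `S(A)` gives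
`M'' = H C_U(H)`, and from this the kernel `H₀` of the chief factor is `(M_F)'`, central in `M_F`.
-/

set_option linter.unusedSectionVars false
set_option linter.unusedVariables false
set_option linter.style.haveILetI false
set_option autoImplicit false

universe u

namespace Cfsg.Agent.PF

open Subgroup
open scoped commutatorElement

/-! ### Generalities -/

/-- `4 q² + 1 < p ^ q` for odd primes `p`, `q` apart from `p = q = 3`. -/
theorem s11_sq_lt {p q : ℕ} (hp : p.Prime) (hq : q.Prime) (hp2 : p ≠ 2) (hq2 : q ≠ 2)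
    (hpq : p ≠ q) : 4 * q ^ 2 + 1 < p ^ q := by
  have hp3 : 3 ≤ p := by have := hp.two_le; omega
  by_cases h3 : q = 3
  · subst h3
    have h5 : 5 ≤ p := by
      have : p ≠ 4 := fun e => by rw [e] at hp; exact absurd hp (by norm_num)
      omega
    have := Nat.pow_le_pow_left h5 3
    omega
  · have hq5 : 5 ≤ q := by
      have : q ≠ 4 := fun e => by rw [e] at hq; exact absurd hq (by norm_num)
      have := hq.two_le
      omega
    refine lt_of_lt_of_le ?_ (Nat.pow_le_pow_left hp3 q)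
    clear h3 hp hpq hp2 hp3 hq hq2
    induction q, hq5 using Nat.le_induction with
    | base => norm_num
    | succ n hn ih => rw [pow_succ' 3]; nlinarith

section General

variable {G : Type u} [Group G]

theorem s11_commutator_mem_sup {A B N : Subgroup G} (hN : A ⊔ B ≤ normalizer (N : Set G)) {x : G}
    (hA : ∀ a ∈ A, ⁅x, a⁆ ∈ N) (hB : ∀ b ∈ B, ⁅x, b⁆ ∈ N) {y : G} (hy : y ∈ A ⊔ B) :
    ⁅x, y⁆ ∈ N := by
  let D : Subgroup G :=
    { carrier := {z | z ∈ normalizer (N : Set G) ∧ ⁅x, z⁆ ∈ N}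
      one_mem' := ⟨one_mem _, by simp⟩
      mul_mem' := by
        rintro a b ⟨ha, ha'⟩ ⟨hb, hb'⟩
        refine ⟨mul_mem ha hb, ?_⟩
        have e : ⁅x, a * b⁆ = ⁅x, a⁆ * (a * ⁅x, b⁆ * a⁻¹) := by
          simp only [commutatorElement_def]; group
        rw [e]
        exact mul_mem ha' (s09_conj_mem ha hb')
      inv_mem' := by
        rintro a ⟨ha, ha'⟩
        refine ⟨inv_mem ha, ?_⟩
        have e : ⁅x, a⁻¹⁆ = a⁻¹ * ⁅x, a⁆⁻¹ * a := by
          simp only [commutatorElement_def]; group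
        rw [e]
        exact s09_conj_mem' ha (inv_mem ha') }
  have hle : A ⊔ B ≤ D :=
    sup_le (fun a ha => ⟨hN (mem_sup_left ha), hA a ha⟩) fun b hb => ⟨hN (mem_sup_right hb), hB b hb⟩
  exact (hle hy).2

/-- The derived subgroup of `A ⊔ B` from the commutators of the parts. -/
theorem s11_commutator_sup_le {A B N : Subgroup G} (hN : A ⊔ B ≤ normalizer (N : Set G))
    (hAA : ∀ a ∈ A, ∀ a' ∈ A, ⁅a, a'⁆ ∈ N) (hAB : ∀ a ∈ A, ∀ b ∈ B, ⁅a, b⁆ ∈ N)
    (hBB : ∀ b ∈ B, ∀ b' ∈ B, ⁅b, b'⁆ ∈ N) : ⁅A ⊔ B, A ⊔ B⁆ ≤ N := by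
  rw [commutator_le]
  intro x hx y hy
  refine s11_commutator_mem_sup hN (fun a ha => ?_) (fun b hb => ?_) hy
  · rw [← commutatorElement_inv]
    exact inv_mem (s11_commutator_mem_sup hN (hAA a ha) (hAB a ha) hx)
  · rw [← commutatorElement_inv]
    refine inv_mem (s11_commutator_mem_sup hN (fun a ha => ?_) (hBB b hb) hx)
    rw [← commutatorElement_inv]
    exact inv_mem (hAB a ha b hb)

/-- An element of order prime to `|X|` lies in a subgroup as soon as its `|X|`-th power does. -/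
theorem s11_mem_of_pow [Finite G] {Y : Subgroup G} {v : G} {n : ℕ}
    (hcop : n.Coprime (orderOf v)) (h : v ^ n ∈ Y) : v ∈ Y := by
  obtain ⟨m, hm⟩ := exists_pow_eq_self_of_coprime hcop
  rw [← hm]
  exact pow_mem h m

theorem s11_eq_one_of_pow [Finite G] {X : Subgroup G} {z : G} {n : ℕ} (hz : z ∈ X)
    (hn : z ^ n = 1) (hcop : (Nat.card X).Coprime n) : z = 1 :=
  orderOf_eq_one_iff.mp (Nat.eq_one_of_dvd_coprimes hcop (Subgroup.orderOf_dvd_natCard X hz)
    (orderOf_dvd_of_pow_eq_one hn))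

/-- A subgroup normalised by a cyclic group `W` of prime order `q` has order congruent modulo `q` to
that of the fixed points. -/
theorem s11_card_modEq [Finite G] {W X W₂ : Subgroup G} {q : ℕ} (hq : q.Prime)
    (hW : Nat.card W = q) (hn : W ≤ normalizer (X : Set G))
    (hfix : X ⊓ centralizer (W : Set G) = W₂) : Nat.card X ≡ Nat.card W₂ [MOD q] := by
  haveI := Fact.mk hq
  letI : MulAction ↥W ↥X :=
    MulAction.compHom ↥X (X.normalizerMonoidHom.comp (Subgroup.inclusion hn))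
  have hpg : IsPGroup q ↥W := IsPGroup.of_card (n := 1) (by rw [pow_one, hW])
  refine (hpg.card_modEq_card_fixedPoints (α := ↥X)).trans ?_
  have e : Nat.card (MulAction.fixedPoints ↥W ↥X) = Nat.card W₂ := by
    refine Nat.card_congr
      { toFun := fun x => ⟨(x.1 : G), hfix.le ⟨x.1.2, mem_centralizer_iff.mpr fun w hw => ?_⟩⟩
        invFun := fun x => ⟨⟨(x : G), (hfix.ge x.2).1⟩, fun w => Subtype.ext ?_⟩
        left_inv := fun x => rfl
        right_inv := fun x => rfl }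
    · have := congrArg Subtype.val (x.2 ⟨w, hw⟩)
      change w * (x.1 : G) * w⁻¹ = (x.1 : G) at this
      exact (mul_inv_eq_iff_eq_mul.mp this)
    · show (w : G) * x * (w : G)⁻¹ = x
      rw [mem_centralizer_iff.mp (hfix.ge x.2).2 w w.2, mul_inv_cancel_right]
  rw [e]

end General

/-! ### The setting -/

/-- The hypotheses of the section: the setting of Section 9 and the failure of coherence. -/
structure Ctx11 {G : Type u} [Group G] [Fintype G] {M W₁ W₂ : Subgroup G} [Fintype M]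
    (c : Setup10 M ⁅M, M⁆ W₁ W₂) (U H₀ : Subgroup G) : Prop where
  hyp : Hyp9 M W₁ U W₂
  kern : Kernel9 M U H₀
  odd : Odd (Nat.card G)
  not_coherent : ¬ Cfsg.IsCoherent
    (Cfsg.inducedIrrAbove ((⁅M, M⁆ : Subgroup G).subgroupOf M) ⊥) {1}ᶜ c.τ

namespace Ctx11

variable {G : Type u} [Group G] [Fintype G] {M W₁ U W₂ H₀ : Subgroup G} [Fintype M]
  {c : Setup10 M ⁅M, M⁆ W₁ W₂}

local notation "H" => Cfsg.fittingHallOf M
local notation "K" => (⁅M, M⁆ : Subgroup G)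
local notation "CH" => (U ⊓ Subgroup.centralizer (Cfsg.fittingHallOf M : Set G) : Subgroup G)

section Basic

variable (x : Ctx11 c U H₀)
include x

theorem coprime_H_U : (Nat.card H).Coprime (Nat.card U) :=
  x.hyp.coprime_H_UW.coprime_dvd_right (dvd_mul_right _ _)

theorem W₂_prime : (Nat.card W₂).Prime := c.p_prime

theorem prime_data : Nat.card W₂ ≠ Nat.card W₁ ∧ Nat.card W₂ ≠ 2 ∧
    Nat.card H = Nat.card W₂ ^ Nat.card W₁ * Nat.card H₀ ∧
    (∀ y ∈ H, y ^ Nat.card W₂ ∈ H₀) ∧ W₂ ⊓ H₀ = ⊥ := by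
  obtain ⟨-, -, -, -, -, -, -, p, hp, hpq, hp2, hcard, -, hexp, -, -, hW⟩ :=
    s9Facts G x.odd M W₁ U W₂ x.hyp H₀ x.kern
  obtain ⟨e, hbot⟩ := hW x.W₂_prime
  rw [e]
  exact ⟨hpq, hp2, hcard, hexp, hbot⟩

theorem card_H : Nat.card H = Nat.card W₂ ^ Nat.card W₁ * Nat.card H₀ := x.prime_data.2.2.1

theorem q_ne_two : Nat.card W₁ ≠ 2 := fun e => by
  have := x.odd.of_dvd_nat (e ▸ Subgroup.card_subgroup_dvd_card W₁)
  exact absurd this (by decide)

theorem sq_lt : 4 * Nat.card W₁ ^ 2 + 1 < Nat.card W₂ ^ Nat.card W₁ :=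
  s11_sq_lt x.W₂_prime x.hyp.q_prime x.prime_data.2.1 x.q_ne_two x.prime_data.1

theorem CH_le_M : CH ≤ M := inf_le_left.trans x.hyp.U_le

theorem CH_le_K : CH ≤ K := inf_le_left.trans x.hyp.U_le_derived

theorem M_normalizes_CH : M ≤ normalizer (CH : Set G) := by
  have h1 : ∀ A : Subgroup G, A ≤ normalizer (U : Set G) → A ≤ M →
      A ≤ normalizer (CH : Set G) := fun A hA hAM =>
    Cfsg.Lib.Coprime.le_normalizer_inf_centralizer hA (hAM.trans x.hyp.M_le_normalizer_H)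
  refine x.hyp.normal_of (Cfsg.Lib.Coprime.le_normalizer_of_le_centralizer fun a ha => ?_)
    (h1 U le_normalizer x.hyp.U_le) (h1 W₁ x.hyp.W₁_le_normalizer_U x.hyp.W₁_le)
  exact mem_centralizer_iff.mpr fun y hy => (mem_centralizer_iff.mp hy.2 a ha).symm

theorem H_inf_CH : H ⊓ CH = ⊥ :=
  eq_bot_iff.mpr ((inf_le_inf_left _ inf_le_left).trans x.hyp.typeP.U_compl.2.2.1.le)

theorem card_HC : Nat.card ↥(H ⊔ CH) = Nat.card H * Nat.card CH :=
  Cfsg.Lib.Coprime.card_sup_of_inf_eq_bot (x.CH_le_M.trans x.hyp.M_le_normalizer_H) x.H_inf_CH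

theorem centralizer_H_le : M ⊓ centralizer (H : Set G) ≤ H ⊔ CH := by
  intro y hy
  have hyK : y ∈ K := x.hyp.typeP.fitting_le (x.hyp.typeP.fitting_eq.le (mem_sup_right hy))
  obtain ⟨a, ha, v, hv, rfl⟩ := x.hyp.typeP.U_compl.2.2.2 y hyK
  refine mul_mem_sup ha ?_
  have hc : Commute a⁻¹ (a * v) :=
    Commute.inv_left (mem_centralizer_iff.mp hy.2 a ha)
  have hpow : v ^ Nat.card H ∈ CH := by
    refine ⟨pow_mem hv _, ?_⟩
    have e : v = a⁻¹ * (a * v) := (inv_mul_cancel_left a v).symm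
    rw [e, hc.mul_pow, inv_pow, Cfsg.Lib.Dade.pow_card_mem ha, inv_one, one_mul]
    exact pow_mem hy.2 _
  exact s11_mem_of_pow (x.coprime_H_U.coprime_dvd_right (Subgroup.orderOf_dvd_natCard U hv)) hpow

theorem HC_le_fitting : H ⊔ CH ≤ Cfsg.fittingOf M :=
  (sup_le_sup_left (inf_le_inf_right _ x.hyp.U_le) _).trans x.hyp.typeP.fitting_eq.le

theorem nilpotent_HC : Group.IsNilpotent ↥(H ⊔ CH) := by
  haveI : Group.IsNilpotent ↥(Cfsg.fittingOf M) :=
    haveI := Cfsg.Lib.Components.isNilpotent_fitting (G := M)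
    Group.nilpotent_of_mulEquiv (Subgroup.equivMapOfInjective _ _ M.subtype_injective)
  exact Group.nilpotent_of_mulEquiv (Subgroup.subgroupOfEquivOfLe x.HC_le_fitting)

theorem HC_le_K : H ⊔ CH ≤ K := sup_le x.hyp.H_le_derived x.CH_le_K

theorem M_normalizes_HC : M ≤ normalizer ((H ⊔ CH : Subgroup G) : Set G) :=
  Cfsg.Lib.Coprime.le_normalizer_sup x.hyp.M_le_normalizer_H x.M_normalizes_CH

theorem M_normalizes_H₀C : M ≤ normalizer ((H₀ ⊔ CH : Subgroup G) : Set G) :=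
  Cfsg.Lib.Coprime.le_normalizer_sup x.kern.normal x.M_normalizes_CH

theorem derived_two : ⁅K, K⁆ ≤ H ⊔ CH :=
  x.hyp.typeP.derived_two_le.trans (sup_le le_sup_left x.centralizer_H_le)

theorem derived_U_le_CH : ⁅U, U⁆ ≤ CH :=
  le_inf (Subgroup.commutator_le_self U) x.hyp.derived_U_le_centralizer

theorem CH_ne_U : CH ≠ U := by
  intro e
  refine x.kern.nontrivial ?_
  rw [commutator_le]
  intro a ha b hb
  have : ⁅a, b⁆ = 1 := commutatorElement_eq_one_iff_mul_comm.mpr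
    (mem_centralizer_iff.mp (e.ge hb).2 a ha)
  rw [this]
  exact one_mem _

theorem H₀_le_H : H₀ ≤ H := x.kern.H₀_le

theorem H₀_le_M : H₀ ≤ M := x.H₀_le_H.trans x.hyp.H_le

/-- The commutators of `H C` lie in `H₀ C`. -/
theorem HC_comm : ⁅H ⊔ CH, H ⊔ CH⁆ ≤ H₀ ⊔ CH := by
  refine s11_commutator_sup_le
    ((sup_le x.hyp.H_le x.CH_le_M).trans x.M_normalizes_H₀C)
    (fun a ha a' ha' => mem_sup_left (x.kern.commutator_H_le x.hyp
      (commutator_mem_commutator ha ha'))) (fun a ha b hb => ?_) (fun b hb b' hb' => ?_)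
  · have : ⁅a, b⁆ = 1 := commutatorElement_eq_one_iff_mul_comm.mpr
      (mem_centralizer_iff.mp hb.2 a ha)
    rw [this]
    exact one_mem _
  · exact mem_sup_right (Subgroup.commutator_le_self _ (commutator_mem_commutator hb hb'))

/-! ### Coherence -/

theorem index_K : ((⁅M, M⁆ : Subgroup G).subgroupOf M).index = Nat.card W₁ := c.index_K

theorem solvable_K : Group.IsSolvable ↥((⁅M, M⁆ : Subgroup G).subgroupOf M) := c.solvable

/-- `S(H₀ C)` is not coherent. -/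
theorem not_coherent_H₀C : ¬ Cfsg.IsCoherent (Cfsg.inducedIrrAbove ((K).subgroupOf M)
    ((H₀ ⊔ CH).subgroupOf M)) {1}ᶜ c.τ := by
  intro hcoh
  haveI := c.normal
  haveI : ((H₀ ⊔ CH).subgroupOf M).Normal :=
    (Subgroup.normal_subgroupOf_iff_le_normalizer (sup_le x.H₀_le_M x.CH_le_M)).mpr
      x.M_normalizes_H₀C
  haveI : ((H ⊔ CH).subgroupOf M).Normal :=
    (Subgroup.normal_subgroupOf_iff_le_normalizer (sup_le x.hyp.H_le x.CH_le_M)).mpr
      x.M_normalizes_HC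
  haveI : Group.IsNilpotent ↥((H ⊔ CH).subgroupOf M) :=
    haveI := x.nilpotent_HC
    Group.nilpotent_of_mulEquiv
      (Subgroup.subgroupOfEquivOfLe (sup_le x.hyp.H_le x.CH_le_M)).symm
  refine x.not_coherent (Cfsg.Agent.S1520.result ((K).subgroupOf M) x.solvable_K c.τ c.Rs c.system ⊥
    ((H₀ ⊔ CH).subgroupOf M) ((H ⊔ CH).subgroupOf M) bot_le
    (Subgroup.comap_mono (sup_le_sup_right x.H₀_le_H _)) (Subgroup.comap_mono x.HC_le_K)
    inferInstance hcoh ?_)
  rw [x.index_K, Subgroup.relIndex_subgroupOf (sup_le x.hyp.H_le x.CH_le_M)]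
  refine lt_of_lt_of_le x.sq_lt (le_of_eq ?_)
  refine Nat.eq_of_mul_eq_mul_left (Nat.card_pos (α := ↥(H₀ ⊔ CH))) ?_
  have h1 := Subgroup.card_mul_index ((H₀ ⊔ CH).subgroupOf (H ⊔ CH))
  rw [Nat.card_congr (Subgroup.subgroupOfEquivOfLe (sup_le_sup_right x.H₀_le_H _)).toEquiv] at h1
  refine Eq.trans ?_ h1.symm
  rw [x.card_HC, x.card_H, Cfsg.Lib.Coprime.card_sup_of_inf_eq_bot
    (x.CH_le_M.trans x.kern.normal)
    (eq_bot_iff.mpr ((inf_le_inf_right _ x.H₀_le_H).trans x.H_inf_CH.le))]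
  ring

/-- A coherent `S(A)` bounds the index of `A`. -/
theorem coherent_bound {A : Subgroup G} (hA : M ≤ normalizer (A : Set G)) (hAK : A < K)
    (hcoh : Cfsg.IsCoherent (Cfsg.inducedIrrAbove ((K).subgroupOf M) (A.subgroupOf M)) {1}ᶜ c.τ) :
    A.relIndex K - 1 ≤ 2 * Nat.card W₁ * (CH).relIndex U := by
  by_contra hlt
  push Not at hlt
  have hKM : K ≤ M := x.hyp.derived_le
  have hHCM : H ⊔ CH ≤ M := sup_le x.hyp.H_le x.CH_le_M
  haveI := c.normal
  haveI : (A.subgroupOf M).Normal :=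
    (Subgroup.normal_subgroupOf_iff_le_normalizer (hAK.le.trans hKM)).mpr hA
  haveI : ((H₀ ⊔ CH).subgroupOf M).Normal :=
    (Subgroup.normal_subgroupOf_iff_le_normalizer (sup_le x.H₀_le_M x.CH_le_M)).mpr
      x.M_normalizes_H₀C
  haveI : ((H ⊔ CH).subgroupOf M).Normal :=
    (Subgroup.normal_subgroupOf_iff_le_normalizer hHCM).mpr x.M_normalizes_HC
  have hlt' : ∀ {X : Subgroup G}, X < K → X.subgroupOf M < (K).subgroupOf M := fun {X} hX =>
    lt_of_le_of_ne (Subgroup.comap_mono hX.le) fun e => hX.ne (by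
      rw [← Subgroup.map_subgroupOf_eq_of_le (hX.le.trans hKM),
        ← Subgroup.map_subgroupOf_eq_of_le hKM, e])
  have hB : H₀ ⊔ CH < K := by
    refine lt_of_lt_of_le (lt_of_le_of_ne (sup_le_sup_right x.H₀_le_H _) fun e => ?_) x.HC_le_K
    refine x.kern.lt.not_ge fun a ha => ?_
    obtain ⟨b, hb, d, hd, rfl⟩ := (Cfsg.Lib.Coprime.mem_sup_of_le_normalizer
      (x.CH_le_M.trans x.kern.normal)).mp (e.ge (mem_sup_left ha))
    have hd1 : d ∈ H ⊓ CH :=
      ⟨by simpa using mul_mem (inv_mem (x.H₀_le_H hb)) ha, hd⟩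
    rw [x.H_inf_CH, mem_bot] at hd1
    rwa [hd1, mul_one]
  refine x.not_coherent_H₀C (Cfsg.Agent.S1519.result ((K).subgroupOf M) x.solvable_K c.τ c.Rs
    c.system (A.subgroupOf M) ((H₀ ⊔ CH).subgroupOf M) ((H ⊔ CH).subgroupOf M)
    ((H ⊔ CH).subgroupOf M) (hlt' hAK) (hlt' hB)
    (Subgroup.comap_mono (sup_le_sup_right x.H₀_le_H _)) le_rfl (Subgroup.comap_mono x.HC_le_K)
    ?_ hcoh ?_)
  · intro a ha b hb
    show ((a : G) * b * (a : G)⁻¹ * (b : G)⁻¹) ∈ H₀ ⊔ CH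
    exact x.HC_comm (by simpa [commutatorElement_def] using
      commutator_mem_commutator (Subgroup.mem_subgroupOf.mp ha) (Subgroup.mem_subgroupOf.mp hb))
  · rw [Subgroup.relIndex_self, mul_one, Subgroup.relIndex_subgroupOf hKM]
    have e : ((H ⊔ CH).subgroupOf M).index = Nat.card W₁ * (CH).relIndex U := by
      rw [← Subgroup.relIndex_mul_index (show (H ⊔ CH).subgroupOf M ≤ (K).subgroupOf M from
        Subgroup.comap_mono x.HC_le_K), x.index_K, Subgroup.relIndex_subgroupOf hKM, mul_comm]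
      congr 1
      refine Nat.eq_of_mul_eq_mul_left (Nat.card_pos (α := ↥(H ⊔ CH))) ?_
      have h1 := Subgroup.card_mul_index ((H ⊔ CH).subgroupOf K)
      have h2 := Subgroup.card_mul_index ((CH).subgroupOf U)
      rw [Nat.card_congr (Subgroup.subgroupOfEquivOfLe x.HC_le_K).toEquiv] at h1
      rw [Nat.card_congr (Subgroup.subgroupOfEquivOfLe (inf_le_left : CH ≤ U)).toEquiv] at h2
      refine h1.trans ?_
      rw [x.hyp.card_derived, x.card_HC, mul_assoc]
      exact congrArg _ h2.symm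
    rw [e, show 4 * (Nat.card W₁ * (CH).relIndex U) ^ 2 =
      (2 * Nat.card W₁ * (CH).relIndex U) ^ 2 by ring]
    exact Nat.pow_lt_pow_left hlt two_ne_zero

/-! ### The derived subgroup of `M'` -/

theorem W₂_le_derived_two : W₂ ≤ ⁅K, K⁆ := x.hyp.typeP.W₂_le.trans inf_le_right

theorem centralizer_W₁ {X : Subgroup G} (hX : X ≤ K) (hW : W₂ ≤ X) :
    X ⊓ centralizer (W₁ : Set G) = W₂ := by
  obtain ⟨w, hw, hw1⟩ := (Subgroup.bot_or_exists_ne_one W₁).resolve_left x.hyp.typeP.W₁_ne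
  refine le_antisymm ?_ (le_inf hW fun y hy => mem_centralizer_iff.mpr fun v hv =>
    x.hyp.typeP.selfNormalizing.2.2.2.1 v hv y hy)
  rintro y ⟨hy, hy'⟩
  exact (x.hyp.typeP.W₂_centralizer w hw hw1).le
    ⟨hX hy, centralizer_le (Set.singleton_subset_iff.mpr hw) hy'⟩

theorem derived_two_eq : ⁅K, K⁆ = H ⊔ CH := by
  set q := Nat.card W₁
  set u := (CH).relIndex U with hu
  have hKM : K ≤ M := x.hyp.derived_le
  have hnK : M ≤ normalizer ((⁅K, K⁆ : Subgroup G) : Set G) := by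
    intro m hm
    rw [← Cfsg.Lib.Coprime.conjMap_eq_self_iff, Cfsg.Lib.Coprime.conjMap, map_commutator,
      show (⁅M, M⁆ : Subgroup G).map (MulAut.conj m).toMonoidHom = ⁅M, M⁆ from
        Cfsg.Lib.Coprime.conjMap_eq_self (x.hyp.M_le_normalizer_derived hm)]
  have hcU : u * Nat.card CH = Nat.card U := by
    have h2 := Subgroup.card_mul_index ((CH).subgroupOf U)
    rw [Nat.card_congr (Subgroup.subgroupOfEquivOfLe (inf_le_left : CH ≤ U)).toEquiv,
      mul_comm] at h2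
    exact h2
  have hcK : Nat.card K = u * Nat.card ↥(H ⊔ CH) := by
    rw [x.hyp.card_derived, x.card_HC, ← hcU]; ring
  obtain ⟨m, hm⟩ := Subgroup.card_dvd_of_le x.derived_two
  have hmod : ∀ X : Subgroup G, X ≤ K → W₂ ≤ X → M ≤ normalizer (X : Set G) →
      Nat.card X ≡ Nat.card W₂ [MOD q] := fun X h1 h2 h3 =>
    s11_card_modEq x.hyp.q_prime rfl (x.hyp.W₁_le.trans h3) (x.centralizer_W₁ h1 h2)
  have hcop : Nat.gcd q (Nat.card W₂) = 1 :=
    (Nat.coprime_primes x.hyp.q_prime x.W₂_prime).mpr x.prime_data.1.symm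
  have hW2' : W₂ ≤ H ⊔ CH := x.hyp.W₂_le_H.trans le_sup_left
  have hu1 : u ≡ 1 [MOD q] := by
    have h1 := hmod K le_rfl (hW2'.trans x.HC_le_K) x.hyp.M_le_normalizer_derived
    rw [hcK] at h1
    have h2 := ((hmod (H ⊔ CH) x.HC_le_K hW2' x.M_normalizes_HC).mul_left u).symm.trans h1
    exact Nat.ModEq.cancel_right_of_coprime hcop (by rwa [one_mul])
  have hm1 : m ≡ 1 [MOD q] := by
    have h1 := hmod (H ⊔ CH) x.HC_le_K hW2' x.M_normalizes_HC
    rw [hm, mul_comm] at h1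
    have h2 := ((hmod _ (x.derived_two.trans x.HC_le_K) x.W₂_le_derived_two hnK).mul_left m
      ).symm.trans h1
    exact Nat.ModEq.cancel_right_of_coprime hcop (by rwa [one_mul])
  have hbig : ∀ a : ℕ, a ≡ 1 [MOD q] → a ∣ Nat.card G → a ≠ 1 → 2 * q + 1 ≤ a := by
    intro a h1 hd hne
    have hao : Odd a := x.odd.of_dvd_nat hd
    have hqo : Odd q := x.odd.of_dvd_nat (Subgroup.card_subgroup_dvd_card W₁)
    have ha1 : 1 ≤ a := hao.pos
    obtain ⟨t, ht⟩ := (Nat.modEq_iff_dvd' ha1).mp h1.symm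
    rcases t with _ | _ | t
    · omega
    · exfalso
      obtain ⟨i, hi⟩ := hao
      obtain ⟨j, hj⟩ := hqo
      omega
    · rw [Nat.mul_add, Nat.mul_add] at ht
      omega
  have hune : u ≠ 1 := fun e => x.CH_ne_U (le_antisymm inf_le_left (Subgroup.relIndex_eq_one.mp e))
  have hu2 : 2 * q + 1 ≤ u :=
    hbig u hu1 ((Subgroup.relIndex_dvd_card _ _).trans (Subgroup.card_subgroup_dvd_card U)) hune
  refine Subgroup.eq_of_le_of_card_ge x.derived_two (le_of_eq ?_)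
  suffices m = 1 by rw [hm, this, mul_one]
  by_contra hne
  have hm2 := hbig m hm1 ((Dvd.intro_left _ hm.symm).trans (Subgroup.card_subgroup_dvd_card _)) hne
  haveI := c.normal
  have hder : ⁅(K).subgroupOf M, (K).subgroupOf M⁆ = (⁅K, K⁆ : Subgroup G).subgroupOf M :=
    (s09_commutator_subgroupOf hKM).symm
  have hcoh := Cfsg.Lib.InducedFamily.coherent_above_derived x.solvable_K c.system
    ⁅(K).subgroupOf M, (K).subgroupOf M⁆ le_rfl c.derived_lt
  rw [hder] at hcoh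
  have hlt : ⁅K, K⁆ < K := lt_of_le_of_ne (Subgroup.commutator_le_self _) fun e => by
    have := hder
    rw [e] at this
    exact c.derived_lt.ne this
  have hb := x.coherent_bound hnK hlt hcoh
  have hrel : (⁅K, K⁆ : Subgroup G).relIndex K = u * m := by
    have h1 := Subgroup.card_mul_index ((⁅K, K⁆ : Subgroup G).subgroupOf K)
    rw [Nat.card_congr (Subgroup.subgroupOfEquivOfLe hlt.le).toEquiv, hcK, hm] at h1
    refine Nat.eq_of_mul_eq_mul_left (Nat.card_pos (α := ↥(⁅K, K⁆ : Subgroup G))) ?_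
    refine h1.trans ?_
    ring
  rw [hrel] at hb
  have := Nat.mul_le_mul_left u hm2
  rw [Nat.mul_add, mul_one] at this
  rw [show u * (2 * q) = 2 * q * u by ring] at this
  change u * m - 1 ≤ 2 * q * u at hb
  omega

/-- A subgroup of `G` normalised by `M'` containing the commutators of `H` with `H` and `U`
contains `H`. -/
theorem H_le_of {X : Subgroup G} (hn : K ≤ normalizer (X : Set G))
    (h1 : ∀ a ∈ H, ∀ b ∈ H, ⁅a, b⁆ ∈ X) (h2 : ∀ a ∈ H, ∀ b ∈ U, ⁅a, b⁆ ∈ X) : H ≤ X := by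
  set Z := H ⊓ X with hZ
  have hHK : H ⊔ U ≤ K := x.hyp.derived_eq.le
  have hnZ : H ⊔ U ≤ normalizer (Z : Set G) := Cfsg.Lib.Coprime.le_normalizer_inf
    ((hHK.trans x.hyp.derived_le).trans x.hyp.M_le_normalizer_H) (hHK.trans hn)
  have hcm : ∀ a ∈ H, ∀ b ∈ K, ⁅a, b⁆ ∈ H := by
    intro a ha b hb
    have e : ⁅a, b⁆ = a * (b * a⁻¹ * b⁻¹) := by simp only [commutatorElement_def]; group
    rw [e]
    exact mul_mem ha (s09_conj_mem (x.hyp.M_le_normalizer_H (x.hyp.derived_le hb)) (inv_mem ha))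
  have hU' : U ≤ normalizer ((⁅U, U⁆ : Subgroup G) : Set G) :=
    Cfsg.Lib.Coprime.le_normalizer_commutator_right U U
  have hnN : H ⊔ U ≤ normalizer ((Z ⊔ ⁅U, U⁆ : Subgroup G) : Set G) := by
    refine sup_le (s09_le_normalizer_of_conj fun a ha y hy => ?_)
      (Cfsg.Lib.Coprime.le_normalizer_sup (le_sup_right.trans hnZ) hU')
    obtain ⟨z, hz, v, hv, rfl⟩ := (Cfsg.Lib.Coprime.mem_sup_of_le_normalizer
      (((Subgroup.commutator_le_self U).trans le_sup_right).trans hnZ)).mp hy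
    have e : a * (z * v) * a⁻¹ = a * z * a⁻¹ * ⁅a, v⁆ * v := by
      simp only [commutatorElement_def]; group
    rw [e]
    exact mul_mem (mul_mem (mem_sup_left (s09_conj_mem (hnZ (mem_sup_left ha)) hz))
      (mem_sup_left ⟨hcm a ha v (x.hyp.U_le_derived (Subgroup.commutator_le_self U hv)),
        h2 a ha v (Subgroup.commutator_le_self U hv)⟩)) (mem_sup_right hv)
  have hder : ⁅K, K⁆ ≤ Z ⊔ ⁅U, U⁆ := by
    conv_lhs => rw [← x.hyp.derived_eq]
    exact s11_commutator_sup_le hnN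
      (fun a ha b hb => mem_sup_left ⟨hcm a ha b (x.hyp.H_le_derived hb), h1 a ha b hb⟩)
      (fun a ha b hb => mem_sup_left ⟨hcm a ha b (x.hyp.U_le_derived hb), h2 a ha b hb⟩)
      fun b hb b' hb' => mem_sup_right (commutator_mem_commutator hb hb')
  rw [x.derived_two_eq] at hder
  intro a ha
  obtain ⟨z, hz, v, hv, rfl⟩ := (Cfsg.Lib.Coprime.mem_sup_of_le_normalizer
    (((Subgroup.commutator_le_self U).trans le_sup_right).trans hnZ)).mp (hder (mem_sup_left ha))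
  have hv1 : v ∈ H ⊓ U :=
    ⟨by simpa using (Cfsg.fittingHallOf M).mul_mem ((Cfsg.fittingHallOf M).inv_mem hz.1) ha, Subgroup.commutator_le_self U hv⟩
  rw [x.hyp.typeP.U_compl.2.2.1, mem_bot] at hv1
  rw [hv1, mul_one]
  exact hz.2

theorem CH_eq : CH = ⁅U, U⁆ := by
  refine le_antisymm (fun v hv => ?_) x.derived_U_le_CH
  have hU' : ⁅U, U⁆ ≤ normalizer (H : Set G) :=
    (Subgroup.commutator_le_self U).trans (x.hyp.U_le.trans x.hyp.M_le_normalizer_H)
  have hn : H ⊔ U ≤ normalizer ((H ⊔ ⁅U, U⁆ : Subgroup G) : Set G) := by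
    refine sup_le (le_sup_left.trans le_normalizer)
      (Cfsg.Lib.Coprime.le_normalizer_sup (x.hyp.U_le.trans x.hyp.M_le_normalizer_H)
        (Cfsg.Lib.Coprime.le_normalizer_commutator_right U U))
  have hder : ⁅K, K⁆ ≤ H ⊔ ⁅U, U⁆ := by
    conv_lhs => rw [← x.hyp.derived_eq]
    refine s11_commutator_sup_le hn
      (fun a ha b hb => mem_sup_left (Subgroup.commutator_le_self _ (commutator_mem_commutator ha hb)))
      (fun a ha b hb => mem_sup_left ?_)
      fun b hb b' hb' => mem_sup_right (commutator_mem_commutator hb hb')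
    have e : ⁅a, b⁆ = a * (b * a⁻¹ * b⁻¹) := by simp only [commutatorElement_def]; group
    rw [e]
    exact mul_mem ha (s09_conj_mem (x.hyp.M_le_normalizer_H (x.hyp.U_le hb)) (inv_mem ha))
  obtain ⟨a, ha, b, hb, e⟩ := (Cfsg.Lib.Coprime.mem_sup_of_le_normalizer hU').mp
    (hder (x.derived_two_eq.ge (mem_sup_right hv)))
  have ha1 : a ∈ H ⊓ U := ⟨ha, by
    have := U.mul_mem hv.1 (U.inv_mem (Subgroup.commutator_le_self U hb))
    rwa [← e, mul_inv_cancel_right] at this⟩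
  rw [x.hyp.typeP.U_compl.2.2.1, mem_bot] at ha1
  rw [← e, ha1, one_mul]
  exact hb

/-! ### The kernel of the chief factor -/

theorem U_centralizes_H₀ {u y : G} (hu : u ∈ U) (hy : y ∈ H₀) : u * y = y * u := by
  have hUE : U ⊓ W₁ = ⊥ := Cfsg.Lib.Coprime.inf_eq_bot_of_coprime x.hyp.coprime_U_W
  have hcardL : Nat.card ↥(U ⊔ W₁) = Nat.card U * Nat.card W₁ :=
    Cfsg.Lib.Coprime.card_sup_of_inf_eq_bot x.hyp.W₁_le_normalizer_U hUE
  have hLM : U ⊔ W₁ ≤ M := sup_le x.hyp.U_le x.hyp.W₁_le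
  have e0 := Cfsg.Lib.FixedDim.frobenius_fixed_solvable U W₁ hUE x.hyp.W₁_le_normalizer_U
    x.hyp.fpf' _ H₀ le_rfl (hLM.trans x.kern.normal)
    (Cfsg.Lib.Coprime.isSolvable_of_le x.H₀_le_H x.hyp.solvable_H)
    ((hcardL ▸ x.hyp.coprime_H_UW).coprime_dvd_left (Subgroup.card_dvd_of_le x.H₀_le_H))
  have hbot : H₀ ⊓ centralizer (W₁ : Set G) = ⊥ := by
    refine eq_bot_iff.mpr fun z hz => x.prime_data.2.2.2.2.le ⟨?_, hz.1⟩
    exact x.hyp.H_inf_centralizer.le ⟨x.H₀_le_H hz.1, hz.2⟩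
  have hbot' : H₀ ⊓ centralizer ((U ⊔ W₁ : Subgroup G) : Set G) = ⊥ :=
    eq_bot_iff.mpr ((inf_le_inf_left _
      (centralizer_le (SetLike.coe_subset_coe.mpr le_sup_right))).trans hbot.le)
  rw [hbot, hbot', Subgroup.card_bot, one_pow, one_mul, one_mul] at e0
  exact mem_centralizer_iff.mp
    ((Subgroup.eq_of_le_of_card_ge inf_le_left e0.le).ge hy).2 u hu

theorem centMod_eq : centMod U H H₀ = CH := by
  refine le_antisymm (fun v hv => ?_) fun v hv => (x.kern.mem_C x.hyp).mpr ⟨hv.1, fun y hy => ?_⟩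
  · obtain ⟨hvU, hv'⟩ := (x.kern.mem_C x.hyp).mp hv
    refine ⟨hvU, mem_centralizer_iff.mpr fun y hy => ?_⟩
    set z := ⁅y, v⁆ with hz
    have hzv : Commute v z := x.U_centralizes_H₀ hvU (hv' y hy)
    have hconj : ∀ n : ℕ, v ^ n * y * (v ^ n)⁻¹ = (z⁻¹) ^ n * y := by
      intro n
      induction n with
      | zero => simp
      | succ n ih =>
        have hb : v * y * v⁻¹ = z⁻¹ * y := by
          simp only [hz, commutatorElement_def]; group
        have hc : v * z⁻¹ ^ n * v⁻¹ = z⁻¹ ^ n :=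
          mul_inv_eq_iff_eq_mul.mpr ((hzv.inv_right.pow_right n).eq)
        calc v ^ (n + 1) * y * (v ^ (n + 1))⁻¹ = v * (v ^ n * y * (v ^ n)⁻¹) * v⁻¹ := by
              rw [pow_succ']; group
          _ = v * z⁻¹ ^ n * v⁻¹ * (v * y * v⁻¹) := by rw [ih]; group
          _ = _ := by rw [hc, hb, pow_succ, mul_assoc]
    have h1 := hconj (Nat.card U)
    rw [Cfsg.Lib.Dade.pow_card_mem hvU, one_mul, inv_one, mul_one, right_eq_mul, inv_pow,
      inv_eq_one] at h1
    exact commutatorElement_eq_one_iff_mul_comm.mp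
      (s11_eq_one_of_pow (x.H₀_le_H (hv' y hy)) h1 x.coprime_H_U)
  · have : ⁅y, v⁆ = 1 :=
      commutatorElement_eq_one_iff_mul_comm.mpr (mem_centralizer_iff.mp hv.2 y hy)
    rw [this]
    exact one_mem _

/-- `H₀` is central in `H`. -/
theorem H_le_centralizer_H₀ : H ≤ centralizer (H₀ : Set G) := by
  set Z := H ⊓ centralizer (H₀ : Set G)
  have hnZ : M ≤ normalizer (Z : Set G) :=
    Cfsg.Lib.Coprime.le_normalizer_inf_centralizer x.hyp.M_le_normalizer_H x.kern.normal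
  suffices H ≤ Z from this.trans inf_le_right
  have hn' : M ≤ normalizer ((⁅H, H⁆ : Subgroup G) : Set G) := by
    intro m hm
    rw [← Cfsg.Lib.Coprime.conjMap_eq_self_iff, Cfsg.Lib.Coprime.conjMap, map_commutator,
      show (Cfsg.fittingHallOf M).map (MulAut.conj m).toMonoidHom = H from
        Cfsg.Lib.Coprime.conjMap_eq_self (x.hyp.M_le_normalizer_H hm)]
  refine s09_le_of_commutator x.hyp.nilpotent_H le_rfl (x.hyp.H_le.trans hnZ) ?_
  refine x.H_le_of (x.hyp.derived_le.trans (Cfsg.Lib.Coprime.le_normalizer_sup hnZ hn'))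
    (fun a ha b hb => mem_sup_right (commutator_mem_commutator ha hb))
    fun a ha b hb => mem_sup_left ⟨?_, mem_centralizer_iff.mpr fun y hy => ?_⟩
  · have e : ⁅a, b⁆ = a * (b * a⁻¹ * b⁻¹) := by simp only [commutatorElement_def]; group
    rw [e]
    exact mul_mem ha (s09_conj_mem (x.hyp.M_le_normalizer_H (x.hyp.U_le hb)) (inv_mem ha))
  · have hy' : a⁻¹ * y * a ∈ H₀ := s09_conj_mem' (x.kern.normal (x.hyp.H_le ha)) hy
    have h1 : Commute b y := x.U_centralizes_H₀ hb hy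
    have h2 : Commute b (a⁻¹ * y * a) := x.U_centralizes_H₀ hb hy'
    calc y * ⁅a, b⁆ = a * ((a⁻¹ * y * a) * b) * a⁻¹ * b⁻¹ := by
          simp only [commutatorElement_def]; group
      _ = a * (b * (a⁻¹ * y * a)) * a⁻¹ * b⁻¹ := by rw [h2.eq]
      _ = a * b * a⁻¹ * (y * b⁻¹) := by group
      _ = a * b * a⁻¹ * (b⁻¹ * y) := by rw [(h1.inv_left).eq]
      _ = ⁅a, b⁆ * y := by simp only [commutatorElement_def]; group

theorem H₀_central {a y : G} (ha : a ∈ H) (hy : y ∈ H₀) : a * y = y * a :=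
  (mem_centralizer_iff.mp (x.H_le_centralizer_H₀ ha) y hy).symm

/-- The commutators of `H` depend only on the classes modulo `H₀` and are multiplicative. -/
theorem comm_mul_left {a a' b : G} (ha : a ∈ H) (ha' : a' ∈ H) (hb : b ∈ H) :
    ⁅a * a', b⁆ = ⁅a, b⁆ * ⁅a', b⁆ := by
  have h1 := x.kern.commutator_H_le x.hyp (commutator_mem_commutator ha' hb)
  have h2 := x.kern.commutator_H_le x.hyp (commutator_mem_commutator ha hb)
  calc ⁅a * a', b⁆ = a * ⁅a', b⁆ * a⁻¹ * ⁅a, b⁆ := by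
        simp only [commutatorElement_def]; group
    _ = ⁅a', b⁆ * ⁅a, b⁆ := by rw [x.H₀_central ha h1, mul_inv_cancel_right]
    _ = _ := (x.H₀_central (x.H₀_le_H h2) h1).symm

theorem comm_mul_right {a b b' : G} (ha : a ∈ H) (hb : b ∈ H) (hb' : b' ∈ H) :
    ⁅a, b * b'⁆ = ⁅a, b⁆ * ⁅a, b'⁆ := by
  have h1 := x.kern.commutator_H_le x.hyp (commutator_mem_commutator ha hb')
  calc ⁅a, b * b'⁆ = ⁅a, b⁆ * (b * ⁅a, b'⁆ * b⁻¹) := by
        simp only [commutatorElement_def]; group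
    _ = _ := by rw [x.H₀_central hb h1, mul_inv_cancel_right]

theorem comm_of_mem {a y : G} (ha : a ∈ H) (hy : y ∈ H₀) : ⁅a, y⁆ = 1 :=
  commutatorElement_eq_one_iff_mul_comm.mpr (x.H₀_central ha hy)

theorem comm_of_mem' {a y : G} (ha : a ∈ H) (hy : y ∈ H₀) : ⁅y, a⁆ = 1 :=
  commutatorElement_eq_one_iff_mul_comm.mpr (x.H₀_central ha hy).symm

theorem comm_pow_left {a b : G} (ha : a ∈ H) (hb : b ∈ H) (n : ℕ) :
    ⁅a ^ n, b⁆ = ⁅a, b⁆ ^ n := by
  induction n with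
  | zero => simp
  | succ n ih => rw [pow_succ, pow_succ, x.comm_mul_left (pow_mem ha n) ha hb, ih]

theorem comm_pow_right {a b : G} (ha : a ∈ H) (hb : b ∈ H) (n : ℕ) :
    ⁅a, b ^ n⁆ = ⁅a, b⁆ ^ n := by
  induction n with
  | zero => simp
  | succ n ih => rw [pow_succ, pow_succ, x.comm_mul_right ha (pow_mem hb n) hb, ih]

theorem comm_pow_p {a b : G} (ha : a ∈ H) (hb : b ∈ H) : ⁅a, b⁆ ^ Nat.card W₂ = 1 := by
  rw [← x.comm_pow_left ha hb]
  exact x.comm_of_mem' hb (x.prime_data.2.2.2.1 a ha)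

theorem comm_invariant {u a b : G} (hu : u ∈ U) (ha : a ∈ H) (hb : b ∈ H) :
    ⁅u * a * u⁻¹, u * b * u⁻¹⁆ = ⁅a, b⁆ := by
  have h1 := x.kern.commutator_H_le x.hyp (commutator_mem_commutator ha hb)
  calc ⁅u * a * u⁻¹, u * b * u⁻¹⁆ = u * ⁅a, b⁆ * u⁻¹ := by
        simp only [commutatorElement_def]; group
    _ = _ := by rw [x.U_centralizes_H₀ hu h1, mul_inv_cancel_right]

theorem H₀_eq_derived : H₀ = ⁅H, H⁆ := by
  classical
  refine le_antisymm (fun y hy => ?_) (x.kern.commutator_H_le x.hyp)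
  haveI := Fintype.ofFinite ↥U
  have hUn : U ≤ normalizer (H : Set G) := x.hyp.U_le.trans x.hyp.M_le_normalizer_H
  let cj : ↥U → ↥H →* ↥H := fun u =>
    ((Cfsg.fittingHallOf M).normalizerMonoidHom ⟨u, hUn u.2⟩).toMonoidHom
  let φ : ↥H →* Abelianization ↥H := ∏ u : ↥U, Abelianization.of.comp (cj u)
  have hφ : ∀ a, φ a = ∏ u : ↥U, Abelianization.of (cj u a) := fun a => by
    simp [φ, MonoidHom.finsetProd_apply]
  have hinv : ∀ (v : ↥U) (a : ↥H), φ (cj v a) = φ a := by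
    intro v a
    rw [hφ, hφ]
    refine Fintype.prod_equiv (Equiv.mulRight v) _ _ fun u => ?_
    congr 1
    apply Subtype.ext
    show (u : G) * ((v : G) * a * (v : G)⁻¹) * (u : G)⁻¹ = (u * v : G) * a * (u * v : G)⁻¹
    group
  let X : Subgroup G := φ.ker.map (Cfsg.fittingHallOf M).subtype
  have hHX : H ≤ X := by
    refine x.H_le_of (x.hyp.derived_eq.symm.le.trans (sup_le ?_ ?_)) ?_ ?_
    · refine s09_le_normalizer_of_conj fun a ha z hz => ?_
      obtain ⟨z', hz', rfl⟩ := hz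
      refine ⟨⟨a, ha⟩ * z' * ⟨a, ha⟩⁻¹, ?_, rfl⟩
      rw [SetLike.mem_coe, MonoidHom.mem_ker, map_mul, map_mul, MonoidHom.mem_ker.mp hz',
        mul_one, ← map_mul, mul_inv_cancel, map_one]
    · refine s09_le_normalizer_of_conj fun a ha z hz => ?_
      obtain ⟨z', hz', rfl⟩ := hz
      refine ⟨cj ⟨a, ha⟩ z', ?_, rfl⟩
      rw [SetLike.mem_coe, MonoidHom.mem_ker, hinv]
      exact hz'
    · intro a ha b hb
      refine ⟨⁅(⟨a, ha⟩ : ↥H), ⟨b, hb⟩⁆, ?_, rfl⟩
      rw [SetLike.mem_coe, MonoidHom.mem_ker, map_commutatorElement,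
        commutatorElement_eq_one_iff_mul_comm, mul_comm]
    · intro a ha b hb
      refine ⟨(⟨a, ha⟩ : ↥H) * (cj ⟨b, hb⟩ ⟨a, ha⟩)⁻¹, ?_, ?_⟩
      · rw [SetLike.mem_coe, MonoidHom.mem_ker, map_mul, map_inv, hinv, mul_inv_cancel]
      · show a * (b * a * b⁻¹)⁻¹ = ⁅a, b⁆
        simp only [commutatorElement_def]; group
  have hyH := x.H₀_le_H hy
  obtain ⟨z, hz, hze⟩ := hHX hyH
  rw [show z = ⟨y, hyH⟩ from Subtype.ext hze, SetLike.mem_coe, MonoidHom.mem_ker, hφ,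
    Finset.prod_congr rfl (g := fun _ => Abelianization.of (⟨y, hyH⟩ : ↥H)) fun u _ => by
      congr 1
      apply Subtype.ext
      show (u : G) * y * (u : G)⁻¹ = y
      rw [x.U_centralizes_H₀ u.2 hy, mul_inv_cancel_right],
    Finset.prod_const, Finset.card_univ, ← Nat.card_eq_fintype_card] at hz
  have h1 : Abelianization.of (⟨y, hyH⟩ : ↥H) = 1 := orderOf_eq_one_iff.mp
    (Nat.eq_one_of_dvd_coprimes x.coprime_H_U
      ((orderOf_map_dvd _ _).trans (orderOf_dvd_natCard _)) (orderOf_dvd_of_pow_eq_one hz))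
  have h2 : (⟨y, hyH⟩ : ↥H) ∈ commutator ↥H := by
    rw [← Abelianization.ker_of]; exact h1
  have h3 : ((⟨y, hyH⟩ : ↥H) : G) ∈ (commutator ↥H).map (Cfsg.fittingHallOf M).subtype :=
    ⟨_, h2, rfl⟩
  rwa [_root_.commutator_def, Subgroup.map_commutator, ← MonoidHom.range_eq_map,
    Subgroup.range_subtype] at h3

end Basic

/-! ### `H` is elementary abelian -/

section Abelian

variable (x : Ctx11 c U H₀)
include x

/-- When `H₀ ≠ 1` only the elements of `H₀` commute with all of `H`. -/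
theorem mem_H₀_of_comm (hne : H₀ ≠ ⊥) {a : G} (ha : a ∈ H) (hc : ∀ b ∈ H, ⁅a, b⁆ = 1) :
    a ∈ H₀ := by
  set Z := H ⊓ centralizer (H : Set G)
  have hnZ : M ≤ normalizer (Z : Set G) := Cfsg.Lib.Coprime.le_normalizer_inf_centralizer
    x.hyp.M_le_normalizer_H x.hyp.M_le_normalizer_H
  have h0 : H₀ ≤ Z := fun y hy =>
    ⟨x.H₀_le_H hy, mem_centralizer_iff.mpr fun b hb => x.H₀_central hb hy⟩
  rcases x.kern.chief Z h0 inf_le_left hnZ with e | e
  · exact e.le ⟨ha, mem_centralizer_iff.mpr fun b hb =>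
      (commutatorElement_eq_one_iff_mul_comm.mp (hc b hb)).symm⟩
  · refine absurd ?_ hne
    rw [x.H₀_eq_derived, commutator_eq_bot_iff_le_centralizer]
    exact e.ge.trans inf_le_right

theorem not_galois_of_ne (hne : H₀ ≠ ⊥) : ¬ IsGalois9 M U H₀ := by
  classical
  intro hgal
  obtain ⟨-, -, F, iF, iFt, f, ψ, hcF, hsur, hadd, hzero, hψ, hψm, hψC, -, -, hσw⟩ :=
    s9Galois G M W₁ U W₂ x.hyp H₀ x.kern hgal _ x.W₂_prime x.card_H
  set p := Nat.card W₂
  haveI := Fact.mk x.W₂_prime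
  haveI : CharP F p := (CharP.charP_iff_prime_eq_zero x.W₂_prime).mpr (by
    obtain ⟨r, hr⟩ := CharP.exists F
    obtain ⟨n, hr', hn⟩ := FiniteField.card F r
    rw [hcF] at hn
    rw [(Nat.prime_dvd_prime_iff_eq x.W₂_prime hr').mp
      (x.W₂_prime.dvd_of_dvd_pow (hn ▸ dvd_pow_self _ (Nat.card_pos (α := W₁)).ne'))]
    exact CharP.cast_eq_zero F r)
  letI := ZMod.algebra F p
  choose g hgH hfg using hsur
  -- the pairing
  let B : F → F → G := fun a b => ⁅g a, g b⁆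
  have hBf : ∀ a ∈ H, ∀ b ∈ H, ⁅a, b⁆ = B (f a) (f b) := by
    have key : ∀ a ∈ H, ∃ z ∈ H₀, a = g (f a) * z := by
      intro a ha
      refine ⟨(g (f a))⁻¹ * a, ?_, (mul_inv_cancel_left _ _).symm⟩
      refine (hzero _ (mul_mem (inv_mem (hgH _)) ha)).mp ?_
      have hi : f (g (f a))⁻¹ + f (g (f a)) = 0 := by
        rw [← hadd _ (inv_mem (hgH _)) _ (hgH _), inv_mul_cancel]
        exact (hzero 1 (one_mem _)).mpr (one_mem _)
      rw [hadd _ (inv_mem (hgH _)) _ ha]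
      rwa [hfg] at hi
    intro a ha b hb
    obtain ⟨z, hz, ea⟩ := key a ha
    obtain ⟨z', hz', eb⟩ := key b hb
    conv_lhs => rw [ea, eb]
    rw [x.comm_mul_left (hgH _) (x.H₀_le_H hz) (mul_mem (hgH _) (x.H₀_le_H hz')),
      x.comm_of_mem' (mul_mem (hgH _) (x.H₀_le_H hz')) hz, mul_one,
      x.comm_mul_right (hgH _) (hgH _) (x.H₀_le_H hz'), x.comm_of_mem (hgH _) hz', mul_one]
  have hBl : ∀ a a' b, B (a + a') b = B a b * B a' b := by
    intro a a' b
    show _ = ⁅g a, g b⁆ * ⁅g a', g b⁆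
    rw [← x.comm_mul_left (hgH _) (hgH _) (hgH _), hBf _ (mul_mem (hgH a) (hgH a')) _ (hgH b),
      hadd _ (hgH a) _ (hgH a'), hfg, hfg, hfg]
  have hBr : ∀ a b b', B a (b + b') = B a b * B a b' := by
    intro a b b'
    show _ = ⁅g a, g b⁆ * ⁅g a, g b'⁆
    rw [← x.comm_mul_right (hgH _) (hgH _) (hgH _), hBf _ (hgH a) _ (mul_mem (hgH b) (hgH b')),
      hadd _ (hgH b) _ (hgH b'), hfg, hfg, hfg]
  have hB0l : ∀ b, B 0 b = 1 := fun b => by
    have := hBl 0 0 b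
    rwa [add_zero, left_eq_mul] at this
  have hB0r : ∀ a, B a 0 = 1 := fun a => by
    have := hBr a 0 0
    rwa [add_zero, left_eq_mul] at this
  -- pairs of multipliers adjoint to each other
  let P : F → F → Prop := fun e e' => ∀ a b, B (e * a) b = B a (e' * b)
  have hPadd : ∀ e e' d d', P e e' → P d d' → P (e + d) (e' + d') := fun e e' d d' h1 h2 a b => by
    rw [add_mul, add_mul, hBl, hBr, h1, h2]
  have hPmul : ∀ e e' d d', P e e' → P d d' → P (e * d) (e' * d') := fun e e' d d' h1 h2 a b => by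
    rw [mul_assoc, h1, h2]
    congr 1
    ring
  have hP0 : P 0 0 := fun a b => by rw [zero_mul, zero_mul, hB0l, hB0r]
  have hP1 : P 1 1 := fun a b => by rw [one_mul, one_mul]
  have hPn : ∀ n : ℕ, P (n : F) (n : F) := fun n => by
    induction n with
    | zero => simpa using hP0
    | succ n ih => simpa using hPadd _ _ _ _ ih hP1
  obtain ⟨u, hu, hu'⟩ : ∃ u ∈ U, ψ u ≠ 1 := by
    by_contra hno
    push Not at hno
    exact (x.kern.C_lt x.hyp).ne
      (le_antisymm (centMod_le _ _ _) fun v hv => (hψC v hv).mp (hno v hv))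
  set a := ψ u with ha
  have ha0 : a ≠ 0 := (hψ u hu).1
  have hPa : P a a⁻¹ := by
    intro s t
    have hum : u ∈ normalizer (H : Set G) := x.hyp.M_le_normalizer_H (x.hyp.U_le hu)
    have key : ∀ s t, B (a * s) (a * t) = B s t := by
      intro s t
      show _ = ⁅g s, g t⁆
      rw [← x.comm_invariant hu (hgH s) (hgH t),
        hBf _ (s09_conj_mem hum (hgH s)) _ (s09_conj_mem hum (hgH t)),
        (hψ u hu).2 _ (hgH s), (hψ u hu).2 _ (hgH t), hfg, hfg]
    rw [← key s (a⁻¹ * t), ← mul_assoc a a⁻¹, mul_inv_cancel₀ ha0, one_mul]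
  have hpoly : ∀ Q : Polynomial (ZMod p), P (Polynomial.aeval a Q) (Polynomial.aeval a⁻¹ Q) := by
    intro Q
    induction Q using Polynomial.induction_on' with
    | add Q R hQ hR => simpa only [map_add] using hPadd _ _ _ _ hQ hR
    | monomial n k =>
      rw [Polynomial.aeval_monomial, Polynomial.aeval_monomial,
        show algebraMap (ZMod p) F k = ((k.val : ℕ) : F) by
          rw [← map_natCast (algebraMap (ZMod p) F), ZMod.natCast_val, ZMod.cast_id]]
      refine hPmul _ _ _ _ (hPn _) ?_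
      induction n with
      | zero => simpa using hP1
      | succ n ih => simpa only [pow_succ] using hPmul _ _ _ _ ih hPa
  -- so `a⁻¹` is conjugate to `a`
  have hroot : Polynomial.aeval a⁻¹ (minpoly (ZMod p) a) = 0 := by
    by_contra hne0
    set e := Polynomial.aeval a⁻¹ (minpoly (ZMod p) a)
    have h1 : ∀ s t, B s (e * t) = 1 := fun s t => by
      rw [← hpoly (minpoly (ZMod p) a) s t, minpoly.aeval, zero_mul, hB0l]
    have h2 : g 1 ∈ H₀ := by
      refine x.mem_H₀_of_comm hne (hgH 1) fun b hb => ?_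
      have h3 : ⁅b, g 1⁆ = 1 := by
        rw [hBf b hb _ (hgH 1), hfg]
        have := h1 (f b) e⁻¹
        rwa [mul_inv_cancel₀ hne0] at this
      rw [← commutatorElement_inv, h3, inv_one]
    exact one_ne_zero ((hfg 1).symm.trans ((hzero _ (hgH 1)).mpr h2))
  haveI : Finite F := Finite.of_fintype F
  obtain ⟨σ, hσ⟩ := minpoly.exists_algEquiv_of_root'
    (IsAlgebraic.of_finite (ZMod p) a) hroot
  -- an automorphism of order dividing `q` sends `a` to `a⁻¹`
  obtain ⟨w, hw, hwσ⟩ := hσw σ.toRingEquiv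
  have hiter : ∀ (n : ℕ) (y : G), y ∈ H → f (w ^ n * y * (w ^ n)⁻¹) = (⇑σ)^[n] (f y) := by
    intro n
    induction n with
    | zero => intro y hy; simp
    | succ n ih =>
      intro y hy
      have hwy : w * y * w⁻¹ ∈ H :=
        s09_conj_mem (x.hyp.M_le_normalizer_H (x.hyp.W₁_le hw)) hy
      rw [Function.iterate_succ_apply,
        show w ^ (n + 1) * y * (w ^ (n + 1))⁻¹ = w ^ n * (w * y * w⁻¹) * (w ^ n)⁻¹ by
          rw [pow_succ]; group, ih _ hwy, hwσ y hy]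
      rfl
  have hq := hiter (Nat.card W₁) (g a) (hgH a)
  rw [Cfsg.Lib.Dade.pow_card_mem hw, one_mul, inv_one, mul_one, hfg] at hq
  have h2 : σ (σ a) = a := by rw [hσ, map_inv₀, hσ, inv_inv]
  have hodd : ∀ j : ℕ, (⇑σ)^[2 * j + 1] a = a⁻¹ := by
    intro j
    induction j with
    | zero => exact hσ
    | succ j ih =>
      rw [show 2 * (j + 1) + 1 = 2 * j + 1 + 1 + 1 by ring, Function.iterate_succ_apply,
        Function.iterate_succ_apply, h2, ih]
  obtain ⟨j, hj⟩ := x.odd.of_dvd_nat (Subgroup.card_subgroup_dvd_card W₁)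
  rw [hj, hodd] at hq
  -- `a ^ 2 = 1` and `a` has odd order
  have hord : a ^ Nat.card U = 1 := by
    have h1 : ψ 1 = 1 := (hψC 1 (one_mem _)).mpr (one_mem _)
    have hpow : ∀ n : ℕ, ψ (u ^ n) = a ^ n := fun n => by
      induction n with
      | zero => simpa using h1
      | succ n ih => rw [pow_succ, pow_succ, hψm _ (pow_mem hu n) _ hu, ih]
    rw [← hpow, Cfsg.Lib.Dade.pow_card_mem hu, h1]
  have hsq : a ^ 2 = 1 := by rw [pow_two]; nth_rewrite 2 [hq]; exact mul_inv_cancel₀ ha0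
  exact hu' (orderOf_eq_one_iff.mp (Nat.eq_one_of_dvd_coprimes
    (Nat.coprime_two_left.mpr (x.odd.of_dvd_nat (Subgroup.card_subgroup_dvd_card U)))
    (orderOf_dvd_of_pow_eq_one hsq) (orderOf_dvd_of_pow_eq_one hord)))

theorem galois_of_ne (hne : H₀ ≠ ⊥) : IsGalois9 M U H₀ := by
  classical
  by_contra hng
  obtain ⟨H₁, a, l⟩ := s9NonGalois G x.odd M W₁ U W₂ x.hyp H₀ x.kern hng _ x.W₂_prime x.card_H
  set p := Nat.card W₂
  haveI := Fact.mk x.W₂_prime
  have hnH : H ≤ normalizer (H₀ : Set G) := x.hyp.H_le.trans x.kern.normal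
  -- a generator of the line modulo `H₀`
  haveI hnorm : (H₀.subgroupOf H₁).Normal :=
    (Subgroup.normal_subgroupOf_iff_le_normalizer l.ge).mpr (l.le.trans hnH)
  have hc : Nat.card (↥H₁ ⧸ H₀.subgroupOf H₁) = p := by
    refine Nat.eq_of_mul_eq_mul_right (Nat.card_pos (α := H₀)) ?_
    rw [← l.card, Subgroup.card_eq_card_quotient_mul_card_subgroup (H₀.subgroupOf H₁),
      Nat.card_congr (Subgroup.subgroupOfEquivOfLe l.ge).toEquiv]
  haveI : IsCyclic (↥H₁ ⧸ H₀.subgroupOf H₁) := isCyclic_of_prime_card hc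
  obtain ⟨gq, hgq⟩ := IsCyclic.exists_generator (α := ↥H₁ ⧸ H₀.subgroupOf H₁)
  obtain ⟨g₁, rfl⟩ := QuotientGroup.mk'_surjective _ gq
  have hgen : ∀ y ∈ H₁, ∃ n : ℕ, ∃ z ∈ H₀, y = (g₁ : G) ^ n * z := by
    intro y hy
    obtain ⟨n, hn⟩ := (mem_powers_iff_mem_zpowers.mpr (hgq (QuotientGroup.mk' _ ⟨y, hy⟩)))
    refine ⟨n, ((g₁ : G) ^ n)⁻¹ * y, ?_, (mul_inv_cancel_left _ _).symm⟩
    have hn : QuotientGroup.mk' (H₀.subgroupOf H₁) g₁ ^ n = _ := hn
    rw [← map_pow] at hn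
    exact (QuotientGroup.eq (s := H₀.subgroupOf H₁)).mp hn
  have hg₁H : (g₁ : G) ∈ H := l.le g₁.2
  set c' : G → G := fun v => v * (g₁ : G) * v⁻¹
  have hcH : ∀ v ∈ W₁, c' v ∈ H := fun v hv =>
    s09_conj_mem (x.hyp.M_le_normalizer_H (x.hyp.W₁_le hv)) hg₁H
  have hconj : ∀ v ∈ W₁, ∀ z ∈ H₀, v * z * v⁻¹ ∈ H₀ := fun v hv z hz =>
    s09_conj_mem (x.kern.normal (x.hyp.W₁_le hv)) hz
  -- two lines that do not commute
  obtain ⟨v, hv, v', hv', hvv⟩ : ∃ v ∈ W₁, ∃ v' ∈ W₁, ⁅c' v, c' v'⁆ ≠ 1 := by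
    by_contra hno
    push Not at hno
    refine hne ?_
    rw [x.H₀_eq_derived, commutator_eq_bot_iff_le_centralizer]
    have key : ∀ v ∈ W₁, ∀ v' ∈ W₁, ∀ y ∈ H₁, ∀ y' ∈ H₁,
        ⁅v * y * v⁻¹, v' * y' * v'⁻¹⁆ = 1 := by
      intro v hv v' hv' y hy y' hy'
      obtain ⟨n, z, hz, rfl⟩ := hgen y hy
      obtain ⟨n', z', hz', rfl⟩ := hgen y' hy'
      rw [show v * ((g₁ : G) ^ n * z) * v⁻¹ = c' v ^ n * (v * z * v⁻¹) by
          simp only [c', conj_pow]; group,
        show v' * ((g₁ : G) ^ n' * z') * v'⁻¹ = c' v' ^ n' * (v' * z' * v'⁻¹) by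
          simp only [c', conj_pow]; group,
        x.comm_mul_left (pow_mem (hcH v hv) n) (x.H₀_le_H (hconj v hv z hz))
          (mul_mem (pow_mem (hcH v' hv') n') (x.H₀_le_H (hconj v' hv' z' hz'))),
        x.comm_of_mem' (mul_mem (pow_mem (hcH v' hv') n') (x.H₀_le_H (hconj v' hv' z' hz')))
          (hconj v hv z hz), mul_one,
        x.comm_mul_right (pow_mem (hcH v hv) n) (pow_mem (hcH v' hv') n')
          (x.H₀_le_H (hconj v' hv' z' hz')),
        x.comm_of_mem (pow_mem (hcH v hv) n) (hconj v' hv' z' hz'), mul_one,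
        x.comm_pow_left (hcH v hv) (pow_mem (hcH v' hv') n'),
        x.comm_pow_right (hcH v hv) (hcH v' hv'), hno v hv v' hv', one_pow, one_pow]
    nth_rewrite 1 [← l.span]
    refine iSup_le fun w => ?_
    rintro - ⟨y, hy, rfl⟩
    refine mem_centralizer_iff.mpr fun b hb => ?_
    have hle : H ≤ centralizer ({(w : G) * y * (w : G)⁻¹} : Set G) := by
      nth_rewrite 1 [← l.span]
      refine iSup_le fun w' => ?_
      rintro - ⟨y', hy', rfl⟩
      exact mem_centralizer_singleton_iff.mpr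
        (commutatorElement_eq_one_iff_mul_comm.mp (key _ w'.2 _ w.2 _ hy' _ hy))
    exact mem_centralizer_singleton_iff.mp (hle hb)
  set β := ⁅c' v, c' v'⁆ with hβ
  have hβord : orderOf β = p :=
    orderOf_eq_prime (x.comm_pow_p (hcH v hv) (hcH v' hv')) hvv
  -- the exponent of an element of `U` on the line
  have hexp : ∀ u : ↥U, ∃ n : ℕ, ∃ z ∈ H₀, (u : G) * g₁ * (u : G)⁻¹ = (g₁ : G) ^ n * z :=
    fun u => hgen _ (s09_conj_mem (l.normal u.2) g₁.2)
  choose n z hz hn using hexp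
  -- the relation between the exponents
  have hrel : ∀ u : ↥U, ∀ u' : ↥U, (u' : G) = v⁻¹ * u * v → ∀ u'' : ↥U, (u'' : G) = v'⁻¹ * u * v' →
      ((n u' : ℕ) : ZMod p) * (n u'' : ZMod p) = 1 := by
    intro u u' hu' u'' hu''
    have e : ∀ w ∈ W₁, ∀ r : ↥U, (r : G) = w⁻¹ * u * w →
        ∃ z₀ ∈ H₀, (u : G) * c' w * (u : G)⁻¹ = c' w ^ n r * z₀ := by
      intro w hw r hr
      refine ⟨w * z r * w⁻¹, hconj w hw _ (hz r), ?_⟩
      have := congrArg (fun y => w * y * w⁻¹) (hn r)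
      simp only [c', conj_pow, hr] at this ⊢
      refine Eq.trans ?_ (this.trans ?_) <;> group
    obtain ⟨z₁, hz₁, e₁⟩ := e v hv u' hu'
    obtain ⟨z₂, hz₂, e₂⟩ := e v' hv' u'' hu''
    have h1 := x.comm_invariant u.2 (hcH v hv) (hcH v' hv')
    rw [e₁, e₂, x.comm_mul_left (pow_mem (hcH v hv) _) (x.H₀_le_H hz₁)
        (mul_mem (pow_mem (hcH v' hv') _) (x.H₀_le_H hz₂)),
      x.comm_of_mem' (mul_mem (pow_mem (hcH v' hv') _) (x.H₀_le_H hz₂)) hz₁, mul_one,
      x.comm_mul_right (pow_mem (hcH v hv) _) (pow_mem (hcH v' hv') _) (x.H₀_le_H hz₂),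
      x.comm_of_mem (pow_mem (hcH v hv) _) hz₂, mul_one,
      x.comm_pow_left (hcH v hv) (pow_mem (hcH v' hv') _),
      x.comm_pow_right (hcH v hv) (hcH v' hv'), ← pow_mul, ← hβ] at h1
    nth_rewrite 2 [← pow_one β] at h1
    have h2 := pow_eq_pow_iff_modEq.mp h1
    rw [hβord, ← ZMod.natCast_eq_natCast_iff, Nat.cast_mul, Nat.cast_one, mul_comm] at h2
    exact h2
  set w := v'⁻¹ * v with hwdef
  have hw : w ∈ W₁ := W₁.mul_mem (W₁.inv_mem hv') hv
  have hw1 : w ≠ 1 := fun e => by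
    have e' : v' = v := inv_mul_eq_one.mp e
    refine hvv ?_
    rw [hβ, e']
    exact commutatorElement_self _
  have hconjU : ∀ r ∈ W₁, ∀ y : ↥U, r * y * r⁻¹ ∈ U := fun r hr y =>
    s09_conj_mem (x.hyp.W₁_le_normalizer_U hr) y.2
  -- `n u · n (w u w⁻¹) = 1`
  have hrel' : ∀ u r : ↥U, (r : G) = w * u * w⁻¹ →
      ((n u : ℕ) : ZMod p) * (n r : ZMod p) = 1 := by
    intro u r hr
    refine hrel ⟨v * u * v⁻¹, hconjU v hv u⟩ u (by show _ = v⁻¹ * (v * u * v⁻¹) * v; group) r ?_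
    rw [hr, hwdef]
    group
  have hper : ∀ u r : ↥U, (r : G) = w ^ 2 * u * (w ^ 2)⁻¹ → (n r : ZMod p) = n u := by
    intro u r hr
    let m : ↥U := ⟨w * u * w⁻¹, hconjU w hw u⟩
    have h1 := hrel' u m rfl
    have h2 := hrel' m r (by rw [hr, pow_two]; show _ = w * (w * u * w⁻¹) * w⁻¹; group)
    have hm0 : (n m : ZMod p) ≠ 0 := fun e => by
      rw [e, mul_zero] at h1; exact zero_ne_one h1
    refine mul_left_cancel₀ hm0 (h2.trans ?_)
    rw [mul_comm, h1]
  have hperj : ∀ (j : ℕ) (u r : ↥U), (r : G) = (w ^ 2) ^ j * u * ((w ^ 2) ^ j)⁻¹ →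
      (n r : ZMod p) = n u := by
    intro j
    induction j with
    | zero =>
      intro u r hr
      rw [show r = u from Subtype.ext (by rw [hr]; simp)]
    | succ j ih =>
      intro u r hr
      let m : ↥U := ⟨(w ^ 2) ^ j * u * ((w ^ 2) ^ j)⁻¹, hconjU _ (pow_mem (pow_mem hw 2) j) u⟩
      rw [hper m r (by rw [hr]; show _ = w ^ 2 * ((w ^ 2) ^ j * u * ((w ^ 2) ^ j)⁻¹) * (w ^ 2)⁻¹
                       rw [pow_succ']; group)]
      exact ih u m rfl
  have hsq : ∀ u : ↥U, (n u : ZMod p) ^ 2 = 1 := by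
    intro u
    obtain ⟨j, hj⟩ : ∃ j : ℕ, (w ^ 2) ^ j = w := by
      refine ⟨(orderOf w + 1) / 2, ?_⟩
      have hodd : Odd (orderOf w) := x.odd.of_dvd_nat (orderOf_dvd_natCard w)
      obtain ⟨i, hi⟩ := hodd
      rw [← pow_mul, show 2 * ((orderOf w + 1) / 2) = orderOf w + 1 by omega, pow_succ,
        pow_orderOf_eq_one, one_mul]
    let r : ↥U := ⟨w * u * w⁻¹, hconjU w hw u⟩
    have h1 := hrel' u r rfl
    rw [hperj j u r (by rw [hj]), ← pow_two] at h1
    exact h1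
  -- so `U` acts trivially on the line
  refine l.one_lt.not_ge ?_
  rw [← l.index]
  refine le_of_eq (Subgroup.relIndex_eq_one.mpr fun u hu => ?_)
  have hH₁n : U ≤ normalizer (H₁ : Set G) := l.normal
  refine (mem_centMod hH₁n (x.kern.U_le_normalizer x.hyp)).mpr ⟨hu, fun y hy => ?_⟩
  have hone : (n ⟨u, hu⟩ : ZMod p) = 1 := by
    -- the exponent is multiplicative on the powers of `u`
    set e := n ⟨u, hu⟩
    have hpow : ∀ j : ℕ, ∃ z₀ ∈ H₀, u ^ j * g₁ * (u ^ j)⁻¹ = (g₁ : G) ^ (e ^ j) * z₀ := by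
      intro j
      induction j with
      | zero => exact ⟨1, one_mem _, by simp⟩
      | succ j ih =>
        obtain ⟨z₀, hz₀, e₀⟩ := ih
        have hze := hz ⟨u, hu⟩
        have hne' := hn ⟨u, hu⟩
        refine ⟨z ⟨u, hu⟩ ^ (e ^ j) * (u * z₀ * u⁻¹),
          mul_mem (pow_mem hze _) (s09_conj_mem (x.kern.U_le_normalizer x.hyp hu) hz₀), ?_⟩
        calc u ^ (j + 1) * g₁ * (u ^ (j + 1))⁻¹ = u * (u ^ j * g₁ * (u ^ j)⁻¹) * u⁻¹ := by
              rw [pow_succ']; group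
          _ = (u * g₁ * u⁻¹) ^ (e ^ j) * (u * z₀ * u⁻¹) := by rw [e₀, conj_pow]; group
          _ = ((g₁ : G) ^ e * z ⟨u, hu⟩) ^ (e ^ j) * (u * z₀ * u⁻¹) := by rw [← hne']
          _ = _ := by
            rw [(show Commute ((g₁ : G) ^ e) (z ⟨u, hu⟩) from
              x.H₀_central (pow_mem hg₁H _) hze).mul_pow, ← pow_mul, ← pow_succ', mul_assoc]
    have hgne : (g₁ : G) ∉ H₀ := by
      intro hmem
      have h1 : QuotientGroup.mk' (H₀.subgroupOf H₁) g₁ = 1 :=
        (QuotientGroup.eq_one_iff _).mpr hmem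
      have h2 := orderOf_eq_card_of_forall_mem_zpowers hgq
      rw [h1, orderOf_one, hc] at h2
      exact x.W₂_prime.ne_one h2.symm
    obtain ⟨z₀, hz₀, e₀⟩ := hpow (Nat.card U)
    rw [Cfsg.Lib.Dade.pow_card_mem hu, one_mul, inv_one, mul_one] at e₀
    have h3 : (e : ZMod p) ^ Nat.card U = 1 := by
      rw [← Nat.cast_pow, ← Nat.cast_one (R := ZMod p), ZMod.natCast_eq_natCast_iff]
      have hq1 : QuotientGroup.mk' (H₀.subgroupOf H₁) g₁ ^ 1 =
          QuotientGroup.mk' (H₀.subgroupOf H₁) g₁ ^ (e ^ Nat.card U) := by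
        rw [← map_pow, ← map_pow]
        refine QuotientGroup.eq.mpr ?_
        rw [pow_one, Subgroup.mem_subgroupOf]
        show (g₁ : G)⁻¹ * ((g₁ : G) ^ (e ^ Nat.card U)) ∈ H₀
        have : (g₁ : G) ^ (e ^ Nat.card U) = g₁ * z₀⁻¹ := eq_mul_inv_of_mul_eq e₀.symm
        rw [this, inv_mul_cancel_left]
        exact inv_mem hz₀
      have h2 := orderOf_eq_card_of_forall_mem_zpowers hgq
      rw [hc] at h2
      have := pow_eq_pow_iff_modEq.mp hq1.symm
      rwa [h2] at this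
    exact orderOf_eq_one_iff.mp (Nat.eq_one_of_dvd_coprimes
      (Nat.coprime_two_left.mpr (x.odd.of_dvd_nat (Subgroup.card_subgroup_dvd_card U)))
      (orderOf_dvd_of_pow_eq_one (hsq ⟨u, hu⟩)) (orderOf_dvd_of_pow_eq_one h3))
  -- the commutators of the line with `u`
  obtain ⟨t, ht, hut⟩ : ∃ t ∈ H₀, u * (g₁ : G) * u⁻¹ = (g₁ : G) * t := by
    have he1 : n ⟨u, hu⟩ % p = 1 := by
      have h1 := (ZMod.natCast_eq_natCast_iff (n ⟨u, hu⟩) 1 p).mp (by rw [hone, Nat.cast_one])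
      rw [Nat.ModEq, Nat.mod_eq_of_lt x.W₂_prime.one_lt] at h1
      exact h1
    refine ⟨((g₁ : G) ^ p) ^ (n ⟨u, hu⟩ / p) * z ⟨u, hu⟩,
      mul_mem (pow_mem (x.prime_data.2.2.2.1 _ hg₁H) _) (hz _), ?_⟩
    refine (hn ⟨u, hu⟩).trans ?_
    conv_lhs => rw [← Nat.mod_add_div (n ⟨u, hu⟩) p, he1, pow_add, pow_one, pow_mul, mul_assoc]
  obtain ⟨i, z₀, hz₀, rfl⟩ := hgen y hy
  have e1 : u * ((g₁ : G) ^ i * z₀) * u⁻¹ = (g₁ : G) ^ i * t ^ i * z₀ := by
    rw [← (show Commute (g₁ : G) t from x.H₀_central hg₁H ht).mul_pow, ← hut, conj_pow,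
      show u * ((g₁ : G) ^ i * z₀) * u⁻¹ = u * (g₁ : G) ^ i * (z₀ * u⁻¹) by group,
      show z₀ * u⁻¹ = u⁻¹ * z₀ from
        ((show Commute u z₀ from x.U_centralizes_H₀ hu hz₀).inv_left.eq).symm, ← mul_assoc]
  have e : ⁅(g₁ : G) ^ i * z₀, u⁆ = (g₁ : G) ^ i * z₀ * (u * ((g₁ : G) ^ i * z₀) * u⁻¹)⁻¹ := by
    simp only [commutatorElement_def]; group
  rw [e, e1, show (g₁ : G) ^ i * z₀ * ((g₁ : G) ^ i * t ^ i * z₀)⁻¹ =
    (g₁ : G) ^ i * (t ^ i)⁻¹ * ((g₁ : G) ^ i)⁻¹ by group]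
  exact s09_conj_mem (hnH (pow_mem hg₁H _)) (inv_mem (pow_mem ht _))

theorem H₀_eq_bot : H₀ = ⊥ := by
  by_contra hne
  exact x.not_galois_of_ne hne (x.galois_of_ne hne)

end Abelian

end Ctx11

end Cfsg.Agent.PF
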