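import Cfsg.Prelude.Def_OddOrderChar
import Cfsg.Agent.Chars.Frob
import Cfsg.Agent.Chars.Real
import Cfsg.Agent.Coprime.Action
import Cfsg.Agent.Frobenius.FpfGroups
import Mathlib.GroupTheory.SpecificGroups.ZGroup

/-!
# Section 12: Frobenius kernels in groups of odd order

A few facts about a finite group with a normal subgroup `K` containing the centralisers of its
non-identity elements.
-/

set_option linter.style.haveILetI false
set_option linter.unusedSectionVars false

universe u

namespace Cfsg.Agent.PF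

open Subgroup

variable {L : Type u} [Group L] [Finite L] {K : Subgroup L} [K.Normal]

theorem orderOf_coprime_of_not_mem (hC : ∀ n ∈ K, n ≠ 1 → centralizer ({n} : Set L) ≤ K) {x : L}
    (hx : x ∉ K) : (orderOf x).Coprime (Nat.card K) := by
  refine Nat.coprime_of_dvd fun r hr h1 h2 => hx ?_
  set y := x ^ (orderOf x / r) with hy
  have hyo : orderOf y = r := orderOf_pow_orderOf_div (orderOf_pos x).ne' h1
  have hcop := Cfsg.Lib.Chars.coprime_of_centralizer_le K hC
  have hyK : y ∈ K := by
    rw [← QuotientGroup.eq_one_iff (N := K), ← orderOf_eq_one_iff]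
    refine Nat.eq_one_of_dvd_coprimes hcop ((orderOf_map_dvd (QuotientGroup.mk' K) y).trans ?_)
      (orderOf_dvd_natCard _)
    rw [hyo]; exact h2
  refine hC y hyK (fun h => hr.ne_one (by rw [← hyo, h, orderOf_one])) ?_
  rw [mem_centralizer_singleton_iff, hy]
  exact (Commute.self_pow x _).eq

/-- Outside the derived subgroup of the kernel only the kernel centralises modulo it. -/
theorem mem_of_commutator_mem (hC : ∀ n ∈ K, n ≠ 1 → centralizer ({n} : Set L) ≤ K) {k : L}
    (hk : k ∈ K) (hk' : k ∉ ⁅K, K⁆) {x : L} (hx : x * k * x⁻¹ * k⁻¹ ∈ ⁅K, K⁆) : x ∈ K := by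
  by_contra hxK
  have hle : ⁅K, K⁆ ≤ K := Subgroup.commutator_le_self K
  have hN : (normalizer ((⁅K, K⁆ : Subgroup L) : Set L)) = ⊤ :=
    normalizer_eq_top_iff.mpr inferInstance
  have hfix : ∀ a ∈ zpowers x, a * k * a⁻¹ * k⁻¹ ∈ ⁅K, K⁆ := by
    intro a ha
    let π := QuotientGroup.mk' (⁅K, K⁆ : Subgroup L)
    have h1 : π x * π k * (π x)⁻¹ * (π k)⁻¹ = 1 := by
      rw [← map_mul, ← map_inv, ← map_mul, ← map_inv, ← map_mul]
      exact (QuotientGroup.eq_one_iff _).mpr hx
    have h2 : Commute (π x) (π k) := mul_inv_eq_iff_eq_mul.mp (mul_inv_eq_one.mp h1)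
    obtain ⟨m, rfl⟩ := mem_zpowers_iff.mp ha
    rw [← QuotientGroup.eq_one_iff (N := (⁅K, K⁆ : Subgroup L))]
    show π (x ^ m * k * (x ^ m)⁻¹ * k⁻¹) = 1
    rw [map_mul, map_mul, map_mul, map_inv, map_inv, map_zpow, (h2.zpow_left m).eq,
      mul_inv_cancel_right, mul_inv_cancel]
  have hcop : (Nat.card (zpowers x)).Coprime (Nat.card (⁅K, K⁆ : Subgroup L)) := by
    rw [Nat.card_zpowers]
    exact (orderOf_coprime_of_not_mem hC hxK).coprime_dvd_right (card_dvd_of_le hle)
  obtain ⟨d, hd, hc⟩ := Cfsg.Lib.Coprime.exists_fixed_of_commutator_mem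
    (A := zpowers x) (N := (⁅K, K⁆ : Subgroup L)) (by rw [hN]; exact le_top) hcop
    (Or.inl (Group.isSolvable_of_comm fun a b => mul_comm' a b)) (by rw [hN]; exact mem_top k) hfix
  refine hxK (hC (k * d) (mul_mem hk (hle hd)) (fun h => hk' ?_) ?_)
  · rw [eq_inv_of_mul_eq_one_left h]; exact inv_mem hd
  · rw [mem_centralizer_singleton_iff]
    exact mem_centralizer_iff.mp hc x (mem_zpowers x)

/-- The quotient by a Frobenius kernel in odd order has order equal to its exponent. -/
theorem exponent_quotient_eq_index (hodd : Odd (Nat.card L)) (hK : K ≠ ⊥) {E : Subgroup L}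
    (hE : IsComplement' K E) (hC : ∀ n ∈ K, n ≠ 1 → centralizer ({n} : Set L) ≤ K) :
    Monoid.exponent (L ⧸ K) = K.index := by
  have hdisj : K ⊓ E = ⊥ := disjoint_iff.mp hE.disjoint
  have hfpf : Cfsg.Lib.Frobenius.Fpf E K := by
    intro a ha ha1
    refine (eq_bot_iff_forall _).mpr fun v hv => ?_
    by_contra hv1
    refine ha1 ((eq_bot_iff_forall _).mp hdisj a ⟨hC v hv.1 hv1 ?_, ha⟩)
    rw [mem_centralizer_singleton_iff]
    exact (mem_centralizer_singleton_iff.mp hv.2).symm
  haveI : IsZGroup E := ⟨fun p hp P => by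
    haveI := Fact.mk hp
    have hAV : (P : Subgroup E).map E.subtype ≤ normalizer (K : Set L) := by
      rw [normalizer_eq_top_iff.mpr (inferInstance : K.Normal)]; exact le_top
    rcases (hfpf.mono (map_subtype_le (P : Subgroup E))).isCyclic_or_quaternion hAV hK
        (P.2.map E.subtype) with h | ⟨h2, n, ⟨e⟩⟩
    · exact ((P : Subgroup E).equivMapOfInjective _ E.subtype_injective).symm.isCyclic.mp h
    · exfalso
      have h3 : Nat.card ((P : Subgroup E).map E.subtype) ∣ Nat.card L := card_subgroup_dvd_card _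
      rw [Nat.card_congr e.toEquiv, Nat.card_eq_fintype_card, QuaternionGroup.card] at h3
      exact hodd.not_two_dvd_nat ((by norm_num : (2 : ℕ) ∣ 4).trans (Dvd.intro _ rfl |>.trans h3))⟩
  rw [Monoid.exponent_eq_of_mulEquiv (IsComplement'.QuotientMulEquiv hE.symm),
    IsZGroup.exponent_eq_card, ← hE.symm.index_eq_card]

/-- A non-principal member induced from the kernel is not real in odd order. -/
theorem conjFun_ne [Fintype L] (hodd : Odd (Nat.card L))
    (hC : ∀ n ∈ K, n ≠ 1 → centralizer ({n} : Set L) ≤ K) {θ : K → ℂ}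
    (hθ : Cfsg.IsIrrCharacter K θ) (hθ1 : θ ≠ fun _ => 1) :
    Cfsg.conjFun (Cfsg.indFun K θ) ≠ Cfsg.indFun K θ := by
  intro h
  have hirr := Cfsg.Lib.Chars.isIrr_indFun_of_centralizer_le K hC hθ hθ1
  have h2 : Cfsg.indFun K θ = fun _ => 1 :=
    congrArg Subtype.val (Cfsg.Lib.Chars.eq_principal_of_real hodd ⟨_, hirr⟩
      fun g => Complex.conj_eq_iff_im.mp (congrFun h g))
  by_cases hK : K = ⊤
  · -- then `θ` is the restriction of the principal character
    subst hK
    rw [Cfsg.Lib.Chars.indFun_top θ (Cfsg.Lib.Chars.isClassFunction_isChar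
      (Cfsg.Lib.Chars.isCharacter_of_irr hθ))] at h2
    exact hθ1 (funext fun x => by simpa using congrFun h2 (x : L))
  · obtain ⟨g, hg⟩ : ∃ g : L, g ∉ K := by
      by_contra hno
      push Not at hno
      exact hK (eq_top_iff.mpr fun g _ => hno g)
    have := congrFun h2 g
    rw [Cfsg.Lib.Chars.indFun_normal_not_mem K θ hg] at this
    exact zero_ne_one this

end Cfsg.Agent.PF
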