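import Cfsg.Agent.OddChar.PF.S07DadeMap
import Cfsg.Agent.OddChar.PF.S12Kernel
import Cfsg.Agent.OddChar.PF.TypeI
import Cfsg.Agent.OddLocal.ExceptionalBase
import Cfsg.Agent.OddLocal.FittingStructure
import Cfsg.Agent.S1514
import Cfsg.Agent.S1521
import Cfsg.Agent.S1524

/-!
# Section 12: coherence for a maximal subgroup of Type I that is a Frobenius group (12.6)
-/

set_option linter.style.haveILetI false
set_option linter.unusedSectionVars false

universe u

namespace Cfsg.Agent.PF

open Subgroup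
open Cfsg.Lib.Chars

variable {G : Type u} [Group G] {L : Subgroup G}

/-- `L` is a Frobenius group with kernel `L_F`, as a hypothesis on centralisers. -/
def FrobKer (L : Subgroup G) : Prop :=
  ∀ x ∈ Cfsg.fittingHallOf L, x ≠ 1 → L ⊓ centralizer ({x} : Set G) ≤ Cfsg.fittingHallOf L

theorem mem_fittingHall_iff {a : L} : a ∈ Cfsg.fittingHall L ↔ (a : G) ∈ Cfsg.fittingHallOf L :=
  (mem_map_iff_mem L.subtype_injective).symm

theorem FrobKer.centralizer_le (h : FrobKer L) :
    ∀ n ∈ Cfsg.fittingHall L, n ≠ 1 → centralizer ({n} : Set L) ≤ Cfsg.fittingHall L := by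
  intro n hn hn1 c hc
  refine mem_fittingHall_iff.mpr (h n (mem_fittingHall_iff.mp hn) (by simpa using hn1)
    ⟨c.2, ?_⟩)
  exact mem_centralizer_singleton_iff.mpr (congrArg Subtype.val (mem_centralizer_singleton_iff.mp hc))

theorem isPunctured_kernel : IsPunctured ((Cfsg.fittingHallOf L : Set G) \ {1}) L
    (Cfsg.fittingHall L) := fun a => by
  simp [mem_fittingHall_iff]

theorem one_not_mem_kernel : (1 : G) ∉ (Cfsg.fittingHallOf L : Set G) \ {1} := by simp

/-- For a Frobenius maximal subgroup of Type I the set `A(L)` consists of the non-identity elements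
of the kernel. -/
theorem typeA'_eq_of_frob (hI : IsTypeI' L) (h : FrobKer L) :
    typeA' L = (Cfsg.fittingHallOf L : Set G) \ {1} := by
  ext a
  simp only [typeA', if_pos hI, Set.mem_ofPred_eq, Set.mem_sdiff, Set.mem_singleton_iff, SetLike.mem_coe]
  constructor
  · rintro ⟨haL, ha1, x, hx, hx1, hax⟩
    exact ⟨h x hx hx1 ⟨haL, mem_centralizer_singleton_iff.mpr hax⟩, ha1⟩
  · rintro ⟨ha, ha1⟩
    exact ⟨map_subtype_le _ ha, ha1, a, ha, ha1, rfl⟩

variable [Fintype G] [Fintype L]

/-- The characters induced from the kernel are irreducible. -/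
theorem frob_irr (h : FrobKer L) :
    ∀ χ ∈ Cfsg.inducedIrrAbove (Cfsg.fittingHall L) ⊥, Cfsg.IsIrrCharacter L χ := by
  rintro χ ⟨θ, hθ, hθ1, -, rfl⟩
  exact isIrr_indFun_of_centralizer_le _ h.centralizer_le hθ hθ1

/-- The Dade map on the combinations of the induced characters vanishing at `1`. -/
theorem kernel_isometry {H : G → Subgroup G}
    (hD : Cfsg.DadeHypothesis ((Cfsg.fittingHallOf L : Set G) \ {1}) L H) :
    Cfsg.IsLinearIsometryOn (Cfsg.zspanOn (Cfsg.inducedIrrAbove (Cfsg.fittingHall L) ⊥) {1}ᶜ)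
        (Cfsg.dadeIsometry ((Cfsg.fittingHallOf L : Set G) \ {1}) L H) ∧
      ∀ α ∈ Cfsg.zspanOn (Cfsg.inducedIrrAbove (Cfsg.fittingHall L) ⊥) {1}ᶜ,
        Cfsg.dadeIsometry ((Cfsg.fittingHallOf L : Set G) \ {1}) L H α 1 = 0 :=
  dade_isometry hD (fun s hs => by
    obtain ⟨θ, hθ, -, -, rfl⟩ := hs
    exact ⟨_, 0, IsCharacter.indFun (isCharacter_of_irr hθ), isCharacter_zero, (sub_zero _).symm⟩) _
    fun _ hα => zspanOn_off isPunctured_kernel hα

/-- A coherence system on the characters induced from the kernel. -/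
theorem kernel_system (hodd : Odd (Nat.card L)) (h : FrobKer L)
    (hne : (Cfsg.inducedIrrAbove (Cfsg.fittingHall L) ⊥).Nonempty) {H : G → Subgroup G}
    (hD : Cfsg.DadeHypothesis ((Cfsg.fittingHallOf L : Set G) \ {1}) L H) :
    ∃ R : (L → ℂ) → Finset (G → ℂ), Cfsg.IsCoherenceSystem
      (Cfsg.inducedIrrAbove (Cfsg.fittingHall L) ⊥)
      (Cfsg.dadeIsometry ((Cfsg.fittingHallOf L : Set G) \ {1}) L H) R := by
  refine Cfsg.Agent.S1514.result _ hne (frob_irr h) (fun χ hχ => ⟨?_, ?_⟩) _ (kernel_isometry hD).1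
    (kernel_isometry hD).2
  · exact Cfsg.Lib.InducedFamily.conj_mem_above ⊥ hχ
  · obtain ⟨θ, hθ, hθ1, -, rfl⟩ := hχ
    exact conjFun_ne hodd h.centralizer_le hθ hθ1

theorem exists_nonprincipal {K : Type u} [Group K] [Finite K] [Nontrivial K] :
    ∃ θ : K → ℂ, Cfsg.IsIrrCharacter K θ ∧ θ ≠ fun _ => 1 := by
  classical
  have := Fintype.ofFinite K
  by_contra hno
  push Not at hno
  obtain ⟨g, hg⟩ := exists_ne (1 : K)
  have h := sum_deg_mul g
  rw [if_neg hg] at h
  have e : ∀ χ : Cfsg.IrrCharacter K, (χ : K → ℂ) 1 * (χ : K → ℂ) g = 1 := fun χ => by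
    rw [hno χ χ.2, one_mul]
  rw [Finset.sum_congr rfl fun χ _ => e χ, Finset.sum_const, nsmul_eq_mul, mul_one] at h
  have : Nonempty (Cfsg.IrrCharacter K) := ⟨⟨_, isIrrCharacter_one⟩⟩
  exact Fintype.card_ne_zero (α := Cfsg.IrrCharacter K) (by exact_mod_cast h)

/-- (12.6): coherence for a Frobenius maximal subgroup of Type I. -/
theorem frobenius_coherent (hG : Cfsg.IsMinSimpleOddOrder G) (hL : IsCoatom L) (hI : IsTypeI' L)
    (h : FrobKer L) {H : G → Subgroup G}
    (hD : Cfsg.DadeHypothesis ((Cfsg.fittingHallOf L : Set G) \ {1}) L H) :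
    Cfsg.IsCoherent (Cfsg.inducedIrrAbove (Cfsg.fittingHall L) ⊥) {1}ᶜ
      (Cfsg.dadeIsometry ((Cfsg.fittingHallOf L : Set G) \ {1}) L H) := by
  classical
  obtain ⟨⟨-, hodd, hF1, hFtop, E, hE1, hE, -, -⟩, hcases⟩ := hI
  set A := (Cfsg.fittingHallOf L : Set G) \ {1} with hA
  set K := Cfsg.fittingHall L with hK
  have hC := h.centralizer_le
  haveI : Nontrivial K := (nontrivial_iff_ne_bot K).mpr hF1
  haveI hKn : Group.IsNilpotent K := by
    haveI := Cfsg.Lib.OddLocal.RankTwoMax.fittingHallOf_nilpotent L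
    exact (Group.isNilpotent_congr (K.equivMapOfInjective _ L.subtype_injective).symm).mp this
  obtain ⟨θ, hθ, hθ1⟩ := exists_nonprincipal (K := K)
  have hne : (Cfsg.inducedIrrAbove K ⊥).Nonempty :=
    ⟨_, θ, hθ, hθ1, fun a ha => by rw [show a = 1 from Subtype.ext (mem_bot.mp ha)], rfl⟩
  have hHL : Cfsg.fittingHallOf L ≤ L := map_subtype_le _
  have hH1 : Cfsg.fittingHallOf L ≠ ⊥ := fun e => hF1 ((map_eq_bot_iff_of_injective _ L.subtype_injective).mp e)
  have hNH : normalizer (Cfsg.fittingHallOf L : Set G) = L :=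
    Cfsg.Lib.OddLocal.RankTwoMax.normalizer_eq hG hL hH1 hHL
      (Cfsg.Lib.FittingHall.le_normalizer_fittingHallOf L)
  by_cases hTI : Cfsg.IsTISubset (Cfsg.fittingHallOf L : Set G)
  · -- the trivial intersection case: the Dade map is induction
    have hcle : ∀ a ∈ A, centralizer ({a} : Set G) ≤ L := by
      rintro a ⟨ha, ha1⟩ c hc
      rw [← hNH]
      by_contra hcn
      refine ha1 (hTI c hcn a ha ?_)
      rw [mem_centralizer_singleton_iff.mp hc, mul_inv_cancel_right]
      exact ha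
    have e : K.map L.subtype = Cfsg.fittingHallOf L := rfl
    have hfpf : ∀ w ∈ E.map L.subtype, w ≠ 1 → ∀ y ∈ Cfsg.fittingHallOf L, w * y = y * w → y = 1 := by
      rintro _ ⟨w, hw, rfl⟩ hw1 y hy hcomm
      by_contra hy1
      have hwK : w ∈ K := mem_fittingHall_iff.mpr (h y hy hy1 ⟨w.2, mem_centralizer_singleton_iff.mpr hcomm⟩)
      exact hw1 (by rw [show w = 1 from (eq_bot_iff_forall _).mp (disjoint_iff.mp hE.disjoint) w ⟨hwK, hw⟩, map_one])
    have hsub : (Cfsg.fittingHallOf L).subgroupOf L = K := by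
      rw [← e, subgroupOf, comap_map_eq_self_of_injective L.subtype_injective]
    have hcoh := Cfsg.Agent.S1524.result (Cfsg.fittingHallOf L) L (E.map L.subtype) hodd hHL
      (map_subtype_le _) hH1 (fun e' => hE1 ((map_eq_bot_iff_of_injective _ L.subtype_injective).mp e'))
      (Cfsg.Lib.OddLocal.RankTwoMax.fittingHallOf_nilpotent L)
      (fun x hx y hy => (mem_normalizer_iff.mp (hNH.ge hx) y).mp hy)
      (by rw [← e, ← map_inf _ _ _ L.subtype_injective, disjoint_iff.mp hE.disjoint, Subgroup.map_bot])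
      (by rw [← e, ← Subgroup.map_sup, hE.sup_eq_top, ← MonoidHom.range_eq_map, range_subtype])
      hfpf hTI hNH
    rw [hsub] at hcoh
    obtain ⟨hex, τ₁, hτ₁, hag⟩ := hcoh
    refine ⟨hex, τ₁, hτ₁, fun α hα => ?_⟩
    rw [hag α hα, dade_eq_indFun hD hcle (isClassFunction_zspan hα.1)
      (zspanOn_off isPunctured_kernel hα)]
  · obtain ⟨R, hR⟩ := kernel_system hodd h hne hD
    haveI : (⊥ : Subgroup L).Normal := inferInstance
    haveI : ((⊥ : Subgroup L).subgroupOf K).Normal := by rw [bot_subgroupOf]; infer_instance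
    have hnil : Group.IsNilpotent (↥K ⧸ (⊥ : Subgroup L).subgroupOf K) := inferInstance
    have hder : ⁅K, K⁆ < K := by
      refine lt_of_le_of_ne (commutator_le_self K) fun e => ?_
      refine (Group.IsSolvable.commutator_lt_top_of_nontrivial K).ne ?_
      apply map_injective K.subtype_injective
      rw [map_subtype_commutator, e, ← MonoidHom.range_eq_map, range_subtype]
    refine Cfsg.Agent.S1521.result K inferInstance _ R hR hodd ⊥ bot_le hnil ⁅K, K⁆ (sup_bot_eq _).symm
      hder (lt_top_iff_ne_top.mpr hFtop) (fun k hk hk' x hx => mem_of_commutator_mem hC hk hk' hx) ?_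
    rcases hcases with hti | ⟨hab, -, -⟩ | ⟨hexp, -⟩
    · exact absurd hti hTI
    · refine Or.inr (Or.inr (Or.inr (Or.inl ?_)))
      refine commutator_le.mpr fun a ha b hb => ?_
      rw [mem_bot, commutatorElement_eq_one_iff_mul_comm]
      haveI := hab
      have hc := congrArg Subtype.val (mul_comm'
        (⟨a, mem_fittingHall_iff.mp ha⟩ : Cfsg.fittingHallOf L) ⟨b, mem_fittingHall_iff.mp hb⟩)
      exact Subtype.ext hc
    · by_cases hpp : ∃ p m : ℕ, p.Prime ∧ (⊥ : Subgroup L).relIndex K = p ^ m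
      · obtain ⟨p, m, hp, hm⟩ := hpp
        refine Or.inr (Or.inr (Or.inr (Or.inr ⟨p, m, hp, hm, ?_⟩)))
        rw [← exponent_quotient_eq_index hodd hF1 hE hC]
        refine hexp p hp ?_
        rw [Cfsg.fittingHallOf, card_map_of_injective L.subtype_injective, ← relIndex_bot_left, hm]
        refine dvd_pow_self p fun hm0 => ?_
        rw [hm0, pow_zero, relIndex_bot_left] at hm
        exact hF1 (card_eq_one.mp hm)
      · exact Or.inr (Or.inr (Or.inl hpp))

end Cfsg.Agent.PF
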