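import Mathlib.LinearAlgebra.Eigenspace.Minpoly
import Mathlib.FieldTheory.KummerExtension
import Cfsg.Prelude.Def_OddOrderLocal

/-!
# Section 12: eigenvectors of an automorphism of prime order `s ∣ p - 1` of an elementary `p`-group
-/

set_option linter.style.haveILetI false

universe u

namespace Cfsg.Agent.PF

open Polynomial

/-- A linear map of order dividing `n` over a field with a primitive `n`-th root has an
eigenvector. -/
theorem exists_eigenvector_of_pow {K V : Type*} [Field K] [AddCommGroup V] [Module K V]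
    [FiniteDimensional K V] [Nontrivial V] {T : Module.End K V} {n : ℕ} (hn : 0 < n) {ζ : K}
    (hζ : IsPrimitiveRoot ζ n) (hT : T ^ n = 1) : ∃ (μ : K) (v : V), v ≠ 0 ∧ T v = μ • v := by
  have hd : minpoly K T ∣ ∏ i ∈ Finset.range n, (X - C (ζ ^ i * 1)) := by
    rw [← X_pow_sub_C_eq_prod hζ hn (one_pow n)]
    exact minpoly.dvd K T (by simp [hT])
  have hint : IsIntegral K T := IsIntegral.of_finite K T
  obtain ⟨q, hq, hqm⟩ := WfDvdMonoid.exists_irreducible_factor (minpoly.not_isUnit K T)
    (minpoly.ne_zero hint)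
  obtain ⟨i, -, hi⟩ := hq.prime.exists_mem_finset_dvd (hqm.trans hd)
  have hass : Associated q (X - C (ζ ^ i * 1)) :=
    hq.associated_of_dvd (irreducible_X_sub_C _) hi
  have hroot : (minpoly K T).IsRoot (ζ ^ i * 1) := dvd_iff_isRoot.mp (hass.symm.dvd.trans hqm)
  obtain ⟨v, hv⟩ := (Module.End.hasEigenvalue_of_isRoot hroot).exists_hasEigenvector
  exact ⟨_, v, hv.2, hv.apply_eq_smul⟩

/-- Conjugation of order dividing `s ∣ p - 1` on an elementary abelian `p`-group has an eigenvector. -/
theorem exists_eigen {G : Type u} [Group G] [Finite G] {p s : ℕ} [hp : Fact p.Prime] (hs : s.Prime)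
    (hsp : s ∣ p - 1) {A : Subgroup G} (hA : Cfsg.IsElementaryAbelian p A) (hA1 : A ≠ ⊥) {w : G}
    (hw : w ∈ Subgroup.normalizer (A : Set G)) (hws : w ^ s = 1) :
    ∃ k : ℕ, ∃ v ∈ A, v ≠ 1 ∧ w * v * w⁻¹ = v ^ k := by
  haveI := hA.1
  letI : CommGroup A := { (inferInstance : Group A) with mul_comm := mul_comm' }
  letI : Module (ZMod p) (Additive A) :=
    AddCommGroup.zmodModule (n := p) (G := Additive A) fun m => Subtype.ext (hA.2 _ m.toMul.2)
  haveI : Module.Finite (ZMod p) (Additive A) := Module.Finite.of_finite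
  haveI : Nontrivial A := (Subgroup.nontrivial_iff_ne_bot A).mpr hA1
  let φ : A →* A :=
    { toFun := fun a => ⟨w * a * w⁻¹, (Subgroup.mem_normalizer_iff.mp hw a).mp a.2⟩
      map_one' := Subtype.ext (by simp)
      map_mul' := fun a b => Subtype.ext (by simp [mul_assoc]) }
  let T : Module.End (ZMod p) (Additive A) :=
    AddMonoidHom.toZModLinearMap p (MonoidHom.toAdditive φ)
  have hiter : ∀ (j : ℕ) (a : Additive A),
      (((T ^ j) a).toMul : G) = w ^ j * (a.toMul : G) * (w ^ j)⁻¹ := by
    intro j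
    induction j with
    | zero => intro a; simp
    | succ j ih =>
      intro a
      rw [pow_succ', Module.End.mul_apply]
      show w * (((T ^ j) a).toMul : G) * w⁻¹ = _
      rw [ih, pow_succ']; group
  have hT : T ^ s = 1 := LinearMap.ext fun a => Additive.toMul.injective (Subtype.ext (by
    rw [hiter, hws]; simp))
  obtain ⟨ζ, hζ⟩ : ∃ ζ : ZMod p, IsPrimitiveRoot ζ s := by
    haveI := Fact.mk hs
    obtain ⟨u, hu⟩ := exists_prime_orderOf_dvd_card' (G := (ZMod p)ˣ) s (by
      rw [Nat.card_eq_fintype_card, ZMod.card_units]; exact hsp)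
    exact ⟨_, hu ▸ ((IsPrimitiveRoot.orderOf u).map_of_injective (f := Units.coeHom (ZMod p))
      Units.val_injective)⟩
  obtain ⟨μ, v, hv, hTv⟩ := exists_eigenvector_of_pow hs.pos hζ hT
  refine ⟨μ.val, v.toMul, v.toMul.2, fun h => hv (Additive.toMul.injective (Subtype.ext h)), ?_⟩
  have h1 := congrArg (fun a : Additive A => (a.toMul : G)) hTv
  rw [← ZMod.natCast_zmod_val μ, Nat.cast_smul_eq_nsmul, toMul_nsmul] at h1
  exact h1

end Cfsg.Agent.PF
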