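import Cfsg.Agent.OddChar.PF.S12Witness
import Cfsg.Agent.OddChar.PF.S11Interface
import Cfsg.Agent.OddChar.PF.S12Eigen
import Cfsg.Agent.OddLocal.SmallAction
import Cfsg.Agent.Frobenius.FpfGroups
import Cfsg.Agent.S1545

/-!
# Section 12: the pair `M`, `L` attached to the least witness prime, (12.8) to (12.14)

`M` is not a Frobenius group, `p` is its witness prime, least among all witness primes, `A` is
elementary of order `p²` in `M` and `L` is a maximal subgroup with `A ≤ L_σ`.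
-/

set_option linter.style.haveILetI false
set_option linter.unusedSectionVars false
set_option linter.unusedVariables false

universe u

namespace Cfsg.Agent.PF

open Subgroup
open Cfsg.Lib.OddLocal
open Cfsg.Lib.OddLocal.RankTwoMax
open Cfsg.Lib.Coprime (conjMap)

variable {G : Type u} [Group G] [Finite G] {M L A : Subgroup G} {p : ℕ} {x : G}

/-- What Section 12 uses from the earlier sections. -/
structure S12Facts (G : Type u) [Group G] [Finite G] : Prop where
  support : SupportFacts G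
  p1440 : P1440' G
  s10 : S10NoTypeV G
  s11 : S11Facts G

/-- The least witness prime with its data. -/
structure Config (M L A : Subgroup G) (p : ℕ) (x : G) : Prop where
  witness : Witness M p x
  least : ∀ (M' : Subgroup G) (q : ℕ) (y : G), Witness M' q y → p ≤ q
  le : A ≤ M
  mem : x ∈ A
  ea : Cfsg.IsElementaryAbelian p A
  card : Nat.card A = p ^ 2
  coatom : IsCoatom L
  le_core : A ≤ Cfsg.sigmaCore L
  outer : ∃ y ∈ Cfsg.fittingHallOf M, y ∉ ⁅Cfsg.fittingHallOf M, Cfsg.fittingHallOf M⁆ ∧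
    x * y = y * x

theorem not_isCyclic_sq [Fact p.Prime] (hA : Cfsg.IsElementaryAbelian p A)
    (hAc : Nat.card A = p ^ 2) : ¬ IsCyclic A := fun h => by
  obtain ⟨g, hg⟩ := h.exists_ofOrder_eq_natCard
  have h1 : orderOf g ∣ p := orderOf_dvd_of_pow_eq_one (Subtype.ext (hA.2 _ g.2))
  rw [hg, hAc] at h1
  have h2 := Nat.le_of_dvd (Fact.out : p.Prime).pos h1
  have h3 := (Fact.out : p.Prime).two_le
  nlinarith

theorem pRankLE_two_of_card [Fact p.Prime] (hAc : Nat.card A = p ^ 2) : Cfsg.PRankLE p 2 A :=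
  fun B _ _ => hAc ▸ Nat.le_of_dvd Nat.card_pos (card_subgroup_dvd_card B)

/-- A non-Frobenius maximal subgroup of Type I gives a configuration. -/
theorem exists_config (hG : Cfsg.IsMinSimpleOddOrder G) (hT : TypeFacts G) (hM : IsCoatom M)
    (hI : IsTypeI' M) (hn : ¬ FrobKer M) :
    ∃ (M' L A : Subgroup G) (p : ℕ) (x : G), Config M' L A p x := by
  classical
  have hex : ∃ p : ℕ, ∃ (N : Subgroup G) (z : G), Witness N p z := by
    obtain ⟨p, z, hz⟩ := exists_witness hM hI hn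
    exact ⟨p, M, z, hz⟩
  obtain ⟨N, z, w⟩ := Nat.find_spec hex
  set p := Nat.find hex
  haveI := Fact.mk w.prime
  obtain ⟨A, hAN, hzA, hA, hAc⟩ := w.exists_sq hG hT
  set K := Cfsg.fittingHallOf N with hK
  have hnil : Group.IsNilpotent K := fittingHallOf_nilpotent N
  haveI := hnil
  have hK1 : K ≠ ⊥ := fun h => w.typeI.1.2.2.1 ((map_eq_bot_iff_of_injective _ N.subtype_injective).mp h)
  have hlt : ⁅K, K⁆ < K := Cfsg.Lib.Coprime.commutator_lt_of_isNilpotent le_rfl hK1 le_normalizer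
  haveI := hA.1
  have hcop : (Nat.card A).Coprime (Nat.card K) := by
    rw [hAc]; exact ((w.prime.coprime_iff_not_dvd).mpr (w.not_dvd hG hT)).pow_left 2
  obtain ⟨a, ha, ha1, y, hy, hyK⟩ : ∃ a ∈ A, a ≠ 1 ∧ ∃ y ∈ K ⊓ centralizer ({a} : Set G),
      y ∉ ⁅K, K⁆ := by
    by_contra hno
    push Not at hno
    refine hlt.not_ge ?_
    refine (Cfsg.Lib.Coprime.centralizerJoin_eq (not_isCyclic_sq hA hAc)
      (hAN.trans (Cfsg.Lib.FittingHall.le_normalizer_fittingHallOf N)) hcop).ge.trans ?_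
    exact iSup₂_le fun a ha y hy => hno a ha.1 ha.2 y hy
  have haw : Witness N p a := by
    refine ⟨w.coatom, w.typeI, w.prime, orderOf_eq_prime (hA.2 a ha) ha1, hAN ha, fun haK => ha1 ?_,
      y, hy.1, fun h => hyK (h ▸ one_mem _), (mem_centralizer_singleton_iff.mp hy.2).symm⟩
    have h1 : a ∈ A ⊓ K := ⟨ha, haK⟩
    rwa [Cfsg.Lib.Coprime.inf_eq_bot_of_coprime hcop, mem_bot] at h1
  obtain ⟨L₀, hL₀, hσ₀⟩ := (sigma_partition hG).1 p w.prime
    (w.order ▸ orderOf_dvd_natCard z)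
  have hA1 : A ≠ ⊥ := fun h => ha1 (mem_bot.mp (h ▸ ha))
  obtain ⟨g, hg⟩ := exists_conj_le_sigmaCore hG hL₀ hA1 (fun r hr hrd => by
    rw [hAc] at hrd
    exact (Nat.prime_dvd_prime_iff_eq hr w.prime).mp (hr.dvd_of_dvd_pow hrd) ▸ hσ₀)
  have hLm : IsCoatom (conjMap g⁻¹ L₀) := Sigma.conjMap_coatom hL₀ g⁻¹
  have hAL : A ≤ conjMap g⁻¹ L₀ := by
    rw [← Cfsg.Lib.Coprime.conjMap_inv_conjMap g A]
    exact Cfsg.Lib.Coprime.conjMap_mono (hg.trans (Sigma.sigmaCore_le L₀))
  exact ⟨N, conjMap g⁻¹ L₀, A, p, a, haw, fun M' q y' h => Nat.find_le ⟨M', y', h⟩, hAN, ha, hA, hAc,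
    hLm, le_sigmaCore_of_pgroup hG hLm (by rwa [sigma_conj hL₀]) (IsPGroup.of_card hAc) hAL,
    y, hy.1, hyK, (mem_centralizer_singleton_iff.mp hy.2).symm⟩

/-- An abelian-by-cyclic criterion: a subgroup of `N ⊔ U` meeting `N` trivially is cyclic with `U`. -/
theorem isCyclic_of_inf_eq_bot {N U D B : Subgroup G} (hD : D ≤ normalizer (N : Set G)) (hND : N ≤ D)
    (hUD : U ≤ D) (hprod : ∀ d ∈ D, ∃ a ∈ N, ∃ b ∈ U, d = a * b) (hU : IsCyclic U) (hBD : B ≤ D)
    (hB : B ⊓ N = ⊥) : IsCyclic B := by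
  haveI : (N.subgroupOf D).Normal := (normal_subgroupOf_iff_le_normalizer hND).mpr hD
  let π := QuotientGroup.mk' (N.subgroupOf D)
  have hsurj : Function.Surjective (π.comp (inclusion hUD)) := by
    intro q
    obtain ⟨d, rfl⟩ := QuotientGroup.mk'_surjective (N.subgroupOf D) q
    obtain ⟨a, ha, b, hb, he⟩ := hprod d d.2
    refine ⟨⟨b, hb⟩, (QuotientGroup.eq).mpr (mem_subgroupOf.mpr ?_)⟩
    show b⁻¹ * (d : G) ∈ N
    rw [he, ← mul_assoc]
    have := (mem_normalizer_iff.mp (inv_mem (hD (hUD hb))) a).mp ha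
    rwa [inv_inv] at this
  haveI := hU
  haveI : IsCyclic (↥D ⧸ N.subgroupOf D) := isCyclic_of_surjective _ hsurj
  refine isCyclic_of_injective (π.comp (inclusion hBD)) ?_
  rw [injective_iff_map_eq_one]
  intro b hb
  have h1 : (b : G) ∈ B ⊓ N := ⟨b.2, mem_subgroupOf.mp ((QuotientGroup.eq_one_iff (inclusion hBD b)).mp hb)⟩
  rw [hB, mem_bot] at h1
  exact Subtype.ext h1

namespace Config

theorem prime (c : Config M L A p x) : p.Prime := c.witness.prime

theorem odd_p (hG : Cfsg.IsMinSimpleOddOrder G) (c : Config M L A p x) : Odd p := by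
  have hd : p ∣ Nat.card G := c.witness.order ▸ orderOf_dvd_natCard x
  exact hG.1.of_dvd_nat hd

theorem p_sigma (c : Config M L A p x) : p ∈ Cfsg.sigma L :=
  Sigma.sigmaCore_isPi p c.prime
    (((dvd_pow_self p two_ne_zero).trans c.card.symm.dvd).trans (card_dvd_of_le c.le_core))

theorem conj_ne (hG : Cfsg.IsMinSimpleOddOrder G) (hT : TypeFacts G) (c : Config M L A p x)
    (g : G) : M.map (MulAut.conj g).toMonoidHom ≠ L := fun h =>
  c.witness.not_sigma hG hT (by
    rw [← sigma_conj c.witness.coatom g, show conjMap g M = L from h]; exact c.p_sigma)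

theorem ne (hG : Cfsg.IsMinSimpleOddOrder G) (hT : TypeFacts G) (c : Config M L A p x) : L ≠ M :=
  fun h => c.conj_ne hG hT 1 (h ▸ Cfsg.Lib.Coprime.conjMap_one M)

theorem x_ne_one (c : Config M L A p x) : x ≠ 1 := fun h =>
  c.prime.ne_one (by rw [← c.witness.order, h, orderOf_one])

theorem x_typeA (c : Config M L A p x) : x ∈ typeA' M := by
  obtain ⟨k, hk, hk1, hxk⟩ := c.witness.fix
  simp only [typeA', if_pos c.witness.typeI, Set.mem_ofPred_eq]
  exact ⟨c.witness.mem, c.x_ne_one, k, hk, hk1, hxk⟩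

theorem x_typeA1 (hG : Cfsg.IsMinSimpleOddOrder G) (hT : TypeFacts G) (c : Config M L A p x) :
    x ∈ Cfsg.typeA1 L := by
  rw [Cfsg.typeA1, typeCore_eq_sigmaCore hG hT c.coatom]
  exact ⟨c.le_core c.mem, c.x_ne_one⟩

theorem cent (hG : Cfsg.IsMinSimpleOddOrder G) (h : SupportFacts G) (c : Config M L A p x) :
    ¬ centralizer ({x} : Set G) ≤ L ∧ centralizer ({x} : Set G) ≤ M :=
  centralizer_of_inter hG h c.coatom c.witness.coatom (c.conj_ne hG h.types)
    ⟨c.x_typeA1 hG h.types, c.x_typeA⟩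

theorem unique (hG : Cfsg.IsMinSimpleOddOrder G) (h : SupportFacts G) (c : Config M L A p x)
    {N : Subgroup G} (hN : IsCoatom N) (hle : centralizer ({x} : Set G) ≤ N) : N = M :=
  (unique_of_typeA hG h c.witness.coatom c.x_typeA fun r hr hd => by
    rw [c.witness.order] at hd
    exact (Nat.prime_dvd_prime_iff_eq hr c.prime).mp hd ▸ c.witness.not_sigma hG h.types).2 N hN hle

theorem inf_eq_bot (hG : Cfsg.IsMinSimpleOddOrder G) (hT : TypeFacts G) (c : Config M L A p x) :
    Cfsg.fittingHallOf M ⊓ L = ⊥ := by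
  haveI := Fact.mk c.prime
  rw [c.witness.core_eq hG hT]
  exact (tau_two_theorem hG c.witness.coatom (c.witness.not_sigma hG hT) c.le c.ea c.card).2.2.2.2.1
    L c.coatom (c.ne hG hT) (c.le_core.trans (Sigma.sigmaCore_le L))

/-- `L` is of Type I. -/
theorem typeI (hG : Cfsg.IsMinSimpleOddOrder G) (f : S12Facts G) (c : Config M L A p x) :
    IsTypeI' L := by
  haveI := Fact.mk c.prime
  have hT := f.support.types
  have hnL := (c.cent hG f.support).1
  rcases type_cases hG hT c.coatom with hI | hII | hIII | hIV | hV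
  · exact hI
  · exact absurd (centralizer_le_of_typeII hG hT f.support.p1391 c.coatom hII
      (typeA_subset_typeA0 L (typeA1_subset_typeA hG hT c.coatom (c.x_typeA1 hG hT)))) hnL
  · exfalso
    obtain ⟨W₁, U, W₂, hP, -, -, hTI, -⟩ := id hIII
    have hUc := (f.s11 L W₁ U W₂ c.coatom (Or.inl hIII) hP).U_cyclic
    have hAD : A ≤ ⁅L, L⁆ := c.le_core.trans (hT.p1355 L c.coatom).2.2.1
    have hFL : ⁅L, L⁆ ≤ normalizer (Cfsg.fittingHallOf L : Set G) :=
      (Subgroup.commutator_le_self L).trans (Cfsg.Lib.FittingHall.le_normalizer_fittingHallOf L)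
    obtain ⟨a, ha, ha1⟩ : ∃ a ∈ A ⊓ Cfsg.fittingHallOf L, a ≠ 1 :=
      (bot_or_exists_ne_one _).resolve_left fun h0 => not_isCyclic_sq c.ea c.card
        (isCyclic_of_inf_eq_bot hFL hP.U_compl.1 hP.U_compl.2.1 hP.U_compl.2.2.2 hUc hAD h0)
    -- then `p` divides `|L_F|`, so `A ≤ L_F`
    have hpd : p ∣ Nat.card (Cfsg.fittingHall L) := by
      rw [← card_fittingHallOf, ← orderOf_eq_prime (c.ea.2 a ha.1) ha1]
      exact Subgroup.orderOf_dvd_natCard _ ha.2
    have hxL : x ∈ L := Sigma.sigmaCore_le L (c.le_core c.mem)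
    have hxF : x ∈ Cfsg.fittingOf L := by
      refine Cfsg.Lib.FittingHall.fittingHallOf_le_fittingOf L (mem_fittingHall_iff (a := ⟨x, hxL⟩)|>.mp ?_)
      refine (QuotientGroup.eq_one_iff (N := Cfsg.fittingHall L) _).mp (orderOf_eq_one_iff.mp ?_)
      refine Nat.eq_one_of_dvd_coprimes (Cfsg.Lib.FittingHall.fittingHall_coprime.coprime_dvd_left hpd) ?_
        (_root_.orderOf_dvd_natCard _)
      exact (orderOf_map_dvd (QuotientGroup.mk' (Cfsg.fittingHall L)) (⟨x, hxL⟩ : L)).trans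
        (dvd_of_eq ((orderOf_mk x hxL).trans c.witness.order))
    refine hnL fun g hg => ?_
    by_contra hgL
    have hF1 : Cfsg.fittingOf L ≠ ⊥ := fun h0 => c.x_ne_one (mem_bot.mp (h0 ▸ hxF))
    refine c.x_ne_one (hTI g ?_ x hxF ?_)
    · rwa [normalizer_eq hG c.coatom hF1 (FittingParts.fittingOf_le L)
        (FittingParts.le_normalizer_fittingOf L)]
    · rwa [mem_centralizer_singleton_iff.mp hg, mul_inv_cancel_right]
  · exact absurd hIV (f.s11.not_typeIV c.coatom)
  · exact absurd hV (f.s10 L c.coatom)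

theorem core_L (hG : Cfsg.IsMinSimpleOddOrder G) (f : S12Facts G) (c : Config M L A p x) :
    Cfsg.fittingHallOf L = Cfsg.sigmaCore L := by
  rw [← typeCore_of_I_II hG f.support.types c.coatom (Or.inl (c.typeI hG f)),
    typeCore_eq_sigmaCore hG f.support.types c.coatom]

theorem le_fittingHall (hG : Cfsg.IsMinSimpleOddOrder G) (f : S12Facts G) (c : Config M L A p x) :
    A ≤ Cfsg.fittingHallOf L := (c.core_L hG f).symm ▸ c.le_core

/-- `L_F` is abelian of rank two or the exponent of `L / L_F` divides `p - 1`. -/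
theorem dichotomy (hG : Cfsg.IsMinSimpleOddOrder G) (f : S12Facts G) (c : Config M L A p x) :
    (IsMulCommutative (Cfsg.fittingHallOf L) ∧ Cfsg.RankLE 2 (Cfsg.fittingHallOf L)) ∨
      Monoid.exponent (↥L ⧸ Cfsg.fittingHall ↥L) ∣ p - 1 := by
  obtain ⟨g, hg, hgL⟩ := SetLike.not_le_iff_exists.mp (c.cent hG f.support).1
  obtain ⟨K, U, hd⟩ := exists_decomposition hG c.coatom
  have hxF : x ∈ Cfsg.fittingOf L :=
    Cfsg.Lib.FittingHall.fittingHallOf_le_fittingOf L (c.le_fittingHall hG f c.mem)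
  have hxX : x ∈ Cfsg.fittingOf L ⊓ (Cfsg.fittingOf L).map (MulAut.conj g).toMonoidHom :=
    ⟨hxF, x, hxF, by
      show g * x * g⁻¹ = x
      rw [mem_centralizer_singleton_iff.mp hg, mul_inv_cancel_right]⟩
  obtain ⟨-, -, h1 | ⟨r, hr, hrc, -, -, -, -, hexp⟩ | ⟨r, hr, -, -, -, -, -, -, hK, -⟩⟩ :=
    f.p1440 L c.coatom K U hd g hgL fun h0 => c.x_ne_one (mem_bot.mp (h0 ▸ hxX))
  · exact Or.inl ⟨h1.2.1, h1.2.2.1⟩
  · refine Or.inr (hexp p c.prime ?_)
    exact c.witness.order ▸ Subgroup.orderOf_dvd_natCard _ (c.le_fittingHall hG f c.mem)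
  · exact absurd ((f.support.types.p1380 L c.coatom K U hd).mp (c.typeI hG f)).1 hK

/-- In the abelian case `A` is the set of the elements of order dividing `p` of `L_F`. -/
theorem mem_of_pow (hG : Cfsg.IsMinSimpleOddOrder G) (f : S12Facts G) (c : Config M L A p x)
    (hab : IsMulCommutative (Cfsg.fittingHallOf L) ∧ Cfsg.RankLE 2 (Cfsg.fittingHallOf L)) {y : G}
    (hy : y ∈ Cfsg.fittingHallOf L) (hyp : y ^ p = 1) : y ∈ A := by
  haveI := Fact.mk c.prime
  haveI := hab.1
  set H := Cfsg.fittingHallOf L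
  let B : Subgroup H :=
    { carrier := {z | z ^ p = 1}
      one_mem' := one_pow p
      mul_mem' := fun {a b} ha hb => by
        show (a * b) ^ p = 1
        rw [(show Commute a b from mul_comm' a b).mul_pow, ha, hb, one_mul]
      inv_mem' := fun {a} ha => by show a⁻¹ ^ p = 1; rw [inv_pow, ha, inv_one] }
  have hBc : Nat.card B ≤ p ^ 2 := hab.2 p c.prime B inferInstance fun a ha => ha
  have hle : A.subgroupOf H ≤ B := fun a ha => Subtype.ext (c.ea.2 _ ha)
  have hAc : Nat.card (A.subgroupOf H) = p ^ 2 := by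
    rw [Nat.card_congr (subgroupOfEquivOfLe (c.le_fittingHall hG f)).toEquiv, c.card]
  have he := Cfsg.Lib.Coprime.eq_of_le_of_card_eq hle
    (le_antisymm (card_le_of_le hle) (by rw [hAc]; exact hBc))
  have : (⟨y, hy⟩ : H) ∈ B := Subtype.ext hyp
  rw [← he] at this
  exact this

theorem normalizes (hG : Cfsg.IsMinSimpleOddOrder G) (f : S12Facts G) (c : Config M L A p x)
    (hab : IsMulCommutative (Cfsg.fittingHallOf L) ∧ Cfsg.RankLE 2 (Cfsg.fittingHallOf L)) :
    L ≤ normalizer (A : Set G) := by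
  intro l hl
  refine Cfsg.Lib.Coprime.conjMap_eq_self_iff.mp (Cfsg.Lib.Coprime.eq_of_le_of_card_eq ?_
    (Cfsg.Lib.Coprime.card_conjMap l A))
  rintro _ ⟨a, ha, rfl⟩
  refine c.mem_of_pow hG f hab
    ((mem_normalizer_iff.mp (Cfsg.Lib.FittingHall.le_normalizer_fittingHallOf L hl) a).mp
      (c.le_fittingHall hG f ha)) ?_
  rw [← map_pow, c.ea.2 a ha, map_one]

theorem order_dvd_exponent {b : G} {r : ℕ} (hr : r.Prime) (hbo : orderOf b = r) (hb : b ∈ L)
    (hbF : b ∉ Cfsg.fittingHallOf L) : r ∣ Monoid.exponent (↥L ⧸ Cfsg.fittingHall ↥L) := by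
  set q := QuotientGroup.mk' (Cfsg.fittingHall L) (⟨b, hb⟩ : L) with hq
  have h1 : orderOf q ∣ r := hbo ▸ (orderOf_map_dvd _ _).trans (dvd_of_eq (orderOf_mk b hb))
  have h2 : orderOf q = r := ((Nat.dvd_prime hr).mp h1).resolve_left fun h =>
    hbF (mem_fittingHall_iff.mp ((QuotientGroup.eq_one_iff _).mp (orderOf_eq_one_iff.mp h)))
  exact h2 ▸ Monoid.order_dvd_exponent q

/-- `L` is a Frobenius group. -/
theorem frob (hG : Cfsg.IsMinSimpleOddOrder G) (f : S12Facts G) (c : Config M L A p x) :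
    FrobKer L := by
  haveI := Fact.mk c.prime
  by_contra hn
  obtain ⟨q, b, w⟩ := exists_witness c.coatom (c.typeI hG f) hn
  have hle := c.least L q b w
  have hne : q ≠ p := fun e => w.not_dvd hG f.support.types (e ▸ c.witness.order ▸
    Subgroup.orderOf_dvd_natCard _ (c.le_fittingHall hG f c.mem))
  rcases c.dichotomy hG f with hab | hexp
  · haveI := Fact.mk w.prime
    obtain ⟨B, hBL, -, hB, hBc⟩ := w.exists_sq hG f.support.types
    have h0 := (tau_two_theorem hG c.coatom (w.not_sigma hG f.support.types) hBL hB hBc).2.2.2.1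
    refine c.x_ne_one (mem_bot.mp (h0 ▸ mem_inf.mpr ⟨c.le_core c.mem, mem_centralizer_iff.mpr ?_⟩))
    intro b' hb'
    have hp2 : p ≠ 2 := fun e => by have := c.odd_p hG; rw [e] at this; exact absurd this (by decide)
    by_cases hb1 : b' = 1
    · simp [hb1]
    have hbo : orderOf b' = q := orderOf_eq_prime (hB.2 b' hb') hb1
    have hcA : b' ∈ centralizer (A : Set G) := by
      by_contra hnc
      have hq2 : q ≠ 2 := fun e => hG.1.not_two_dvd_nat (e ▸ w.order ▸ orderOf_dvd_natCard b)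
      have := Cfsg.Lib.OddP.prime_le_of_dvd_sq_sub_one w.prime hq2 hp2
        (Cfsg.Lib.OddP.prime_dvd_sq_sub_one hp2 (IsPGroup.of_card c.card)
          (pRankLE_two_of_card c.card) (c.normalizes hG f hab (hBL hb'))
          (hbo ▸ (Nat.coprime_primes w.prime c.prime).mpr hne) w.prime hne
          (by rw [hB.2 b' hb']; exact one_mem _) hnc)
      omega
    exact (mem_centralizer_iff.mp hcA x c.mem).symm
  · have h1 := (order_dvd_exponent w.prime w.order w.mem w.out).trans hexp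
    have h2 := c.prime.two_le
    have := Nat.le_of_dvd (by omega) h1
    omega

theorem small_prime (hG : Cfsg.IsMinSimpleOddOrder G) (f : S12Facts G) (c : Config M L A p x)
    {b : G} {r : ℕ} (hr : r.Prime) (hbo : orderOf b = r) (hb : b ∈ L)
    (hbF : b ∉ Cfsg.fittingHallOf L) : r < p := by
  haveI := Fact.mk c.prime
  rcases c.dichotomy hG f with hab | hexp
  · have hp2 : p ≠ 2 := fun e => by have := c.odd_p hG; rw [e] at this; exact absurd this (by decide)
    have hr2 : r ≠ 2 := fun e => hG.1.not_two_dvd_nat (e ▸ hbo ▸ orderOf_dvd_natCard b)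
    have hne : r ≠ p := by
      rintro rfl
      have h1 : r ∣ (Cfsg.fittingHall L).index := by
        rw [index_eq_card]
        exact (order_dvd_exponent hr hbo hb hbF).trans Group.exponent_dvd_nat_card
      refine hr.ne_one (Nat.eq_one_of_dvd_coprimes Cfsg.Lib.FittingHall.fittingHall_coprime ?_ h1)
      rw [← card_fittingHallOf]
      exact c.witness.order ▸ Subgroup.orderOf_dvd_natCard _ (c.le_fittingHall hG f c.mem)
    refine Cfsg.Lib.OddP.prime_le_of_dvd_sq_sub_one hr hr2 hp2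
      (Cfsg.Lib.OddP.prime_dvd_sq_sub_one hp2 (IsPGroup.of_card c.card)
        (pRankLE_two_of_card c.card) (c.normalizes hG f hab hb)
        (hbo ▸ (Nat.coprime_primes hr c.prime).mpr hne) hr hne
        (by rw [← hbo, pow_orderOf_eq_one]; exact one_mem _) fun hcA => hbF ?_)
    exact c.frob hG f x (c.le_fittingHall hG f c.mem) c.x_ne_one
      ⟨hb, mem_centralizer_singleton_iff.mpr (mem_centralizer_iff.mp hcA x c.mem).symm⟩
  · have h1 := (order_dvd_exponent hr hbo hb hbF).trans hexp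
    have h2 := c.prime.two_le
    have := Nat.le_of_dvd (by omega) h1
    omega

/-- `L ∩ M` lies in `L_F`. -/
theorem inter_le (hG : Cfsg.IsMinSimpleOddOrder G) (f : S12Facts G) (c : Config M L A p x) :
    L ⊓ M ≤ Cfsg.fittingHallOf L := by
  classical
  haveI := Fact.mk c.prime
  have hT := f.support.types
  by_contra hle
  obtain ⟨a, ha, haF⟩ := SetLike.not_le_iff_exists.mp hle
  obtain ⟨r, i, hr, hbo, hbF⟩ := exists_prime_power_out ha.1 haF
  set b := a ^ i with hb
  have hbL : b ∈ L := pow_mem ha.1 i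
  have hbM : b ∈ M := pow_mem ha.2 i
  have hb1 : b ≠ 1 := fun h => hr.ne_one (by rw [← hbo, h, orderOf_one])
  have hlt := c.small_prime hG f hr hbo hbL hbF
  set K := Cfsg.fittingHallOf M with hK
  have hbK : b ∉ K := fun h => hb1 (mem_bot.mp (c.inf_eq_bot hG hT ▸ mem_inf.mpr ⟨h, hbL⟩))
  have hfpf : K ⊓ centralizer ({b} : Set G) = ⊥ := by
    refine (eq_bot_iff_forall _).mpr fun k hk => ?_
    by_contra hk1
    exact hlt.not_ge (c.least M r b ⟨c.witness.coatom, c.witness.typeI, hr, hbo, hbM, hbK, k, hk.1, hk1,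
      (mem_centralizer_singleton_iff.mp hk.2).symm⟩)
  have hAH := c.le_fittingHall hG f
  -- `b` normalises `A`
  have hnA : b ∈ normalizer (A : Set G) := by
    haveI := fittingHallOf_nilpotent L
    set H := Cfsg.fittingHallOf L
    obtain ⟨S⟩ : Nonempty (Sylow p H) := inferInstance
    haveI : (S : Subgroup H).Normal :=
      ((Group.isNilpotent_of_finite_tfae (G := H)).out 0 3 rfl rfl).mp inferInstance p inferInstance S
    set T := (S : Subgroup H).map H.subtype ⊓ M with hT'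
    have hmemT : ∀ y, y ∈ H → y ∈ M → y ^ p = 1 → y ∈ T := fun y hy hyM hyp => by
      refine ⟨⟨⟨y, hy⟩, ?_, rfl⟩, hyM⟩
      obtain ⟨Q, hQ⟩ := (IsPGroup.to_le (K := zpowers (⟨y, hy⟩ : H)) (H := zpowers (⟨y, hy⟩ : H))
        (isPGroup_zpowers (Subtype.ext hyp)) le_rfl).exists_le_sylow
      haveI := Sylow.unique_of_normal S inferInstance
      rw [Subsingleton.elim S Q]
      exact hQ (mem_zpowers _)
    obtain ⟨R, hR, hTR⟩ := Sigma.exists_sylowOf ((S.2.map H.subtype).to_le inf_le_left) inf_le_right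
    obtain ⟨S', hS'⟩ := hR.exists_sylow
    obtain ⟨-, hP, -⟩ := tau_two_theorem hG c.witness.coatom (c.witness.not_sigma hG hT) c.le c.ea c.card
    have hAR : A ≤ R := fun y hy => hTR (hmemT y (hAH hy) (c.le hy) (c.ea.2 y hy))
    refine Cfsg.Lib.Coprime.conjMap_eq_self_iff.mp (Cfsg.Lib.Coprime.eq_of_le_of_card_eq ?_
      (Cfsg.Lib.Coprime.card_conjMap b A))
    rintro _ ⟨y, hy, rfl⟩
    have hyH : b * y * b⁻¹ ∈ H :=
      (mem_normalizer_iff.mp (Cfsg.Lib.FittingHall.le_normalizer_fittingHallOf L hbL) y).mp (hAH hy)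
    have hyM : b * y * b⁻¹ ∈ M := mul_mem (mul_mem hbM (c.le hy)) (inv_mem hbM)
    have hyp : (b * y * b⁻¹) ^ p = 1 := by rw [conj_pow, c.ea.2 y hy, mul_one, mul_inv_cancel]
    exact (((hP S').2 (hS'.symm ▸ hAR)).1 _ (hS'.symm ▸ hTR (hmemT _ hyH hyM hyp))).mp hyp
  -- the Frobenius group `A⟨b⟩` acts on `K` without fixed points
  set E := zpowers b with hE
  have hA1 : A ≠ ⊥ := fun h => c.x_ne_one (mem_bot.mp (h ▸ c.mem))
  have hE1 : E ≠ ⊥ := fun h => hb1 (zpowers_eq_bot.mp h)
  have hEc : Nat.card E = r := by rw [hE, Nat.card_zpowers, hbo]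
  have hcopAE : (Nat.card A).Coprime (Nat.card E) := by
    rw [c.card, hEc]; exact ((Nat.coprime_primes c.prime hr).mpr hlt.ne').pow_left 2
  have hEA : E ≤ normalizer (A : Set G) := zpowers_le.mpr hnA
  have hcard : Nat.card ↥(A ⊔ E) = p ^ 2 * r := by
    rw [Cfsg.Lib.Coprime.card_sup_of_inf_eq_bot hEA (Cfsg.Lib.Coprime.inf_eq_bot_of_coprime hcopAE),
      c.card, hEc]
  have hrK : ¬ r ∣ Nat.card K := by
    intro hd
    have h1 := order_dvd_exponent (L := M) hr hbo hbM hbK
    refine hr.ne_one (Nat.eq_one_of_dvd_coprimes Cfsg.Lib.FittingHall.fittingHall_coprime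
      (card_fittingHallOf M ▸ hd) ?_)
    rw [index_eq_card]
    exact h1.trans Group.exponent_dvd_nat_card
  have hcopK : (Nat.card K).Coprime (Nat.card ↥(A ⊔ E)) := by
    rw [hcard]
    exact Nat.Coprime.mul_right (((c.prime.coprime_iff_not_dvd).mpr (c.witness.not_dvd hG hT)).symm.pow_right 2)
      ((hr.coprime_iff_not_dvd).mpr hrK).symm
  have hAE : A ⊔ E ≤ normalizer (K : Set G) := (sup_le c.le (zpowers_le.mpr hbM)).trans
    (Cfsg.Lib.FittingHall.le_normalizer_fittingHallOf M)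
  haveI := fittingHallOf_nilpotent M
  have key := Cfsg.Agent.S1545.result A E K hA1 hE1 (Cfsg.Lib.Coprime.inf_eq_bot_of_coprime hcopAE)
    (fun e he y hy => (mem_normalizer_iff.mp (hEA he) y).mp hy)
    (fun e he he1 y hy hey => by
      by_contra hy1
      refine hbF ?_
      have heF : e ∈ Cfsg.fittingHallOf L := c.frob hG f y (hAH hy) hy1
        ⟨zpowers_le.mpr hbL he, mem_centralizer_singleton_iff.mpr hey⟩
      haveI := Fact.mk hr
      rw [← line_eq_of_mem (X := E) hEc he he1] at hE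
      exact zpowers_le.mpr heF (hE ▸ mem_zpowers b))
    (fun y hy k hk => (mem_normalizer_iff.mp (hAE hy) k).mp hk)
    (Cfsg.Lib.Coprime.inf_eq_bot_of_coprime hcopK) inferInstance hcopK
  have hCE : K ⊓ centralizer (E : Set G) = ⊥ := by
    rw [hE, Cfsg.Lib.Coprime.centralizer_zpowers]; exact hfpf
  have hCA : K ⊓ centralizer (A : Set G) = ⊥ := by
    rw [hK, c.witness.core_eq hG hT]
    exact (tau_two_theorem hG c.witness.coatom (c.witness.not_sigma hG hT) c.le c.ea c.card).2.2.2.1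
  have hCAE : K ⊓ centralizer ((A ⊔ E : Subgroup G) : Set G) = ⊥ :=
    le_bot_iff.mp ((inf_le_inf_left _ (centralizer_le (SetLike.coe_subset_coe.mpr le_sup_left))).trans hCA.le)
  rw [hCE, hCA, hCAE, Subgroup.card_bot, one_pow, one_mul, one_mul] at key
  exact c.witness.typeI.1.2.2.1 ((map_eq_bot_iff_of_injective _ M.subtype_injective).mp
    (card_eq_one.mp key))

end Config

end Cfsg.Agent.PF
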