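import Cfsg.Agent.OddChar.PF.S12Config

/-!
# Section 12: the index of `L_F` in `L`, (12.14)
-/

set_option linter.style.haveILetI false
set_option linter.unusedSectionVars false
set_option linter.unusedVariables false

universe u

namespace Cfsg.Agent.PF

open Subgroup
open Cfsg.Lib.OddLocal
open Cfsg.Lib.OddLocal.RankTwoMax
open Cfsg.Lib.Coprime (conjMap)
open Cfsg.Lib.Frobenius (Fpf)
open scoped commutatorElement

variable {G : Type u} [Group G] [Finite G] {M L A : Subgroup G} {p : ℕ} {x : G}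

namespace Config

theorem dvd_card_kernel (hG : Cfsg.IsMinSimpleOddOrder G) (f : S12Facts G) (c : Config M L A p x) :
    p ^ 2 ∣ Nat.card (Cfsg.fittingHall L) := by
  rw [← card_fittingHallOf, ← c.card]
  exact card_dvd_of_le (c.le_fittingHall hG f)

theorem index_odd (hG : Cfsg.IsMinSimpleOddOrder G) (c : Config M L A p x) :
    Odd (Cfsg.fittingHall L).index :=
  hG.1.of_dvd_nat ((index_dvd_card _).trans (card_subgroup_dvd_card L))

theorem three_le_index (hG : Cfsg.IsMinSimpleOddOrder G) (f : S12Facts G) (c : Config M L A p x) :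
    3 ≤ (Cfsg.fittingHall L).index := by
  obtain ⟨k, hk⟩ := c.index_odd hG
  have h1 : (Cfsg.fittingHall L).index ≠ 1 := fun h =>
    (c.typeI hG f).1.2.2.2.1 (index_eq_one.mp h)
  omega

/-- An element of `L` normalising `⟨x⟩` lies in `M`. -/
theorem mem_of_normalizes (hG : Cfsg.IsMinSimpleOddOrder G) (f : S12Facts G) (c : Config M L A p x)
    {w : G} (hw : w ∈ normalizer ((zpowers x : Subgroup G) : Set G)) : w ∈ M := by
  have h1 : conjMap w (zpowers x) = zpowers x := Cfsg.Lib.Coprime.conjMap_eq_self hw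
  have hle : centralizer ({x} : Set G) ≤ conjMap w M := by
    intro y hy
    rw [Cfsg.Lib.Coprime.mem_conjMap]
    refine (c.cent hG f.support).2 ?_
    rw [← Cfsg.Lib.Coprime.centralizer_zpowers] at hy ⊢
    refine mem_centralizer_iff.mpr fun z hz => ?_
    have hz' : w * z * w⁻¹ ∈ zpowers x := h1.le (show w * z * w⁻¹ ∈ conjMap w (zpowers x) by
      rw [Cfsg.Lib.Coprime.mem_conjMap]; simpa [mul_assoc] using hz)
    have h2 := mem_centralizer_iff.mp hy _ hz'
    calc z * (w⁻¹ * y * w) = w⁻¹ * (w * z * w⁻¹ * y) * w := by group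
      _ = w⁻¹ * (y * (w * z * w⁻¹)) * w := by rw [h2]
      _ = w⁻¹ * y * w * z := by group
  have h2 := c.unique hG f.support (Sigma.conjMap_coatom c.witness.coatom w) hle
  have hM1 : M ≠ ⊥ := fun h => c.x_ne_one (mem_bot.mp (h ▸ c.witness.mem))
  rw [← RankTwoMax.normalizer_eq hG c.witness.coatom hM1 le_rfl le_normalizer]
  exact Cfsg.Lib.Coprime.conjMap_eq_self_iff.mp h2

/-- Twice the index of `L_F` in `L` is at most `p + 1`. -/
theorem two_mul_index_le (hG : Cfsg.IsMinSimpleOddOrder G) (f : S12Facts G) (c : Config M L A p x) :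
    2 * (Cfsg.fittingHall L).index ≤ p + 1 := by
  classical
  haveI := Fact.mk c.prime
  set e := (Cfsg.fittingHall L).index with he
  have hodd := c.index_odd hG
  have hp2 : p ≠ 2 := fun h => by have := c.odd_p hG; rw [h] at this; exact absurd this (by decide)
  have hp3 : 3 ≤ p := by have := c.prime.two_le; omega
  have hbound : ∀ n : ℕ, 0 < n → Even n → e ∣ n → 2 * e ≤ n := fun n hn0 hn hd =>
    Nat.le_of_dvd hn0 ((Nat.coprime_two_left.mpr hodd).mul_dvd_of_dvd_of_dvd hn.two_dvd hd)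
  have hevp : Even (p - 1) := Nat.Odd.sub_odd (c.odd_p hG) odd_one
  have hpred : e ∣ p - 1 → 2 * e ≤ p + 1 := fun h => by
    have := hbound (p - 1) (by omega) hevp h
    omega
  obtain ⟨E, -, hE, -⟩ : ∃ E : Subgroup L, E ≠ ⊥ ∧ IsComplement' (Cfsg.fittingHall L) E ∧ True := by
    obtain ⟨⟨-, -, -, -, E, hE1, hE, -⟩, -⟩ := c.typeI hG f
    exact ⟨E, hE1, hE, trivial⟩
  have hfr := c.frob hG f
  rcases c.dichotomy hG f with hab | hexp
  swap
  · refine hpred ?_
    rw [he, ← exponent_quotient_eq_index (hG.1.of_dvd_nat (card_subgroup_dvd_card L))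
      (c.typeI hG f).1.2.2.1 hE hfr.centralizer_le]
    exact hexp
  -- the abelian case
  set W := E.map L.subtype with hW
  have hWL : W ≤ L := map_subtype_le E
  have hWc : Nat.card W = e := by
    rw [hW, card_map_of_injective L.subtype_injective, he, hE.symm.index_eq_card]
  have hWF : W ⊓ Cfsg.fittingHallOf L = ⊥ := by
    rw [hW, Cfsg.fittingHallOf, ← map_inf _ _ _ L.subtype_injective, inf_comm,
      disjoint_iff.mp hE.disjoint, Subgroup.map_bot]
  have hfp : Fpf W A := by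
    intro w hw hw1
    refine (eq_bot_iff_forall _).mpr fun a ha => ?_
    by_contra ha1
    have h1 := hfr a (c.le_fittingHall hG f ha.1) ha1
      ⟨hWL hw, mem_centralizer_singleton_iff.mpr (mem_centralizer_singleton_iff.mp ha.2).symm⟩
    exact hw1 (mem_bot.mp (hWF ▸ mem_inf.mpr ⟨hw, h1⟩))
  have hWA : W ≤ normalizer (A : Set G) := hWL.trans (c.normalizes hG f hab)
  have hA1 : A ≠ ⊥ := fun h => c.x_ne_one (mem_bot.mp (h ▸ c.mem))
  have hd2 : e ∣ p ^ 2 - 1 := hWc ▸ c.card ▸ hfp.card_dvd hWA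
  have hstab : ∀ w ∈ W, w ∈ normalizer ((zpowers x : Subgroup G) : Set G) → w = 1 := fun w hw hn =>
    mem_bot.mp (hWF ▸ mem_inf.mpr ⟨hw, c.inter_le hG f ⟨hWL hw, c.mem_of_normalizes hG f hn⟩⟩)
  have hcopW : (Nat.card W).Coprime p := by
    have := hfp.coprime hWA
    rw [c.card] at this
    exact this.coprime_dvd_right (dvd_pow_self p two_ne_zero)
  haveI : Group.IsSolvable W :=
    hG.2.2.2 W (FittingUniqueness.ne_top_of_le_coatom c.coatom hWL)
  have hcomm : ∀ a ∈ W, ∀ b ∈ W, a * b = b * a := by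
    intro a ha b hb
    have hmem : ⁅a, b⁆ ∈ ⁅W, W⁆ := commutator_mem_commutator ha hb
    have hcW : ⁅a, b⁆ ∈ W := commutator_le_self W hmem
    have hc := Cfsg.Lib.OddP.derived_centralizes_rankTwo hp2 (IsPGroup.of_card c.card)
      (pRankLE_two_of_card c.card) hWA (hG.1.of_dvd_nat (card_subgroup_dvd_card W)) hmem
      (hcopW.coprime_dvd_left (Subgroup.orderOf_dvd_natCard W hcW))
    by_contra hne
    refine c.x_ne_one (hfp.eq_one hcW (fun h => hne (commutatorElement_eq_one_iff_mul_comm.mp h))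
      c.mem (mem_centralizer_iff.mp hc x c.mem).symm)
  by_cases hg : Nat.Coprime e (p - 1)
  · have h1 : e ∣ p + 1 := by
      refine hg.dvd_of_dvd_mul_left (m := p - 1) ?_
      rwa [mul_comm, ← Nat.sq_sub_sq, one_pow] at *
    exact hbound (p + 1) (by omega) (Odd.add_odd (c.odd_p hG) odd_one) h1
  obtain ⟨s, hs, hse, hsp⟩ := Nat.Prime.not_coprime_iff_dvd.mp hg
  haveI := Fact.mk hs
  obtain ⟨⟨w, hwW⟩, hwo⟩ := exists_prime_orderOf_dvd_card' (G := W) s (hWc ▸ hse)
  rw [Subgroup.orderOf_mk] at hwo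
  have hw1 : w ≠ 1 := fun h => hs.ne_one (by rw [← hwo, h, orderOf_one])
  obtain ⟨k, v, hv, hv1, hvk⟩ := exists_eigen hs hsp c.ea hA1 (hWA hwW)
    (by rw [← hwo, pow_orderOf_eq_one])
  haveI := c.ea.1
  let V : Subgroup G :=
    { carrier := {z | z ∈ A ∧ w * z * w⁻¹ = z ^ k}
      one_mem' := ⟨one_mem _, by simp⟩
      mul_mem' := fun {a b} ha hb => ⟨mul_mem ha.1 hb.1, by
        have hab' : Commute a b := ThompsonTransitivity.mul_comm_of c.ea.1 ha.1 hb.1
        rw [hab'.mul_pow, ← ha.2, ← hb.2]; group⟩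
      inv_mem' := fun {a} ha => ⟨inv_mem ha.1, by rw [inv_pow, ← ha.2]; group⟩ }
  have hVA : V ≤ A := fun z hz => hz.1
  have hxV : x ∉ V := fun hx => hw1 (hstab w hwW (by
    refine Cfsg.Lib.Coprime.conjMap_eq_self_iff.mp (Cfsg.Lib.Coprime.eq_of_le_of_card_eq ?_
      (Cfsg.Lib.Coprime.card_conjMap w (zpowers x)))
    rintro _ ⟨z, hz, rfl⟩
    obtain ⟨i, rfl⟩ := mem_zpowers_iff.mp hz
    show w * x ^ i * w⁻¹ ∈ zpowers x
    rw [← conj_zpow, hx.2]
    exact zpow_mem (pow_mem (mem_zpowers x) k) i))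
  have hVc : Nat.card V = p := by
    obtain ⟨i, hi, hic⟩ := (Nat.dvd_prime_pow c.prime).mp (c.card ▸ card_dvd_of_le hVA)
    have hi0 : i ≠ 0 := fun h0 => hv1 (mem_bot.mp
      (card_eq_one.mp (by rw [hic, h0, pow_zero]) ▸ (⟨hv, hvk⟩ : v ∈ V)))
    have hi2 : i ≠ 2 := fun h2 => hxV ((Cfsg.Lib.Coprime.eq_of_le_of_card_eq hVA
      (by rw [hic, h2, c.card])).ge c.mem)
    rw [hic, show i = 1 by omega, pow_one]
  have hWV : W ≤ normalizer (V : Set G) := by
    intro b hb
    refine Cfsg.Lib.Coprime.conjMap_eq_self_iff.mp (Cfsg.Lib.Coprime.eq_of_le_of_card_eq ?_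
      (Cfsg.Lib.Coprime.card_conjMap b V))
    rintro _ ⟨z, hz, rfl⟩
    refine ⟨(mem_normalizer_iff.mp (hWA hb) z).mp hz.1, ?_⟩
    show w * (b * z * b⁻¹) * w⁻¹ = (b * z * b⁻¹) ^ k
    rw [conj_pow, ← hz.2]
    have h1 := hcomm w hwW b hb
    calc w * (b * z * b⁻¹) * w⁻¹ = (w * b) * z * (w * b)⁻¹ := by group
      _ = (b * w) * z * (b * w)⁻¹ := by rw [h1]
      _ = b * (w * z * w⁻¹) * b⁻¹ := by group
  have hfV : Fpf W V := fun b hb hb1 =>
    le_bot_iff.mp ((inf_le_inf_right _ hVA).trans (hfp b hb hb1).le)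
  exact hpred (hWc ▸ hVc ▸ hfV.card_dvd hWV)

theorem five_le (hG : Cfsg.IsMinSimpleOddOrder G) (f : S12Facts G) (c : Config M L A p x) :
    5 ≤ p := by
  have := c.three_le_index hG f
  have := c.two_mul_index_le hG f
  omega

/-- The complement `L ∩ M`. -/
theorem compl (hG : Cfsg.IsMinSimpleOddOrder G) (f : S12Facts G) (c : Config M L A p x) :
    Cfsg.IsComplIn (Cfsg.fittingHallOf M) (L ⊓ M) M :=
  ((f.support.p1391 L c.coatom _ (Or.inl rfl)).2.2 x
    (typeA1_subset_typeA hG f.support.types c.coatom (c.x_typeA1 hG f.support.types))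
    (c.cent hG f.support).1 M c.witness.coatom (c.cent hG f.support).2).1

theorem not_frob_M (c : Config M L A p x) : ¬ FrobKer M := fun h => by
  obtain ⟨k, hk, hk1, hxk⟩ := c.witness.fix
  exact c.witness.out (h k hk hk1 ⟨c.witness.mem, mem_centralizer_singleton_iff.mpr hxk⟩)

end Config

end Cfsg.Agent.PF
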