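import Cfsg.Agent.OddChar.PF.S12Signed
import Cfsg.Agent.OddChar.PF.S12Kernel
import Cfsg.Agent.OddChar.Coherence
import Cfsg.Agent.OddChar.InducedFamily

/-!
# Section 12: the values off the support of a coherent extension on the members of least degree

For `L` with Frobenius kernel `K` the images of the members induced from linear characters agree off
the support of the Dade map, and are rational integers there.
-/

set_option linter.style.haveILetI false
set_option linter.unusedSectionVars false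

universe u

namespace Cfsg.Agent.PF

open Cfsg.Lib.Chars Cfsg.Lib.Dade

variable {G : Type u} [Group G] [Fintype G] {A : Set G} {L : Subgroup G} [Fintype L]
  {H : G → Subgroup G} {K : Subgroup L} [K.Normal] {τ₁ : (L → ℂ) → (G → ℂ)}

/-- A member induced from a non-principal linear character of `K`. -/
def LinInd (K : Subgroup L) (η : L → ℂ) : Prop :=
  ∃ θ : K → ℂ, Cfsg.IsIrrCharacter K θ ∧ θ ≠ (fun _ => 1) ∧ θ 1 = 1 ∧ η = Cfsg.indFun K θ

omit [Fintype G] in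
theorem LinInd.mem {η : L → ℂ} (h : LinInd K η) : η ∈ Cfsg.inducedIrrAbove K ⊥ := by
  obtain ⟨θ, hθ, h1, -, rfl⟩ := h
  exact ⟨θ, hθ, h1, fun a ha => by rw [show a = 1 from Subtype.ext (Subgroup.mem_bot.mp ha)], rfl⟩

omit [Fintype G] in
theorem LinInd.galFun {η : L → ℂ} (h : LinInd K η) (σ : ℂ ≃+* ℂ) : LinInd K (galFun σ η) := by
  obtain ⟨θ, hθ, h1, hd, rfl⟩ := h
  refine ⟨fun k => σ (θ k), IsIrrCharacter.map_auto hθ σ, fun he => h1 (funext fun k =>
    σ.injective (by rw [map_one]; exact congrFun he k)), ?_, funext fun g => ?_⟩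
  · show σ (θ 1) = 1
    rw [hd, map_one]
  · exact Cfsg.Lib.CyclicTI.indFun_map_auto σ K θ g

omit [Fintype G] in
theorem LinInd.sub_mem {η η' : L → ℂ} (h : LinInd K η) (h' : LinInd K η') :
    η - η' ∈ Cfsg.zspanOn (Cfsg.inducedIrrAbove K ⊥) {1}ᶜ := by
  refine Cfsg.Lib.Coherence.mem_one.mpr ⟨(Submodule.span ℤ _).sub_mem
    (Cfsg.Lib.Coherence.subset_zspan h.mem) (Cfsg.Lib.Coherence.subset_zspan h'.mem), ?_⟩
  obtain ⟨θ, -, -, hd, rfl⟩ := h
  obtain ⟨θ', -, -, hd', rfl⟩ := h'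
  simp [indFun_one, hd, hd']

variable (hτ₁ : Cfsg.IsLinearIsometryOn (Cfsg.zspan (Cfsg.inducedIrrAbove K ⊥)) τ₁)
  (hag : ∀ α ∈ Cfsg.zspanOn (Cfsg.inducedIrrAbove K ⊥) {1}ᶜ, τ₁ α = Cfsg.dadeIsometry A L H α)
  (hC : ∀ n ∈ K, n ≠ 1 → Subgroup.centralizer ({n} : Set L) ≤ K)

include hτ₁ hag in
theorem tau_sub {η η' : L → ℂ} (h : LinInd K η) (h' : LinInd K η') :
    τ₁ η - τ₁ η' = Cfsg.dadeIsometry A L H (η - η') := by
  rw [← hag _ (h.sub_mem h')]
  exact (Cfsg.Lib.Coherence.map_sub' (Submodule.span ℤ (Cfsg.inducedIrrAbove K ⊥)) hτ₁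
    (Cfsg.Lib.Coherence.subset_zspan h.mem) (Cfsg.Lib.Coherence.subset_zspan h'.mem)).symm

include hτ₁ hag in
theorem tau_eq_off {η η' : L → ℂ} (h : LinInd K η) (h' : LinInd K η') {g : G}
    (hg : g ∉ dadeSupp A H) : τ₁ η g = τ₁ η' g := by
  have := congrFun (tau_sub hτ₁ hag h h') g
  rwa [dade_eq_zero _ (fun a ha x u hu he => hg ⟨a, ha, u, hu, x, he⟩), Pi.sub_apply,
    sub_eq_zero] at this

include hτ₁ hC in
theorem tau_signed {η : L → ℂ} (h : LinInd K η) : IsSignedIrr G (τ₁ η) := by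
  refine signed_of_norm_one (hτ₁.2.2.2 _ (Cfsg.Lib.Coherence.subset_zspan h.mem)) ?_
  rw [hτ₁.2.2.1 _ (Cfsg.Lib.Coherence.subset_zspan h.mem) _ (Cfsg.Lib.Coherence.subset_zspan h.mem)]
  obtain ⟨θ, hθ, h1, -, rfl⟩ := h
  exact classInner_self_irr (isIrr_indFun_of_centralizer_le K hC hθ h1)

include hτ₁ hag hC in
/-- The common value off the support is fixed by all field automorphisms. -/
theorem tau_fixed (θ : Fin 3 → K → ℂ)
    (hθ : ∀ i, Cfsg.IsIrrCharacter K (θ i) ∧ θ i ≠ (fun _ => 1) ∧ θ i 1 = 1)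
    (hinj : Function.Injective fun i => Cfsg.indFun K (θ i)) {η : L → ℂ} (h : LinInd K η) {g : G}
    (hg : g ∉ dadeSupp A H) (σ : ℂ ≃+* ℂ) : σ (τ₁ η g) = τ₁ η g := by
  classical
  let ι := {ζ : L → ℂ // LinInd K ζ}
  have horth : ∀ ζ ζ' : L → ℂ, LinInd K ζ → LinInd K ζ' → ζ ≠ ζ' →
      Cfsg.classInner (τ₁ ζ) (τ₁ ζ') = 0 := by
    intro ζ ζ' hζ hζ' hne
    rw [hτ₁.2.2.1 _ (Cfsg.Lib.Coherence.subset_zspan hζ.mem) _
      (Cfsg.Lib.Coherence.subset_zspan hζ'.mem)]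
    obtain ⟨t, ht, ht1, -, rfl⟩ := hζ
    obtain ⟨t', ht', ht1', -, rfl⟩ := hζ'
    rw [classInner_irrChar (isIrr_indFun_of_centralizer_le K hC ht ht1)
      (isIrr_indFun_of_centralizer_le K hC ht' ht1'), if_neg hne]
  have hmem : ∀ i, LinInd K (Cfsg.indFun K (θ i)) := fun i =>
    ⟨θ i, (hθ i).1, (hθ i).2.1, (hθ i).2.2, rfl⟩
  have huniq := signed_family_unique (ι := ι) (a := fun i => galFun σ (τ₁ i.1))
    (b := fun i => τ₁ (galFun σ i.1)) (fun i => galFun_signed σ (tau_signed hτ₁ hC i.2))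
    (fun i => tau_signed hτ₁ hC (i.2.galFun σ))
    (fun i j hij => by
      rw [galFun_inner σ (tau_signed hτ₁ hC j.2),
        horth _ _ i.2 j.2 (fun e => hij (Subtype.ext e)), map_zero])
    (fun i j => by
      rw [← galFun_sub, tau_sub hτ₁ hag i.2 j.2, galFun_dade,
        tau_sub hτ₁ hag (i.2.galFun σ) (j.2.galFun σ)]
      congr 1
      funext x
      simp [galFun])
    ⟨η, h⟩ (by
      have key : ∀ a b : Fin 3, a ≠ b → η ≠ Cfsg.indFun K (θ a) → η ≠ Cfsg.indFun K (θ b) →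
          ∃ j k : ι, j ≠ ⟨η, h⟩ ∧ k ≠ ⟨η, h⟩ ∧ j ≠ k := fun a b hab ha hb =>
        ⟨⟨_, hmem a⟩, ⟨_, hmem b⟩, fun e => ha (congrArg Subtype.val e).symm,
          fun e => hb (congrArg Subtype.val e).symm, fun e => hab (hinj (congrArg Subtype.val e))⟩
      by_cases h0 : η = Cfsg.indFun K (θ 0)
      · exact key 1 2 (by decide) (fun e => absurd (hinj (h0.symm.trans e)) (by decide))
          (fun e => absurd (hinj (h0.symm.trans e)) (by decide))
      by_cases h1 : η = Cfsg.indFun K (θ 1)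
      · exact key 0 2 (by decide) h0 (fun e => absurd (hinj (h1.symm.trans e)) (by decide))
      exact key 0 1 (by decide) h0 h1)
  show galFun σ (τ₁ η) g = _
  rw [← congrFun huniq g]
  exact tau_eq_off hτ₁ hag (h.galFun σ) h hg

end Cfsg.Agent.PF
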