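import Cfsg.Agent.Chars.Inertia
import Cfsg.Agent.OddChar.Dual
import Cfsg.Agent.PGroups.Regular
import Mathlib.GroupTheory.Frattini

/-!
# Section 12: the number of members induced from linear characters
-/

set_option linter.style.haveILetI false
set_option linter.unusedSectionVars false

universe u

namespace Cfsg.Agent.PF

open Subgroup
open Cfsg.Lib.Chars

/-- A finite nilpotent group with a noncyclic Sylow `p`-subgroup has abelianization of order at least
`p²`. -/
theorem sq_le_card_abelianization {H : Type u} [Group H] [Finite H] [Group.IsNilpotent H] {p : ℕ}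
    [hp : Fact p.Prime] (S : Sylow p H) (hS : ¬ IsCyclic S) :
    p ^ 2 ≤ Nat.card (Abelianization H) := by
  classical
  have hn : ∀ {q : ℕ} [Fact q.Prime] (P : Sylow q H), P.Normal := fun {q} _ P =>
    ((Group.isNilpotent_of_finite_tfae (G := H)).out 0 3 rfl rfl).mp inferInstance q inferInstance P
  have hp' : p ∈ (Nat.card H).primeFactors := by
    refine Nat.mem_primeFactors.mpr ⟨hp.out, ?_, Nat.card_pos.ne'⟩
    have h1 : (S : Subgroup H) ≠ ⊥ := fun h0 => hS (by rw [h0]; infer_instance)
    obtain ⟨k, hk⟩ := IsPGroup.iff_card.mp S.2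
    have hk0 : k ≠ 0 := fun e => h1 (card_eq_one.mp (by rw [hk, e, pow_zero]))
    exact ((dvd_pow_self p hk0).trans hk.symm.dvd).trans (card_subgroup_dvd_card _)
  let π : H →* S := ((Pi.evalMonoidHom (fun P : Sylow p H => (P : Subgroup H)) S).comp
    (Pi.evalMonoidHom (fun q : (Nat.card H).primeFactors => ∀ P : Sylow q H, P) ⟨p, hp'⟩)).comp
      (Sylow.directProductOfNormal hn).symm.toMonoidHom
  have hπ : Function.Surjective π := by
    intro s
    refine ⟨Sylow.directProductOfNormal hn
      (Pi.mulSingle (M := fun q : (Nat.card H).primeFactors => ∀ P : Sylow q H, P) ⟨p, hp'⟩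
        (Pi.mulSingle (M := fun P : Sylow p H => (P : Subgroup H)) S s)), ?_⟩
    simp [π]
  have hle : Nat.card (Abelianization S) ≤ Nat.card (Abelianization H) := by
    refine Nat.card_le_card_of_surjective (Abelianization.map π) fun y => ?_
    obtain ⟨s, rfl⟩ := QuotientGroup.mk'_surjective _ y
    obtain ⟨h, rfl⟩ := hπ s
    exact ⟨Abelianization.of h, rfl⟩
  refine le_trans ?_ hle
  have hnc : ¬ IsCyclic (Abelianization S) := by
    intro hc
    obtain ⟨g, hg⟩ := hc.exists_generator
    obtain ⟨g, rfl⟩ := QuotientGroup.mk'_surjective _ g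
    refine hS ((Subgroup.isCyclic_iff_exists_zpowers_eq_top _).mpr ?_)
    have htop : zpowers g = (⊤ : Subgroup (S : Subgroup H)) := by
      refine frattini_nongenerating (eq_top_iff.mpr fun s _ => ?_)
      obtain ⟨i, hi⟩ := mem_zpowers_iff.mp (hg (Abelianization.of s))
      have h1 : (g ^ i)⁻¹ * s ∈ commutator (S : Subgroup H) := by
        rw [← QuotientGroup.eq]
        rw [show (QuotientGroup.mk (g ^ i) : (S : Subgroup H) ⧸ _) =
          QuotientGroup.mk' _ (g ^ i) from rfl, map_zpow]
        exact hi
      rw [show s = g ^ i * ((g ^ i)⁻¹ * s) by group]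
      exact mul_mem_sup (zpow_mem (mem_zpowers g) i)
        (Cfsg.Lib.PGroups.commutator_le_frattini S.2 h1)
    refine ⟨(g : H), ?_⟩
    have h2 := congrArg (Subgroup.map (S : Subgroup H).subtype) htop
    rwa [MonoidHom.map_zpowers, ← MonoidHom.range_eq_map, range_subtype] at h2
  obtain ⟨k, hk⟩ := IsPGroup.iff_card.mp (S.2.to_quotient (commutator (S : Subgroup H)))
  have hk2 : 2 ≤ k := by
    by_contra hk2
    push Not at hk2
    refine hnc ?_
    rcases (show k = 0 ∨ k = 1 by omega) with rfl | rfl
    · haveI : Subsingleton (Abelianization S) :=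
        (Nat.card_eq_one_iff_unique.mp (hk.trans (pow_zero p))).1
      infer_instance
    · exact isCyclic_of_prime_card (hk.trans (pow_one p))
  exact (Nat.pow_le_pow_right hp.out.pos hk2).trans hk.ge

variable {L : Type u} [Group L] [Fintype L] (K : Subgroup L) [K.Normal]

/-- With more linear characters than twice the index plus one, the linear characters induce at least
three members. -/
theorem three_members [Fintype K] (h : 2 * K.index + 1 < Nat.card (Abelianization K)) :
    ∃ θ : Fin 3 → K → ℂ, (∀ i, Cfsg.IsIrrCharacter K (θ i) ∧ θ i ≠ (fun _ => 1) ∧ θ i 1 = 1) ∧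
      Function.Injective fun i => Cfsg.indFun K (θ i) := by
  classical
  let Lin := {l : Abelianization K →* ℂˣ // l ≠ 1}
  haveI : Fintype Lin := Fintype.ofFinite _
  let ch : Lin → K → ℂ := fun l k => ((l.1 (Abelianization.of k) : ℂˣ) : ℂ)
  have hch : ∀ l, Cfsg.IsIrrCharacter K (ch l) ∧ ch l ≠ (fun _ => 1) ∧ ch l 1 = 1 := fun l => by
    refine ⟨isIrrCharacter_linear (l.1.comp Abelianization.of), fun h1 => l.2 ?_, by simp [ch]⟩
    refine MonoidHom.ext fun a => ?_
    obtain ⟨k, rfl⟩ := QuotientGroup.mk'_surjective _ a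
    exact Units.ext (congrFun h1 k)
  have hinj : Function.Injective ch := fun l l' h1 => Subtype.ext (MonoidHom.ext fun a => by
    obtain ⟨k, rfl⟩ := QuotientGroup.mk'_surjective _ a
    exact Units.ext (congrFun h1 k))
  set F := fun l : Lin => Cfsg.indFun K (ch l)
  have hfib : ∀ η : L → ℂ, (Finset.univ.filter fun l : Lin => F l = η).card ≤ K.index := by
    intro η
    rcases (Finset.univ.filter fun l : Lin => F l = η).eq_empty_or_nonempty with he | ⟨l₀, hl₀⟩
    · simp [he]
    have e0 := (Finset.mem_filter.mp hl₀).2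
    refine (Finset.card_le_card_of_injOn ch (t := conjOrbit K (ch l₀)) (fun l hl => ?_)
      hinj.injOn).trans ?_
    · have e := (Finset.mem_filter.mp (Finset.mem_coe.mp hl)).2
      rw [Finset.mem_coe, mem_conjOrbit]
      by_contra hno
      push Not at hno
      have h1 := classInner_indFun_eq_card K (hch l₀).1 (hch l).1
      haveI : IsEmpty {g : L // conjN K g (ch l₀) = ch l} := ⟨fun g => hno g.1 g.2⟩
      rw [Nat.card_of_isEmpty (α := {g : L // conjN K g (ch l₀) = ch l}), Nat.cast_zero, show Cfsg.indFun K (ch l) = Cfsg.indFun K (ch l₀) from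
        e.trans e0.symm, classInner_indFun_eq_card K (hch l₀).1 (hch l₀).1, Nat.cast_eq_zero] at h1
      haveI : Nonempty {g : L // conjN K g (ch l₀) = ch l₀} := ⟨⟨1, conjN_one K _⟩⟩
      exact Nat.card_pos.ne' h1
    · have h2 := card_conjOrbit K (ch l₀)
      have h3 : Nat.card K ≤ Nat.card (inertia K (ch l₀)) :=
        card_le_of_le (le_inertia (isClassFunction_isChar (isCharacter_of_irr (hch l₀).1)))
      refine Nat.le_of_mul_le_mul_right ?_ (Nat.card_pos (α := K))
      calc (conjOrbit K (ch l₀)).card * Nat.card K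
          ≤ (conjOrbit K (ch l₀)).card * Nat.card (inertia K (ch l₀)) := Nat.mul_le_mul_left _ h3
        _ = K.index * Nat.card K := by rw [h2, mul_comm, card_mul_index]
  have hcard : 2 < (Finset.univ.image F).card := by
    by_contra hle
    push Not at hle
    have h1 := Finset.card_eq_sum_card_image F Finset.univ
    have h2 : Fintype.card Lin ≤ 2 * K.index := by
      rw [← Finset.card_univ, h1]
      refine (Finset.sum_le_card_nsmul _ _ _ fun η _ => hfib η).trans ?_
      rw [smul_eq_mul]
      exact Nat.mul_le_mul_right _ hle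
    have h3 : Fintype.card Lin + 1 = Nat.card (Abelianization K) := by
      haveI := Fintype.ofFinite (Abelianization K →* ℂˣ)
      have hpos : 0 < Fintype.card (Abelianization K →* ℂˣ) := Fintype.card_pos
      rw [← Cfsg.Lib.Dual.card_hom (A := Abelianization K) mul_comm, Nat.card_eq_fintype_card,
        Fintype.card_subtype_compl, Fintype.card_subtype_eq]
      omega
    omega
  obtain ⟨a, ha, b, hb, c, hc, hab, hac, hbc⟩ := Finset.two_lt_card.mp hcard
  obtain ⟨la, -, rfl⟩ := Finset.mem_image.mp ha
  obtain ⟨lb, -, rfl⟩ := Finset.mem_image.mp hb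
  obtain ⟨lc, -, rfl⟩ := Finset.mem_image.mp hc
  refine ⟨![ch la, ch lb, ch lc], fun i => ?_, fun i j hij => ?_⟩
  · fin_cases i <;> exact hch _
  · fin_cases i <;> fin_cases j <;> simp_all [F]

end Cfsg.Agent.PF
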