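import Cfsg.Agent.OddChar.PF.Sec08Types

/-!
# Peterfalvi, section 8: the Dade hypothesis for the supports of a maximal subgroup
-/

set_option linter.unusedSectionVars false
set_option linter.unusedVariables false
set_option linter.style.haveILetI false
set_option autoImplicit false

namespace Cfsg.Agent.PF

open Subgroup
open Cfsg.Lib.OddLocal
open Cfsg.Lib.OddLocal.Sigma
open Cfsg.Lib.OddLocal.RankTwoMax
open Cfsg.Lib.Coprime (conjMap)

universe u

variable {G : Type u} [Group G] [Finite G] {M : Subgroup G}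

theorem supportR_of_le {x : G} (h : centralizer ({x} : Set G) ≤ M) : Cfsg.supportR M x = ⊥ :=
  dif_neg fun h' => h'.1 h

theorem exists_supportR_eq {x : G} (h : ¬ centralizer ({x} : Set G) ≤ M)
    (hu : ∃! L : Subgroup G, IsCoatom L ∧ centralizer ({x} : Set G) ≤ L) :
    ∃ L : Subgroup G, IsCoatom L ∧ centralizer ({x} : Set G) ≤ L ∧
      Cfsg.supportR M x = Cfsg.fittingHallOf L ⊓ centralizer ({x} : Set G) := by
  have hs := Classical.choose_spec hu.exists
  exact ⟨_, hs.1, hs.2, dif_pos ⟨h, hu⟩⟩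

/-- A set between `A₁(M)` and `M` that `M` normalises has normaliser `M`. -/
theorem normalizer_eq_of_subset (hG : Cfsg.IsMinSimpleOddOrder G) (h : TypeFacts G)
    (hM : IsCoatom M) {A : Set G} (h1 : Cfsg.typeA1 M ⊆ A) (hA : A ⊆ (M : Set G))
    (hconj : ∀ m ∈ M, ∀ a ∈ A, m * a * m⁻¹ ∈ A) : normalizer A = M := by
  have hle : M ≤ normalizer A := by
    intro m hm
    rw [mem_set_normalizer_iff]
    refine fun y => ⟨fun hy => hconj m hm y hy, fun hy => ?_⟩
    have := hconj m⁻¹ (inv_mem hm) _ hy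
    simpa [mul_assoc] using this
  rcases hle.lt_or_eq with hlt | heq
  · exfalso
    have htop : normalizer A = ⊤ := hM.2 _ hlt
    haveI := hG.2.1
    have hn : (closure A).Normal := by
      refine ⟨fun y hy g => ?_⟩
      induction hy using closure_induction with
      | mem a ha => exact subset_closure ((mem_set_normalizer_iff.mp (htop ▸ mem_top g) a).mp ha)
      | one => simp
      | mul a b _ _ iha ihb => simpa [mul_assoc] using mul_mem iha ihb
      | inv a _ ih => simpa [mul_assoc] using inv_mem ih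
    have hsub : closure A ≤ M := (closure_le M).mpr hA
    rcases hn.eq_bot_or_eq_top with hb | ht
    · refine typeCore_ne_bot hG h hM (eq_bot_iff.mpr fun x hx => ?_)
      by_contra hx1
      have : x ∈ closure A := subset_closure (h1 ⟨hx, fun he => hx1 (mem_bot.mpr he)⟩)
      rw [hb] at this
      exact hx1 this
    · exact hM.1 (top_le_iff.mp (ht ▸ hsub))
  · exact heq.symm

theorem conj_im_eq {m : G} (hm : m ∈ M) : TypeMap.im (MulAut.conj m) M = M :=
  Cfsg.Lib.Coprime.conjMap_eq_self (Subgroup.le_normalizer hm)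

theorem conj_mem_typeA {m a : G} (hm : m ∈ M) (ha : a ∈ typeA' M) :
    m * a * m⁻¹ ∈ typeA' M := by
  have := (TypeMap.typeA'_mem (MulAut.conj m) M a).mpr ha
  rwa [conj_im_eq hm, MulAut.conj_apply] at this

theorem conj_mem_typeA0 {m a : G} (hm : m ∈ M) (ha : a ∈ typeA0' M) :
    m * a * m⁻¹ ∈ typeA0' M := by
  have := (TypeMap.typeA0'_mem (MulAut.conj m) M a).mpr ha
  rwa [conj_im_eq hm, MulAut.conj_apply] at this

theorem conj_mem_typeA1 {m a : G} (hm : m ∈ M) (ha : a ∈ Cfsg.typeA1 M) :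
    m * a * m⁻¹ ∈ Cfsg.typeA1 M := by
  have h1 : (MulAut.conj m) a ∈ (MulAut.conj m) '' Cfsg.typeA1 M := ⟨a, ha, rfl⟩
  rw [← TypeMap.typeA1_im, conj_im_eq hm, MulAut.conj_apply] at h1
  exact h1

/-- The Dade hypothesis for any invariant part of `A(M)` or `A₀(M)`. -/
theorem dadeHypothesis_of (hG : Cfsg.IsMinSimpleOddOrder G) (h91 : P1391' G) (hM : IsCoatom M)
    {A X : Set G} (hX : X = typeA' M ∨ X = typeA0' M) (hAX : A ⊆ X)
    (hconj : ∀ m ∈ M, ∀ a ∈ A, m * a * m⁻¹ ∈ A) :
    Cfsg.DadeHypothesis A M (Cfsg.supportR M) := by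
  have hX1 : (1 : G) ∉ X := by
    rcases hX with rfl | rfl
    · exact one_not_mem_typeA M
    · exact one_not_mem_typeA0 M
  have hXM : X ⊆ (M : Set G) := by
    rcases hX with rfl | rfl
    · exact typeA_subset M
    · exact typeA0_subset M
  obtain ⟨hfus, hD, hL⟩ := h91 M hM X hX
  refine ⟨fun h1 => hX1 (hAX h1), hAX.trans hXM, hconj, fun a ha g hg => hfus a (hAX ha) g (hAX hg),
    fun a ha => ?_, fun a ha => ?_, fun a ha => ?_, fun a ha => ?_, fun a ha b hb => ?_⟩
  all_goals by_cases hle : centralizer ({a} : Set G) ≤ M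
  · rw [supportR_of_le hle]; exact bot_le
  · obtain ⟨L, hLm, hCL, hR⟩ := exists_supportR_eq hle (hD a (hAX ha) hle).2
    rw [hR]; exact inf_le_right
  · intro c hc u hu
    rw [supportR_of_le hle, mem_bot] at hu ⊢
    simp [hu]
  · obtain ⟨L, hLm, hCL, hR⟩ := exists_supportR_eq hle (hD a (hAX ha) hle).2
    obtain ⟨-, hn, -⟩ := hL a (hAX ha) hle L hLm hCL
    intro c hc u hu
    rw [hR] at hu ⊢
    exact (mem_normalizer_iff.mp (hn hc) u).mp hu
  · rw [supportR_of_le hle, bot_inf_eq]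
  · obtain ⟨L, hLm, hCL, hR⟩ := exists_supportR_eq hle (hD a (hAX ha) hle).2
    obtain ⟨-, -, hc, -⟩ := hL a (hAX ha) hle L hLm hCL
    rw [hR]; exact hc.2.2.1
  · rw [supportR_of_le hle, bot_sup_eq]
    exact inf_eq_right.mpr hle
  · obtain ⟨L, hLm, hCL, hR⟩ := exists_supportR_eq hle (hD a (hAX ha) hle).2
    obtain ⟨-, -, hc, -⟩ := hL a (hAX ha) hle L hLm hCL
    rw [hR]
    refine le_antisymm (sup_le hc.1 hc.2.1) fun c hc' => ?_
    obtain ⟨r, hr, s, hs, rfl⟩ := hc.2.2.2 c hc'
    exact mul_mem_sup hr hs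
  · rw [supportR_of_le hle, Subgroup.card_bot]; exact Nat.coprime_one_left _
  · obtain ⟨L, hLm, hCL, hR⟩ := exists_supportR_eq hle (hD a (hAX ha) hle).2
    obtain ⟨-, -, -, hcop, -⟩ := hL a (hAX ha) hle L hLm hCL
    rw [hR]
    exact (hcop b (hAX hb)).coprime_dvd_left (card_dvd_of_le inf_le_left)

/-- Statement 1537 for the primed sets. -/
def P1537' (G : Type u) [Group G] [Finite G] : Prop :=
  ∀ (M : Subgroup G), IsCoatom M → ∀ A : Set G,
    (A = Cfsg.typeA1 M ∨ A = typeA' M ∨ A = typeA0' M) →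
    Subgroup.normalizer A = M ∧ Cfsg.DadeHypothesis A M (Cfsg.supportR M)

/-- Statement 1538 for the primed sets. -/
def P1538' (G : Type u) [Group G] [Finite G] : Prop :=
  ∀ (M : Subgroup G), IsCoatom M → Cfsg.IsOfTypeII M →
    (Cfsg.IsTISubset (typeA0' M) ∧ Subgroup.normalizer (typeA0' M) = M) ∧
    (Cfsg.IsTISubset (typeA' M) ∧ Subgroup.normalizer (typeA' M) = M) ∧
    (Cfsg.IsTISubset (Cfsg.typeA1 M) ∧ Subgroup.normalizer (Cfsg.typeA1 M) = M)

theorem P1537'.frozen (h : P1537' G) (hg : NoGap G) : P1537 G := by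
  intro M hM A hA
  rw [← hg.typeA_eq hM, ← hg.typeA0_eq hM] at hA
  exact h M hM A hA

theorem P1538'.frozen (h : P1538' G) (hg : NoGap G) : P1538 G := by
  intro M hM hII
  rw [← hg.typeA_eq hM, ← hg.typeA0_eq hM]
  exact h M hM hII

/-- Statement 1537 from the local analysis. -/
theorem p1537_of (hG : Cfsg.IsMinSimpleOddOrder G) (h : TypeFacts G) (h91 : P1391' G) :
    P1537' G := by
  intro M hM A hA
  rcases hA with rfl | rfl | rfl
  · exact ⟨normalizer_eq_of_subset hG h hM subset_rfl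
      ((typeA1_subset_typeA hG h hM).trans (typeA_subset M)) fun m hm a ha => conj_mem_typeA1 hm ha,
      dadeHypothesis_of hG h91 hM (Or.inl rfl) (typeA1_subset_typeA hG h hM)
        fun m hm a ha => conj_mem_typeA1 hm ha⟩
  · exact ⟨normalizer_eq_of_subset hG h hM (typeA1_subset_typeA hG h hM) (typeA_subset M)
      fun m hm a ha => conj_mem_typeA hm ha,
      dadeHypothesis_of hG h91 hM (Or.inl rfl) subset_rfl fun m hm a ha => conj_mem_typeA hm ha⟩
  · exact ⟨normalizer_eq_of_subset hG h hM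
      ((typeA1_subset_typeA hG h hM).trans (typeA_subset_typeA0 M)) (typeA0_subset M)
      fun m hm a ha => conj_mem_typeA0 hm ha,
      dadeHypothesis_of hG h91 hM (Or.inr rfl) subset_rfl fun m hm a ha => conj_mem_typeA0 hm ha⟩

/-- In a maximal subgroup of Type II every centraliser of an element of `A₀` stays inside. -/
theorem centralizer_le_of_typeII (hG : Cfsg.IsMinSimpleOddOrder G) (h : TypeFacts G) (h91 : P1391' G)
    (hM : IsCoatom M) (hII : Cfsg.IsOfTypeII M) {x : G} (hx : x ∈ typeA0' M) :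
    centralizer ({x} : Set G) ≤ M := by
  by_contra hle
  obtain ⟨⟨hxc, hx1⟩, -⟩ := (h91 M hM _ (Or.inr rfl)).2.1 x hx hle
  have hx1' : x ≠ 1 := hx1
  rw [typeCore_of_I_II hG h hM (Or.inr hII)] at hxc
  have hxF := Cfsg.Lib.FittingHall.fittingHallOf_le_fittingOf M hxc
  obtain ⟨-, -, -, -, -, -, hTI, -⟩ := hII
  have hFne : Cfsg.fittingOf M ≠ ⊥ := fun h0 => hx1' (mem_bot.mp (h0 ▸ hxF))
  have hN : normalizer (Cfsg.fittingOf M : Set G) = M :=
    normalizer_eq hG hM hFne (map_subtype_le _) (by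
      intro m hm
      rw [← Cfsg.Lib.Coprime.conjMap_eq_self_iff]
      have := TypeMap.fittingOf_im (MulAut.conj m) M
      rw [conj_im_eq hm] at this
      exact this.symm)
  refine hle fun c hc => ?_
  by_contra hcM
  refine hx1' (hTI c (hN.symm ▸ hcM) x hxF ?_)
  rw [mem_centralizer_singleton_iff] at hc
  rw [hc, mul_inv_cancel_right]
  exact hxF

/-- Statement 1538 from the local analysis. -/
theorem p1538_of (hG : Cfsg.IsMinSimpleOddOrder G) (h : TypeFacts G) (h91 : P1391' G) :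
    P1538' G := by
  intro M hM hII
  have key : ∀ A : Set G, A = Cfsg.typeA1 M ∨ A = typeA' M ∨ A = typeA0' M →
      Cfsg.IsTISubset A ∧ normalizer A = M := by
    intro A hA
    obtain ⟨hN, hD⟩ := p1537_of hG h h91 M hM A hA
    have hA0 : A ⊆ typeA0' M := by
      rcases hA with rfl | rfl | rfl
      · exact (typeA1_subset_typeA hG h hM).trans (typeA_subset_typeA0 M)
      · exact typeA_subset_typeA0 M
      · exact subset_rfl
    refine ⟨fun g hg x hx hgx => ?_, hN⟩
    exfalso
    obtain ⟨m, hm, he⟩ := hD.fusion x hx g hgx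
    rw [hN] at hg
    have hc : m⁻¹ * g ∈ centralizer ({x} : Set G) := by
      rw [mem_centralizer_singleton_iff]
      calc m⁻¹ * g * x = m⁻¹ * (g * x * g⁻¹) * g := by group
        _ = m⁻¹ * (m * x * m⁻¹) * g := by rw [he]
        _ = x * (m⁻¹ * g) := by group
    have := mul_mem hm (centralizer_le_of_typeII hG h h91 hM hII (hA0 hx) hc)
    rw [mul_inv_cancel_left] at this
    exact hg this
  exact ⟨key _ (Or.inr (Or.inr rfl)), key _ (Or.inr (Or.inl rfl)), key _ (Or.inl rfl)⟩

end Cfsg.Agent.PF
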