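import Cfsg.Agent.OddChar.PF.S12IndCoherent
import Cfsg.Agent.OddChar.PF.S12Coherent
import Cfsg.Agent.OddChar.PF.Sec08Dade

/-!
# Section 12: the hypothesis (12.1) for a maximal subgroup of Type I
-/

set_option linter.style.haveILetI false
set_option linter.unusedSectionVars false
set_option linter.unusedVariables false

universe u

namespace Cfsg.Agent.PF

open Subgroup
open Cfsg.Lib.Chars

variable {G : Type u} [Group G] {M : Subgroup G}

theorem mem_typeA'_iff (hI : IsTypeI' M) {a : M} :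
    (a : G) ∈ typeA' M ↔ a ≠ 1 ∧ HasFix (Cfsg.fittingHall M) a := by
  simp only [typeA', if_pos hI, Set.mem_ofPred_eq, HasFix]
  constructor
  · rintro ⟨-, ha1, x, hx, hx1, hax⟩
    refine ⟨fun h => ha1 (by rw [h]; rfl), ⟨x, map_subtype_le _ hx⟩, mem_fittingHall_iff.mpr hx,
      fun h => hx1 (congrArg Subtype.val h), Subtype.ext hax⟩
  · rintro ⟨ha1, k, hk, hk1, hak⟩
    exact ⟨a.2, fun h => ha1 (Subtype.ext h), k, mem_fittingHall_iff.mp hk,
      fun h => hk1 (Subtype.ext h), congrArg Subtype.val hak⟩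

variable [Finite G]

/-- Two elements with fixed points on `M_F` commute modulo `M_F`. -/
theorem commutator_mem_of_fix (hI : IsTypeI' M) {x y : M} (hx : HasFix (Cfsg.fittingHall M) x)
    (hy : HasFix (Cfsg.fittingHall M) y) : x * y * x⁻¹ * y⁻¹ ∈ Cfsg.fittingHall M := by
  classical
  haveI : Fintype M := Fintype.ofFinite M
  obtain ⟨⟨-, -, -, -, U, -, hU, ⟨U₁, -, -, hab, hU₁⟩, -⟩, -⟩ := hI
  set K := Cfsg.fittingHall M
  haveI := Fintype.ofFinite K
  have hdec : ∀ z : M, HasFix K z → ∃ u ∈ U₁, ∃ k ∈ K, z = k * u := by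
    intro z hz
    obtain ⟨⟨k, u⟩, hku⟩ := hU.2 z
    obtain ⟨θ, hθ, hθ1, hfix⟩ :=
      (Cfsg.Agent.S1536.result K Cfsg.Lib.FittingHall.fittingHall_coprime z).mpr hz
    have hz' : conjN K z θ = θ := hfix
    have hk : (k : M) ∈ inertia K θ :=
      le_inertia (isClassFunction_isChar (isCharacter_of_irr hθ)) k.2
    have hu : (u : M) ∈ inertia K θ := by
      have : z ∈ inertia K θ := mem_inertia.mpr hz'
      rw [← hku] at this
      simpa using mul_mem (inv_mem hk) this
    obtain ⟨c, hc, hc1, hcu⟩ := (Cfsg.Agent.S1536.result K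
      Cfsg.Lib.FittingHall.fittingHall_coprime (u : M)).mp ⟨θ, hθ, hθ1, mem_inertia.mp hu⟩
    exact ⟨u, hU₁ c hc hc1 ⟨u.2, mem_centralizer_singleton_iff.mpr hcu⟩, k, k.2, hku.symm⟩
  obtain ⟨u, hu, k, hk, rfl⟩ := hdec x hx
  obtain ⟨v, hv, l, hl, rfl⟩ := hdec y hy
  have huv : u * v = v * u :=
    congrArg Subtype.val (hab.is_comm.comm (⟨u, hu⟩ : U₁) ⟨v, hv⟩)
  rw [← QuotientGroup.eq_one_iff (N := K)]
  show QuotientGroup.mk' K (k * u * (l * v) * (k * u)⁻¹ * (l * v)⁻¹) = 1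
  have h1 : QuotientGroup.mk' K k = 1 := (QuotientGroup.eq_one_iff k).mpr hk
  have h2 : QuotientGroup.mk' K l = 1 := (QuotientGroup.eq_one_iff l).mpr hl
  simp only [map_mul, map_inv, h1, h2, one_mul]
  rw [← map_mul, huv, map_mul]
  group

/-- The hypothesis (12.1). -/
theorem kernelSetting_of (hG : Cfsg.IsMinSimpleOddOrder G) (hT : TypeFacts G) (h91 : P1391' G)
    (hM : IsCoatom M) (hI : IsTypeI' M) :
    KernelSetting M (typeA' M) (Cfsg.supportR M) (Cfsg.fittingHall M) where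
  dade := (p1537_of hG hT h91 M hM _ (Or.inr (Or.inl rfl))).2
  odd := hI.1.2.1
  normal := inferInstance
  cop := Cfsg.Lib.FittingHall.fittingHall_coprime
  ne_bot := hI.1.2.2.1
  mem a := mem_typeA'_iff hI
  abel x y hx hy := commutator_mem_of_fix hI hx hy
  out a ha haK := by
    refine supportR_of_le ?_
    by_contra hle
    have h1 := ((h91 M hM _ (Or.inl rfl)).2.1 (a : G) ha hle).1
    rw [Cfsg.typeA1, typeCore_of_I_II hG hT hM (Or.inl hI)] at h1
    exact haK (mem_fittingHall_iff.mpr h1.1)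

end Cfsg.Agent.PF
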