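import Cfsg.Agent.OddChar.PF.S12Coherent
import Cfsg.Agent.OddChar.PF.Sec08Dade
import Cfsg.Agent.OddChar.PF.Interface

/-!
# Section 12: statement 1542 from the local analysis
-/

set_option linter.style.haveILetI false
set_option linter.unusedSectionVars false

universe u

namespace Cfsg.Agent.PF

open Subgroup

variable {G : Type u} [Group G]

theorem typeA_eq_typeA' {L : Subgroup G} [Finite L] [Finite G] (hI : Cfsg.IsOfTypeI L) :
    Cfsg.typeA L = typeA' L := by
  unfold Cfsg.typeA typeA'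
  rw [if_pos hI, if_pos (isTypeI'_of hI)]

theorem dade_kernel [Finite G] (hG : Cfsg.IsMinSimpleOddOrder G) (hT : TypeFacts G)
    (h91 : P1391' G) {L : Subgroup G} (hL : IsCoatom L) (hI : IsTypeI' L) (h : FrobKer L) :
    Cfsg.DadeHypothesis ((Cfsg.fittingHallOf L : Set G) \ {1}) L (Cfsg.supportR L) := by
  rw [← typeA'_eq_of_frob hI h]
  exact (p1537_of hG hT h91 L hL _ (Or.inr (Or.inl rfl))).2

/-- (12.6). -/
theorem p1542_of [Fintype G] (hG : Cfsg.IsMinSimpleOddOrder G) (hT : TypeFacts G)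
    (h91 : P1391' G) : P1542 G := by
  intro L _ hL hI hfrob
  have h : FrobKer L := hfrob
  refine ⟨frob_irr h, ?_⟩
  rw [typeA_eq_typeA' hI, typeA'_eq_of_frob (isTypeI'_of hI) h]
  exact frobenius_coherent hG hL (isTypeI'_of hI) h (dade_kernel hG hT h91 hL (isTypeI'_of hI) h)

end Cfsg.Agent.PF
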