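import Cfsg.Agent.OddChar.PF.S12ConfigIndex
import Cfsg.Agent.OddChar.PF.S12Setting
import Cfsg.Agent.OddChar.PF.S12TypeI
import Cfsg.Agent.OddChar.PF.S12Linear
import Cfsg.Agent.OddChar.PF.S12Extension
import Cfsg.Agent.OddChar.PF.S07Coherent
import Cfsg.Agent.Frobenius.Complement
import Cfsg.Agent.S1494
import Cfsg.Agent.S1495

/-!
# Section 12: the character argument (12.15), (12.16)

The configuration of the least witness prime is impossible, so a maximal subgroup of Type I is a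
Frobenius group.
-/

set_option linter.style.haveILetI false
set_option linter.unusedSectionVars false
set_option linter.unusedVariables false

universe u

namespace Cfsg.Agent.PF

open Subgroup
open Cfsg.Lib.OddLocal
open Cfsg.Lib.OddLocal.RankTwoMax
open Cfsg.Lib.Chars
open Cfsg.Lib.Coprime (conjMap)

variable {G : Type u} [Group G]

theorem dadeSupp_eq_tilde (M : Subgroup G) (A : Set G) :
    dadeSupp A (Cfsg.supportR M) = Cfsg.tildeOf M A := by
  ext g
  constructor
  · rintro ⟨a, ha, u, hu, x, hx⟩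
    exact ⟨a, ha, u, hu, x⁻¹, by rw [← hx]; group⟩
  · rintro ⟨a, ha, u, hu, y, rfl⟩
    exact ⟨a, ha, u, hu, y⁻¹, by group⟩

variable [Finite G] {M L A : Subgroup G} {p : ℕ} {x : G}

/-- A complement whose Frobenius kernel is `M_F` makes `M` a Frobenius group. -/
theorem frobKer_of_complement {E : Subgroup M} (hE : Cfsg.IsFrobeniusComplement E)
    (hk : Cfsg.frobeniusKernel E = ((Cfsg.fittingHall M : Subgroup M) : Set M)) : FrobKer M := by
  rintro k hk' hk1 c ⟨hcM, hck⟩
  by_contra hcK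
  set k' : M := ⟨k, Cfsg.Lib.FittingHall.fittingHallOf_le M hk'⟩
  set c' : M := ⟨c, hcM⟩
  have hk'K : k' ∈ Cfsg.frobeniusKernel E := by rw [hk]; exact mem_fittingHall_iff.mpr hk'
  have hc'K : c' ∉ Cfsg.frobeniusKernel E := by
    rw [hk]; exact fun h => hcK (mem_fittingHall_iff.mp h)
  rw [Cfsg.Lib.Frobenius.mem_kernel_iff] at hc'K
  push Not at hc'K
  obtain ⟨hc1, g, hg⟩ := hc'K
  have hg' : g⁻¹ * c' * g ∈ E := Cfsg.Lib.Coprime.mem_conjMap.mp hg
  have hcomm : c' * k' = k' * c' := Subtype.ext (mem_centralizer_singleton_iff.mp hck)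
  have hkE : g⁻¹ * k' * g ∈ E := Cfsg.Lib.Frobenius.mem_of_commute hE hg'
    (fun h => hc1 (by rw [show c' = g * (g⁻¹ * c' * g) * g⁻¹ by group, h]; group))
    (by calc g⁻¹ * k' * g * (g⁻¹ * c' * g) = g⁻¹ * (k' * c') * g := by group
          _ = g⁻¹ * (c' * k') * g := by rw [hcomm]
          _ = g⁻¹ * c' * g * (g⁻¹ * k' * g) := by group)
  exact hk1 (congrArg Subtype.val (Cfsg.Lib.Frobenius.eq_one_of_mem_kernel hk'K
    (Cfsg.Lib.Coprime.mem_conjMap.mpr hkE : k' ∈ conjMap g E)))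

/-- The sets `Ã` of the cores of two maximal subgroups that are not conjugate are disjoint. -/
theorem not_mem_supp (hG : Cfsg.IsMinSimpleOddOrder G) (h : SupportFacts G) {N : Subgroup G}
    (hL : IsCoatom L) (hLI : IsTypeI' L) (hN : IsCoatom N) (hNI : IsTypeI' N)
    (hnc : ∀ g : G, N.map (MulAut.conj g).toMonoidHom ≠ L) {a u : G}
    (ha : a ∈ Cfsg.fittingHallOf N) (ha1 : a ≠ 1) (hu : u ∈ Cfsg.supportR N a) :
    a * u ∉ dadeSupp ((Cfsg.fittingHallOf L : Set G) \ {1}) (Cfsg.supportR L) := by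
  intro hmem
  rw [dadeSupp_eq_tilde] at hmem
  have hdis := h.p1379.1 N L hN hL fun g e => hnc g e.symm
  have hcL : Cfsg.fittingHallOf L = Cfsg.sigmaCore L := by
    rw [← typeCore_of_I_II hG h.types hL (Or.inl hLI), typeCore_eq_sigmaCore hG h.types hL]
  have hcN : Cfsg.fittingHallOf N = Cfsg.sigmaCore N := by
    rw [← typeCore_of_I_II hG h.types hN (Or.inl hNI), typeCore_eq_sigmaCore hG h.types hN]
  rw [← hcN, ← hcL] at hdis
  exact (Set.eq_empty_iff_forall_notMem.mp hdis) (a * u)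
    ⟨⟨a, ⟨ha, ha1⟩, u, hu, 1, by simp⟩, hmem⟩

variable [Fintype G]

namespace Config

/-- (12.16): the configuration of the least witness prime does not occur. -/
theorem false (hG : Cfsg.IsMinSimpleOddOrder G) (f : S12Facts G) (c : Config M L A p x) : False := by
  classical
  haveI := Fintype.ofFinite L
  haveI := Fintype.ofFinite M
  haveI := Fact.mk c.prime
  have h := f.support
  have hT := h.types
  have hM := c.witness.coatom
  have hMI := c.witness.typeI
  have hLI := c.typeI hG f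
  have hfr := c.frob hG f
  have hC := hfr.centralizer_le
  set H := Cfsg.fittingHall L with hHdef
  set K := Cfsg.fittingHall M with hKdef
  haveI := Fintype.ofFinite H
  haveI := Fintype.ofFinite K
  set AL : Set G := (Cfsg.fittingHallOf L : Set G) \ {1} with hAL
  have hD : Cfsg.DadeHypothesis AL L (Cfsg.supportR L) :=
    dade_kernel hG hT h.p1391 c.coatom hLI hfr
  have hP : IsPunctured AL L H := isPunctured_kernel
  set e := H.index with he
  have he3 := c.three_le_index hG f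
  have he2 := c.two_mul_index_le hG f
  have hp5 := c.five_le hG f
  have hhp : p ^ 2 ≤ Nat.card H := Nat.le_of_dvd Nat.card_pos (c.dvd_card_kernel hG f)
  have hAH := c.le_fittingHall hG f
  have hxL : x ∈ L := Cfsg.Lib.FittingHall.fittingHallOf_le L (hAH c.mem)
  obtain ⟨-, τ₁, hτ₁, hag⟩ := frobenius_coherent hG c.coatom hLI hfr hD
  -- three members of least degree
  obtain ⟨θ, hθ, hinj⟩ := three_members H (by
    haveI : Group.IsNilpotent H := by
      haveI := fittingHallOf_nilpotent L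
      exact (Group.isNilpotent_congr (H.equivMapOfInjective _ L.subtype_injective).symm).mp this
    set A' : Subgroup H := (A.subgroupOf L).subgroupOf H
    have hA'c : Nat.card A' = p ^ 2 := by
      rw [← c.card, Nat.card_congr (subgroupOfEquivOfLe
        (fun a ha => mem_fittingHall_iff.mpr (hAH ha))).toEquiv,
        Nat.card_congr (subgroupOfEquivOfLe (hAH.trans (Cfsg.Lib.FittingHall.fittingHallOf_le L))).toEquiv]
    obtain ⟨S, hS⟩ := (IsPGroup.of_card hA'c).exists_le_sylow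
    have hnc : ¬ IsCyclic (S : Subgroup H) := fun hcyc => by
      haveI : IsCyclic A' := isCyclic_of_injective (inclusion hS) (inclusion_injective _)
      refine not_isCyclic_sq c.ea c.card ?_
      have hle : A ≤ L := hAH.trans (Cfsg.Lib.FittingHall.fittingHallOf_le L)
      exact isCyclic_of_surjective ((subgroupOfEquivOfLe hle).toMonoidHom.comp
        (subgroupOfEquivOfLe (fun a ha => mem_fittingHall_iff.mpr (hAH ha) :
          A.subgroupOf L ≤ H)).toMonoidHom)
        ((subgroupOfEquivOfLe hle).surjective.comp (subgroupOfEquivOfLe _).surjective)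
    have := sq_le_card_abelianization S hnc
    nlinarith)
  set θ₀ := θ 0 with hθ₀
  set ζ := Cfsg.indFun H θ₀ with hζ
  have hζL : LinInd H ζ := ⟨θ₀, (hθ 0).1, (hθ 0).2.1, (hθ 0).2.2, rfl⟩
  set ψ := τ₁ ζ with hψdef
  have hψ : IsSignedIrr G ψ := tau_signed hτ₁ hC hζL
  have hψc := isClassFunction_generalized hψ.generalized
  have hint : ∀ g, g ∉ dadeSupp AL (Cfsg.supportR L) → ∃ n : ℤ, ψ g = n := fun g hg =>
    signed_value_int hψ (tau_fixed hτ₁ hag hC θ hθ hinj hζL hg)
  have hreal : ∀ g, g ∉ dadeSupp AL (Cfsg.supportR L) → (ψ - Cfsg.conjFun ψ) g = 0 := fun g hg => by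
    obtain ⟨n, hn⟩ := hint g hg
    simp [Cfsg.conjFun, hn]
  -- orthogonality to the other groups of Type I
  have hoth : ∀ N : Subgroup G, IsCoatom N → IsTypeI' N →
      (∀ g : G, N.map (MulAut.conj g).toMonoidHom ≠ L) → ∀ [Fintype N],
      OrthTo (M := N) (typeA' N) (Cfsg.supportR N) (Cfsg.fittingHall N) ψ := by
    intro N hN hNI hnc _
    exact orth_of_vanish (kernelSetting_of hG hT h.p1391 hN hNI) hψ fun a ha ha1 u hu =>
      hreal _ (not_mem_supp hG h c.coatom hLI hN hNI hnc (mem_fittingHall_iff.mp ha)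
        (fun e => ha1 (Subtype.ext e)) hu)
  have hncM := c.conj_ne hG hT
  have hoM := hoth M hM hMI hncM
  have hSM := kernelSetting_of hG hT h.p1391 hM hMI
  -- the constant of `rho` at `L` is zero
  have hgen := hψ.generalized
  obtain ⟨c₀, hc₀⟩ := rho_coherent hD hP hτ₁ hag (Cfsg.Lib.Coherence.subset_zspan hζL.mem)
  obtain ⟨n₀, hn₀⟩ := rho_coherent_int hD hP hgen (hθ 0).1 (hθ 0).2.1 (hθ 0).2.2 hc₀
  have hnorm : Cfsg.classInner ψ ψ = 1 := hψ.inner_self
  have hζ1 : Cfsg.classInner ζ ζ = 1 :=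
    classInner_self_irr (isIrr_indFun_of_centralizer_le H hC (hθ 0).1 (hθ 0).2.1)
  have hLcard : (Nat.card L : ℝ) = (Nat.card H : ℝ) * e := by
    rw [he, ← Nat.cast_mul, card_mul_index]
  have hsum : ∀ r : ℝ, (∀ a : L, (a : G) ∈ AL → rho AL L (Cfsg.supportR L) ψ a = ζ a + r) →
      ∑ a : L, ‖rho AL L (Cfsg.supportR L) ψ a‖ ^ 2 =
        (Nat.card L : ℝ) - (e : ℝ) ^ 2 - 2 * r * e + r ^ 2 * ((Nat.card H : ℝ) - 1) := by
    intro r hr
    have hm := mass_shift hP (hθ 0).1 (hθ 0).2.1 (hθ 0).2.2 r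
    rw [← hζ, hζ1, Complex.one_re, mul_one] at hm
    rw [← hm, finsum_mem_eq_finite_toFinset_sum _ (Set.toFinite _)]
    refine (Finset.sum_subset (Finset.subset_univ _) fun a _ ha => ?_).symm.trans
      (Finset.sum_congr rfl fun a ha => by rw [hr a (by simpa using ha)])
    rw [rho_eq_zero (by simpa using ha), norm_zero, zero_pow two_ne_zero]
  have hc0 : c₀ = 0 := by
    rw [hn₀]
    by_contra hne
    have hn1 : n₀ ≠ 0 := fun h => hne (by simp [h])
    have hmass := rho_mass hD hψc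
    have htot : (Nat.card G : ℝ)⁻¹ * ∑ᶠ g ∈ dadeSupp AL (Cfsg.supportR L), ‖ψ g‖ ^ 2 ≤ 1 := by
      have h1 := congrArg Complex.re hnorm
      rw [classInner_self, Complex.ofReal_re, Complex.one_re] at h1
      refine le_trans (mul_le_mul_of_nonneg_left ?_ (by positivity)) h1.le
      rw [finsum_mem_eq_finite_toFinset_sum _ (Set.toFinite _)]
      exact Finset.sum_le_univ_sum_of_nonneg fun g => by positivity
    rw [hsum (n₀ : ℝ) (fun a ha => by rw [hc₀ a ha, hn₀]; push_cast; rfl),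
      inv_mul_le_iff₀ (by exact_mod_cast Nat.card_pos)] at hmass
    have hLpos : (0 : ℝ) ≤ Nat.card L := Nat.cast_nonneg _
    have h2 := mul_le_mul_of_nonneg_left htot hLpos
    rw [mul_one] at h2
    have h3 : (n₀ : ℝ) ^ 2 * ((Nat.card H : ℝ) - 1) ≤ (e : ℝ) ^ 2 + 2 * n₀ * e := by linarith
    have h4 : (e : ℝ) ^ 2 + 2 * e + 1 < (Nat.card H : ℝ) := by
      have : e ^ 2 + 2 * e + 1 < Nat.card H := by nlinarith
      exact_mod_cast this
    have h5 : (1 : ℝ) ≤ |(n₀ : ℝ)| := by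
      rw [← Int.cast_abs]; exact_mod_cast Int.one_le_abs hn1
    have h6 : (n₀ : ℝ) ≤ |(n₀ : ℝ)| := le_abs_self _
    have h7 : (n₀ : ℝ) ^ 2 = |(n₀ : ℝ)| ^ 2 := (sq_abs _).symm
    have he0 : (0 : ℝ) ≤ e := Nat.cast_nonneg _
    have hgap : 0 ≤ (Nat.card H : ℝ) - 1 - 2 * e := by nlinarith
    nlinarith [mul_le_mul_of_nonneg_left h5 (abs_nonneg (n₀ : ℝ)), mul_le_mul_of_nonneg_left h6 he0,
      mul_le_mul_of_nonneg_right (one_le_pow₀ (n := 2) h5) hgap]
  have hρL : ∀ a : L, (a : G) ∈ AL → rho AL L (Cfsg.supportR L) ψ a = ζ a := fun a ha => by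
    rw [hc₀ a ha, hc0, add_zero]
  -- the values at `x` and at the fixed points of `x`
  set K₀ := Cfsg.fittingHallOf M with hK₀
  have hxM := c.witness.mem
  have hxout : (⟨x, hxM⟩ : M) ∉ K := fun h' => c.witness.out (mem_fittingHall_iff.mp h')
  have hcoset : ∀ y : G, y ∈ K₀ → ψ (x * y) = ψ x := fun y hy => by
    have h1 := const_on_coset hSM hψ hoM (a := ⟨x, hxM⟩) hxout
      (k := ⟨y, Cfsg.Lib.FittingHall.fittingHallOf_le M hy⟩) (mem_fittingHall_iff.mpr hy)
    exact h1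
  have hψx : ψ x = ζ ⟨x, hxL⟩ := by
    have hxA : ((⟨x, hxL⟩ : L) : G) ∈ AL := ⟨hAH c.mem, c.x_ne_one⟩
    rw [← hρL _ hxA, rho_of_const hxA (c := ψ x)]
    intro u hu
    obtain ⟨-, hD', -⟩ := h.p1391 L c.coatom _ (Or.inl rfl)
    have hxA' : x ∈ typeA' L := typeA1_subset_typeA hG hT c.coatom (c.x_typeA1 hG hT)
    obtain ⟨N, hN, hCN, hR⟩ := exists_supportR_eq (c.cent hG h).1 (hD' x hxA' (c.cent hG h).1).2
    rw [c.unique hG h hN hCN] at hR
    exact hcoset u ((hR ▸ hu :) : u ∈ Cfsg.fittingHallOf M ⊓ centralizer ({x} : Set G)).1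
  set ε := Complex.exp (2 * Real.pi * Complex.I / p) with hε
  obtain ⟨ω₁, hω₁, hω₁e⟩ := Cfsg.Agent.S1494.result ζ
    ⟨ζ, 0, IsCharacter.indFun (isCharacter_of_irr (hθ 0).1), isCharacter_zero, (sub_zero ζ).symm⟩
    p c.prime ⟨x, hxL⟩ 1 ((Subgroup.orderOf_coe (⟨x, hxL⟩ : L)).symm.trans c.witness.order) (by simp)
  rw [mul_one] at hω₁e
  have hζone : ζ 1 = (e : ℂ) := by rw [hζ, indFun_one, hθ₀, (hθ 0).2.2, mul_one, ← he]
  obtain ⟨y₀, hy₀, hy₀K, hy₀x⟩ := c.outer
  have hy₀1 : y₀ ≠ 1 := fun h' => hy₀K (h' ▸ one_mem _)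
  have hnot : ∀ y ∈ K₀, y ≠ 1 → y ∉ dadeSupp AL (Cfsg.supportR L) := fun y hy hy1 => by
    have := not_mem_supp hG h c.coatom hLI hM hMI hncM hy hy1 (one_mem (Cfsg.supportR M y))
    rwa [mul_one] at this
  obtain ⟨n, hn⟩ := hint y₀ (hnot y₀ hy₀ hy₀1)
  have hpn : (p : ℤ) ∣ n - e := by
    obtain ⟨ω₂, hω₂, hω₂e⟩ := Cfsg.Agent.S1494.result ψ hgen p c.prime x y₀ c.witness.order hy₀x
    refine Cfsg.Agent.S1495.result p c.prime (n - e) (ω₁ - ω₂) (hω₁.sub hω₂) ?_
    rw [hcoset y₀ hy₀, hψx, hn] at hω₂e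
    push_cast
    rw [← hζone]
    linear_combination hω₁e - hω₂e
  -- `rho` at `M` on `M_F`
  have hρM : ∀ y : M, y ∈ K → y ≠ 1 →
      rho (typeA' M) M (Cfsg.supportR M) ψ y = ψ (y : G) := by
    intro y hy hy1
    have hy' : (y : G) ∈ K₀ := mem_fittingHall_iff.mp hy
    have hyA : (y : G) ∈ typeA' M := (mem_typeA'_iff hMI).mpr ⟨hy1, y, hy, hy1, rfl⟩
    refine rho_of_const hyA fun u hu => ?_
    by_cases hle : centralizer ({(y : G)} : Set G) ≤ M
    · rw [supportR_of_le hle, mem_bot] at hu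
      rw [hu, mul_one]
    obtain ⟨-, hD', hL'⟩ := h.p1391 M hM _ (Or.inl rfl)
    obtain ⟨N, hN, hCN, hR⟩ := exists_supportR_eq hle (hD' _ hyA hle).2
    obtain ⟨-, -, -, hcop, ⟨hyN, hyN1⟩, htype, hIIf⟩ := hL' _ hyA hle N hN hCN
    have hNI : IsTypeI' N := htype.resolve_right fun hII => by
      obtain ⟨E, hE, hEk⟩ := hIIf hII
      exact c.not_frob_M (frobKer_of_complement hE hEk)
    have hncN : ∀ g : G, N.map (MulAut.conj g).toMonoidHom ≠ L := fun g hg => by
      have h1 : p ∣ Nat.card (Cfsg.fittingHallOf N) := by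
        have h2 : p ∣ Nat.card (Cfsg.fittingHallOf L) :=
          c.witness.order ▸ Subgroup.orderOf_dvd_natCard _ (hAH c.mem)
        rw [← hg] at h2
        rwa [show N.map (MulAut.conj g).toMonoidHom = TypeMap.im (MulAut.conj g) N from rfl,
          TypeMap.fittingHallOf_im, TypeMap.card_im] at h2
      exact c.prime.ne_one (Nat.eq_one_of_dvd_coprimes (hcop x c.x_typeA) h1
        (c.witness.order ▸ Subgroup.orderOf_dvd_natCard _
          (mem_inf.mpr ⟨hxM, mem_centralizer_singleton_iff.mpr rfl⟩)))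
    haveI := Fintype.ofFinite N
    have hyNm : (y : G) ∈ N := typeA_subset N hyN
    have hyout : (⟨(y : G), hyNm⟩ : N) ∉ Cfsg.fittingHall N := fun h' => hyN1 ⟨by
      rw [typeCore_of_I_II hG hT hN (Or.inl hNI)]; exact mem_fittingHall_iff.mp h',
      fun e => hy1 (Subtype.ext e)⟩
    rw [hR] at hu
    exact const_on_coset (kernelSetting_of hG hT h.p1391 hN hNI) hψ (hoth N hN hNI hncN)
      (a := ⟨(y : G), hyNm⟩) hyout (k := ⟨u, Cfsg.Lib.FittingHall.fittingHallOf_le N hu.1⟩)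
      (mem_fittingHall_iff.mpr hu.1)
  obtain ⟨cst, hcst⟩ := rho_const_on_kernel hSM hψ hoM
  have hder : ∀ z : K, z ∈ commutator K ↔ ((z : M) : G) ∈ ⁅K₀, K₀⁆ := fun z => by
    show z ∈ commutator K ↔ M.subtype (K.subtype z) ∈ ⁅K₀, K₀⁆
    rw [hK₀, Cfsg.fittingHallOf, ← map_commutator, ← map_subtype_commutator,
      mem_map_iff_mem M.subtype_injective, ← hKdef, mem_map_iff_mem K.subtype_injective]
  have hval : ∀ y : M, y ∈ K → (y : G) ∉ ⁅K₀, K₀⁆ →
      rho (typeA' M) M (Cfsg.supportR M) ψ y = (n : ℂ) := by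
    have hy₀M : y₀ ∈ M := Cfsg.Lib.FittingHall.fittingHallOf_le M hy₀
    have hy₀K' : (⟨y₀, hy₀M⟩ : M) ∈ K := mem_fittingHall_iff.mpr hy₀
    have h0 := hcst ⟨⟨y₀, hy₀M⟩, hy₀K'⟩ fun h' => hy₀K ((hder _).mp h')
    rw [hρM ⟨y₀, hy₀M⟩ hy₀K' (fun h' => hy₀1 (congrArg Subtype.val h'))] at h0
    intro y hy hy'
    rw [hcst ⟨y, hy⟩ (fun h' => hy' ((hder _).mp h')), ← h0]
    exact hn
  -- the two supports
  set A₁ : Set G := (K₀ : Set G) \ {1} with hA₁
  have hA₁' : Cfsg.typeA1 M = A₁ := by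
    rw [Cfsg.typeA1, typeCore_of_I_II hG hT hM (Or.inl hMI)]
  have hDM : Cfsg.DadeHypothesis A₁ M (Cfsg.supportR M) :=
    hA₁' ▸ (p1537_of hG hT h.p1391 M hM _ (Or.inl rfl)).2
  let Li : Bool → Subgroup G := fun b => cond b L M
  let Ai : Bool → Set G := fun b => cond b AL A₁
  letI : ∀ b, Fintype (Li b) := fun b => Fintype.ofFinite _
  have hdis : ∀ i j : Bool, i ≠ j →
      Disjoint (dadeSupp (Ai i) (Cfsg.supportR (Li i))) (dadeSupp (Ai j) (Cfsg.supportR (Li j))) := by
    have hLM : Disjoint (dadeSupp A₁ (Cfsg.supportR M)) (dadeSupp AL (Cfsg.supportR L)) := by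
      refine Set.disjoint_left.mpr fun g hg hg' => ?_
      obtain ⟨a, ⟨ha, ha1⟩, u, hu, y, hy⟩ := hg
      obtain ⟨b, hb, v, hv, z, hz⟩ := hg'
      refine not_mem_supp hG h c.coatom hLI hM hMI hncM ha ha1 hu ⟨b, hb, v, hv, z * y⁻¹, ?_⟩
      rw [← hy, ← hz]; group
    intro i j hij
    cases i <;> cases j
    · exact absurd rfl hij
    · exact hLM
    · exact hLM.symm
    · exact absurd rfl hij
  have hcover := cover_le Ai Li (fun b => Cfsg.supportR (Li b))
    (fun b => by cases b; exacts [hDM, hD]) hdis hψc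
  rw [Fintype.sum_bool, hnorm, Complex.one_re] at hcover
  have hcov : (Nat.card L : ℝ)⁻¹ * ∑ a : L, ‖rho AL L (Cfsg.supportR L) ψ a‖ ^ 2 +
      (Nat.card M : ℝ)⁻¹ * ∑ a : M, ‖rho A₁ M (Cfsg.supportR M) ψ a‖ ^ 2 ≤ 1 := by
    refine le_trans (le_of_eq ?_) ((le_add_of_nonneg_left ?_).trans hcover)
    · congr 1 <;>
      · congr 1
        exact Finset.sum_congr (Finset.ext fun a => by simp) fun a _ => rfl
    · refine mul_nonneg (by positivity) ?_
      rw [finsum_mem_eq_finite_toFinset_sum _ (Set.toFinite _)]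
      exact Finset.sum_nonneg fun g _ => by positivity
  rw [hsum 0 (fun a ha => by rw [hρL a ha]; simp)] at hcov
  -- the count on `M`
  set k := Nat.card K with hk
  set k' := Nat.card (commutator K) with hk'
  have hMsum : (n : ℝ) ^ 2 * ((k : ℝ) - k') ≤
      ∑ a : M, ‖rho A₁ M (Cfsg.supportR M) ψ a‖ ^ 2 := by
    set T := Finset.univ.filter fun a : M => (a : G) ∈ K₀ ∧ (a : G) ∉ ⁅K₀, K₀⁆ with hT'
    have hTc : (T.card : ℝ) = (k : ℝ) - k' := by
      have e1 : T.card = (Finset.univ.filter fun z : K => z ∉ commutator K).card := by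
        refine (Finset.card_bij (s := Finset.univ.filter fun z : K => z ∉ commutator K) (t := T)
          (fun z _ => (z : M)) ?_ ?_ ?_).symm
        · intro z hz
          exact Finset.mem_filter.mpr ⟨Finset.mem_univ _, mem_fittingHall_iff.mp z.2,
            fun h' => (Finset.mem_filter.mp hz).2 ((hder z).mpr h')⟩
        · exact fun a _ b _ hab => Subtype.ext hab
        · intro a ha
          obtain ⟨-, h1, h2⟩ := Finset.mem_filter.mp ha
          exact ⟨⟨a, mem_fittingHall_iff.mpr h1⟩, Finset.mem_filter.mpr ⟨Finset.mem_univ _,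
            fun h' => h2 ((hder _).mp h')⟩, rfl⟩
      have e2 := Finset.card_filter_add_card_filter_not (s := (Finset.univ : Finset K))
        fun z => z ∈ commutator K
      rw [eq_sub_iff_add_eq, e1, hk, hk', Nat.card_eq_fintype_card, Fintype.card_subtype,
        Nat.card_eq_fintype_card, ← Finset.card_univ, ← e2, add_comm]
      push_cast
      rfl
    refine le_trans (le_of_eq ?_) (Finset.sum_le_univ_sum_of_nonneg (s := T) fun a => by positivity)
    have hterm : ∀ a ∈ T, ‖rho A₁ M (Cfsg.supportR M) ψ a‖ ^ 2 = (n : ℝ) ^ 2 := by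
      intro a ha
      obtain ⟨-, h1, h2⟩ := Finset.mem_filter.mp ha
      have ha1 : (a : G) ≠ 1 := fun e => h2 (e ▸ one_mem _)
      have haK : a ∈ K := mem_fittingHall_iff.mpr h1
      have haA : (a : G) ∈ typeA' M :=
        (mem_typeA'_iff hMI).mpr ⟨fun e => ha1 (by rw [e]; rfl), a, haK,
          fun e => ha1 (by rw [e]; rfl), rfl⟩
      rw [rho_apply (show (a : G) ∈ A₁ from ⟨h1, ha1⟩), ← rho_apply haA, hval a haK h2,
        Complex.norm_intCast, sq_abs]
    rw [Finset.sum_congr rfl hterm, Finset.sum_const, nsmul_eq_mul, hTc, mul_comm]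
  -- the index of the derived subgroup
  have h5k : 5 * k' ≤ k := by
    set q := (commutator K).index with hq
    have hq' : k = k' * q := (card_mul_index _).symm
    have hqodd : Odd q := hG.1.of_dvd_nat (((index_dvd_card _).trans (card_subgroup_dvd_card K)).trans
      (card_subgroup_dvd_card M))
    have hder' : ⁅K₀, K₀⁆ = ((commutator K).map K.subtype).map M.subtype := by
      rw [hK₀, Cfsg.fittingHallOf, map_subtype_commutator, map_commutator]
    have hrel : (⁅K₀, K₀⁆).relIndex K₀ = q := by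
      rw [hder', hK₀, Cfsg.fittingHallOf, relIndex_map_map_of_injective _ _ M.subtype_injective,
        relIndex, subgroupOf, comap_map_eq_self_of_injective K.subtype_injective]
    have hq1 : q ≠ 1 := fun hq1 => hy₀K (relIndex_eq_one.mp (hrel.trans hq1) hy₀)
    have hq3 : q ≠ 3 := by
      intro hq3
      haveI : Fact (Nat.Prime 3) := ⟨Nat.prime_three⟩
      haveI := fittingHallOf_nilpotent M
      have hKM : K₀ ≤ M := Cfsg.Lib.FittingHall.fittingHallOf_le M
      have hAK : A ≤ normalizer (K₀ : Set G) :=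
        c.le.trans (Cfsg.Lib.FittingHall.le_normalizer_fittingHallOf M)
      have hKn : K₀ ≤ normalizer ((⁅K₀, K₀⁆ : Subgroup G) : Set G) :=
        Cfsg.Lib.Coprime.le_normalizer_commutator_right K₀ K₀
      have hAn : A ≤ normalizer ((⁅K₀, K₀⁆ : Subgroup G) : Set G) := fun a ha => by
        refine Cfsg.Lib.Coprime.conjMap_eq_self_iff.mp ?_
        show (⁅K₀, K₀⁆).map (MulAut.conj a).toMonoidHom = _
        rw [Subgroup.map_commutator]
        exact congrArg₂ _ (Cfsg.Lib.Coprime.conjMap_eq_self (hAK ha))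
          (Cfsg.Lib.Coprime.conjMap_eq_self (hAK ha))
      have hfac := fun (a : G) (ha : a ∈ A) => Cfsg.Lib.OddP.trivial_on_factor (p := 3)
        (L := ⁅K₀, K₀⁆) (U := K₀) (Subgroup.commutator_le_self K₀) hKn (dvd_of_eq (hrel.trans hq3))
        hAK hAn (a := a) (Or.inr ⟨a ^ ((p + 1) / 2), pow_mem ha _, by
          obtain ⟨j, hj⟩ := c.odd_p hG
          rw [← pow_mul, show (p + 1) / 2 * (3 - 1) = p + 1 by omega, pow_succ, c.ea.2 a ha, one_mul]⟩)
      have hcop : (Nat.card A).Coprime (Nat.card (⁅K₀, K₀⁆ : Subgroup G)) := by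
        rw [c.card]
        exact ((c.prime.coprime_iff_not_dvd.mpr (c.witness.not_dvd hG hT)).coprime_dvd_right
          (card_dvd_of_le (Subgroup.commutator_le_self K₀))).pow_left 2
      haveI := c.ea.1
      obtain ⟨d, hd, hd'⟩ := Cfsg.Lib.Coprime.exists_fixed_of_commutator_mem (A := A)
        (N := ⁅K₀, K₀⁆) hAn hcop (Or.inl (Group.isSolvable_of_comm fun a b => mul_comm' a b))
        (hKn hy₀) fun a ha => by
          have h1 := hfac a ha y₀ hy₀
          have h2 := (mem_normalizer_iff.mp (hKn hy₀) _).mp h1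
          rwa [show y₀ * (y₀⁻¹ * a * y₀ * a⁻¹) * y₀⁻¹ = a * y₀ * a⁻¹ * y₀⁻¹ by group] at h2
      have h0 := (tau_two_theorem hG hM (c.witness.not_sigma hG hT) c.le c.ea c.card).2.2.2.1
      rw [← c.witness.core_eq hG hT] at h0
      have h1 : y₀ * d ∈ K₀ ⊓ centralizer (A : Set G) :=
        ⟨mul_mem hy₀ (Subgroup.commutator_le_self K₀ hd), hd'⟩
      rw [h0, mem_bot] at h1
      exact hy₀K (by rw [eq_inv_of_mul_eq_one_left h1]; exact inv_mem hd)
    obtain ⟨j, hj⟩ := hqodd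
    rw [hq', mul_comm 5]
    exact Nat.mul_le_mul_left _ (by omega)
  -- the final inequality
  set m := Nat.card ↥(L ⊓ M) with hm
  have hMcard : (Nat.card M : ℝ) = (k : ℝ) * m := by
    have hc := c.compl hG f
    have hsup : K₀ ⊔ (L ⊓ M) = M := le_antisymm (sup_le hc.1 hc.2.1) fun g hg => by
      obtain ⟨a, ha, b, hb, rfl⟩ := hc.2.2.2 g hg
      exact mul_mem_sup ha hb
    have h1 := Cfsg.Lib.Coprime.card_sup_of_inf_eq_bot (N := K₀) (H := L ⊓ M)
      (inf_le_right.trans (Cfsg.Lib.FittingHall.le_normalizer_fittingHallOf M)) hc.2.2.1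
    rw [hsup, card_fittingHallOf] at h1
    rw [h1, hk, hm]
    push_cast
    rfl
  have hmh : (m : ℝ) ≤ Nat.card H := by
    have := card_le_of_le (c.inter_le hG f)
    rw [card_fittingHallOf] at this
    exact_mod_cast this
  have hna : ((e : ℝ) - 1) ^ 2 ≤ (n : ℝ) ^ 2 := by
    have habs : (e : ℤ) - 1 ≤ |n| := by
      have he2' : 2 * e ≤ p + 1 := he2
      obtain ⟨j, hj⟩ := hpn
      rcases le_or_gt 0 j with hj0 | hj0
      · have : 0 ≤ (p : ℤ) * j := mul_nonneg (Nat.cast_nonneg _) hj0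
        have := le_abs_self n
        omega
      · have : (p : ℤ) * j ≤ -(p : ℤ) := by nlinarith
        have := neg_le_abs n
        omega
    have h1 : ((e : ℝ) - 1) ≤ |(n : ℝ)| := by
      rw [← Int.cast_abs]
      exact_mod_cast habs
    rw [← sq_abs (n : ℝ)]
    have : (3 : ℝ) ≤ e := by exact_mod_cast he3
    exact pow_le_pow_left₀ (by linarith) h1 2
  have hepos : (3 : ℝ) ≤ e := by exact_mod_cast he3
  have hHpos : (0 : ℝ) < Nat.card H := by exact_mod_cast Nat.card_pos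
  have hkpos : (0 : ℝ) < k := by exact_mod_cast (Nat.card_pos : 0 < Nat.card K)
  have hmpos : (0 : ℝ) < m := by exact_mod_cast (Nat.card_pos : 0 < Nat.card ↥(L ⊓ M))
  have h5 : (5 : ℝ) * k' ≤ k := by exact_mod_cast h5k
  have hLterm : (Nat.card L : ℝ)⁻¹ * ((Nat.card L : ℝ) - (e : ℝ) ^ 2 - 2 * 0 * e +
      0 ^ 2 * ((Nat.card H : ℝ) - 1)) = 1 - (e : ℝ) / Nat.card H := by
    rw [hLcard]
    field_simp
    ring
  rw [hLterm, hMcard] at hcov
  have h1 : ((k : ℝ) * m)⁻¹ * ((n : ℝ) ^ 2 * ((k : ℝ) - k')) ≤ (e : ℝ) / Nat.card H := by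
    have := mul_le_mul_of_nonneg_left hMsum (show (0 : ℝ) ≤ ((k : ℝ) * m)⁻¹ by positivity)
    linarith
  rw [inv_mul_eq_div, div_le_div_iff₀ (by positivity) hHpos] at h1
  have h2 : (n : ℝ) ^ 2 * ((k : ℝ) - k') ≤ (e : ℝ) * k := by
    have h3 : (e : ℝ) * ((k : ℝ) * m) ≤ (e : ℝ) * k * Nat.card H := by
      rw [mul_assoc (e : ℝ)]
      exact mul_le_mul_of_nonneg_left (mul_le_mul_of_nonneg_left hmh hkpos.le) (by linarith)
    exact le_of_mul_le_mul_right (h1.trans h3) hHpos
  have h4 : ((e : ℝ) - 1) ^ 2 * (4 / 5 * k) ≤ (n : ℝ) ^ 2 * ((k : ℝ) - k') := by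
    refine mul_le_mul hna ?_ (by positivity) (sq_nonneg _)
    linarith
  have h6 : ((e : ℝ) - 1) ^ 2 * (4 / 5) ≤ e := by
    refine le_of_mul_le_mul_right ?_ hkpos
    rw [mul_assoc]
    exact h4.trans h2
  nlinarith

end Config

/-- Statement 1540 in the weak form. -/
theorem p1540'_of (hG : Cfsg.IsMinSimpleOddOrder G) (f : S12Facts G) : P1540' G := by
  intro M hM hI
  by_contra hn
  obtain ⟨M', L, A, p, x, c⟩ := exists_config hG f.support.types hM hI (fun h => hn h)
  exact c.false hG f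

end Cfsg.Agent.PF
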