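import Cfsg.Agent.OddChar.PF.S12Members
import Cfsg.Agent.Chars.Inertia

/-!
# Section 12: (12.2) the constituents of the induced characters, (12.3), (12.4)
-/

set_option linter.style.haveILetI false
set_option linter.unusedSectionVars false
set_option linter.unusedVariables false

universe u

namespace Cfsg.Agent.PF

open scoped ComplexConjugate
open Cfsg.Lib.Chars

variable {G : Type u} [Group G] [Fintype G] {M : Subgroup G} [Fintype M] {K : Subgroup M}

/-- The constituents of an induced character, with what (12.2) says about them. -/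
structure Constituents (K : Subgroup M) (θ : K → ℂ) (C : Finset (M → ℂ)) : Prop where
  mem : ∀ χ ∈ C, χ ∈ CharSet K
  sum : Cfsg.indFun K θ = ∑ χ ∈ C, χ
  one : ∀ χ ∈ C, Cfsg.classInner (Cfsg.indFun K θ) χ = 1
  iff : ∀ χ : M → ℂ, Cfsg.IsIrrCharacter M χ → Cfsg.classInner (Cfsg.indFun K θ) χ ≠ 0 → χ ∈ C
  deg : ∀ χ ∈ C, ∀ χ' ∈ C, χ 1 = χ' 1
  res : ∀ χ ∈ C, ∀ χ' ∈ C, ∀ k ∈ K, χ k = χ' k
  card_dvd : C.card ∣ Nat.card M
  nonempty : C.Nonempty

variable {A : Set G} {H : G → Subgroup G}

/-- (12.2): the constituents of a character induced from a non-principal character of the kernel. -/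
theorem exists_constituents (hS : KernelSetting M A H K) {θ : K → ℂ}
    (hθ : Cfsg.IsIrrCharacter K θ) (hθ1 : θ ≠ fun _ => 1) :
    ∃ C : Finset (M → ℂ), Constituents K θ C := by
  classical
  haveI := hS.normal
  haveI := Fintype.ofFinite K
  have hfix : ∀ g ∈ inertia K θ, HasFix K g := fun g hg =>
    (Cfsg.Agent.S1536.result K hS.cop g).mp ⟨θ, hθ, hθ1, mem_inertia.mp hg⟩
  obtain ⟨C, hC, hcard, hsum, hdeg⟩ := Cfsg.Agent.S1491.result K (inertia K θ) θ hθ
    (fun g => ⟨fun hg h => congrFun (mem_inertia.mp hg) h, fun h => mem_inertia.mpr (funext h)⟩)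
    (fun x hx y hy => hS.abel x y (hfix x hx) (hfix y hy))
    (hS.cop.coprime_dvd_right (Subgroup.relIndex_dvd_index_of_normal K (inertia K θ)))
  have hone : ∀ χ ∈ C, Cfsg.classInner (Cfsg.indFun K θ) χ = 1 := fun χ hχ => by
    rw [hsum, classInner_sum_left, Finset.sum_eq_single χ (fun b hb hne => by
      rw [classInner_irrChar (hC b hb) (hC χ hχ), if_neg hne]) (fun h => absurd hχ h),
      classInner_self_irr (hC χ hχ)]
  have hres : ∀ χ ∈ C, Cfsg.classInner (fun k : K => χ k) θ = 1 := fun χ hχ => by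
    rw [← frobenius_reciprocity' K θ (isClassFunction_isChar (isCharacter_of_irr (hC χ hχ))),
      ← classInner_conj_symm, hone χ hχ, map_one]
  refine ⟨C, ?_, hsum, hone, ?_, fun χ hχ χ' hχ' => by rw [hdeg χ hχ, hdeg χ' hχ'], ?_, ?_, ?_⟩
  · refine fun χ hχ => ⟨hC χ hχ, ?_⟩
    by_contra hno
    push Not at hno
    have h1 := hres χ hχ
    rw [show (fun k : K => χ k) = χ 1 • (fun _ : K => (1 : ℂ)) from funext fun k => by
      simp [hno k k.2], classInner_smul_left, classInner_irrChar isIrrCharacter_one hθ,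
      if_neg (Ne.symm hθ1), mul_zero] at h1
    exact zero_ne_one h1
  · intro χ hχ hne
    by_contra hmem
    refine hne ?_
    rw [hsum, classInner_sum_left]
    exact Finset.sum_eq_zero fun b hb => by
      rw [classInner_irrChar (hC b hb) hχ, if_neg fun h : b = χ => hmem (h ▸ hb)]
  · intro χ hχ χ' hχ' k hk
    have e := clifford K (hC χ hχ) hθ (by rw [hres χ hχ]; exact one_ne_zero)
    have e' := clifford K (hC χ' hχ') hθ (by rw [hres χ' hχ']; exact one_ne_zero)
    rw [hres χ hχ] at e
    rw [hres χ' hχ'] at e'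
    exact (congrFun e ⟨k, hk⟩).trans (congrFun e' ⟨k, hk⟩).symm
  · rw [hcard]
    exact (Subgroup.relIndex_dvd_index_of_normal K _).trans (Subgroup.index_dvd_card K)
  · rw [Finset.nonempty_iff_ne_empty]
    intro he
    rw [he, Finset.sum_empty] at hsum
    have := congrFun hsum 1
    rw [indFun_one, Pi.zero_apply, mul_eq_zero] at this
    rcases this with h | h
    · exact K.index_ne_zero_of_finite (by exact_mod_cast h)
    · exact IsIrrCharacter.apply_one_ne_zero hθ h

omit [Fintype G] in
theorem conjOrbit_one (K : Subgroup M) [K.Normal] :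
    conjOrbit K (fun _ : K => (1 : ℂ)) = {fun _ => 1} := by
  haveI := Fintype.ofFinite K
  ext φ
  rw [mem_conjOrbit, Finset.mem_singleton]
  exact ⟨fun ⟨g, h⟩ => h ▸ rfl, fun h => ⟨1, by rw [h, conjN_one]⟩⟩

omit [Fintype G] in
theorem exists_theta_of_charSet [K.Normal] {χ : M → ℂ} (hχ : χ ∈ CharSet K) :
    ∃ θ : K → ℂ, Cfsg.IsIrrCharacter K θ ∧ θ ≠ (fun _ => 1) ∧
      Cfsg.classInner (Cfsg.indFun K θ) χ ≠ 0 := by
  classical
  haveI := Fintype.ofFinite K
  obtain ⟨θ, hθ, hc⟩ := exists_constituent K (isCharacter_of_irr hχ.1)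
    (IsIrrCharacter.apply_one_ne_zero hχ.1)
  refine ⟨θ, hθ, fun he => ?_, ?_⟩
  · subst he
    have horb := conjOrbit_one K
    have e := clifford K hχ.1 isIrrCharacter_one hc
    rw [horb, Finset.sum_singleton] at e
    obtain ⟨k, hk, hne⟩ := hχ.2
    have hk' := congrFun e ⟨k, hk⟩
    have h1 := congrFun e ⟨1, K.one_mem⟩
    simp only [Pi.smul_apply] at hk' h1
    exact hne (hk'.trans h1.symm)
  · rw [← classInner_conj_symm,
      frobenius_reciprocity' K θ (isClassFunction_isChar (isCharacter_of_irr hχ.1))]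
    exact fun h => hc (by simpa using h)

/-- No constituent has its conjugate among the constituents. -/
theorem conj_not_mem (hS : KernelSetting M A H K) {θ : K → ℂ} (hθ : Cfsg.IsIrrCharacter K θ)
    {C : Finset (M → ℂ)} (hC : Constituents K θ C) {χ : M → ℂ} (hχ : χ ∈ C) :
    Cfsg.conjFun χ ∉ C := by
  classical
  haveI := hS.normal
  haveI := Fintype.ofFinite K
  intro hmem
  -- then complex conjugation permutes the constituents without fixed point
  have key : ∀ ψ ∈ C, Cfsg.conjFun ψ ∈ C := by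
    intro ψ hψ
    refine hC.iff _ (IsIrrCharacter.conjugate (hC.mem ψ hψ).1) ?_
    have e : (fun k : K => Cfsg.conjFun ψ k) = fun k : K => Cfsg.conjFun χ k := funext fun k => by
      simp only [Cfsg.conjFun, hC.res ψ hψ χ hχ k k.2]
    show Cfsg.classInner (Cfsg.indFun K θ) (Cfsg.conjFun ψ) ≠ 0
    rw [show Cfsg.classInner (Cfsg.indFun K θ) (Cfsg.conjFun ψ) =
        Cfsg.classInner θ (fun k : K => Cfsg.conjFun ψ k) from
      frobenius_reciprocity K θ (isClassFunction_isChar
      (isCharacter_of_irr (IsIrrCharacter.conjugate (hC.mem ψ hψ).1))), e,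
      ← (frobenius_reciprocity K θ (isClassFunction_isChar
      (isCharacter_of_irr (IsIrrCharacter.conjugate (hC.mem χ hχ).1))) :
        Cfsg.classInner (Cfsg.indFun K θ) (Cfsg.conjFun χ) = _), hC.one _ hmem]
    exact one_ne_zero
  let f : Equiv.Perm C := Function.Involutive.toPerm (fun ψ => ⟨Cfsg.conjFun ψ.1, key ψ.1 ψ.2⟩)
    fun ψ => Subtype.ext (Cfsg.Lib.Coherence.conjFun_conjFun ψ.1)
  haveI : Fact (Nat.Prime 2) := ⟨Nat.prime_two⟩
  obtain ⟨ψ, hψ⟩ := Equiv.Perm.exists_fixed_point_of_prime (p := 2) (n := 1)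
    (σ := f) (by
      rw [Fintype.card_coe]
      exact fun h => (hS.odd.of_dvd_nat hC.card_dvd).not_two_dvd_nat h)
    (Equiv.ext fun ψ => by
      rw [pow_one, pow_two, Equiv.Perm.mul_apply]
      exact Subtype.ext (Cfsg.Lib.Coherence.conjFun_conjFun ψ.1))
  exact conj_ne_charSet hS.odd (hC.mem ψ.1 ψ.2) (congrArg Subtype.val hψ)

omit [Fintype G] in
theorem conjFun_sum {ι : Type*} (s : Finset ι) (f : ι → M → ℂ) :
    Cfsg.conjFun (∑ i ∈ s, f i) = ∑ i ∈ s, Cfsg.conjFun (f i) := by
  funext x
  simp [Cfsg.conjFun, Finset.sum_apply]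

omit [Fintype G] in
theorem dade_sum {ι : Type*} (s : Finset ι) (f : ι → M → ℂ) :
    Cfsg.dadeIsometry A M H (∑ i ∈ s, f i) = ∑ i ∈ s, Cfsg.dadeIsometry A M H (f i) := by
  classical
  induction s using Finset.induction_on with
  | empty =>
    have h := dade_zsmul (A := A) (L := M) (H := H) 0 0
    simpa using h
  | insert a t ha ih => rw [Finset.sum_insert ha, Finset.sum_insert ha, dade_add, ih]

/-- (12.4): a signed irreducible character of `G` orthogonal to the Dade images of the differences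
of conjugate members is constant on the cosets of `K` outside `K`. -/
theorem const_on_coset (hS : KernelSetting M A H K) {ψ : G → ℂ} (hψ : IsSignedIrr G ψ)
    (ho : OrthTo A H K ψ) {a : M} (ha : a ∉ K) {k : M} (hk : k ∈ K) :
    ψ ((a * k : M) : G) = ψ (a : G) := by
  classical
  haveI := hS.normal
  haveI := Fintype.ofFinite K
  have hψc := isClassFunction_generalized hψ.generalized
  set g : M → ℂ := fun x => ψ x with hg
  have hgc : Cfsg.IsClassFunction M g := fun x y => hψc x y
  -- the coefficients are constant along the constituents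
  have hcoef : ∀ {θ : K → ℂ} {C : Finset (M → ℂ)}, Constituents K θ C → ∀ χ ∈ C, ∀ χ' ∈ C,
      Cfsg.classInner g χ = Cfsg.classInner g χ' := by
    intro θ C hC χ hχ χ' hχ'
    have hmem : χ - χ' ∈ Cfsg.zspanOn (CharSet K) {1}ᶜ :=
      Cfsg.Lib.Coherence.mem_one.mpr ⟨(Submodule.span ℤ (CharSet K)).sub_mem
        (Cfsg.Lib.Coherence.subset_zspan (hC.mem χ hχ))
        (Cfsg.Lib.Coherence.subset_zspan (hC.mem χ' hχ')), by simp [hC.deg χ hχ χ' hχ']⟩
    have h0 := orth_diff hS hψ ho (hC.mem χ hχ) (hC.mem χ' hχ') (hC.deg χ hχ χ' hχ')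
    rw [inner_dade' hS.dade (fun x y => by
        simp [isClassFunction_isChar (isCharacter_of_irr (hC.mem χ hχ).1) x y,
          isClassFunction_isChar (isCharacter_of_irr (hC.mem χ' hχ').1) x y])
      (charSet_off hS hmem) hψc] at h0
    have e : Cfsg.classInner g (χ - χ') = Cfsg.classInner (rho A M H ψ) (χ - χ') := by
      rw [classInner_def, classInner_def]
      congr 1
      refine Finset.sum_congr rfl fun x _ => ?_
      by_cases hxA : (x : G) ∈ A
      · by_cases hxK : x ∈ K
        · simp [hC.res χ hχ χ' hχ' x hxK]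
        · rw [rho_of_const hxA (c := ψ x)]
          intro u hu
          rw [hS.out x hxA hxK, Subgroup.mem_bot] at hu
          rw [hu, mul_one]
      · rw [charSet_off hS hmem x hxA, map_zero, mul_zero, mul_zero]
    rw [← e, classInner_sub_right, sub_eq_zero] at h0
    exact h0
  -- a combination of induced characters with the same coefficients on `CharSet K`
  choose! C hC using fun θ (hθ : Cfsg.IsIrrCharacter K θ ∧ θ ≠ fun _ => 1) =>
    exists_constituents hS hθ.1 hθ.2
  choose! χ₀ hχ₀ using fun θ (hθ : Cfsg.IsIrrCharacter K θ ∧ θ ≠ fun _ => 1) => (hC θ hθ).nonempty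
  let nn : (M → ℂ) → ℕ := fun χ => (Finset.univ.filter fun θ : Cfsg.IrrCharacter K =>
    Cfsg.classInner (Cfsg.indFun K (θ : K → ℂ)) χ ≠ 0).card
  let b : Cfsg.IrrCharacter K → ℂ := fun θ => if (θ : K → ℂ) = (fun _ => 1) then 0
    else Cfsg.classInner g (χ₀ θ) / (nn (χ₀ θ) : ℂ)
  set F : M → ℂ := ∑ θ : Cfsg.IrrCharacter K, b θ • Cfsg.indFun K (θ : K → ℂ) with hF
  have hFc : Cfsg.IsClassFunction M F := fun x y => by
    simp only [hF, Finset.sum_apply, Pi.smul_apply]
    exact Finset.sum_congr rfl fun θ _ => by rw [isClassFunction_indFun K _ x y]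
  have hFinner : ∀ χ : M → ℂ, Cfsg.IsIrrCharacter M χ → Cfsg.classInner F χ =
      if χ ∈ CharSet K then Cfsg.classInner g χ else 0 := by
    intro χ hχ
    rw [hF, classInner_sum_left]
    simp only [classInner_smul_left]
    split_ifs with hmem
    · have hterm : ∀ θ : Cfsg.IrrCharacter K,
          Cfsg.classInner (Cfsg.indFun K (θ : K → ℂ)) χ ≠ 0 →
          b θ = Cfsg.classInner g χ / (nn χ : ℂ) ∧
            Cfsg.classInner (Cfsg.indFun K (θ : K → ℂ)) χ = 1 := by
        intro θ hne
        have hθ1 : (θ : K → ℂ) ≠ fun _ => 1 := fun he => by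
          obtain ⟨-, k', hk', hk'ne⟩ := hmem
          have hinner : Cfsg.classInner (fun k : K => χ k) (θ : K → ℂ) ≠ 0 := fun h => hne (by
            rw [← classInner_conj_symm,
              frobenius_reciprocity' K _ (isClassFunction_isChar (isCharacter_of_irr hχ)), h, map_zero])
          have e := clifford K hχ θ.2 hinner
          rw [he] at e
          have horb := conjOrbit_one K
          rw [horb, Finset.sum_singleton] at e
          have hk'' := congrFun e ⟨k', hk'⟩
          have h1 := congrFun e ⟨1, K.one_mem⟩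
          simp only [Pi.smul_apply] at hk'' h1
          exact hk'ne (hk''.trans h1.symm)
        have hC' := hC θ ⟨θ.2, hθ1⟩
        have hχC := hC'.iff χ hχ hne
        have hnn : nn (χ₀ θ) = nn χ := by
          have hres : (fun k : K => χ₀ θ k) = fun k : K => χ k :=
            funext fun k => hC'.res _ (hχ₀ θ ⟨θ.2, hθ1⟩) _ hχC k k.2
          simp only [nn]
          congr 1
          refine Finset.filter_congr fun φ _ => ?_
          rw [frobenius_reciprocity K _ (isClassFunction_isChar (isCharacter_of_irr hχ)),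
            frobenius_reciprocity K _ (isClassFunction_isChar
              (isCharacter_of_irr (hC'.mem _ (hχ₀ θ ⟨θ.2, hθ1⟩)).1)), hres]
        refine ⟨?_, hC'.one χ hχC⟩
        simp only [b, if_neg hθ1]
        rw [hnn, hcoef hC' _ (hχ₀ θ ⟨θ.2, hθ1⟩) χ hχC]
      rw [← Finset.sum_filter_of_ne (p := fun θ : Cfsg.IrrCharacter K =>
          Cfsg.classInner (Cfsg.indFun K (θ : K → ℂ)) χ ≠ 0) (fun θ _ h => right_ne_zero_of_mul h),
        Finset.sum_congr rfl (fun θ hθ => by
          rw [(hterm θ (Finset.mem_filter.mp hθ).2).1, (hterm θ (Finset.mem_filter.mp hθ).2).2,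
            mul_one]), Finset.sum_const, nsmul_eq_mul]
      have hpos : (nn χ : ℂ) ≠ 0 := by
        obtain ⟨θ, hθ, -, hne⟩ := exists_theta_of_charSet hmem
        have hin : (⟨θ, hθ⟩ : Cfsg.IrrCharacter K) ∈ Finset.univ.filter fun φ : Cfsg.IrrCharacter K =>
            Cfsg.classInner (Cfsg.indFun K (φ : K → ℂ)) χ ≠ 0 :=
          Finset.mem_filter.mpr ⟨Finset.mem_univ _, hne⟩
        exact Nat.cast_ne_zero.mpr (Finset.card_pos.mpr ⟨_, hin⟩).ne'
      exact mul_div_cancel₀ _ hpos
    · refine Finset.sum_eq_zero fun θ _ => ?_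
      by_cases hθ1 : (θ : K → ℂ) = fun _ => 1
      · simp [b, hθ1]
      · rw [show Cfsg.classInner (Cfsg.indFun K (θ : K → ℂ)) χ = 0 from ?_, mul_zero]
        by_contra hne
        exact hmem ((hC θ ⟨θ.2, hθ1⟩).mem χ ((hC θ ⟨θ.2, hθ1⟩).iff χ hχ hne))
  have hdiff : Cfsg.IsClassFunction M (g - F) := fun x y => by simp [hgc x y, hFc x y]
  have hak : a * k ∉ K := fun h => ha (by simpa using K.mul_mem h (K.inv_mem hk))
  have hval : ∀ x : M, x ∉ K → F x = 0 := fun x hx => by
    simp [hF, Finset.sum_apply, indFun_normal_not_mem K _ hx]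
  have key : (g - F) (a * k) = (g - F) a := by
    rw [classFunction_expand_apply hdiff, classFunction_expand_apply hdiff]
    refine Finset.sum_congr rfl fun χ _ => ?_
    by_cases hmem : (χ : M → ℂ) ∈ CharSet K
    · rw [classInner_sub_left, hFinner χ χ.2, if_pos hmem, sub_self, zero_mul, zero_mul]
    · rw [apply_mul_of_not_mem χ.2 hmem a hk]
  simpa [hval _ hak, hval _ ha, hg] using key

end Cfsg.Agent.PF
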