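import Cfsg.Agent.OddChar.PF.S12NotAllTypeI
import Cfsg.Agent.OddChar.PF.Sec08Facts
import Cfsg.Agent.OddChar.PF.Local1440

/-!
# Section 12: assembly from Sections 10 and 11

Everything of Section 12 now rests only on `S10NoTypeV` and `S11Facts`.
-/

set_option linter.unusedVariables false

universe u

namespace Cfsg.Agent.PF

variable {G : Type u} [Group G] [Finite G]

/-- The inputs of Section 12, from Sections 10 and 11. -/
theorem s12Facts (hG : Cfsg.IsMinSimpleOddOrder G) (h10 : S10NoTypeV G) (h11 : S11Facts G) :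
    S12Facts G :=
  ⟨supportFacts hG, p1440' hG, h10, h11⟩

/-- (12.16), for the derived group notion of Type I used in the local analysis. -/
theorem p1540'_of_s11 (hG : Cfsg.IsMinSimpleOddOrder G) (h10 : S10NoTypeV G) (h11 : S11Facts G) :
    P1540' G :=
  letI := Fintype.ofFinite G
  p1540'_of hG (s12Facts hG h10 h11)

/-- Statement 1540 from Sections 10 and 11. -/
theorem p1540_of_s11 (hG : Cfsg.IsMinSimpleOddOrder G) (h10 : S10NoTypeV G) (h11 : S11Facts G) :
    P1540 G := fun M hM hI =>
  p1540'_of_s11 hG h10 h11 M hM (isTypeI'_of hI)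

/-- Statement 1541 from Sections 10 and 11. -/
theorem p1541_of_s11 (hG : Cfsg.IsMinSimpleOddOrder G) (h10 : S10NoTypeV G) (h11 : S11Facts G) :
    P1541 G :=
  p1541_of hG (s12Facts hG h10 h11)

end Cfsg.Agent.PF
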