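import Cfsg.Agent.OddChar.PF.S12Induced

/-!
# Section 12: (12.2), (12.5) the coherence system on the induced characters of one degree
-/

set_option linter.style.haveILetI false
set_option linter.unusedSectionVars false
set_option linter.unusedVariables false

universe u

namespace Cfsg.Agent.PF

open scoped ComplexConjugate
open Cfsg.Lib.Chars

variable {G : Type u} [Group G] [Fintype G] {M : Subgroup G} [Fintype M] {K : Subgroup M}
  {A : Set G} {H : G → Subgroup G}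

/-- The characters induced from the non-principal irreducible characters of degree `d` of `K`. -/
def IndSet (K : Subgroup M) (d : ℂ) : Set (M → ℂ) :=
  {η | ∃ θ : K → ℂ, Cfsg.IsIrrCharacter K θ ∧ θ ≠ (fun _ => 1) ∧ θ 1 = d ∧ η = Cfsg.indFun K θ}

/-- The irreducible characters that meet `η`. -/
def Meets (η χ : M → ℂ) : Prop :=
  Cfsg.IsIrrCharacter M χ ∧ Cfsg.classInner η χ ≠ 0

omit [Fintype G] in
theorem Constituents.mem_iff {θ : K → ℂ} {C : Finset (M → ℂ)} (h : Constituents K θ C)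
    {χ : M → ℂ} : χ ∈ C ↔ Meets (Cfsg.indFun K θ) χ :=
  ⟨fun hc => ⟨(h.mem χ hc).1, by rw [h.one χ hc]; exact one_ne_zero⟩, fun hm => h.iff χ hm.1 hm.2⟩

omit [Fintype G] in
theorem conjFun_indFun (θ : K → ℂ) :
    Cfsg.conjFun (Cfsg.indFun K θ) = Cfsg.indFun K (Cfsg.conjFun θ) := by
  classical
  funext x
  simp only [Cfsg.conjFun, Cfsg.indFun, map_mul, map_inv₀, Complex.conj_natCast]
  congr 1
  rw [map_sum]
  refine Finset.sum_congr rfl fun y _ => ?_
  by_cases h : y⁻¹ * x * y ∈ K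
  · rw [extendByZero_mem _ h, extendByZero_mem _ h]; rfl
  · rw [extendByZero_not_mem _ h, extendByZero_not_mem _ h, map_zero]

omit [Fintype G] in
theorem conj_mem_indSet {d : ℂ} {η : M → ℂ} (hη : η ∈ IndSet K d) :
    Cfsg.conjFun η ∈ IndSet K d := by
  obtain ⟨θ, hθ, h1, hd, rfl⟩ := hη
  haveI := Fintype.ofFinite K
  refine ⟨Cfsg.conjFun θ, IsIrrCharacter.conjugate hθ, fun he => h1 ?_, ?_, conjFun_indFun θ⟩
  · have := congrArg Cfsg.conjFun he
    rw [Cfsg.Lib.Coherence.conjFun_conjFun] at this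
    rw [this]; funext k; simp [Cfsg.conjFun]
  · rw [← hd]; exact Cfsg.Lib.Coherence.conj_apply_one (isCharacter_of_irr hθ)

omit [Fintype G] in
theorem Meets.conj {η χ : M → ℂ} (h : Meets η χ) :
    Meets (Cfsg.conjFun η) (Cfsg.conjFun χ) :=
  ⟨IsIrrCharacter.conjugate h.1, by
    rw [Cfsg.Lib.Coherence.classInner_conjFun]
    intro h0
    exact h.2 (by simpa using congrArg conj h0)⟩

/-- Members with a common constituent are equal. -/
theorem eq_of_meets (hS : KernelSetting M A H K) {d : ℂ} {η η' χ : M → ℂ} (hη : η ∈ IndSet K d)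
    (hη' : η' ∈ IndSet K d) (h : Meets η χ) (h' : Meets η' χ) : η = η' := by
  classical
  haveI := hS.normal
  haveI := Fintype.ofFinite K
  obtain ⟨θ, hθ, h1, -, rfl⟩ := hη
  obtain ⟨θ', hθ', h1', -, rfl⟩ := hη'
  obtain ⟨C, hC⟩ := exists_constituents hS hθ h1
  obtain ⟨C', hC'⟩ := exists_constituents hS hθ' h1'
  have key : ∀ {φ φ' : K → ℂ} {D D' : Finset (M → ℂ)}, Constituents K φ D →
      Constituents K φ' D' → χ ∈ D → χ ∈ D' → D' ⊆ D := by
    intro φ φ' D D' hD hD' hx hx' z hz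
    refine hD.iff z (hD'.mem z hz).1 ?_
    have e : (fun k : K => z k) = fun k : K => χ k := funext fun k => hD'.res z hz χ hx' k k.2
    rw [show Cfsg.classInner (Cfsg.indFun K φ) z = Cfsg.classInner φ (fun k : K => z k) from
      frobenius_reciprocity K φ (isClassFunction_isChar (isCharacter_of_irr (hD'.mem z hz).1)), e,
      ← (frobenius_reciprocity K φ (isClassFunction_isChar (isCharacter_of_irr (hD.mem χ hx).1)) :
        Cfsg.classInner (Cfsg.indFun K φ) χ = _), hD.one χ hx]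
    exact one_ne_zero
  have hx := hC.mem_iff.mpr h
  have hx' := hC'.mem_iff.mpr h'
  rw [hC.sum, hC'.sum, (key hC hC' hx hx').antisymm' (key hC' hC hx' hx)]

/-- The coherence system on the induced characters of degree `d`. -/
theorem indSet_system (hS : KernelSetting M A H K) {d : ℂ} (hne : (IndSet K d).Nonempty) :
    ∃ R R' : (M → ℂ) → Finset (G → ℂ),
      Cfsg.IsCoherenceSystem (CharSet K) (Cfsg.dadeIsometry A M H) R ∧
      Cfsg.IsCoherenceSystem (IndSet K d) (Cfsg.dadeIsometry A M H) R' ∧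
      ∀ η ∈ IndSet K d, ∀ α ∈ R' η, ∃ χ ∈ CharSet K, α ∈ R χ := by
  classical
  haveI := hS.normal
  haveI := Fintype.ofFinite K
  obtain ⟨R, hR⟩ := charSet_system hS
  have hex : ∀ η ∈ IndSet K d, ∃ C : Finset (M → ℂ),
      (∀ χ, χ ∈ C ↔ Meets η χ) ∧ (∀ χ ∈ C, χ ∈ CharSet K) ∧ η = ∑ χ ∈ C, χ ∧
        ∀ χ ∈ C, Cfsg.conjFun χ ∉ C := by
    rintro η ⟨θ, hθ, h1, -, rfl⟩
    obtain ⟨C, hC⟩ := exists_constituents hS hθ h1
    exact ⟨C, fun χ => hC.mem_iff, hC.mem, hC.sum, fun χ hχ => conj_not_mem hS hθ hC hχ⟩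
  choose! C hC using hex
  have hconjC : ∀ η ∈ IndSet K d, ∀ χ, χ ∈ C η → Cfsg.conjFun χ ∈ C (Cfsg.conjFun η) :=
    fun η hη χ h => ((hC _ (conj_mem_indSet hη)).1 _).mpr (((hC η hη).1 χ).mp h).conj
  have hcne : ∀ η ∈ IndSet K d, (C η).Nonempty := fun η hη => by
    obtain ⟨θ, hθ, h1, -, rfl⟩ := id hη
    obtain ⟨D, hD⟩ := exists_constituents hS hθ h1
    obtain ⟨χ, hχ⟩ := hD.nonempty
    exact ⟨χ, ((hC _ hη).1 χ).mpr (hD.mem_iff.mp hχ)⟩
  have hdisj : ∀ η ∈ IndSet K d, ∀ η' ∈ IndSet K d, η ≠ η' →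
      ∀ χ ∈ C η, χ ∉ C η' := fun η hη η' hη' hne χ h h' =>
    hne (eq_of_meets hS hη hη' (((hC η hη).1 χ).mp h) (((hC η' hη').1 χ).mp h'))
  have horth : ∀ η ∈ IndSet K d, ∀ η' ∈ IndSet K d, η ≠ η' → Cfsg.classInner η η' = 0 := by
    intro η hη η' hη' hne
    rw [(hC η hη).2.2.1, (hC η' hη').2.2.1, classInner_sum_left]
    refine Finset.sum_eq_zero fun χ hχ => ?_
    rw [classInner_sum_right]
    refine Finset.sum_eq_zero fun χ' hχ' => ?_
    rw [classInner_irrChar ((hC η hη).2.1 χ hχ).1 ((hC η' hη').2.1 χ' hχ').1,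
      if_neg (fun (e : χ = χ') => hdisj η hη η' hη' hne χ hχ (e ▸ hχ'))]
  have hRdisj : ∀ χ ∈ CharSet K, ∀ χ' ∈ CharSet K, χ ≠ χ' → χ ≠ Cfsg.conjFun χ' →
      ∀ α ∈ R χ, ∀ β ∈ R χ', Cfsg.classInner α β = 0 := by
    intro χ hχ χ' hχ' h1 h2
    refine hR.disjoint χ' hχ' χ hχ ?_ ?_
    · rw [classInner_irrChar hχ.1 hχ'.1, if_neg h1]
    · have hirr : Cfsg.IsIrrCharacter M (Cfsg.conjFun χ') := IsIrrCharacter.conjugate hχ'.1
      rw [classInner_irrChar hχ.1 hirr, if_neg h2]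
  have hne' : ∀ η ∈ IndSet K d, ∀ χ ∈ C η, ∀ χ' ∈ C η, χ ≠ χ' →
      ∀ α ∈ R χ, ∀ β ∈ R χ', Cfsg.classInner α β = 0 := fun η hη χ hχ χ' hχ' hne =>
    hRdisj χ ((hC η hη).2.1 χ hχ) χ' ((hC η hη).2.1 χ' hχ') hne
      (fun (e : χ = Cfsg.conjFun χ') => (hC η hη).2.2.2 χ' hχ' (e ▸ hχ))
  have hspan : ∀ η ∈ IndSet K d, η ∈ Submodule.span ℤ (CharSet K) := by
    intro η hη
    rw [(hC η hη).2.2.1]
    exact (Submodule.span ℤ (CharSet K)).sum_mem fun χ hχ =>
      Submodule.subset_span ((hC η hη).2.1 χ hχ)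
  have hchar : ∀ η ∈ IndSet K d, Cfsg.IsCharacter M η := fun η hη => by
    obtain ⟨θ, hθ, -, -, rfl⟩ := hη
    exact IsCharacter.indFun (isCharacter_of_irr hθ)
  have hiso := dade_isometry hS.dade (S := IndSet K d)
    (fun η hη => ⟨η, 0, hchar η hη, isCharacter_zero, (sub_zero η).symm⟩) {1}ᶜ
    (fun α hα => charSet_off hS ⟨(Submodule.span_le.mpr hspan) hα.1, hα.2⟩)
  refine ⟨R, fun η => (C η).biUnion R, hR, ⟨hne, hchar, fun η hη => conj_mem_indSet hη, ?_,
    hiso.1, hiso.2, horth, ?_, ?_, ?_, ?_⟩, ?_⟩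
  · intro η hη he
    obtain ⟨χ, hχ⟩ := hcne η hη
    have h2 := hconjC η hη χ hχ
    rw [he] at h2
    exact (hC η hη).2.2.2 χ hχ h2
  · intro η hη α hα β hβ
    obtain ⟨χ, hχ, hα⟩ := Finset.mem_biUnion.mp hα
    obtain ⟨χ', hχ', hβ⟩ := Finset.mem_biUnion.mp hβ
    by_cases e : χ = χ'
    · subst e
      exact hR.orthonormal χ ((hC η hη).2.1 χ hχ) α hα β hβ
    · have h0 := hne' η hη χ hχ χ' hχ' e α hα β hβ
      rw [h0, if_neg]
      rintro rfl
      have h1 := hR.orthonormal χ ((hC η hη).2.1 χ hχ) α hα α hα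
      rw [if_pos rfl, h0] at h1
      exact zero_ne_one h1
  · intro η hη α hα
    obtain ⟨χ, hχ, hα⟩ := Finset.mem_biUnion.mp hα
    exact hR.virtual χ ((hC η hη).2.1 χ hχ) α hα
  · intro η hη
    rw [Finset.sum_biUnion]
    · conv_lhs => rw [(hC η hη).2.2.1]
      rw [conjFun_sum, ← Finset.sum_sub_distrib, dade_sum]
      exact Finset.sum_congr rfl fun χ hχ => hR.sum_eq χ ((hC η hη).2.1 χ hχ)
    · intro χ hχ χ' hχ' e
      refine Finset.disjoint_left.mpr fun α hα hα' => ?_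
      have h0 := hne' η hη χ hχ χ' hχ' e α hα α hα'
      have h1 := hR.orthonormal χ ((hC η hη).2.1 χ hχ) α hα α hα
      rw [if_pos rfl, h0] at h1
      exact zero_ne_one h1
  · intro η hη φ hφ h0 h0' α hα β hβ
    obtain ⟨χ, hχ, hα⟩ := Finset.mem_biUnion.mp hα
    obtain ⟨χ', hχ', hβ⟩ := Finset.mem_biUnion.mp hβ
    have hnz : Cfsg.classInner φ φ ≠ 0 := by
      obtain ⟨θ, hθ, h1, -, rfl⟩ := id hφ
      intro hz
      have hzero := Cfsg.Lib.Coherence.eq_zero_of_inner_self_re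
        (f := Cfsg.indFun K θ) (by rw [hz]; simp)
      have := congrFun hzero 1
      rw [indFun_one, Pi.zero_apply, mul_eq_zero] at this
      rcases this with h | h
      · exact K.index_ne_zero_of_finite (by exact_mod_cast h)
      · exact IsIrrCharacter.apply_one_ne_zero hθ h
    refine hRdisj χ ((hC φ hφ).2.1 χ hχ) χ' ((hC η hη).2.1 χ' hχ') ?_ ?_ α hα β hβ
    · exact fun e => hdisj φ hφ η hη (fun h => hnz (by nth_rw 2 [h]; exact h0)) χ hχ (e ▸ hχ')
    · intro e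
      exact hdisj φ hφ _ (conj_mem_indSet hη) (fun h => hnz (by nth_rw 2 [h]; exact h0')) χ hχ
        (e ▸ hconjC η hη χ' hχ')
  · intro η hη α hα
    obtain ⟨χ, hχ, hα⟩ := Finset.mem_biUnion.mp hα
    exact ⟨χ, (hC η hη).2.1 χ hχ, hα⟩

/-- Orthogonality passes to the differences of induced characters of equal degree. -/
theorem orth_ind_diff (hS : KernelSetting M A H K) {ψ : G → ℂ} (hψ : IsSignedIrr G ψ)
    (ho : OrthTo A H K ψ) {d : ℂ} {η η' : M → ℂ} (hη : η ∈ IndSet K d) (hη' : η' ∈ IndSet K d) :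
    Cfsg.classInner ψ (Cfsg.dadeIsometry A M H (η - η')) = 0 := by
  classical
  obtain ⟨R, R', hR, hR', hsub⟩ := indSet_system hS ⟨η, hη⟩
  have hz : ∀ η ∈ IndSet K d, ∀ α ∈ R' η, Cfsg.classInner ψ α = 0 := fun η hη α hα => by
    obtain ⟨χ, hχ, hα'⟩ := hsub η hη α hα
    exact orth_R hR hψ ho hχ hα'
  by_cases h1 : η' = η
  · subst h1
    have := dade_zsmul (A := A) (L := M) (H := H) 0 (η' - η')
    simp only [zero_smul] at this
    rw [sub_self, this, classInner_zero_right]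
  by_cases h2 : η' = Cfsg.conjFun η
  · rw [h2, hR'.sum_eq η hη, classInner_sum_right]
    exact Finset.sum_eq_zero (hz η hη)
  have hdeg : η 1 = η' 1 := by
    obtain ⟨θ, -, -, hd, rfl⟩ := hη
    obtain ⟨θ', -, -, hd', rfl⟩ := hη'
    rw [indFun_one, indFun_one, hd, hd']
  obtain ⟨m, -, hm⟩ := Cfsg.Lib.Coherence.sys_norm hR' hη
  obtain ⟨c, d', -, -, -, he⟩ :=
    Cfsg.Lib.Coherence.split_diff hR' hη hη' h1 h2 hdeg hm
  rw [he, classInner_sub_right, inner_part_eq_zero (hz η hη), inner_part_eq_zero (hz η' hη'),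
    sub_zero]

/-- (12.5): under `rho` such a character is constant on `K` outside the derived subgroup. -/
theorem rho_const_on_kernel (hS : KernelSetting M A H K) {ψ : G → ℂ} (hψ : IsSignedIrr G ψ)
    (ho : OrthTo A H K ψ) :
    ∃ c : ℂ, ∀ y : K, y ∉ commutator K → rho A M H ψ (y : M) = c := by
  classical
  haveI := hS.normal
  haveI := Fintype.ofFinite K
  have hψc := isClassFunction_generalized hψ.generalized
  have hρ := isClassFunction_rho (L := M) hS.dade hψc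
  refine const_of_degree (f := fun k : K => rho A M H ψ (k : M)) (fun a x => hρ a x)
    fun θ θ' hθ h1 hθ' h1' hdeg => ?_
  have hη : Cfsg.indFun K θ ∈ IndSet K (θ 1) := ⟨θ, hθ, h1, rfl, rfl⟩
  have hη' : Cfsg.indFun K θ' ∈ IndSet K (θ 1) := ⟨θ', hθ', h1', hdeg.symm, rfl⟩
  obtain ⟨R, R', -, hR', -⟩ := indSet_system hS ⟨_, hη⟩
  have hmem : Cfsg.indFun K θ - Cfsg.indFun K θ' ∈ Cfsg.zspanOn (IndSet K (θ 1)) {1}ᶜ :=
    Cfsg.Lib.Coherence.mem_one.mpr ⟨(Submodule.span ℤ _).sub_mem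
      (Cfsg.Lib.Coherence.subset_zspan hη) (Cfsg.Lib.Coherence.subset_zspan hη'),
      by simp [indFun_one, hdeg]⟩
  have hoff : ∀ x : M, (x : G) ∉ A → (Cfsg.indFun K θ - Cfsg.indFun K θ') x = 0 := by
    refine fun x hx => charSet_off hS ⟨?_, hmem.2⟩ x hx
    obtain ⟨C, hC⟩ := exists_constituents hS hθ h1
    obtain ⟨C', hC'⟩ := exists_constituents hS hθ' h1'
    rw [hC.sum, hC'.sum]
    exact (Submodule.span ℤ (CharSet K)).sub_mem
      ((Submodule.span ℤ (CharSet K)).sum_mem fun χ hχ => Submodule.subset_span (hC.mem χ hχ))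
      ((Submodule.span ℤ (CharSet K)).sum_mem fun χ hχ => Submodule.subset_span (hC'.mem χ hχ))
  have h0 := orth_ind_diff hS hψ ho hη hη'
  rw [inner_dade' hS.dade (fun x y => by
    simp [isClassFunction_indFun K θ x y, isClassFunction_indFun K θ' x y]) hoff hψc,
    classInner_sub_right, sub_eq_zero, frobenius_reciprocity' K θ hρ,
    frobenius_reciprocity' K θ' hρ] at h0
  exact h0

end Cfsg.Agent.PF
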