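import Cfsg.Agent.OddChar.PF.S12Decomp
import Cfsg.Agent.OddChar.Dual

/-!
# Section 12: orthogonality from disjoint supports (12.3), constancy outside `K'` (12.5)
-/

set_option linter.style.haveILetI false
set_option linter.unusedSectionVars false
set_option linter.unusedVariables false

universe u v

namespace Cfsg.Agent.PF

open scoped ComplexConjugate
open Cfsg.Lib.Chars

/-- A class function whose coefficients at the non-principal irreducible characters depend on the
degree only is constant outside the derived subgroup. -/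
theorem const_of_degree {K : Type v} [Group K] [Fintype K] {f : K → ℂ}
    (hf : Cfsg.IsClassFunction K f)
    (h : ∀ θ θ' : K → ℂ, Cfsg.IsIrrCharacter K θ → θ ≠ (fun _ => 1) →
      Cfsg.IsIrrCharacter K θ' → θ' ≠ (fun _ => 1) → θ 1 = θ' 1 →
      Cfsg.classInner f θ = Cfsg.classInner f θ') :
    ∃ c : ℂ, ∀ y : K, y ∉ commutator K → f y = c := by
  classical
  let P : ℂ → (K → ℂ) → Prop := fun d θ =>
    Cfsg.IsIrrCharacter K θ ∧ θ ≠ (fun _ => 1) ∧ θ 1 = d
  let w : ℂ → ℂ := fun d => if hd : ∃ θ, P d θ then Cfsg.classInner f (Classical.choose hd) else 0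
  refine ⟨Cfsg.classInner f (fun _ => 1) - w 1, fun y hy => ?_⟩
  let e : Cfsg.IrrCharacter K := ⟨fun _ => 1, isIrrCharacter_one⟩
  have hw : ∀ θ : Cfsg.IrrCharacter K, Cfsg.classInner f (θ : K → ℂ) =
      w ((θ : K → ℂ) 1) + if θ = e then Cfsg.classInner f (fun _ => 1) - w 1 else 0 := by
    intro θ
    split_ifs with he
    · subst he
      show Cfsg.classInner f (fun _ => 1) = w 1 + _
      ring
    · have hd : ∃ θ', P ((θ : K → ℂ) 1) θ' :=
        ⟨θ, θ.2, fun h => he (Subtype.ext h), rfl⟩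
      rw [add_zero]
      show _ = w _
      simp only [w, dif_pos hd]
      obtain ⟨h1, h2, h3⟩ := Classical.choose_spec hd
      exact h θ _ θ.2 (fun h => he (Subtype.ext h)) h1 h2 h3.symm
  -- a linear character not trivial at `y`
  obtain ⟨l, hl⟩ : ∃ l : K →* ℂˣ, l y ≠ 1 := by
    obtain ⟨l, hl⟩ := Cfsg.Lib.Dual.exists_hom_ne_one (A := Abelianization K) mul_comm
      (a := Abelianization.of y) (fun h => hy ((QuotientGroup.eq_one_iff y).mp h))
    exact ⟨l.comp Abelianization.of, hl⟩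
  have hS : ∑ θ : Cfsg.IrrCharacter K, w ((θ : K → ℂ) 1) * (θ : K → ℂ) y = 0 := by
    let φ : Cfsg.IrrCharacter K → Cfsg.IrrCharacter K := fun θ =>
      ⟨(fun g => (l g : ℂ)) * (θ : K → ℂ), IsIrrCharacter.mul_linear θ.2 l⟩
    have hφ : Function.Bijective φ := by
      refine Finite.injective_iff_bijective.mp fun θ θ' hθ => Subtype.ext (funext fun g => ?_)
      have h' := congrFun (congrArg Subtype.val hθ) g
      exact mul_left_cancel₀ (Units.ne_zero (l g)) h'
    have hsum := Equiv.sum_comp (Equiv.ofBijective φ hφ)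
      fun θ : Cfsg.IrrCharacter K => w ((θ : K → ℂ) 1) * (θ : K → ℂ) y
    have e' : ∀ θ : Cfsg.IrrCharacter K,
        w ((Equiv.ofBijective φ hφ θ : K → ℂ) 1) * (Equiv.ofBijective φ hφ θ : K → ℂ) y =
          (l y : ℂ) * (w ((θ : K → ℂ) 1) * (θ : K → ℂ) y) := fun θ => by
      simp only [Equiv.ofBijective_apply, φ, Pi.mul_apply, map_one, Units.val_one, one_mul]
      ring
    rw [Finset.sum_congr rfl fun θ _ => e' θ, ← Finset.mul_sum] at hsum
    have hl1 : (l y : ℂ) - 1 ≠ 0 := sub_ne_zero.mpr fun h' => hl (Units.ext h')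
    exact (mul_eq_zero.mp (show ((l y : ℂ) - 1) *
      ∑ θ : Cfsg.IrrCharacter K, w ((θ : K → ℂ) 1) * (θ : K → ℂ) y = 0 by
        rw [sub_mul, one_mul, hsum, sub_self])).resolve_left hl1
  rw [classFunction_expand_apply hf]
  simp only [hw, add_mul, Finset.sum_add_distrib, ite_mul, zero_mul, Finset.sum_ite_eq',
    Finset.mem_univ, if_true, hS, zero_add]
  simp [e]

variable {G : Type u} [Group G] [Fintype G] {M : Subgroup G} [Fintype M] {K : Subgroup M}
  {A : Set G} {H : G → Subgroup G}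

omit [Fintype G] in
theorem conjFun_eq_galFun {X : Type u} [Group X] (f : X → ℂ) :
    Cfsg.conjFun f = galFun (starRingAut : ℂ ≃+* ℂ) f := rfl

/-- (12.3): if `ψ - conj ψ` vanishes on the support of the Dade map over `K`, then `ψ` is orthogonal
to the images of the differences of conjugate members. -/
theorem orth_of_vanish (hS : KernelSetting M A H K) {ψ : G → ℂ} (hψ : IsSignedIrr G ψ)
    (hf : ∀ a : M, a ∈ K → a ≠ 1 → ∀ u ∈ H (a : G),
      (ψ - Cfsg.conjFun ψ) ((a : G) * u) = 0) :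
    OrthTo A H K ψ := by
  classical
  haveI := hS.normal
  haveI := Fintype.ofFinite K
  intro χ hχ
  obtain ⟨θ, hθ, hθ1, hne⟩ := exists_theta_of_charSet hχ
  obtain ⟨C, hC⟩ := exists_constituents hS hθ hθ1
  have hχC := hC.iff χ hχ.1 hne
  set X : (M → ℂ) → G → ℂ := fun φ => Cfsg.dadeIsometry A M H (φ - Cfsg.conjFun φ) with hX
  have hψ' : IsSignedIrr G (Cfsg.conjFun ψ) := by
    rw [conjFun_eq_galFun]; exact galFun_signed _ hψ
  have hfc := isClassFunction_generalized (IsGeneralizedCharacter.sub hψ.generalized hψ'.generalized)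
  have hsubmem : ∀ φ ∈ C, φ - Cfsg.conjFun φ ∈ Cfsg.zspanOn (CharSet K) {1}ᶜ := fun φ hφ =>
    Cfsg.Lib.Coherence.mem_one.mpr ⟨(Submodule.span ℤ (CharSet K)).sub_mem
      (Cfsg.Lib.Coherence.subset_zspan (hC.mem φ hφ))
      (Cfsg.Lib.Coherence.subset_zspan (conj_mem_charSet (hC.mem φ hφ))),
      by simp [Cfsg.Lib.Coherence.conj_apply_one (isCharacter_of_irr (hC.mem φ hφ).1)]⟩
  have hint : ∀ φ ∈ C, ∃ t : ℤ, Cfsg.classInner ψ (X φ) = t := fun φ hφ =>
    Cfsg.Lib.Coherence.inner_int hψ.generalized ((charSet_isometry hS).1.2.2.2 _ (hsubmem φ hφ))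
  choose! t ht using hint
  -- the sum over the constituents vanishes
  have hsum0 : Cfsg.classInner (ψ - Cfsg.conjFun ψ) (∑ φ ∈ C, X φ) = 0 := by
    rw [hX, ← dade_sum, Finset.sum_sub_distrib, ← conjFun_sum, ← hC.sum]
    have hα : Cfsg.indFun K θ - Cfsg.conjFun (Cfsg.indFun K θ) ∈ Cfsg.zspanOn (CharSet K) {1}ᶜ := by
      rw [hC.sum, conjFun_sum, ← Finset.sum_sub_distrib]
      exact (Cfsg.Lib.Coherence.spanOn (CharSet K) {1}ᶜ).sum_mem fun φ hφ => hsubmem φ hφ
    have hαc : Cfsg.IsClassFunction M (Cfsg.indFun K θ - Cfsg.conjFun (Cfsg.indFun K θ)) :=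
      fun x y => by simp [Cfsg.conjFun, isClassFunction_indFun K θ x y]
    rw [inner_dade' hS.dade hαc (charSet_off hS hα) hfc, classInner_def]
    refine mul_eq_zero_of_right _ (Finset.sum_eq_zero fun a _ => ?_)
    by_cases haK : a ∈ K
    · by_cases ha1 : a = 1
      · subst ha1
        rw [hα.2 1 (by simp), map_zero, mul_zero]
      · rw [rho_of_const ((hS.mem a).mpr ⟨ha1, a, haK, ha1, rfl⟩) (hf a haK ha1), zero_mul]
    · simp [Cfsg.conjFun, indFun_normal_not_mem K θ haK]
  have hanti : ∀ φ ∈ C, Cfsg.classInner (Cfsg.conjFun ψ) (X φ) = -(t φ : ℂ) := by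
    intro φ hφ
    have e : X φ = -Cfsg.conjFun (X φ) := by
      have h1 : Cfsg.conjFun (X φ) =
          Cfsg.dadeIsometry A M H (fun x => conj ((φ - Cfsg.conjFun φ) x)) := by
        rw [conjFun_eq_galFun, hX, galFun_dade]
        rfl
      have h2 : (fun x => conj ((φ - Cfsg.conjFun φ) x)) =
          ((-1 : ℤ) • (φ - Cfsg.conjFun φ) : M → ℂ) := by
        funext x; simp [Cfsg.conjFun]
      rw [h1, h2, dade_zsmul, neg_one_smul, neg_neg]
    rw [e, classInner_neg_right, Cfsg.Lib.Coherence.classInner_conjFun, ht φ hφ]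
    simp
  have hzero : ∑ φ ∈ C, t φ = 0 := by
    rw [classInner_sum_right] at hsum0
    have e : ∀ φ ∈ C, Cfsg.classInner (ψ - Cfsg.conjFun ψ) (X φ) = 2 * (t φ : ℂ) := fun φ hφ => by
      rw [classInner_sub_left, hanti φ hφ, ht φ hφ]; ring
    rw [Finset.sum_congr rfl e, ← Finset.mul_sum, ← Int.cast_sum] at hsum0
    exact_mod_cast (mul_eq_zero.mp hsum0).resolve_left two_ne_zero
  -- at most one term is nonzero
  obtain ⟨R, hR⟩ := charSet_system hS
  have hsigned : ∀ φ ∈ C, ∀ α ∈ R φ, IsSignedIrr G α := fun φ hφ α hα =>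
    signed_of_norm_one (hR.virtual φ (hC.mem φ hφ) α hα)
      (by simpa using hR.orthonormal φ (hC.mem φ hφ) α hα α hα)
  have hone : ∀ φ ∈ C, ∀ φ' ∈ C, t φ ≠ 0 → t φ' ≠ 0 → φ = φ' := by
    intro φ hφ φ' hφ' h h'
    by_contra hne
    have hget : ∀ φ ∈ C, t φ ≠ 0 → ∃ α ∈ R φ, Cfsg.classInner ψ α ≠ 0 := by
      intro φ hφ h
      by_contra hno
      push Not at hno
      have h0 := ht φ hφ
      simp only [hX] at h0
      rw [hR.sum_eq φ (hC.mem φ hφ), classInner_sum_right,
        Finset.sum_eq_zero hno] at h0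
      exact h (by exact_mod_cast h0.symm)
    obtain ⟨α, hα, hψα⟩ := hget φ hφ h
    obtain ⟨β, hβ, hψβ⟩ := hget φ' hφ' h'
    have horth : Cfsg.classInner φ φ' = 0 := by
      rw [classInner_irrChar (hC.mem φ hφ).1 (hC.mem φ' hφ').1, if_neg hne]
    have horth' : Cfsg.classInner φ (Cfsg.conjFun φ') = 0 := by
      have hirr : Cfsg.IsIrrCharacter M (Cfsg.conjFun φ') :=
        IsIrrCharacter.conjugate (hC.mem φ' hφ').1
      rw [classInner_irrChar (hC.mem φ hφ).1 hirr, if_neg]
      intro he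
      exact conj_not_mem hS hθ hC hφ' (he ▸ hφ)
    have h0 := hR.disjoint φ' (hC.mem φ' hφ') φ (hC.mem φ hφ) horth horth' α hα β hβ
    rcases hψ.eq_of_inner_ne (hsigned φ hφ α hα) hψα with e1 | e1
    · rw [← e1] at h0
      exact hψβ h0
    · rw [show α = -ψ by rw [e1, neg_neg], classInner_neg_left, neg_eq_zero] at h0
      exact hψβ h0
  by_contra hne'
  have htne : t χ ≠ 0 := fun h => hne' (by
    show Cfsg.classInner ψ (X χ) = 0
    rw [ht χ hχC, h, Int.cast_zero])
  rw [Finset.sum_eq_single χ (fun φ hφ hne => by_contra fun h => hne (hone φ hφ χ hχC h htne))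
    (fun h => absurd hχC h)] at hzero
  exact htne hzero

end Cfsg.Agent.PF
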