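import Cfsg.Agent.OddChar.PF.S12Signed
import Cfsg.Agent.Chars.Real
import Cfsg.Agent.S1491
import Cfsg.Agent.S1514
import Cfsg.Agent.S1536

/-!
# Section 12: the characters of a group of Type I that are nontrivial on the kernel (12.1), (12.2)

`K` is a normal Hall subgroup of `M` such that two elements with non-identity fixed points on `K`
commute modulo `K`, and `A` is the set of the non-identity elements with such fixed points.
-/

set_option linter.style.haveILetI false
set_option linter.unusedSectionVars false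

universe u

namespace Cfsg.Agent.PF

open scoped ComplexConjugate
open Cfsg.Lib.Chars

variable {G : Type u} [Group G] {M : Subgroup G}

/-- `x` has a non-identity fixed point on `K`. -/
def HasFix (K : Subgroup M) (x : M) : Prop := ∃ k ∈ K, k ≠ 1 ∧ x * k = k * x

/-- The irreducible characters nontrivial on `K`. -/
def CharSet (K : Subgroup M) : Set (M → ℂ) :=
  {χ | Cfsg.IsIrrCharacter M χ ∧ ∃ k ∈ K, χ k ≠ χ 1}

/-- The hypothesis (12.1). -/
structure KernelSetting (M : Subgroup G) (A : Set G) (H : G → Subgroup G) (K : Subgroup M) :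
    Prop where
  dade : Cfsg.DadeHypothesis A M H
  odd : Odd (Nat.card M)
  normal : K.Normal
  cop : (Nat.card K).Coprime K.index
  ne_bot : K ≠ ⊥
  mem : ∀ a : M, (a : G) ∈ A ↔ a ≠ 1 ∧ HasFix K a
  abel : ∀ x y : M, HasFix K x → HasFix K y → x * y * x⁻¹ * y⁻¹ ∈ K
  out : ∀ a : M, (a : G) ∈ A → a ∉ K → H (a : G) = ⊥

variable [Fintype G] [Fintype M] {K : Subgroup M}

omit [Fintype G] in
/-- An element without fixed points on `K` is a zero of the characters nontrivial on `K`. -/
theorem vanish_of_not_fix [hK : K.Normal] {χ : M → ℂ} (hχ : χ ∈ CharSet K) {x : M}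
    (hx : ¬ HasFix K x) : χ x = 0 := by
  classical
  let π := QuotientGroup.mk' K
  have hπ := QuotientGroup.mk'_surjective K
  set s := Finset.univ.filter fun θ : Cfsg.IrrCharacter M =>
    ∀ a ∈ K, (θ : M → ℂ) a = (θ : M → ℂ) 1 with hs
  have h1 : ∑ η : Cfsg.IrrCharacter (M ⧸ K), ‖(η : M ⧸ K → ℂ) (π x)‖ ^ 2 =
      ∑ θ ∈ s, ‖(θ : M → ℂ) x‖ ^ 2 := by
    refine Finset.sum_bij (fun η _ => (⟨_, IsIrrCharacter.comp_surjective η.2 π hπ⟩ :
      Cfsg.IrrCharacter M)) ?_ ?_ ?_ ?_
    · intro η _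
      refine Finset.mem_filter.mpr ⟨Finset.mem_univ _, fun a ha => ?_⟩
      show (η : M ⧸ K → ℂ) (π a) = (η : M ⧸ K → ℂ) (π 1)
      rw [map_one]
      exact congrArg _ ((QuotientGroup.eq_one_iff a).mpr ha)
    · intro η _ η' _ h
      refine Subtype.ext (funext fun q => ?_)
      obtain ⟨y, rfl⟩ := hπ q
      exact congrFun (congrArg Subtype.val h) y
    · intro θ hθ
      obtain ⟨b, hb, hθb⟩ := exists_factor π hπ (isCharacter_of_irr θ.2)
        (fun k hk => (Finset.mem_filter.mp hθ).2 k (by rwa [QuotientGroup.ker_mk'] at hk))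
      exact ⟨⟨b, irr_of_comp_irr hb π (hθb ▸ θ.2)⟩, Finset.mem_univ _, Subtype.ext hθb.symm⟩
    · intro η _
      rfl
  have h2 : Nat.card (Subgroup.centralizer ({x} : Set M)) ≤
      Nat.card (Subgroup.centralizer ({π x} : Set (M ⧸ K))) := by
    have hmem : ∀ y : Subgroup.centralizer ({x} : Set M),
        π y ∈ Subgroup.centralizer ({π x} : Set (M ⧸ K)) := fun y =>
      Subgroup.mem_centralizer_singleton_iff.mpr (by
        rw [← map_mul, ← map_mul, Subgroup.mem_centralizer_singleton_iff.mp y.2])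
    refine Nat.card_le_card_of_injective (fun y => (⟨π y, hmem y⟩ :
      Subgroup.centralizer ({π x} : Set (M ⧸ K)))) fun a b hab => ?_
    have hK' : (a : M)⁻¹ * b ∈ K := QuotientGroup.eq.mp (congrArg Subtype.val hab)
    have hc : x * ((a : M)⁻¹ * b) = (a : M)⁻¹ * b * x :=
      (Subgroup.mem_centralizer_singleton_iff.mp
        ((Subgroup.centralizer ({x} : Set M)).mul_mem (inv_mem a.2) b.2)).symm
    by_contra hne
    exact hx ⟨_, hK', fun h => hne (Subtype.ext (inv_mul_eq_one.mp h)), hc⟩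
  obtain ⟨hirr, k, hk, hkne⟩ := hχ
  have hmem : (⟨χ, hirr⟩ : Cfsg.IrrCharacter M) ∉ s := fun h => hkne ((Finset.mem_filter.mp h).2 k hk)
  have h3 : ∑ θ ∈ sᶜ, ‖(θ : M → ℂ) x‖ ^ 2 ≤ 0 := by
    have htot := Finset.sum_add_sum_compl s fun θ : Cfsg.IrrCharacter M => ‖(θ : M → ℂ) x‖ ^ 2
    rw [sum_norm_sq_irr x, ← h1, sum_norm_sq_irr (π x)] at htot
    have h2' : (Nat.card (Subgroup.centralizer ({x} : Set M)) : ℝ) ≤
        (Nat.card (Subgroup.centralizer ({π x} : Set (M ⧸ K))) : ℝ) := by exact_mod_cast h2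
    linarith
  have h4 := (Finset.sum_eq_zero_iff_of_nonneg fun θ _ => by positivity).mp
    (le_antisymm h3 (Finset.sum_nonneg fun θ _ => by positivity)) _ (Finset.mem_compl.mpr hmem)
  simpa using h4

omit [Fintype G] in
/-- A character trivial on `K` is constant on the cosets of `K`. -/
theorem apply_mul_of_not_mem [hK : K.Normal] {χ : M → ℂ} (hχ : Cfsg.IsIrrCharacter M χ)
    (h : χ ∉ CharSet K) (a : M) {k : M} (hk : k ∈ K) : χ (a * k) = χ a := by
  have hker : ∀ k ∈ K, χ k = χ 1 := fun k hk => by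
    by_contra hne
    exact h ⟨hχ, k, hk, hne⟩
  obtain ⟨b, -, hb⟩ := exists_factor (QuotientGroup.mk' K) (QuotientGroup.mk'_surjective K)
    (isCharacter_of_irr hχ) (fun k hk => hker k (by rwa [QuotientGroup.ker_mk'] at hk))
  rw [hb]
  show b (QuotientGroup.mk' K (a * k)) = b (QuotientGroup.mk' K a)
  rw [map_mul, show QuotientGroup.mk' K k = 1 from (QuotientGroup.eq_one_iff k).mpr hk, mul_one]

omit [Fintype G] in
theorem charSet_char {χ : M → ℂ} (hχ : χ ∈ CharSet K) : Cfsg.IsGeneralizedCharacter M χ :=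
  ⟨χ, 0, isCharacter_of_irr hχ.1, isCharacter_zero, (sub_zero χ).symm⟩

omit [Fintype G] in
theorem conj_mem_charSet {χ : M → ℂ} (hχ : χ ∈ CharSet K) : Cfsg.conjFun χ ∈ CharSet K := by
  obtain ⟨hirr, k, hk, hne⟩ := hχ
  refine ⟨IsIrrCharacter.conjugate hirr, k, hk, fun h => hne ?_⟩
  simpa [Cfsg.conjFun] using congrArg conj h

omit [Fintype G] in
theorem conj_ne_charSet (hodd : Odd (Nat.card M)) {χ : M → ℂ} (hχ : χ ∈ CharSet K) :
    Cfsg.conjFun χ ≠ χ := by
  intro h
  obtain ⟨hirr, k, hk, hne⟩ := hχ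
  have h2 := congrArg Subtype.val
    (eq_principal_of_real hodd ⟨χ, hirr⟩ fun g => Complex.conj_eq_iff_im.mp (congrFun h g))
  exact hne (by rw [show χ = _ from h2]; rfl)

omit [Fintype G] in
/-- The integer combinations vanishing at `1` live on `A`. -/
theorem charSet_off {A : Set G} {H : G → Subgroup G} (hS : KernelSetting M A H K) {α : M → ℂ}
    (hα : α ∈ Cfsg.zspanOn (CharSet K) {1}ᶜ) (x : M) (hx : (x : G) ∉ A) : α x = 0 := by
  haveI := hS.normal
  by_cases h1 : x = 1
  · exact hα.2 x (by simp [h1])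
  · refine Submodule.span_induction (p := fun f _ => f x = 0) (fun s hs => ?_) rfl
      (fun a b _ _ ha hb => by simp [ha, hb]) (fun n a _ ha => by simp [ha]) hα.1
    exact vanish_of_not_fix hs fun hf => hx ((hS.mem x).mpr ⟨h1, hf⟩)

theorem charSet_isometry {A : Set G} {H : G → Subgroup G} (hS : KernelSetting M A H K) :
    Cfsg.IsLinearIsometryOn (Cfsg.zspanOn (CharSet K) {1}ᶜ) (Cfsg.dadeIsometry A M H) ∧
      ∀ α ∈ Cfsg.zspanOn (CharSet K) {1}ᶜ, Cfsg.dadeIsometry A M H α 1 = 0 :=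
  dade_isometry hS.dade (fun _ hs => charSet_char hs) _ fun _ hα => charSet_off hS hα

omit [Fintype G] in
theorem charSet_nonempty (hne : K ≠ ⊥) : (CharSet K).Nonempty := by
  classical
  by_contra hno
  rw [Set.not_nonempty_iff_eq_empty] at hno
  obtain ⟨k, hk, hk1⟩ := (Subgroup.bot_or_exists_ne_one K).resolve_left hne
  have hall : ∀ χ : Cfsg.IrrCharacter M, (χ : M → ℂ) k = (χ : M → ℂ) 1 := fun χ => by
    by_contra h
    exact (Set.eq_empty_iff_forall_notMem.mp hno) χ ⟨χ.2, k, hk, h⟩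
  exact hk1 (isConj_one_left.mp ((isConj_iff_forall_irr k 1).mpr hall))

/-- A coherence system on the characters nontrivial on `K`. -/
theorem charSet_system {A : Set G} {H : G → Subgroup G} (hS : KernelSetting M A H K) :
    ∃ R : (M → ℂ) → Finset (G → ℂ),
      Cfsg.IsCoherenceSystem (CharSet K) (Cfsg.dadeIsometry A M H) R :=
  Cfsg.Agent.S1514.result _ (charSet_nonempty hS.ne_bot) (fun _ hχ => hχ.1)
    (fun _ hχ => ⟨conj_mem_charSet hχ, conj_ne_charSet hS.odd hχ⟩) _ (charSet_isometry hS).1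
    (charSet_isometry hS).2

/-- `ψ` is orthogonal to the Dade images of the differences of conjugate members. -/
def OrthTo (A : Set G) (H : G → Subgroup G) (K : Subgroup M) (ψ : G → ℂ) : Prop :=
  ∀ χ ∈ CharSet K, Cfsg.classInner ψ (Cfsg.dadeIsometry A M H (χ - Cfsg.conjFun χ)) = 0

variable {A : Set G} {H : G → Subgroup G} {R : (M → ℂ) → Finset (G → ℂ)}

theorem orth_R (hR : Cfsg.IsCoherenceSystem (CharSet K) (Cfsg.dadeIsometry A M H) R) {ψ : G → ℂ}
    (hψ : IsSignedIrr G ψ) (ho : OrthTo A H K ψ) {χ : M → ℂ} (hχ : χ ∈ CharSet K) {α : G → ℂ}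
    (hα : α ∈ R χ) : Cfsg.classInner ψ α = 0 := by
  classical
  have hn : ∀ α ∈ R χ, IsSignedIrr G α := fun α hα => signed_of_norm_one (hR.virtual χ hχ α hα)
    (by simpa using hR.orthonormal χ hχ α hα α hα)
  have hcard := Cfsg.Lib.Coherence.sys_card hR hχ (m := 1)
    (by rw [classInner_self_irr hχ.1]; norm_num)
  obtain ⟨a, b, hab, he⟩ := Finset.card_eq_two.mp hcard
  have hsum := hR.sum_eq χ hχ
  rw [he, Finset.sum_pair hab] at hsum
  have h0 := ho χ hχ
  rw [hsum] at h0
  have horth : Cfsg.classInner a b = 0 := by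
    simpa [hab] using hR.orthonormal χ hχ a (by simp [he]) b (by simp [he])
  rw [he, Finset.mem_insert, Finset.mem_singleton] at hα
  rcases hα with rfl | rfl
  · exact hψ.orth_pair (hn _ (by simp [he])) horth h0
  · exact hψ.orth_pair (hn _ (by simp [he])) (by rw [← classInner_conj_symm, horth, map_zero])
      (by rwa [add_comm])

theorem inner_part_eq_zero {ψ : G → ℂ} {P : Finset (G → ℂ)}
    (h : ∀ α ∈ P, Cfsg.classInner ψ α = 0) (c : (G → ℂ) → ℤ) :
    Cfsg.classInner ψ (Cfsg.Lib.Coherence.part P c) = 0 := by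
  rw [Cfsg.Lib.Coherence.part, Cfsg.Lib.Coherence.comb, classInner_sum_right]
  exact Finset.sum_eq_zero fun α hα => by rw [classInner_smul_right]; simp [h α hα]

/-- Orthogonality passes to the differences of members of equal degree. -/
theorem orth_diff (hS : KernelSetting M A H K) {ψ : G → ℂ} (hψ : IsSignedIrr G ψ)
    (ho : OrthTo A H K ψ) {χ χ' : M → ℂ} (hχ : χ ∈ CharSet K) (hχ' : χ' ∈ CharSet K)
    (hdeg : χ 1 = χ' 1) :
    Cfsg.classInner ψ (Cfsg.dadeIsometry A M H (χ - χ')) = 0 := by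
  obtain ⟨R, hR⟩ := charSet_system hS
  by_cases h1 : χ' = χ
  · subst h1
    have := dade_zsmul (A := A) (L := M) (H := H) 0 (χ' - χ')
    simp only [zero_smul] at this
    rw [sub_self, this, classInner_zero_right]
  by_cases h2 : χ' = Cfsg.conjFun χ
  · rw [h2]; exact ho χ hχ
  obtain ⟨c, d, -, -, -, he⟩ := Cfsg.Lib.Coherence.split_diff hR hχ hχ' h1 h2 hdeg (n := 1)
    (by rw [classInner_self_irr hχ.1]; norm_num)
  rw [he, classInner_sub_right, inner_part_eq_zero (fun α hα => orth_R hR hψ ho hχ hα),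
    inner_part_eq_zero (fun α hα => orth_R hR hψ ho hχ' hα), sub_zero]

end Cfsg.Agent.PF
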