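import Cfsg.Agent.OddChar.PF.S12Contradiction
import Cfsg.Agent.S1526

/-!
# Section 12: some maximal subgroup is not of Type I, (12.17)
-/

set_option linter.style.haveILetI false
set_option linter.unusedSectionVars false
set_option linter.unusedVariables false

universe u

namespace Cfsg.Agent.PF

open Subgroup
open Cfsg.Lib.OddLocal
open Cfsg.Lib.OddLocal.RankTwoMax
open Cfsg.Lib.Coprime (conjMap)

variable {G : Type u} [Group G] [Finite G]

/-- (12.17): not every maximal subgroup is of Type I. -/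
theorem not_all_typeI (hG : Cfsg.IsMinSimpleOddOrder G) (h : SupportFacts G) (h40 : P1540' G) :
    ∃ M : Subgroup G, IsCoatom M ∧ ¬ IsTypeI' M := by
  classical
  by_contra hno
  push Not at hno
  have hT := h.types
  have hfr : ∀ M : Subgroup G, IsCoatom M → FrobKer M := fun M hM => h40 M hM (hno M hM)
  have hcore : ∀ M : Subgroup G, IsCoatom M → Cfsg.fittingHallOf M = Cfsg.sigmaCore M :=
    fun M hM => by
      rw [← typeCore_of_I_II hG hT hM (Or.inl (hno M hM)), typeCore_eq_sigmaCore hG hT hM]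
  have hA : ∀ M : Subgroup G, IsCoatom M → ∀ a ∈ Cfsg.fittingHallOf M, a ≠ 1 → a ∈ typeA' M :=
    fun M hM a ha ha1 => by
      rw [typeA'_eq_of_frob (hno M hM) (hfr M hM)]
      exact ⟨ha, ha1⟩
  -- the centralisers stay inside
  have hcent : ∀ M : Subgroup G, IsCoatom M → ∀ a ∈ Cfsg.fittingHallOf M, a ≠ 1 →
      centralizer ({a} : Set G) ≤ M := by
    intro M hM a ha ha1
    by_contra hle
    obtain ⟨-, hD, hL⟩ := h.p1391 M hM _ (Or.inl rfl)
    obtain ⟨N, ⟨hN, hCN⟩, -⟩ := (hD a (hA M hM a ha ha1) hle).2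
    obtain ⟨-, -, -, -, ⟨haN, haN1⟩, -, -⟩ := hL a (hA M hM a ha ha1) hle N hN hCN
    rw [typeA'_eq_of_frob (hno N hN) (hfr N hN)] at haN
    refine haN1 ⟨?_, ha1⟩
    rw [typeCore_of_I_II hG hT hN (Or.inl (hno N hN))]
    exact haN.1
  have hnorm : ∀ M : Subgroup G, IsCoatom M →
      normalizer (Cfsg.fittingHallOf M : Set G) = M := fun M hM =>
    RankTwoMax.normalizer_eq hG hM (fun e => (hno M hM).1.2.2.1
      ((map_eq_bot_iff_of_injective _ M.subtype_injective).mp e))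
      (Cfsg.Lib.FittingHall.fittingHallOf_le M) (Cfsg.Lib.FittingHall.le_normalizer_fittingHallOf M)
  have hkappa : ∀ M : Subgroup G, IsCoatom M → Cfsg.kappa M = ∅ := by
    intro M hM
    obtain ⟨K, U, hd⟩ := exists_decomposition hG hM
    have hK := ((hT.p1380 M hM K U hd).mp (hno M hM)).1
    refine Set.eq_empty_iff_forall_notMem.mpr fun q hq => hd.hall.2.2 q hq.1 hq ?_
    rw [hK, relIndex_bot_left]
    exact hq.2.1
  -- the classes of maximal subgroups
  let Mx := {M : Subgroup G // IsCoatom M}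
  let S : Setoid Mx :=
    { r := fun a b => ∃ g : G, conjMap g a.1 = b.1
      iseqv :=
        { refl := fun a => ⟨1, Cfsg.Lib.Coprime.conjMap_one a.1⟩
          symm := fun {a b} => by
            rintro ⟨g, hg⟩
            exact ⟨g⁻¹, by rw [← hg, Cfsg.Lib.Coprime.conjMap_inv_conjMap]⟩
          trans := fun {a b c} => by
            rintro ⟨g, hg⟩ ⟨k, hk⟩
            exact ⟨k * g, by rw [← hk, ← hg, Cfsg.Lib.Coprime.conjMap_mul]⟩ } }
  haveI : Fintype (Quotient S) := Fintype.ofFinite _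
  let rep : Quotient S → Mx := fun i => i.out
  have hrep : ∀ M : Mx, ∃ g : G, conjMap g (rep ⟦M⟧).1 = M.1 := fun M =>
    Quotient.mk_out (s := S) M
  have hsame : ∀ M : Mx, Cfsg.sigma (rep ⟦M⟧).1 = Cfsg.sigma M.1 := fun M => by
    obtain ⟨g, hg⟩ := hrep M
    rw [← hg, sigma_conj (rep ⟦M⟧).2 g]
  have hι : 2 ≤ Fintype.card (Quotient S) := by
    by_contra hlt
    haveI hss : Subsingleton (Quotient S) :=
      Fintype.card_le_one_iff_subsingleton.mp (by omega)
    haveI : Nontrivial G := hG.2.1.toNontrivial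
    obtain ⟨M₀, hM₀, -⟩ := (IsCoatomic.eq_top_or_exists_le_coatom (⊥ : Subgroup G)).resolve_left
      bot_ne_top
    have hall : ∀ q : ℕ, q.Prime → q ∣ Nat.card G → q ∈ Cfsg.sigma M₀ := by
      intro q hq hd
      obtain ⟨N, hN, hqN⟩ := (sigma_partition hG).1 q hq hd
      rw [← hsame ⟨N, hN⟩] at hqN
      rw [← hsame ⟨M₀, hM₀⟩]
      rwa [Subsingleton.elim (⟦⟨M₀, hM₀⟩⟧ : Quotient S) ⟦⟨N, hN⟩⟧]
    have hidx : (Cfsg.sigmaCore M₀).index = 1 := by
      by_contra hne
      obtain ⟨q, hq, hd⟩ := Nat.exists_prime_and_dvd hne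
      exact (Sigma.sigmaCore_hall_top hG hM₀).2 q hq
        (hall q hq (hd.trans (index_dvd_card _))) hd
    exact hM₀.1 (top_le_iff.mp ((index_eq_one.mp hidx).ge.trans (Sigma.sigmaCore_le M₀)))
  refine Cfsg.Agent.S1526.result hG.1 hι (fun i => (rep i).1)
    (fun i => Cfsg.fittingHallOf (rep i).1) ?_ ?_ ?_ ?_ ?_ ?_ ?_
  · intro i
    refine lt_of_le_of_ne (Cfsg.Lib.FittingHall.fittingHallOf_le _) fun e =>
      (hno _ (rep i).2).1.2.2.2.1 ?_
    refine map_injective (rep i).1.subtype_injective ?_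
    rw [← MonoidHom.range_eq_map, range_subtype]
    exact e
  · exact fun i e => (hno _ (rep i).2).1.2.2.1
      ((map_eq_bot_iff_of_injective _ (rep i).1.subtype_injective).mp e)
  · exact fun i y hy k hk =>
      (mem_normalizer_iff.mp (Cfsg.Lib.FittingHall.le_normalizer_fittingHallOf _ hy) k).mp hk
  · exact fun i => hfr _ (rep i).2
  · intro i j hij
    rw [hcore _ (rep i).2, hcore _ (rep j).2]
    refine Nat.coprime_of_dvd fun q hq h1 h2 => hij ?_
    obtain ⟨g, hg⟩ := (sigma_partition hG).2 _ _ (rep i).2 (rep j).2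
      ⟨q, Sigma.sigmaCore_isPi q hq h1, Sigma.sigmaCore_isPi q hq h2⟩
    have h3 : (⟦rep i⟧ : Quotient S) = ⟦rep j⟧ := Quotient.sound ⟨g, hg.symm⟩
    rwa [Quotient.out_eq, Quotient.out_eq] at h3
  · intro i
    refine ⟨fun g hg a ha hga => ?_, hnorm _ (rep i).2⟩
    by_contra ha1
    have hga1 : g * a * g⁻¹ ≠ 1 := fun e => ha1 (conj_eq_one_iff.mp e)
    obtain ⟨m, hm, he⟩ := (h.p1391 _ (rep i).2 _ (Or.inl rfl)).1 a (hA _ (rep i).2 a ha ha1) g
      (hA _ (rep i).2 _ hga hga1)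
    rw [hnorm _ (rep i).2] at hg
    have hc : m⁻¹ * g ∈ centralizer ({a} : Set G) := by
      rw [mem_centralizer_singleton_iff]
      calc m⁻¹ * g * a = m⁻¹ * (g * a * g⁻¹) * g := by group
        _ = m⁻¹ * (m * a * m⁻¹) * g := by rw [he]
        _ = a * (m⁻¹ * g) := by group
    have := mul_mem hm (hcent _ (rep i).2 a ha ha1 hc)
    rw [mul_inv_cancel_left] at this
    exact hg this
  · intro g hg
    obtain ⟨M, hM, hgM⟩ := h.p1379.2.1 hkappa g hg
    rw [← hcore M hM] at hgM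
    obtain ⟨a, ⟨ha, ha1⟩, r, hr, y, rfl⟩ := hgM
    rw [supportR_of_le (hcent M hM a ha ha1), mem_bot] at hr
    subst hr
    obtain ⟨k, hk⟩ := hrep ⟨M, hM⟩
    have hk' : k⁻¹ * a * k ∈ Cfsg.fittingHallOf (rep ⟦⟨M, hM⟩⟧).1 := by
      have h1 : Cfsg.fittingHallOf (conjMap k (rep ⟦⟨M, hM⟩⟧).1) =
          conjMap k (Cfsg.fittingHallOf (rep ⟦⟨M, hM⟩⟧).1) :=
        TypeMap.fittingHallOf_im (MulAut.conj k) _
      rw [hk] at h1
      rw [← Cfsg.Lib.Coprime.mem_conjMap, ← h1]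
      exact ha
    refine ⟨⟦⟨M, hM⟩⟧, (y * k)⁻¹, ?_⟩
    rw [show (y * k)⁻¹ * (y * (a * 1) * y⁻¹) * (y * k)⁻¹⁻¹ = k⁻¹ * a * k by group]
    exact hk'

/-- Statement 1541 from the local analysis and the earlier sections. -/
theorem p1541_of (hG : Cfsg.IsMinSimpleOddOrder G) (f : S12Facts G) : P1541 G := by
  haveI := Fintype.ofFinite G
  obtain ⟨M, hM, hn⟩ := not_all_typeI hG f.support (p1540'_of hG f)
  exact ⟨M, hM, fun h => hn (isTypeI'_of h)⟩

end Cfsg.Agent.PF
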