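import Cfsg.Agent.OddChar.PF.Sec08Support
import Cfsg.Agent.OddChar.PF.S12Coherent
import Cfsg.Agent.OddLocal.TauTwoComplement
import Cfsg.Agent.OddLocal.SigmaNormalizer
import Cfsg.Agent.OddLocal.SigmaSupport

/-!
# Section 12: the witness primes of maximal subgroups of Type I that are not Frobenius groups

`Witness M p x` says that `x` is an element of order `p` of the maximal subgroup `M` of Type I, outside
`M_F`, with a non-identity fixed point on `M_F`.
-/

set_option linter.style.haveILetI false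
set_option linter.unusedSectionVars false
set_option linter.unusedVariables false

universe u

namespace Cfsg.Agent.PF

open Subgroup
open Cfsg.Lib.OddLocal
open Cfsg.Lib.OddLocal.RankTwoMax
open Cfsg.Lib.OddLocal.Uniqueness (IsSylowOf isSylowOf_sylow)
open Cfsg.Lib.Coprime (conjMap)

variable {G : Type u} [Group G] [Finite G] {M : Subgroup G} {p : ℕ} {x : G}

/-- An element of prime order outside `M_F` with a fixed point on `M_F`. -/
structure Witness (M : Subgroup G) (p : ℕ) (x : G) : Prop where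
  coatom : IsCoatom M
  typeI : IsTypeI' M
  prime : p.Prime
  order : orderOf x = p
  mem : x ∈ M
  out : x ∉ Cfsg.fittingHallOf M
  fix : ∃ k ∈ Cfsg.fittingHallOf M, k ≠ 1 ∧ x * k = k * x

omit [Finite G] in
theorem card_fittingHallOf (M : Subgroup G) :
    Nat.card (Cfsg.fittingHallOf M) = Nat.card (Cfsg.fittingHall M) :=
  card_map_of_injective M.subtype_injective

omit [Finite G] in
theorem relIndex_fittingHallOf (M : Subgroup G) :
    (Cfsg.fittingHallOf M).relIndex M = (Cfsg.fittingHall M).index := by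
  show ((Cfsg.fittingHallOf M).subgroupOf M).index = _
  rw [Cfsg.fittingHallOf, subgroupOf, comap_map_eq_self_of_injective M.subtype_injective]

/-- A power of prime order, prime to `|M_F|`, of an element outside `M_F`. -/
theorem exists_prime_power_out {a : G} (ha : a ∈ M) (haF : a ∉ Cfsg.fittingHallOf M) :
    ∃ r i : ℕ, r.Prime ∧ orderOf (a ^ i) = r ∧ a ^ i ∉ Cfsg.fittingHallOf M := by
  set b : M := ⟨a, ha⟩
  have hb : b ∉ Cfsg.fittingHall M := fun h => haF (mem_fittingHall_iff.mp h)
  set π := QuotientGroup.mk' (Cfsg.fittingHall M)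
  have hne : orderOf (π b) ≠ 1 := fun h =>
    hb ((QuotientGroup.eq_one_iff b).mp (orderOf_eq_one_iff.mp h))
  obtain ⟨r, hr, hd⟩ := Nat.exists_prime_and_dvd hne
  have hrK : ¬ r ∣ Nat.card (Cfsg.fittingHall M) := fun h =>
    hr.ne_one (Nat.eq_one_of_dvd_coprimes Cfsg.Lib.FittingHall.fittingHall_coprime h
      (hd.trans (orderOf_dvd_natCard _)))
  have hda : r ∣ orderOf a := by
    rw [← orderOf_mk a ha (H := M)]
    exact hd.trans (orderOf_map_dvd π b)
  refine ⟨r, orderOf a / r, hr, orderOf_pow_orderOf_div (orderOf_pos a).ne' hda, fun h => hrK ?_⟩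
  have := Subgroup.orderOf_dvd_natCard _ h
  rwa [orderOf_pow_orderOf_div (orderOf_pos a).ne' hda, card_fittingHallOf] at this

/-- A maximal subgroup of Type I that is not a Frobenius group has a witness. -/
theorem exists_witness (hM : IsCoatom M) (hI : IsTypeI' M) (hn : ¬ FrobKer M) :
    ∃ (p : ℕ) (x : G), Witness M p x := by
  simp only [FrobKer, not_forall] at hn
  obtain ⟨k, hk, hk1, hle⟩ := hn
  obtain ⟨a, ⟨haM, hac⟩, haF⟩ := SetLike.not_le_iff_exists.mp hle
  obtain ⟨r, i, hr, hord, hout⟩ := exists_prime_power_out haM haF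
  exact ⟨r, a ^ i, hM, hI, hr, hord, pow_mem haM i, hout, k, hk, hk1,
    (Commute.pow_left (show Commute a k from mem_centralizer_singleton_iff.mp hac) i).eq⟩

namespace Witness

theorem core_eq (hG : Cfsg.IsMinSimpleOddOrder G) (hT : TypeFacts G) (w : Witness M p x) :
    Cfsg.fittingHallOf M = Cfsg.sigmaCore M := by
  rw [← typeCore_of_I_II hG hT w.coatom (Or.inl w.typeI), typeCore_eq_sigmaCore hG hT w.coatom]

theorem zpowers_isPGroup (w : Witness M p x) : IsPGroup p (zpowers x) :=
  IsPGroup.of_card (n := 1) (by rw [Nat.card_zpowers, w.order, pow_one])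

theorem not_sigma (hG : Cfsg.IsMinSimpleOddOrder G) (hT : TypeFacts G) (w : Witness M p x) :
    p ∉ Cfsg.sigma M := fun hσ => by
  haveI := Fact.mk w.prime
  exact w.out (w.core_eq hG hT ▸
    le_sigmaCore_of_pgroup hG w.coatom hσ w.zpowers_isPGroup (zpowers_le.mpr w.mem) (mem_zpowers x))

theorem not_dvd (hG : Cfsg.IsMinSimpleOddOrder G) (hT : TypeFacts G) (w : Witness M p x) :
    ¬ p ∣ Nat.card (Cfsg.fittingHallOf M) := fun hd =>
  w.not_sigma hG hT (Sigma.sigmaCore_isPi p w.prime (w.core_eq hG hT ▸ hd))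

/-- The Sylow subgroups at a witness prime are not cyclic, so there is an elementary subgroup of
order `p²` through the witness. -/
theorem exists_sq (hG : Cfsg.IsMinSimpleOddOrder G) (hT : TypeFacts G) (w : Witness M p x) :
    ∃ A : Subgroup G, A ≤ M ∧ x ∈ A ∧ Cfsg.IsElementaryAbelian p A ∧ Nat.card A = p ^ 2 := by
  haveI := Fact.mk w.prime
  obtain ⟨R, hR, hxR⟩ := Sigma.exists_sylowOf w.zpowers_isPGroup (zpowers_le.mpr w.mem)
  have hx : x ∈ R := hxR (mem_zpowers x)
  obtain ⟨S, hS⟩ := hR.exists_sylow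
  have hnc : ¬ IsCyclic R := by
    intro hcyc
    obtain ⟨⟨-, -, -, -, U, -, hU, -, U₀, hU₀, hexp, hfree⟩, -⟩ := w.typeI
    -- the exponent puts an element of order `p` into the fixed-point-free part
    have hpU : p ∣ Nat.card U := by
      have h1 : p ∣ Nat.card M := w.order ▸ Subgroup.orderOf_dvd_natCard M w.mem
      rw [← hU.card_mul_card] at h1
      exact (w.prime.dvd_mul.mp h1).resolve_left
        (fun h => w.not_dvd hG hT (card_fittingHallOf M ▸ h))
    obtain ⟨u, hu⟩ := exists_prime_orderOf_dvd_card' (G := U) p hpU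
    have hp0 : p ∣ Nat.card U₀ :=
      ((hu ▸ Monoid.order_dvd_exponent u).trans hexp.symm.dvd).trans Group.exponent_dvd_nat_card
    obtain ⟨⟨v, hv⟩, hvo⟩ := exists_prime_orderOf_dvd_card' (G := U₀) p hp0
    rw [Subgroup.orderOf_mk] at hvo
    obtain ⟨T, hT'⟩ := (IsPGroup.of_card (n := 1) (p := p)
      (show Nat.card (zpowers v) = p ^ 1 by rw [Nat.card_zpowers, hvo, pow_one])).exists_le_sylow
    obtain ⟨m, hm⟩ := MulAction.exists_smul_eq M T S
    set v' : G := (m : G) * v * (m : G)⁻¹ with hv'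
    have hv'R : v' ∈ R := by
      rw [← hS]
      refine ⟨m * v * m⁻¹, ?_, rfl⟩
      rw [← hm, Sylow.coe_subgroup_smul]
      exact ⟨v, hT' (mem_zpowers v), rfl⟩
    have hv'o : orderOf v' = p := by
      rw [hv', ← hvo, ← Subgroup.orderOf_coe v]
      exact (MulAut.conj (m : G)).orderOf_eq (v : G)
    have hxv : x ∈ zpowers v' := by
      rw [eq_of_cyclic hcyc (zpowers_le.mpr hv'R) hxR
        (by rw [Nat.card_zpowers, Nat.card_zpowers, hv'o, w.order])]
      exact mem_zpowers x
    obtain ⟨k, hk, hk1, hxk⟩ := w.fix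
    have hx1 : x ≠ 1 := fun h => w.prime.ne_one (by rw [← w.order, h, orderOf_one])
    have hv'x : v' ∈ zpowers x := by
      have e : zpowers x = zpowers v' := (eq_of_cyclic hcyc (zpowers_le.mpr hv'R) hxR
        (by rw [Nat.card_zpowers, Nat.card_zpowers, hv'o, w.order])).symm
      rw [e]; exact mem_zpowers v'
    have hcomm : v' * k = k * v' := by
      obtain ⟨i, hi⟩ := mem_zpowers_iff.mp hv'x
      rw [← hi]; exact ((show Commute x k from hxk).zpow_left i).eq
    have hk' : k ∈ M := Cfsg.Lib.FittingHall.fittingHallOf_le M hk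
    set k' : M := m⁻¹ * ⟨k, hk'⟩ * m with hkdef
    have hk'K : k' ∈ Cfsg.fittingHall M := by
      have := (inferInstance : (Cfsg.fittingHall M).Normal).conj_mem _
        (mem_fittingHall_iff.mpr hk : (⟨k, hk'⟩ : M) ∈ Cfsg.fittingHall M) m⁻¹
      simpa [hkdef] using this
    have hvk : v * k' = k' * v := Subtype.ext (by
      show (v : G) * ((m : G)⁻¹ * k * m) = (m : G)⁻¹ * k * m * v
      calc (v : G) * ((m : G)⁻¹ * k * m) = (m : G)⁻¹ * (v' * k) * m := by rw [hv']; group
        _ = (m : G)⁻¹ * (k * v') * m := by rw [hcomm]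
        _ = (m : G)⁻¹ * k * m * v := by rw [hv']; group)
    have h1 := hfree v hv (fun h => w.prime.ne_one (by rw [← hvo, h, orderOf_one])) k' hk'K hvk
    refine hk1 ?_
    have h2 := congrArg (fun z : M => (m : G) * (z : G) * (m : G)⁻¹) h1
    simpa [hkdef, mul_assoc] using h2
  obtain ⟨B, hBR, hB, hBc⟩ := exists_sq_le hG w.coatom (w.not_sigma hG hT) hR.2.1 hR.1 hnc
  obtain ⟨-, hP, -⟩ := tau_two_theorem hG w.coatom (w.not_sigma hG hT) (hBR.trans hR.1) hB hBc
  refine ⟨B, hBR.trans hR.1, ((hP S).2 (hS.symm ▸ hBR)).1 x (hS.symm ▸ hx) |>.mp ?_, hB, hBc⟩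
  rw [← w.order]; exact pow_orderOf_eq_one x

end Witness

end Cfsg.Agent.PF
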