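import Cfsg.Agent.OddChar.PF.Sec08Dade
import Cfsg.Agent.OddChar.PF.S11Interface
import Cfsg.Agent.OddChar.PF.S09Facts
import Cfsg.Agent.Coprime.FrobeniusFixed
import Cfsg.Agent.Coprime.SolvableBasics

/-!
# Section 13: the maximal subgroups of type P

The structure of the paired maximal subgroups `S` and `T` from the sections before.
-/

set_option linter.unusedSectionVars false
set_option linter.unusedVariables false
set_option linter.style.haveILetI false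
set_option autoImplicit false

namespace Cfsg.Agent.PF

open Subgroup
open scoped Pointwise
open Cfsg.Lib.OddLocal
open Cfsg.Lib.OddLocal.Sigma
open Cfsg.Lib.OddLocal.RankTwoMax

universe u

variable {G : Type u} [Group G] [Finite G]

/-- What Section 13 takes from the sections before it. -/
structure Facts13 (G : Type u) [Group G] [Finite G] : Prop where
  types : TypeFacts G
  p1391 : P1391' G
  p1540 : P1540' G
  s9ex : S9Exists G
  s9 : S9Facts G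
  noV : S10NoTypeV G
  s11 : S11Facts G

/-- The data of the statements of the section. -/
structure Hyp13 (S T W₁ W₂ U V : Subgroup G) : Prop where
  maxS : IsCoatom S
  maxT : IsCoatom T
  dataS : Cfsg.IsTypePWith S W₁ U W₂
  dataT : Cfsg.IsTypePWith T W₂ V W₁
  inter : S ⊓ T = W₁ ⊔ W₂
  typeS : Cfsg.IsOfTypeII S ∨ Cfsg.IsOfTypeIII S ∨ Cfsg.IsOfTypeIV S ∨ Cfsg.IsOfTypeV S
  typeT : Cfsg.IsOfTypeII T ∨ Cfsg.IsOfTypeIII T ∨ Cfsg.IsOfTypeIV T ∨ Cfsg.IsOfTypeV T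
  one_II : Cfsg.IsOfTypeII S ∨ Cfsg.IsOfTypeII T

theorem card_complIn {A B M : Subgroup G} (h : Cfsg.IsComplIn A B M)
    (hn : M ≤ normalizer (A : Set G)) : Nat.card M = Nat.card A * Nat.card B := by
  have : A ⊔ B = M := le_antisymm (sup_le h.1 h.2.1) fun m hm => by
    obtain ⟨a, ha, b, hb, rfl⟩ := h.2.2.2 m hm
    exact mul_mem_sup ha hb
  rw [← this]
  exact Cfsg.Lib.Coprime.card_sup_of_inf_eq_bot (h.2.1.trans hn) h.2.2.1

variable {M W₁ U W₂ : Subgroup G}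

/-- Any data of type `P` of a maximal subgroup of type II, III or IV satisfy Hypothesis 9.1. -/
theorem hyp9_of (hM : IsCoatom M) (hP : Cfsg.IsTypePWith M W₁ U W₂)
    (h : Cfsg.IsOfTypeII M ∨ Cfsg.IsOfTypeIII M ∨ Cfsg.IsOfTypeIV M) : Hyp9 M W₁ U W₂ := by
  obtain ⟨V₁, U', V₂, hQ, hU', hq⟩ : ∃ V₁ U' V₂ : Subgroup G,
      Cfsg.IsTypePWith M V₁ U' V₂ ∧ U' ≠ ⊥ ∧ (Nat.card V₁).Prime := by
    rcases h with ⟨a, b, c, h1, h2, h3, -⟩ | ⟨a, b, c, h1, h2, h3, -⟩ | ⟨a, b, c, h1, h2, h3, -⟩ <;>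
      exact ⟨a, b, c, h1, h2, h3⟩
  have hn : M ≤ normalizer ((⁅M, M⁆ : Subgroup G) : Set G) :=
    Cfsg.Lib.Coprime.le_normalizer_commutator_right M M
  have hnH : ⁅M, M⁆ ≤ normalizer ((Cfsg.fittingHallOf M : Subgroup G) : Set G) :=
    (Subgroup.commutator_le_self M).trans
      (normal_subgroupOf_iff_le_normalizer (Cfsg.Lib.FittingHall.fittingHallOf_le M) |>.mp (by
        rw [show (Cfsg.fittingHallOf M).subgroupOf M = Cfsg.fittingHall M from
          Subgroup.comap_map_eq_self_of_injective M.subtype_injective _]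
        infer_instance))
  have hW : Nat.card W₁ = Nat.card V₁ :=
    Nat.eq_of_mul_eq_mul_left Nat.card_pos
      ((card_complIn hP.W₁_compl hn).symm.trans (card_complIn hQ.W₁_compl hn))
  have hUU : Nat.card U = Nat.card U' :=
    Nat.eq_of_mul_eq_mul_left Nat.card_pos
      ((card_complIn hP.U_compl hnH).symm.trans (card_complIn hQ.U_compl hnH))
  refine ⟨hM, hP, fun e => hU' ?_, hW ▸ hq⟩
  rw [← Subgroup.card_eq_one] at e ⊢
  rw [← hUU, e]

/-- In a maximal subgroup of type II a chief factor kernel is trivial. -/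
theorem typeII_kernel_eq_bot (h9 : S9Facts G) (h : Hyp9 M W₁ U W₂) (hII : Cfsg.IsOfTypeII M)
    (hW₂ : (Nat.card W₂).Prime) {H₀ : Subgroup G} (k : Kernel9 M U H₀) : H₀ = ⊥ := by
  obtain ⟨-, -, -, -, -, -, -, p, -, -, -, -, -, -, -, -, hpr⟩ := h9 M W₁ U W₂ h H₀ k
  obtain ⟨-, hW20⟩ := hpr hW₂
  set H := Cfsg.fittingHallOf M with hHdef
  have hUE : U ⊓ W₁ = ⊥ := Cfsg.Lib.Coprime.inf_eq_bot_of_coprime h.coprime_U_W
  have hcardL : Nat.card ↥(U ⊔ W₁) = Nat.card U * Nat.card W₁ :=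
    Cfsg.Lib.Coprime.card_sup_of_inf_eq_bot h.W₁_le_normalizer_U hUE
  have hcopL : (Nat.card H).Coprime (Nat.card ↥(U ⊔ W₁)) := hcardL ▸ h.coprime_H_UW
  have hLM : U ⊔ W₁ ≤ M := sup_le h.U_le h.W₁_le
  have e0 := Cfsg.Lib.FixedDim.frobenius_fixed_solvable U W₁ hUE h.W₁_le_normalizer_U h.fpf' _ H₀
    le_rfl (hLM.trans k.normal) (Cfsg.Lib.Coprime.isSolvable_of_le k.H₀_le h.solvable_H)
    (hcopL.coprime_dvd_left (Subgroup.card_dvd_of_le k.H₀_le))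
  have hW0 : H₀ ⊓ centralizer (W₁ : Set G) = W₂ ⊓ H₀ := by
    rw [← h.H_inf_centralizer]
    exact le_antisymm (fun x hx => ⟨⟨k.H₀_le hx.1, hx.2⟩, hx.1⟩) fun x hx => ⟨hx.2, hx.1.2⟩
  have hb : H₀ ⊓ centralizer ((U ⊔ W₁ : Subgroup G) : Set G) = ⊥ := le_bot_iff.mp (by
    rw [← hW20, ← hW0]
    exact inf_le_inf_left _ (centralizer_le (SetLike.coe_subset_coe.mpr le_sup_right)))
  rw [hW0, hW20, hb, Subgroup.card_bot, one_pow, one_mul, one_mul] at e0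
  have hcent : H₀ ≤ centralizer (U : Set G) := by
    rw [← inf_eq_left]
    exact Subgroup.eq_of_le_of_card_ge inf_le_left e0.le
  by_contra hne
  -- an element of `H₀` central in `H`
  haveI : Group.IsNilpotent H := h.nilpotent_H
  haveI : (H₀.subgroupOf H).Normal :=
    (normal_subgroupOf_iff_le_normalizer k.H₀_le).mpr (h.H_le.trans k.normal)
  obtain ⟨z, hz, hzc, hz1⟩ : ∃ z ∈ H₀, (∀ x ∈ H, x * z = z * x) ∧ z ≠ 1 := by
    have hne' : H₀.subgroupOf H ≠ ⊥ := fun e =>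
      hne (by rw [← inf_eq_left.mpr k.H₀_le]; exact disjoint_iff.mp (subgroupOf_eq_bot.mp e))
    obtain ⟨z, hz, hz1⟩ := (Subgroup.ne_bot_iff_exists_ne_one).mp
      (Cfsg.Lib.Coprime.inf_center_ne_bot (H₀.subgroupOf H) hne') |> fun ⟨z, hz⟩ =>
        (⟨z.1, z.2, fun e => hz (Subtype.ext e)⟩ : ∃ z, z ∈ H₀.subgroupOf H ⊓ center H ∧ z ≠ 1)
    exact ⟨z, hz.1, fun x hx => congrArg Subtype.val (mem_center_iff.mp hz.2 ⟨x, hx⟩),
      fun e => hz1 (Subtype.ext e)⟩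
  obtain ⟨V₁, U', V₂, hQ, hU', -, -, -, -, ⟨-, -, -, -, U'', hU''ne, hcompl, -, U₀, hU₀, hexp,
    hfpf⟩, hFeq⟩ := hII
  obtain ⟨u, hu, hu1⟩ : ∃ u ∈ U₀, u ≠ 1 := by
    by_contra hc
    push Not at hc
    have h1 : Monoid.exponent U₀ = 1 := by
      haveI : Subsingleton U₀ := ⟨fun a b => Subtype.ext ((hc _ a.2).trans (hc _ b.2).symm)⟩
      exact Monoid.exp_eq_one_iff.mpr inferInstance
    rw [hexp, Monoid.exp_eq_one_iff] at h1
    exact hU''ne ((Subgroup.eq_bot_iff_forall _).mpr fun x hx =>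
      congrArg Subtype.val (Subsingleton.elim (⟨x, hx⟩ : U'') 1))
  have huM : (u : G) ∈ Cfsg.fittingHallOf M ⊔ U := h.derived_eq.ge u.2
  obtain ⟨v, hv, x, hx, he⟩ :=
    (Cfsg.Lib.Coprime.mem_sup_of_le_normalizer (h.U_le.trans h.M_le_normalizer_H)).mp huM
  have hzH : z ∈ Cfsg.fittingHallOf ⁅M, M⁆ := hFeq ▸ k.H₀_le hz
  obtain ⟨z', hz', ez⟩ := hzH
  refine hz1 ?_
  rw [← ez, hfpf u hu hu1 z' hz' (Subtype.ext ?_), map_one]
  show (u : G) * z'.1 = z'.1 * (u : G)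
  rw [show z'.1 = z from ez]
  have h1 : x * z = z * x := mem_centralizer_iff.mp (hcent hz) x hx
  rw [← he, mul_assoc, h1, ← mul_assoc, hzc v hv, mul_assoc]

/-- A maximal subgroup of type III supports nobody and is supported by nobody. -/
theorem centralizer_le_of_typeIII (hG : Cfsg.IsMinSimpleOddOrder G) (hF : Facts13 G)
    (hM : IsCoatom M) (hP : Cfsg.IsTypePWith M W₁ U W₂) (hIII : Cfsg.IsOfTypeIII M) {x : G}
    (hx : x ∈ typeA0' M) : centralizer ({x} : Set G) ≤ M := by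
  by_contra hle
  obtain ⟨-, hA, hrest⟩ := hF.p1391 M hM _ (Or.inr rfl)
  obtain ⟨L, ⟨hL, hxL⟩, -⟩ := (hA x hx hle).2
  obtain ⟨-, -, -, -, hxA, hLt, hfrob⟩ := hrest x hx hle L hL hxL
  rcases hLt with hI | hII
  · -- a Frobenius group has `A = A₁`
    obtain ⟨hxA, hxA1⟩ := hxA
    unfold typeA' at hxA
    rw [if_pos hI] at hxA
    obtain ⟨hxM, hx1, y, hy, hy1, hc⟩ := hxA
    refine hxA1 ⟨?_, hx1⟩
    rw [typeCore_of_I_II hG hF.types hL (Or.inl hI)]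
    exact hF.p1540 L hL hI y hy hy1 ⟨hxM, mem_centralizer_singleton_iff.mpr hc⟩
  · obtain ⟨E, ⟨hEne, hEtop, hE⟩, hK⟩ := hfrob hII
    obtain ⟨w, hw, hw1⟩ := (Subgroup.bot_or_exists_ne_one W₁).resolve_left hP.W₁_ne
    obtain ⟨v, hv, hv1⟩ :=
      (Subgroup.bot_or_exists_ne_one W₂).resolve_left hP.selfNormalizing.2.1
    have hwM : w ∈ M := hP.W₁_compl.2.1 hw
    have hvH : v ∈ Cfsg.fittingHallOf M := (hP.W₂_le hv).1
    obtain ⟨v', hv', ev⟩ := hvH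
    set w' : M := ⟨w, hwM⟩
    have hwH : w' ∉ Cfsg.frobeniusKernel E := by
      rw [hK]
      intro hwk
      have h1 : w ∈ ⁅M, M⁆ := hP.U_compl.1 ⟨w', hwk, rfl⟩
      exact hw1 (Subgroup.mem_bot.mp (hP.W₁_compl.2.2.1 ▸ ⟨h1, hw⟩))
    have hvk : v' ∈ Cfsg.frobeniusKernel E := by rw [hK]; exact hv'
    have hv'1 : v' ≠ 1 := fun e => hv1 (by rw [← ev, e, map_one])
    have hcomm : w' * v' = v' * w' := Subtype.ext (by
      show w * v'.1 = v'.1 * w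
      rw [show v'.1 = v from ev]
      exact hP.selfNormalizing.2.2.2.1 w hw v hv)
    obtain ⟨g, hg⟩ : ∃ g : M, w' ∈ MulAut.conj g • E := by
      by_contra hc
      push Not at hc
      exact hwH (Or.inr hc)
    have hmem : ∀ (g y : M), y ∈ MulAut.conj g • E ↔ g⁻¹ * y * g ∈ E := fun g y => by
      rw [Subgroup.mem_pointwise_smul_iff_inv_smul_mem]
      simp [MulAut.smul_def, mul_assoc]
    have hvn : g⁻¹ * v' * g ∉ E := fun hc =>
      ((hvk.resolve_left hv'1) g) ((hmem g v').mpr hc)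
    have hbad := hE _ hvn
    have h1 : g⁻¹ * w' * g ∈ E := (hmem g w').mp hg
    have h2 : g⁻¹ * w' * g ∈ MulAut.conj (g⁻¹ * v' * g) • E := by
      rw [hmem]
      have : (g⁻¹ * v' * g)⁻¹ * (g⁻¹ * w' * g) * (g⁻¹ * v' * g) = g⁻¹ * w' * g :=
        calc (g⁻¹ * v' * g)⁻¹ * (g⁻¹ * w' * g) * (g⁻¹ * v' * g)
            = g⁻¹ * v'⁻¹ * (w' * v') * g := by group
          _ = g⁻¹ * v'⁻¹ * (v' * w') * g := by rw [hcomm]
          _ = g⁻¹ * w' * g := by group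
      rwa [this]
    have h3 : g⁻¹ * w' * g = 1 := Subgroup.mem_bot.mp (hbad ▸ ⟨h1, h2⟩)
    apply hw1
    have h4 : w' = 1 := by
      have : w' = g * (g⁻¹ * w' * g) * g⁻¹ := by group
      rw [this, h3]; group
    exact congrArg Subtype.val h4

variable {S T V : Subgroup G}

/-- (13.2) for `S`. -/
theorem structure_S (hG : Cfsg.IsMinSimpleOddOrder G) (hF : Facts13 G)
    (h : Hyp13 S T W₁ W₂ U V) :
    (Cfsg.IsOfTypeII S ∨ Cfsg.IsOfTypeIII S) ∧ (Nat.card W₁).Prime ∧ (Nat.card W₂).Prime ∧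
      (Nat.card W₁ < Nat.card W₂ → Cfsg.IsOfTypeII S) ∧
      Cfsg.IsElementaryAbelian (Nat.card W₂) (Cfsg.fittingHallOf S) ∧
      Nat.card (Cfsg.fittingHallOf S) = Nat.card W₂ ^ Nat.card W₁ ∧
      Cfsg.IsTISubset (Cfsg.typeA0 S) ∧ Subgroup.normalizer (Cfsg.typeA0 S) = S := by
  have red : ∀ {M : Subgroup G}, IsCoatom M →
      (Cfsg.IsOfTypeII M ∨ Cfsg.IsOfTypeIII M ∨ Cfsg.IsOfTypeIV M ∨ Cfsg.IsOfTypeV M) →
      Cfsg.IsOfTypeII M ∨ Cfsg.IsOfTypeIII M := by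
    intro M hM h'
    rcases h' with h' | h' | h' | h'
    · exact Or.inl h'
    · exact Or.inr h'
    · exact absurd h' (hF.s11.not_typeIV hM)
    · exact absurd h' (hF.noV M hM)
  have hS := red h.maxS h.typeS
  have hT := red h.maxT h.typeT
  have h9 := hyp9_of h.maxS h.dataS (hS.imp id Or.inl)
  have hq := h9.q_prime
  have hp : (Nat.card W₂).Prime := (hyp9_of h.maxT h.dataT (hT.imp id Or.inl)).q_prime
  have hA : typeA0' S = Cfsg.typeA0 S := by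
    have h1 : ¬ IsTypeI' S := not_typeI_of_P hG hF.types h.maxS h.typeS
    have h2 : ¬ Cfsg.IsOfTypeI S := fun hI => h1 (isTypeI'_of hI)
    unfold typeA0' Cfsg.typeA0 typeA' Cfsg.typeA
    rw [if_neg h1, if_neg h2]
    simp only [h1, h2]
  refine ⟨hS, hq, hp, fun hlt => hS.resolve_right fun hIII => ?_, ?_⟩
  · exact absurd (hF.s11 S W₁ U W₂ h.maxS (Or.inl hIII) h.dataS).p_lt_q (by omega)
  rw [← hA]
  rcases hS with hII | hIII
  · obtain ⟨H₀, k⟩ := hF.s9ex S W₁ U W₂ h9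
    have h0 := typeII_kernel_eq_bot hF.s9 h9 hII hp k
    obtain ⟨-, -, -, -, -, -, -, p, -, -, -, hcard, hcomm, hexp, -, -, hpr⟩ :=
      hF.s9 S W₁ U W₂ h9 H₀ k
    obtain ⟨hp2, -⟩ := hpr hp
    subst h0
    refine ⟨⟨⟨⟨fun a b => ?_⟩⟩, fun x hx => ?_⟩, ?_, (p1538_of hG hF.types hF.p1391 S h.maxS hII).1⟩
    · have := Subgroup.mem_bot.mp (hcomm (Subgroup.commutator_mem_commutator a.2 b.2))
      exact Subtype.ext (commutatorElement_eq_one_iff_mul_comm.mp this)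
    · rw [hp2]
      exact Subgroup.mem_bot.mp (hexp _ hx)
    · rw [hcard, hp2, Subgroup.card_bot, mul_one]
  · have st := hF.s11 S W₁ U W₂ h.maxS (Or.inl hIII) h.dataS
    obtain ⟨hN, hD⟩ := p1537_of hG hF.types hF.p1391 S h.maxS _ (Or.inr (Or.inr rfl))
    refine ⟨st.elementary, st.card_H, fun g hg x hx hgx => ?_, hN⟩
    exfalso
    obtain ⟨m, hm, he⟩ := hD.fusion x hx g hgx
    rw [hN] at hg
    have hc : m⁻¹ * g ∈ centralizer ({x} : Set G) := by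
      rw [mem_centralizer_singleton_iff]
      calc m⁻¹ * g * x = m⁻¹ * (g * x * g⁻¹) * g := by group
        _ = m⁻¹ * (m * x * m⁻¹) * g := by rw [he]
        _ = x * (m⁻¹ * g) := by group
    have := mul_mem hm (centralizer_le_of_typeIII hG hF h.maxS h.dataS hIII hx hc)
    rw [mul_inv_cancel_left] at this
    exact hg this

/-- Statement 1543 from the sections before. -/
theorem p1543_of (hG : Cfsg.IsMinSimpleOddOrder G) (hF : Facts13 G) :
    ∀ (S T W₁ W₂ U V : Subgroup G), IsCoatom S → IsCoatom T → Cfsg.IsTypePWith S W₁ U W₂ →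
      Cfsg.IsTypePWith T W₂ V W₁ → S ⊓ T = W₁ ⊔ W₂ → (Cfsg.IsOfTypeII S ∨ Cfsg.IsOfTypeII T) →
      (Cfsg.IsOfTypeII S ∨ Cfsg.IsOfTypeIII S ∨ Cfsg.IsOfTypeIV S ∨ Cfsg.IsOfTypeV S) →
      (Cfsg.IsOfTypeII T ∨ Cfsg.IsOfTypeIII T ∨ Cfsg.IsOfTypeIV T ∨ Cfsg.IsOfTypeV T) →
      (Cfsg.IsOfTypeII S ∨ Cfsg.IsOfTypeIII S) ∧ (Nat.card W₁ < Nat.card W₂ → Cfsg.IsOfTypeII S) ∧
        Cfsg.IsElementaryAbelian (Nat.card W₂) (Cfsg.fittingHallOf S) ∧
        Nat.card (Cfsg.fittingHallOf S) = Nat.card W₂ ^ Nat.card W₁ ∧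
        Cfsg.IsTISubset (Cfsg.typeA0 S) ∧ Subgroup.normalizer (Cfsg.typeA0 S) = S := by
  intro S T W₁ W₂ U V hS hT hSP hTP hST hII hS25 hT25
  obtain ⟨h1, -, -, h2, h3⟩ := structure_S hG hF ⟨hS, hT, hSP, hTP, hST, hS25, hT25, hII⟩
  exact ⟨h1, h2, h3⟩

end Cfsg.Agent.PF
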