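import Cfsg.Agent.OddChar.Rational
import Cfsg.Agent.Chars.Galois
import Cfsg.Agent.S1494
import Cfsg.Agent.S1495

/-!
# Section 13: values of the cyclic TI family

Off the conjugates of `W ∖ (W₁ ∪ W₂)` the family is additive; with `|W₁|` prime its nontrivial
first-row members are Galois conjugate and vanish nowhere on `W₂ ∖ 1`.
-/

set_option linter.unusedSectionVars false
set_option linter.style.haveILetI false
set_option autoImplicit false

namespace Cfsg.Agent.PF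

open Cfsg.Lib.Chars Cfsg.Lib.CyclicTI

universe u

variable {G : Type u} [Group G] [Fintype G] {W₁ W₂ : Subgroup G}
  {η : (↥(W₁ ⊔ W₂) →* ℂˣ) → (G → ℂ)}

/-- `g` is conjugate to an element of `W` outside both factors. -/
def InVcls (W₁ W₂ : Subgroup G) (g : G) : Prop :=
  ∃ x : G, x⁻¹ * g * x ∈ W₁ ⊔ W₂ ∧ x⁻¹ * g * x ∉ W₁ ∧ x⁻¹ * g * x ∉ W₂

/-- Off the conjugates of `W ∖ (W₁ ∪ W₂)` the family is additive. -/
theorem family_add (hη : Cfsg.IsCyclicTIFamily W₁ W₂ η) {φ ψ : ↥(W₁ ⊔ W₂) →* ℂˣ}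
    (hφ : OnFirst φ) (hψ : OnSecond ψ) {g : G} (hg : ¬ InVcls W₁ W₂ g) :
    η (φ * ψ) g = η φ g + η ψ g - 1 := by
  classical
  by_cases h1 : φ = 1
  · subst h1; rw [hom_one_mul, hη.map_one]; ring
  by_cases h2 : ψ = 1
  · subst h2; rw [hom_mul_one, hη.map_one]; ring
  have e := congrFun (hη.induced_eq φ ψ h1 h2 hφ hψ) g
  have h0 : Cfsg.indFun (W₁ ⊔ W₂) (fun w => 1 - (φ w : ℂ) - (ψ w : ℂ) + (φ w : ℂ) * (ψ w : ℂ)) g
      = 0 := by
    rw [indFun_apply, Finset.sum_eq_zero fun x _ => ?_, mul_zero]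
    by_cases hx : x⁻¹ * g * x ∈ W₁ ⊔ W₂
    · rw [extendByZero_mem _ hx]
      exact alpha_zero hφ hψ ⟨_, hx⟩ (by
        by_contra hc
        push Not at hc
        exact hg ⟨x, hx, hc.1, hc.2⟩)
    · exact extendByZero_not_mem _ hx
  rw [h0] at e
  linear_combination -e

theorem first_pow_card (hW : Cfsg.IsSelfNormalizingCyclic W₁ W₂) {φ : ↥(W₁ ⊔ W₂) →* ℂˣ}
    (hφ : OnFirst φ) (w : ↥(W₁ ⊔ W₂)) : φ w ^ Nat.card W₁ = 1 := by
  rw [← pr_mul hW w, map_mul, hφ _ (pr₂_mem hW w), mul_one, ← map_pow]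
  have h : (pr₁ hW w) ^ Nat.card W₁ = 1 := Subtype.ext (by
    have h1 : (⟨_, pr₁_mem hW w⟩ : W₁) ^ Nat.card W₁ = 1 := pow_card_eq_one'
    exact congrArg (fun z : W₁ => (z : G)) h1)
  rw [h, map_one]

/-- The nontrivial characters of a first row are Galois conjugate. -/
theorem first_conj (hW : Cfsg.IsSelfNormalizingCyclic W₁ W₂) (hq : (Nat.card W₁).Prime)
    {φ φ' : ↥(W₁ ⊔ W₂) →* ℂˣ} (hφ : OnFirst φ) (hφ1 : φ ≠ 1) (hφ' : OnFirst φ') (h1 : φ' ≠ 1) :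
    ∃ σ : ℂ ≃+* ℂ, autHom σ φ = φ' := by
  classical
  let O : Subgroup (↥(W₁ ⊔ W₂) →* ℂˣ) :=
    { carrier := {a | OnFirst a}
      one_mem' := onFirst_one
      mul_mem' := fun {a b} ha hb w hw => by
        rw [MonoidHom.mul_apply, ha w hw, hb w hw, mul_one]
      inv_mem' := fun {a} ha w hw => by rw [MonoidHom.inv_apply, ha w hw, inv_one] }
  have hO : Nat.card O = Nat.card W₁ := card_onFirst hW
  haveI := Fact.mk hq
  haveI : Finite O := Nat.finite_of_card_ne_zero (hO ▸ hq.ne_zero)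
  obtain ⟨k, hk⟩ := Submonoid.mem_powers_iff _ _ |>.mp
    (mem_powers_of_prime_card (G := O) hO (g := ⟨φ, hφ⟩) (g' := ⟨φ', hφ'⟩)
      fun e => hφ1 (congrArg Subtype.val e))
  have hk' : φ ^ k = φ' := by simpa using congrArg Subtype.val hk
  have hkq : k.Coprime (Nat.card W₁) := by
    refine (hq.coprime_iff_not_dvd.mpr fun ⟨j, hj⟩ => h1 ?_).symm
    rw [← hk', hj]
    refine MonoidHom.ext fun w => ?_
    show φ w ^ (Nat.card W₁ * j) = 1
    rw [pow_mul, first_pow_card hW hφ w, one_pow]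
  haveI : NeZero (Nat.card G) := ⟨Nat.card_pos.ne'⟩
  obtain ⟨u, hu⟩ := ZMod.unitsMap_surjective (Subgroup.card_subgroup_dvd_card W₁)
    (ZMod.unitOfCoprime k hkq)
  have hmod : (u : ZMod (Nat.card G)).val ≡ k [MOD Nat.card W₁] := by
    rw [← ZMod.natCast_eq_natCast_iff]
    have := congrArg (fun v : (ZMod (Nat.card W₁))ˣ => (v : ZMod (Nat.card W₁))) hu
    simp only [ZMod.unitsMap_val, ZMod.coe_unitOfCoprime, ZMod.cast_eq_val] at this
    exact this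
  obtain ⟨σ, hσ⟩ := exists_galConj_auto (m := Nat.card G) (ZMod.val_coe_unit_coprime u)
  refine ⟨σ, MonoidHom.ext fun w => Units.ext ?_⟩
  have hwq := first_pow_card hW hφ w
  rw [autHom_apply, hσ _ (by
    obtain ⟨j, hj⟩ := Subgroup.card_subgroup_dvd_card W₁
    rw [hj, ← Units.val_pow_eq_pow_val, pow_mul, hwq, one_pow, Units.val_one]),
    ← Units.val_pow_eq_pow_val, ← hk']
  congr 1
  exact pow_eq_pow_iff_modEq.mpr (hmod.of_dvd (orderOf_dvd_of_pow_eq_one hwq))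

/-- If one nontrivial member of a first row vanishes at `g`, all do. -/
theorem first_zero (hW : Cfsg.IsSelfNormalizingCyclic W₁ W₂)
    (hodd : Odd (Nat.card ↥(W₁ ⊔ W₂))) (hq : (Nat.card W₁).Prime)
    (hη : Cfsg.IsCyclicTIFamily W₁ W₂ η) {φ φ' : ↥(W₁ ⊔ W₂) →* ℂˣ} (hφ : OnFirst φ)
    (hφ1 : φ ≠ 1) (hφ' : OnFirst φ') (h1 : φ' ≠ 1) {g : G} (hg : η φ g = 0) : η φ' g = 0 := by
  obtain ⟨σ, rfl⟩ := first_conj hW hq hφ hφ1 hφ' h1
  rw [← family_map_auto hW hodd hη σ φ g, hg, map_zero]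

/-- A first-row member does not vanish on `W₂ ∖ 1`. -/
theorem first_ne_zero (hW : Cfsg.IsSelfNormalizingCyclic W₁ W₂) (hq : (Nat.card W₁).Prime)
    (hη : Cfsg.IsCyclicTIFamily W₁ W₂ η) {φ : ↥(W₁ ⊔ W₂) →* ℂˣ} (hφ : OnFirst φ)
    {b : G} (hb : b ∈ W₂) (hb1 : b ≠ 1) : η φ b ≠ 0 := by
  classical
  intro h0
  obtain ⟨a, ha, ha1⟩ := (Subgroup.bot_or_exists_ne_one W₁).resolve_left hW.1
  haveI := Fact.mk hq
  have hord : orderOf a = Nat.card W₁ := by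
    refine orderOf_eq_prime ?_ ha1
    exact congrArg (fun z : W₁ => (z : G))
      (pow_card_eq_one' (G := W₁) (x := ⟨a, ha⟩))
  have hgen : Cfsg.IsGeneralizedCharacter G (η φ) := by
    rcases hη.irr_or_neg φ with h | h
    · exact ⟨η φ, 0, isCharacter_of_irr h, isCharacter_zero, (sub_zero _).symm⟩
    · exact ⟨0, -η φ, isCharacter_zero, isCharacter_of_irr h, by simp⟩
  obtain ⟨ω, hω, he⟩ := Cfsg.Agent.S1494.result (η φ) hgen _ hq a b hord (hW.2.2.2.1 a ha b hb)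
  have hab : a * b ∈ W₁ ⊔ W₂ := Subgroup.mul_mem_sup ha hb
  have hn1 : a * b ∉ W₁ := fun h => hb1 (by
    have h' : b ∈ W₁ ⊓ W₂ := ⟨by simpa using mul_mem (inv_mem ha) h, hb⟩
    rwa [hW.2.2.1, Subgroup.mem_bot] at h')
  have hn2 : a * b ∉ W₂ := fun h => ha1 (by
    have h' : a ∈ W₁ ⊓ W₂ := ⟨ha, by simpa using mul_mem h (inv_mem hb)⟩
    rwa [hW.2.2.1, Subgroup.mem_bot] at h')
  have hval : η φ (a * b) = (φ ⟨a * b, hab⟩ : ℂ) := hη.eq_on φ ⟨a * b, hab⟩ hn1 hn2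
  rw [h0, sub_zero, hval] at he
  have hroot := first_pow_card hW hφ ⟨a * b, hab⟩
  set ρ : ℂˣ := φ ⟨a * b, hab⟩
  have hinv : IsIntegral ℤ ((ρ⁻¹ : ℂˣ) : ℂ) := by
    refine isIntegral_of_pow_eq_one (m := Nat.card W₁) Nat.card_pos ?_
    rw [← Units.val_pow_eq_pow_val, inv_pow, hroot, inv_one, Units.val_one]
  have hdiv := Cfsg.Agent.S1495.result _ hq 1 (ω * ((ρ⁻¹ : ℂˣ) : ℂ)) (hω.mul hinv) (by
    rw [← mul_assoc, ← he, Int.cast_one, ← Units.val_mul, mul_inv_cancel, Units.val_one])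
  have := Int.eq_one_of_dvd_one (by positivity) hdiv
  exact hq.ne_one (by exact_mod_cast this)

end Cfsg.Agent.PF
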