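import Cfsg.Agent.Chars.NonVanish
import Cfsg.Agent.Chars.Construct
import Cfsg.Agent.OddChar.Coherence

/-!
# Section 13: squares of nonzero values sum to at least their number

On a set closed under the powers prime to the order of the group, a generalized character that
vanishes nowhere there has mean square at least one.
-/

set_option linter.unusedSectionVars false
set_option autoImplicit false

universe u

namespace Cfsg.Agent.PF

open Cfsg.Lib.Chars
open scoped ComplexConjugate

variable {G : Type u} [Group G] [Fintype G]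

/-- A Galois automorphism moves values of generalized characters to powers. -/
theorem s13_galConj_apply {σ : ℂ ≃+* ℂ} {k : ℕ} (hσ : IsGalConj σ (Nat.card G) k) {f : G → ℂ}
    (hf : Cfsg.IsGeneralizedCharacter G f) (g : G) : σ (f g) = f (g ^ k) := by
  obtain ⟨a, b, ha, hb, rfl⟩ := hf
  simp only [Pi.sub_apply, map_sub, IsGalConj.apply_character hσ ha (orderOf_dvd_natCard g),
    IsGalConj.apply_character hσ hb (orderOf_dvd_natCard g)]

theorem s13_isIntegral {f : G → ℂ} (hf : Cfsg.IsGeneralizedCharacter G f) (g : G) :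
    IsIntegral ℤ (f g) := by
  obtain ⟨a, b, ha, hb, rfl⟩ := hf
  exact (IsCharacter.isIntegral ha g).sub (IsCharacter.isIntegral hb g)

theorem s13_mem_cycField [NeZero (Nat.card G)] {f : G → ℂ}
    (hf : Cfsg.IsGeneralizedCharacter G f) (g : G) : f g ∈ cycField (Nat.card G) := by
  obtain ⟨a, b, ha, hb, rfl⟩ := hf
  exact sub_mem (IsCharacter.mem_cycField ha (orderOf_dvd_natCard g))
    (IsCharacter.mem_cycField hb (orderOf_dvd_natCard g))

/-- The squares of the absolute values at the generators of a cyclic subgroup average at least one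
as soon as none vanishes. -/
theorem s13_units_le [NeZero (Nat.card G)] {f : G → ℂ} (hf : Cfsg.IsGeneralizedCharacter G f)
    {g : G} (hne : ∀ k : (ZMod (Nat.card G))ˣ, f (g ^ (k : ZMod (Nat.card G)).val) ≠ 0) :
    (Fintype.card (ZMod (Nat.card G))ˣ : ℝ) ≤
      ∑ k : (ZMod (Nat.card G))ˣ, ‖f (g ^ (k : ZMod (Nat.card G)).val)‖ ^ 2 := by
  classical
  set m := Nat.card G with hm
  set y := ∏ k : (ZMod m)ˣ, f (g ^ (k : ZMod m).val) with hy
  obtain ⟨q, hq⟩ := rat_of_galConj_fixed (z := y) (prod_mem fun k _ => s13_mem_cycField hf _)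
    fun σ j hj hσ => by
      rw [hy, map_prod]
      refine Fintype.prod_equiv (Equiv.mulRight (ZMod.unitOfCoprime j hj)) _ _ fun k => ?_
      rw [s13_galConj_apply hσ hf, ← pow_mul]
      congr 1
      rw [pow_eq_pow_iff_modEq]
      refine Nat.ModEq.of_dvd (orderOf_dvd_natCard g)
        ((ZMod.natCast_eq_natCast_iff' _ _ _).mp ?_ : _ % m = _ % m)
      simp
  obtain ⟨z, hz⟩ := int_of_isIntegral_rat (q := q)
    (hq ▸ IsIntegral.prod _ fun k _ => s13_isIntegral hf _)
  have hz0 : z ≠ 0 := fun h => by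
    have : y ≠ 0 := Finset.prod_ne_zero_iff.mpr fun k _ => hne k
    apply this
    rw [hq, hz, h]
    simp
  have h1 : 1 ≤ ‖y‖ ^ 2 := by
    rw [hq, hz, Rat.cast_intCast, Complex.norm_intCast]
    exact one_le_pow₀ (by exact_mod_cast Int.one_le_abs hz0)
  set x : (ZMod m)ˣ → ℝ := fun k => ‖f (g ^ (k : ZMod m).val)‖ ^ 2 with hx
  have hxpos : ∀ k, 0 < x k := fun k => pow_pos (norm_pos_iff.mpr (hne k)) 2
  have hlog : 0 ≤ ∑ k, Real.log (x k) := by
    rw [← Real.log_prod (fun k _ => (hxpos k).ne')]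
    refine Real.log_nonneg ?_
    rwa [hx, Finset.prod_pow, ← norm_prod]
  have hle : ∑ k, Real.log (x k) ≤ ∑ k, (x k - 1) :=
    Finset.sum_le_sum fun k _ => Real.log_le_sub_one_of_pos (hxpos k)
  rw [Finset.sum_sub_distrib, Finset.sum_const, Finset.card_univ, nsmul_one] at hle
  linarith

/-- A set of elements containing, with each one, its powers of exponent prime to the order. -/
def PowClosed (X : Finset G) : Prop :=
  ∀ x ∈ X, ∀ k : ℕ, k.Coprime (Nat.card G) → x ^ k ∈ X

/-- A generalized character vanishing nowhere on a closed set. -/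
theorem s13_card_le {f : G → ℂ} (hf : Cfsg.IsGeneralizedCharacter G f) {X : Finset G}
    (hX : PowClosed X) (hne : ∀ x ∈ X, f x ≠ 0) : (X.card : ℝ) ≤ ∑ x ∈ X, ‖f x‖ ^ 2 := by
  classical
  haveI : NeZero (Nat.card G) := ⟨Nat.card_pos.ne'⟩
  set m := Nat.card G with hm
  have hswap : ∀ k : (ZMod m)ˣ,
      ∑ x ∈ X, ‖f (x ^ (k : ZMod m).val)‖ ^ 2 = ∑ x ∈ X, ‖f x‖ ^ 2 := by
    intro k
    have hk : ((k : ZMod m).val).Coprime m := ZMod.val_coe_unit_coprime k
    have hinj : Set.InjOn (fun x : G => x ^ (k : ZMod m).val) (X : Set G) :=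
      fun a _ b _ h => (Nat.Coprime.pow_left_bijective hk.symm).1 h
    rw [← Finset.sum_image (f := fun x => ‖f x‖ ^ 2) hinj]
    refine Finset.sum_congr (Finset.eq_of_subset_of_card_le ?_ ?_) fun _ _ => rfl
    · intro y hy
      obtain ⟨x, hx, rfl⟩ := Finset.mem_image.mp hy
      exact hX x hx _ hk
    · rw [Finset.card_image_of_injOn hinj]
  have hmain : (Fintype.card (ZMod m)ˣ : ℝ) * X.card ≤
      (Fintype.card (ZMod m)ˣ : ℝ) * ∑ x ∈ X, ‖f x‖ ^ 2 := by
    calc (Fintype.card (ZMod m)ˣ : ℝ) * X.card = ∑ _x ∈ X, (Fintype.card (ZMod m)ˣ : ℝ) := by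
          rw [Finset.sum_const, nsmul_eq_mul, mul_comm]
      _ ≤ ∑ x ∈ X, ∑ k : (ZMod m)ˣ, ‖f (x ^ (k : ZMod m).val)‖ ^ 2 :=
          Finset.sum_le_sum fun x hx => s13_units_le hf fun k =>
            hne _ (hX x hx _ (ZMod.val_coe_unit_coprime k))
      _ = ∑ k : (ZMod m)ˣ, ∑ x ∈ X, ‖f (x ^ (k : ZMod m).val)‖ ^ 2 := Finset.sum_comm
      _ = _ := by
          rw [Finset.sum_congr rfl fun k _ => hswap k, Finset.sum_const, Finset.card_univ,
            nsmul_eq_mul]
  exact le_of_mul_le_mul_left hmain (by exact_mod_cast Fintype.card_pos)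

/-- Two generalized characters that nowhere on a closed set vanish together. -/
theorem s13_card_le_pair {f g : G → ℂ} (hf : Cfsg.IsGeneralizedCharacter G f)
    (hg : Cfsg.IsGeneralizedCharacter G g) {X : Finset G} (hX : PowClosed X)
    (hne : ∀ x ∈ X, f x ≠ 0 ∨ g x ≠ 0) :
    (X.card : ℝ) ≤ ∑ x ∈ X, (‖f x‖ ^ 2 + ‖g x‖ ^ 2) := by
  classical
  haveI : NeZero (Nat.card G) := ⟨Nat.card_pos.ne'⟩
  have hzero : ∀ x : G, f x = 0 → ∀ k : ℕ, k.Coprime (Nat.card G) → f (x ^ k) = 0 := by
    intro x hx k hk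
    obtain ⟨σ, hσ⟩ := exists_galConj_auto (m := Nat.card G) hk
    rw [← s13_galConj_apply hσ hf, hx, map_zero]
  have hne' : ∀ x : G, f x ≠ 0 → ∀ k : ℕ, k.Coprime (Nat.card G) → f (x ^ k) ≠ 0 := by
    intro x hx k hk he
    obtain ⟨σ, hσ⟩ := exists_galConj_auto (m := Nat.card G) hk
    rw [← s13_galConj_apply hσ hf] at he
    exact hx ((map_eq_zero σ).mp he)
  rw [← Finset.card_filter_add_card_filter_not (s := X) fun x => f x ≠ 0, Nat.cast_add,
    Finset.sum_add_distrib]
  refine add_le_add ((s13_card_le hf ?_ fun x hx => (Finset.mem_filter.mp hx).2).trans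
    (Finset.sum_le_sum_of_subset_of_nonneg (Finset.filter_subset _ _) fun _ _ _ => sq_nonneg _))
    ((s13_card_le hg ?_ fun x hx => ?_).trans
    (Finset.sum_le_sum_of_subset_of_nonneg (Finset.filter_subset _ _) fun _ _ _ => sq_nonneg _))
  · intro x hx k hk
    rw [Finset.mem_filter] at hx ⊢
    exact ⟨hX x hx.1 k hk, hne' x hx.2 k hk⟩
  · intro x hx k hk
    rw [Finset.mem_filter, not_not] at hx ⊢
    exact ⟨hX x hx.1 k hk, hzero x hx.2 k hk⟩
  · rw [Finset.mem_filter, not_not] at hx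
    exact (hne x hx.1).resolve_left fun h => h hx.2

end Cfsg.Agent.PF
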