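import Cfsg.Agent.OddChar.Dual
import Cfsg.Agent.OddChar.Coherence
import Cfsg.Prelude.Def_OddOrderChar

/-!
# Section 13: lower bounds for the mass of a virtual character

On an abelian group the mass off the identity is a sum of squared differences of Fourier
coefficients.  The mass on the classes of a trivial-intersection set is
proportional to the mass on the set.
-/

set_option linter.style.haveILetI false
set_option linter.unusedSectionVars false
set_option linter.unusedVariables false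
set_option autoImplicit false

universe u

namespace Cfsg.Agent.PF

open Cfsg.Lib.Chars Cfsg.Lib.Dual
open scoped ComplexConjugate

/-! ### Abelian groups -/

section Abelian

variable {A : Type u} [Group A] [Fintype A]

/-- Parseval's formula, with integer coefficients. -/
theorem sum_norm_sq_off_one [Fintype (A →* ℂˣ)] (hA : ∀ a b : A, a * b = b * a) {f : A → ℂ}
    {n : (A →* ℂˣ) → ℤ} (hn : ∀ ω, Cfsg.classInner f (ev ω) = n ω) [DecidableEq A] :
    ∑ a ∈ Finset.univ.erase 1, ‖f a‖ ^ 2 =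
      ((Nat.card A : ℤ) * ∑ ω, n ω ^ 2 - (∑ ω, n ω) ^ 2 : ℤ) := by
  classical
  have hexp : f = fun a => ∑ ω, (n ω : ℂ) * ev ω a := funext fun a => by
    rw [expand hA f a]; exact Finset.sum_congr rfl fun ω _ => by rw [hn]
  have h1 : f 1 = ((∑ ω, n ω : ℤ) : ℂ) := by
    rw [hexp]; push_cast; exact Finset.sum_congr rfl fun ω _ => by simp [ev]
  have hinner : Cfsg.classInner f f = ((∑ ω, n ω ^ 2 : ℤ) : ℂ) := by
    conv_lhs => arg 2; rw [hexp]
    rw [show (fun a => ∑ ω, (n ω : ℂ) * ev ω a) = ∑ ω, (n ω : ℂ) • ev ω from funext fun a => by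
      simp [Finset.sum_apply], classInner_sum_right]
    push_cast
    refine Finset.sum_congr rfl fun ω _ => ?_
    rw [classInner_smul_right, hn, map_intCast]
    ring
  have htot : ∑ a, ‖f a‖ ^ 2 = (Nat.card A : ℝ) * ((∑ ω, n ω ^ 2 : ℤ) : ℝ) := by
    have h := congrArg Complex.re (hinner.symm.trans (classInner_self f))
    rw [Complex.ofReal_re, Complex.intCast_re] at h
    rw [h, ← mul_assoc, mul_inv_cancel₀ (Nat.cast_ne_zero.mpr Nat.card_pos.ne'), one_mul]
  have hsplit := Finset.add_sum_erase Finset.univ (fun a => ‖f a‖ ^ 2) (Finset.mem_univ (1 : A))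
  rw [htot, h1, Complex.norm_intCast, sq_abs] at hsplit
  push_cast at hsplit ⊢
  linarith

theorem sum_pairs {ι : Type*} [Fintype ι] (n : ι → ℤ) :
    ∑ i, ∑ j, (n i - n j) ^ 2 =
      2 * ((Fintype.card ι : ℤ) * ∑ i, n i ^ 2 - (∑ i, n i) ^ 2) := by
  simp only [sub_sq, Finset.sum_add_distrib, Finset.sum_sub_distrib, Finset.sum_const,
    Finset.card_univ, nsmul_eq_mul, ← Finset.mul_sum, ← Finset.sum_mul]
  ring

/-- Integers not all equal. -/
theorem card_sub_one_le_pairs {ι : Type*} [Fintype ι] [DecidableEq ι] {n : ι → ℤ} {a b : ι}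
    (h : n a ≠ n b) :
    (Fintype.card ι : ℤ) - 1 ≤ (Fintype.card ι : ℤ) * ∑ i, n i ^ 2 - (∑ i, n i) ^ 2 := by
  set A := Finset.univ.filter fun i => n i = n a with hA
  set B := Finset.univ.filter fun i => n i ≠ n a with hB
  have hcard : A.card + B.card = Fintype.card ι :=
    (Finset.card_filter_add_card_filter_not _).trans Finset.card_univ
  have hA1 : 1 ≤ A.card := Finset.card_pos.mpr ⟨a, by simp [hA]⟩
  have hB1 : 1 ≤ B.card := Finset.card_pos.mpr ⟨b, by simp [hB, Ne.symm h]⟩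
  have h2 : (2 * (A.card * B.card : ℕ) : ℤ) ≤ ∑ i, ∑ j, (n i - n j) ^ 2 := by
    rw [← Finset.sum_filter_add_sum_filter_not Finset.univ (fun i => n i = n a), ← hA, ← hB]
    have key : ∀ (S T : Finset ι), (∀ i ∈ S, ∀ j ∈ T, n i ≠ n j) →
        ((S.card * T.card : ℕ) : ℤ) ≤ ∑ i ∈ S, ∑ j, (n i - n j) ^ 2 := by
      intro S T hne
      calc ((S.card * T.card : ℕ) : ℤ) = ∑ i ∈ S, ∑ j ∈ T, (1 : ℤ) := by simp
        _ ≤ ∑ i ∈ S, ∑ j ∈ T, (n i - n j) ^ 2 := Finset.sum_le_sum fun i hi =>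
            Finset.sum_le_sum fun j hj => Int.one_le_abs (sub_ne_zero.mpr (hne i hi j hj)) |>.trans
              (by rw [← sq_abs]; exact le_self_pow₀ (Int.one_le_abs (sub_ne_zero.mpr (hne i hi j hj))) two_ne_zero)
        _ ≤ ∑ i ∈ S, ∑ j, (n i - n j) ^ 2 := Finset.sum_le_sum fun i _ =>
            Finset.sum_le_sum_of_subset_of_nonneg (Finset.subset_univ _) fun j _ _ => sq_nonneg _
    have hk1 := key A B fun i hi j hj e => by
      simp only [hA, hB, Finset.mem_filter] at hi hj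
      exact hj.2 (e ▸ hi.2)
    have hk2 := key B A fun i hi j hj e => by
      simp only [hA, hB, Finset.mem_filter] at hi hj
      exact hi.2 (e ▸ hj.2)
    push_cast at hk1 hk2 ⊢
    linarith
  rw [sum_pairs] at h2
  have h3 : Fintype.card ι - 1 ≤ A.card * B.card := by
    obtain ⟨x, hx⟩ : ∃ x, A.card = x + 1 := ⟨A.card - 1, by omega⟩
    obtain ⟨y, hy⟩ : ∃ y, B.card = y + 1 := ⟨B.card - 1, by omega⟩
    rw [← hcard, hx, hy, add_mul, mul_add]
    omega
  omega

/-- A virtual character that does not vanish off the identity has mass at least `|A| - 1` there. -/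
theorem mass_nonzero [DecidableEq A] (hA : ∀ a b : A, a * b = b * a) {f : A → ℂ}
    (hint : ∀ ω, ∃ n : ℤ, Cfsg.classInner f (ev ω) = n) {a : A} (ha : a ≠ 1) (hfa : f a ≠ 0) :
    (Nat.card A : ℝ) - 1 ≤ ∑ b ∈ Finset.univ.erase 1, ‖f b‖ ^ 2 := by
  classical
  haveI : Fintype (A →* ℂˣ) := Fintype.ofFinite _
  choose n hn using hint
  rw [sum_norm_sq_off_one hA hn]
  have hcard : Fintype.card (A →* ℂˣ) = Nat.card A := by rw [← Nat.card_eq_fintype_card, card_hom hA]
  by_cases hc : ∃ ω ω', n ω ≠ n ω'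
  · obtain ⟨ω, ω', h⟩ := hc
    have h1 := card_sub_one_le_pairs h
    rw [hcard] at h1
    exact_mod_cast h1
  · exfalso
    push Not at hc
    refine hfa ?_
    rw [expand hA f a]
    simp only [hn, fun ω => hc ω 1, ← Finset.mul_sum]
    obtain ⟨g, hg⟩ := exists_hom_ne_one hA ha
    have h0 : ∑ ω : A →* ℂˣ, ev ω a = 0 := by
      have h := Fintype.sum_equiv (Equiv.mulLeft g) (fun ω : A →* ℂˣ => ev g a * ev ω a)
        (fun ω => ev ω a) fun ω => by simp [ev]
      rw [← Finset.mul_sum] at h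
      by_contra hne
      exact hg (Units.ext (mul_right_cancel₀ hne (h.trans (one_mul _).symm)))
    rw [h0, mul_zero]

/-- Coefficients constant on `M` up to a unit step on `O`. -/
theorem step_le_pairs {ι : Type*} [Fintype ι] [DecidableEq ι] {n : ι → ℤ} {M O : Finset ι} {e : ℤ}
    (he : e = 1 ∨ e = -1) (hOM : O ⊆ M) (h2 : 2 * O.card ≤ M.card)
    (hstep : ∀ i ∈ M, ∀ j ∈ M,
      n i - n j = e * ((if i ∈ O then 1 else 0) - if j ∈ O then 1 else 0)) :
    (O.card : ℤ) * ((Fintype.card ι : ℤ) - O.card) ≤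
      (Fintype.card ι : ℤ) * ∑ i, n i ^ 2 - (∑ i, n i) ^ 2 := by
  have he2 : e ^ 2 = 1 := by rcases he with rfl | rfl <;> norm_num
  set R := M \ O with hR
  have hRcard : R.card = M.card - O.card := Finset.card_sdiff_of_subset hOM
  rcases O.eq_empty_or_nonempty with rfl | ⟨o, ho⟩
  · have := sum_pairs n
    have h0 : 0 ≤ ∑ i, ∑ j, (n i - n j) ^ 2 :=
      Finset.sum_nonneg fun i _ => Finset.sum_nonneg fun j _ => sq_nonneg _
    simp only [Finset.card_empty, Nat.cast_zero, zero_mul]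
    linarith
  have hOpos : 0 < O.card := Finset.card_pos.mpr ⟨o, ho⟩
  obtain ⟨r, hr⟩ : R.Nonempty := Finset.card_pos.mp (by omega)
  -- the part of each index outside `M`
  have hout : ∀ j, j ∉ M → (O.card : ℤ) ≤ ∑ i ∈ M, (n i - n j) ^ 2 := by
    intro j hj
    rw [← Finset.sum_sdiff hOM, ← hR]
    have hO : ∀ i ∈ O, n i = n r + e := fun i hi => by
      have h := hstep i (hOM hi) r (Finset.mem_sdiff.mp hr).1
      rw [if_pos hi, if_neg (Finset.mem_sdiff.mp hr).2] at h
      linarith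
    have hR' : ∀ i ∈ R, n i = n r := fun i hi => by
      have h := hstep i (Finset.mem_sdiff.mp hi).1 r (Finset.mem_sdiff.mp hr).1
      rw [if_neg (Finset.mem_sdiff.mp hi).2, if_neg (Finset.mem_sdiff.mp hr).2] at h
      linarith
    rw [Finset.sum_congr rfl fun i hi => by rw [hR' i hi], Finset.sum_congr rfl fun i (hi : i ∈ O) =>
      by rw [hO i hi], Finset.sum_const, Finset.sum_const, nsmul_eq_mul, nsmul_eq_mul]
    by_cases hd : n r - n j = 0
    · rw [hd, show n r + e - n j = e by linarith, he2]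
      simp
    · have h1 : 1 ≤ (n r - n j) ^ 2 := (pow_pos (abs_pos.mpr hd) 2).trans_le (le_of_eq (sq_abs _))
      have hle : (O.card : ℤ) ≤ R.card := by exact_mod_cast (by omega : O.card ≤ R.card)
      have h3 : (0 : ℤ) ≤ O.card * (n r + e - n j) ^ 2 := by positivity
      nlinarith
  have hin : ∀ i ∈ O, ∀ j ∈ R, (n i - n j) ^ 2 = 1 := fun i hi j hj => by
    rw [hstep i (hOM hi) j (Finset.mem_sdiff.mp hj).1, if_pos hi, if_neg (Finset.mem_sdiff.mp hj).2]
    simpa using he2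
  have key : 2 * ((O.card : ℤ) * ((Fintype.card ι : ℤ) - O.card)) ≤
      ∑ i, ∑ j, (n i - n j) ^ 2 := by
    have hsum : ∑ i, ∑ j, (n i - n j) ^ 2 =
        (∑ i ∈ M, ∑ j ∈ M, (n i - n j) ^ 2) + 2 * ∑ j ∈ Mᶜ, ∑ i ∈ M, (n i - n j) ^ 2 +
          ∑ i ∈ Mᶜ, ∑ j ∈ Mᶜ, (n i - n j) ^ 2 := by
      simp only [← Finset.sum_add_sum_compl M (fun j => (n _ - n j) ^ 2), Finset.sum_add_distrib]
      rw [← Finset.sum_add_sum_compl M (fun i => ∑ j ∈ M, (n i - n j) ^ 2),
        ← Finset.sum_add_sum_compl M (fun i => ∑ j ∈ Mᶜ, (n i - n j) ^ 2),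
        Finset.sum_comm (s := M) (t := Mᶜ)]
      rw [Finset.sum_congr rfl fun i (_ : i ∈ Mᶜ) => Finset.sum_congr rfl fun j (_ : j ∈ M) =>
        show (n i - n j) ^ 2 = (n j - n i) ^ 2 by ring]
      ring
    have h1 : 2 * ((O.card : ℤ) * R.card) ≤ ∑ i ∈ M, ∑ j ∈ M, (n i - n j) ^ 2 := by
      rw [← Finset.sum_sdiff hOM, ← hR]
      have a1 : ∀ i ∈ R, (O.card : ℤ) ≤ ∑ j ∈ M, (n i - n j) ^ 2 := fun i hi => by
        rw [← Finset.sum_sdiff hOM, Finset.sum_congr (s₁ := O) rfl fun j hj => by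
          rw [show (n i - n j) ^ 2 = (n j - n i) ^ 2 by ring, hin j hj i hi]]
        simp only [Finset.sum_const, nsmul_eq_mul, mul_one]
        linarith [Finset.sum_nonneg fun j (_ : j ∈ M \ O) => sq_nonneg (n i - n j)]
      have a2 : ∀ i ∈ O, (R.card : ℤ) ≤ ∑ j ∈ M, (n i - n j) ^ 2 := fun i hi => by
        rw [← Finset.sum_sdiff hOM, ← hR, Finset.sum_congr (s₁ := R) rfl fun j hj => hin i hi j hj]
        simp only [Finset.sum_const, nsmul_eq_mul, mul_one]
        linarith [Finset.sum_nonneg fun j (_ : j ∈ O) => sq_nonneg (n i - n j)]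
      have b1 := Finset.sum_le_sum a1
      have b2 := Finset.sum_le_sum a2
      simp only [Finset.sum_const, nsmul_eq_mul] at b1 b2
      linarith
    have h2' : (O.card : ℤ) * (Mᶜ).card ≤ ∑ j ∈ Mᶜ, ∑ i ∈ M, (n i - n j) ^ 2 := by
      have b := Finset.sum_le_sum fun j (hj : j ∈ Mᶜ) => hout j (Finset.mem_compl.mp hj)
      simp only [Finset.sum_const, nsmul_eq_mul] at b
      linarith
    have h3 : 0 ≤ ∑ i ∈ Mᶜ, ∑ j ∈ Mᶜ, (n i - n j) ^ 2 :=
      Finset.sum_nonneg fun i _ => Finset.sum_nonneg fun j _ => sq_nonneg _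
    have hN : (Fintype.card ι : ℤ) = O.card + R.card + (Mᶜ).card := by
      have hle := Finset.card_le_card hOM
      rw [hRcard, Finset.card_compl]
      have := Finset.card_le_univ M
      omega
    rw [hsum, hN]
    linarith
  rw [sum_pairs] at key
  linarith

/-- The mass when the coefficients jump by a unit on `O` inside `M`. -/
theorem mass_step [DecidableEq A] [Fintype (A →* ℂˣ)] [DecidableEq (A →* ℂˣ)]
    (hA : ∀ a b : A, a * b = b * a) {f : A → ℂ}
    {n : (A →* ℂˣ) → ℤ} (hn : ∀ ω, Cfsg.classInner f (ev ω) = n ω) {M O : Finset (A →* ℂˣ)} {e : ℤ}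
    (he : e = 1 ∨ e = -1) (hOM : O ⊆ M) (h2 : 2 * O.card ≤ M.card)
    (hstep : ∀ i ∈ M, ∀ j ∈ M,
      n i - n j = e * ((if i ∈ O then 1 else 0) - if j ∈ O then 1 else 0)) :
    (O.card : ℝ) * ((Nat.card A : ℝ) - O.card) ≤ ∑ b ∈ Finset.univ.erase 1, ‖f b‖ ^ 2 := by
  rw [sum_norm_sq_off_one hA hn]
  have h1 := step_le_pairs he hOM h2 hstep
  have hcard : Fintype.card (A →* ℂˣ) = Nat.card A := by rw [← Nat.card_eq_fintype_card, card_hom hA]
  rw [hcard] at h1
  exact_mod_cast h1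

end Abelian

/-! ### Classes of a trivial-intersection set -/

section Classes

variable {G : Type u} [Group G] [Fintype G] [DecidableEq G]

/-- The elements conjugate into `B`. -/
def clsOf (B : Finset G) : Finset G :=
  (Finset.univ ×ˢ B).image fun z : G × G => z.1 * z.2 * z.1⁻¹

theorem mem_clsOf {B : Finset G} {g : G} : g ∈ clsOf B ↔ ∃ x : G, ∃ b ∈ B, g = x * b * x⁻¹ := by
  simp [clsOf, eq_comm]

theorem sum_clsOf {B : Finset G} (L : Subgroup G) (hL : ∀ x ∈ L, ∀ b ∈ B, x * b * x⁻¹ ∈ B)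
    (hfus : ∀ b ∈ B, ∀ x : G, x * b * x⁻¹ ∈ B → x ∈ L) (F : G → ℝ)
    (hF : ∀ g x : G, F (x * g * x⁻¹) = F g) :
    (Nat.card L : ℝ) * ∑ g ∈ clsOf B, F g = (Nat.card G : ℝ) * ∑ b ∈ B, F b := by
  classical
  have hfib : ∀ g ∈ clsOf B,
      ((Finset.univ ×ˢ B).filter fun z : G × G => z.1 * z.2 * z.1⁻¹ = g).card = Nat.card L := by
    intro g hg
    obtain ⟨x, b, hb, rfl⟩ := mem_clsOf.mp hg
    rw [Nat.card_eq_fintype_card, ← Finset.card_univ]
    symm
    refine Finset.card_bij (fun (l : L) _ => (x * (l : G), (l : G)⁻¹ * b * l)) ?_ ?_ ?_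
    · intro l _
      rw [Finset.mem_filter, Finset.mem_product]
      refine ⟨⟨Finset.mem_univ _, ?_⟩, by group⟩
      have := hL _ (inv_mem l.2) b hb
      rwa [inv_inv] at this
    · intro l _ l' _ e
      exact Subtype.ext (mul_left_cancel (congrArg Prod.fst e))
    · rintro ⟨y, c⟩ hz
      rw [Finset.mem_filter, Finset.mem_product] at hz
      obtain ⟨⟨-, hc⟩, he⟩ := hz
      have he' : (x⁻¹ * y) * c * (x⁻¹ * y)⁻¹ = b := by
        calc (x⁻¹ * y) * c * (x⁻¹ * y)⁻¹ = x⁻¹ * (y * c * y⁻¹) * x := by group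
          _ = b := by simp only at he; rw [he]; group
      have hl : x⁻¹ * y ∈ L := hfus c hc _ (he'.symm ▸ hb)
      refine ⟨⟨x⁻¹ * y, hl⟩, Finset.mem_univ _, ?_⟩
      simp only [Prod.mk.injEq, mul_inv_cancel_left, true_and]
      rw [← he']
      group
  have h1 : ∑ z ∈ Finset.univ ×ˢ B, F (z.1 * z.2 * z.1⁻¹) = (Nat.card G : ℝ) * ∑ b ∈ B, F b := by
    rw [Finset.sum_product]
    simp only [hF, Finset.sum_const, Finset.card_univ, nsmul_eq_mul, Nat.card_eq_fintype_card]
  rw [← h1, ← Finset.sum_fiberwise_of_maps_to (g := fun z : G × G => z.1 * z.2 * z.1⁻¹)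
    (t := clsOf B) fun z hz => Finset.mem_image_of_mem _ hz, Finset.mul_sum]
  refine Finset.sum_congr rfl fun g hg => ?_
  rw [Finset.sum_congr rfl fun z hz => by rw [(Finset.mem_filter.mp hz).2], Finset.sum_const,
    hfib g hg, nsmul_eq_mul]

end Classes

end Cfsg.Agent.PF
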