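import Cfsg.Agent.OddChar.PF.S09Linear
import Cfsg.Agent.OddChar.PF.S13Mass
import Cfsg.Agent.Chars.IrrTools

/-!
# Section 13: the members of `S(1)` on an abelian normal subgroup, and conjugates of a TI set
-/

set_option linter.style.haveILetI false
set_option linter.unusedSectionVars false
set_option linter.unusedVariables false
set_option autoImplicit false

universe u

namespace Cfsg.Agent.PF

open Cfsg.Lib.Chars
open Cfsg.Lib.Dual (ev)
open scoped ComplexConjugate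

variable {L : Type u} [Group L] [Fintype L]

/-- Translation of an inner product on a subgroup. -/
theorem s13_inner_shift {Y : Type u} [Group Y] [Fintype Y] {θ : Y → ℂ} (l : Y →* ℂˣ) {a : Y}
    (ha : l a ≠ 1) (h : ∀ y, θ (a * y) = θ y) : Cfsg.classInner θ (ev l) = 0 := by
  rw [classInner_def]
  refine mul_eq_zero_of_right _ ?_
  have hs : ∑ y, θ y * conj (ev l y) = conj ((l a : ℂˣ) : ℂ) * ∑ y, θ y * conj (ev l y) := by
    rw [Finset.mul_sum]
    refine (Fintype.sum_equiv (Equiv.mulLeft a) _ _ fun y => ?_).symm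
    simp only [Equiv.coe_mulLeft, h, ev, map_mul, Units.val_mul]
    ring
  by_contra hne
  refine ha (Units.ext ?_)
  have h1 : conj ((l a : ℂˣ) : ℂ) = 1 := mul_right_cancel₀ hne (hs.symm.trans (one_mul _).symm)
  simpa using congrArg conj h1

variable (K P Y : Subgroup L) [K.Normal] [P.Normal] [Y.Normal]

/-- A constituent on `Y` nontrivial on `P` makes the character nontrivial on `P`. -/
theorem s13_not_above (hPY : P ≤ Y) (hYK : Y ≤ K) [Fintype Y] {θ : K → ℂ}
    (hθ : Cfsg.IsCharacter K θ) (l : Y →* ℂˣ)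
    (hl : ∃ a : Y, (a : L) ∈ P ∧ l a ≠ 1)
    (hne : Cfsg.classInner (fun y : Y => θ ⟨y, hYK y.2⟩) (ev l) ≠ 0) : ¬ Above θ P := by
  obtain ⟨a, haP, ha⟩ := hl
  intro h
  refine hne (s13_inner_shift l ha fun y => ?_)
  exact IsCharacter.ker_mul hθ (b := ⟨y, hYK y.2⟩) (h ⟨a, hYK a.2⟩ haP)

/-- The multiplicities of the members in a character induced from a linear character of `Y`
nontrivial on `P`. -/
theorem s13_inner_ind (hPY : P ≤ Y) (hYK : Y ≤ K) [Fintype Y] {f : L → ℂ} {k : ℂ}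
    (hk : ∀ χ ∈ seqIndD K P ⊥, Cfsg.classInner f χ = k * χ 1) (l : Y →* ℂˣ)
    (hl : ∃ a : Y, (a : L) ∈ P ∧ l a ≠ 1) :
    Cfsg.classInner f (Cfsg.indFun Y (ev l)) = k * Cfsg.indFun Y (ev l) 1 := by
  classical
  haveI := Fintype.ofFinite K
  haveI := Fintype.ofFinite ↥(Y.subgroupOf K)
  have hlin : Cfsg.IsCharacter (Y.subgroupOf K)
      (fun x => ev l ⟨(x : K), Subgroup.mem_subgroupOf.mp x.2⟩) :=
    IsCharacter.comp_hom (isCharacter_of_irr (Cfsg.Lib.Dual.isIrr_ev l))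
      (Subgroup.subgroupOfEquivOfLe hYK).toMonoidHom
  set F := Cfsg.indFun (Y.subgroupOf K)
    (fun x => ev l ⟨(x : K), Subgroup.mem_subgroupOf.mp x.2⟩) with hF
  have hFc : Cfsg.IsCharacter K F := IsCharacter.indFun hlin
  obtain ⟨m, hm⟩ := IsCharacter.exists_decomp hFc
  have key : ∀ ψ : Cfsg.IrrCharacter K, m ψ ≠ 0 → Cfsg.indFun K (ψ : K → ℂ) ∈ seqIndD K P ⊥ := by
    intro ψ hψ
    refine (s09_indFun_mem_seqIndD ψ.2).mpr ⟨fun a ha => by
      rw [show a = 1 from Subtype.ext (Subgroup.mem_bot.mp ha)],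
      s13_not_above K P Y hPY hYK (isCharacter_of_irr ψ.2) l hl ?_⟩
    have h1 : Cfsg.classInner F (ψ : K → ℂ) ≠ 0 := by
      rw [hm]
      simp only [← Nat.cast_smul_eq_nsmul ℂ]
      rw [classInner_irrSum (fun ψ => (m ψ : ℂ)) ψ]
      exact Nat.cast_ne_zero.mpr hψ
    rw [hF, frobenius_reciprocity (Y.subgroupOf K) _
      (isClassFunction_isChar (isCharacter_of_irr ψ.2))] at h1
    intro h0
    apply h1
    rw [← classInner_conj_symm, ← classInner_comp_equiv
      (Subgroup.subgroupOfEquivOfLe hYK).symm.toEquiv]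
    refine (congrArg conj ?_).trans (map_zero _)
    exact h0
  rw [← indFun_trans Y K hYK (ev l), ← hF, hm, indFun_sum, classInner_sum_right, Finset.sum_apply,
    Finset.mul_sum]
  refine Finset.sum_congr rfl fun ψ _ => ?_
  rw [← Nat.cast_smul_eq_nsmul ℂ, indFun_smul, classInner_smul_right, map_natCast, Pi.smul_apply,
    smul_eq_mul]
  by_cases hψ : m ψ = 0
  · simp [hψ]
  · rw [hk _ (key ψ hψ)]
    ring

/-- A1: constant on the cosets of `P` in an abelian normal `Y`, away from `1`. -/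
theorem s13_coset_const (hPY : P ≤ Y) (hYK : Y ≤ K) (hcomm : ∀ a ∈ Y, ∀ b ∈ Y, a * b = b * a)
    {f : L → ℂ} (hf : Cfsg.IsClassFunction L f) {k : ℂ}
    (hk : ∀ χ ∈ seqIndD K P ⊥, Cfsg.classInner f χ = k * χ 1)
    {x h : L} (hx : x ∈ Y) (hh : h ∈ P) (hx1 : x ≠ 1) (hxh : x * h ≠ 1) : f (x * h) = f x := by
  classical
  haveI := Fintype.ofFinite Y
  haveI : Fintype (↥Y →* ℂˣ) := Fintype.ofFinite _
  have hA : ∀ a b : Y, a * b = b * a := fun a b => Subtype.ext (hcomm a a.2 b b.2)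
  let N : (↥Y →* ℂˣ) → ℂ := fun l => Cfsg.classInner (fun y : Y => f y) (ev l)
  let r : (↥Y →* ℂˣ) → ℂ := fun l => N l - k * (Nat.card (L ⧸ Y) : ℂ)
  have hr : ∀ l : ↥Y →* ℂˣ, ∀ a : Y, (a : L) ∈ P → r l * ev l a = r l := by
    intro l a haP
    by_cases ha : l a = 1
    · simp [ev, ha]
    · have h1 := s13_inner_ind K P Y hPY hYK hk l ⟨a, haP, ha⟩
      rw [frobenius_reciprocity' Y (ev l) hf, indFun_one] at h1
      have h2 : r l = 0 := by
        simp only [r, N, h1]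
        rw [← Subgroup.index_eq_card]
        simp [ev]
      rw [h2, zero_mul]
  have hexp : ∀ y : Y, y ≠ 1 → f y = ∑ l : ↥Y →* ℂˣ, r l * ev l y := by
    intro y hy
    have e := Cfsg.Lib.Dual.expand hA (fun y : Y => f y) y
    rw [e]
    have h0 : ∑ l : ↥Y →* ℂˣ, ev l y = 0 := by
      obtain ⟨g, hg⟩ := Cfsg.Lib.Dual.exists_hom_ne_one hA hy
      have h := Fintype.sum_equiv (Equiv.mulLeft g) (fun l : ↥Y →* ℂˣ => ev g y * ev l y)
        (fun l => ev l y) fun l => by simp [ev]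
      rw [← Finset.mul_sum] at h
      by_contra hne
      exact hg (Units.ext (mul_right_cancel₀ hne (h.trans (one_mul _).symm)))
    simp only [r, sub_mul, Finset.sum_sub_distrib, mul_assoc, ← Finset.mul_sum, h0, mul_zero,
      sub_zero, N]
  have hy : x * h ∈ Y := mul_mem hx (hPY hh)
  have e1 := hexp ⟨x, hx⟩ fun e => hx1 (congrArg Subtype.val e)
  have e2 := hexp ⟨x * h, hy⟩ fun e => hxh (congrArg Subtype.val e)
  show f (x * h) = f x
  rw [e1, e2]
  refine Finset.sum_congr rfl fun l _ => ?_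
  rw [show (⟨x * h, hy⟩ : Y) = ⟨x, hx⟩ * ⟨h, hPY hh⟩ from rfl]
  conv_rhs => rw [← hr l ⟨h, hPY hh⟩ hh]
  simp only [ev, map_mul, Units.val_mul]
  ring

/-- A2: a member of degree `[L : Y]` is supported on `Y` and sums to zero on the cosets of `P`. -/
theorem s13_member_of_degree (hPY : P ≤ Y) (hYK : Y ≤ K)
    (hcomm : ∀ a ∈ Y, ∀ b ∈ Y, a * b = b * a)
    [Fintype P] {χ : L → ℂ} (hχ : χ ∈ seqIndD K P ⊥) (hd : χ 1 = (Y.index : ℂ)) :
    (∀ x, x ∉ Y → χ x = 0) ∧ ∀ y ∈ Y, ∑ h : P, χ (y * h) = 0 := by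
  classical
  haveI := Fintype.ofFinite K
  haveI := Fintype.ofFinite Y
  haveI := Fintype.ofFinite ↥(Y.subgroupOf K)
  obtain ⟨θ, hθ, -, hnP, rfl⟩ := s09_seqIndD_exists hχ
  have hθc := isCharacter_of_irr hθ
  -- a constituent on `Y`
  obtain ⟨l, hl⟩ : ∃ l : Y →* ℂˣ, Cfsg.classInner (fun y : Y => θ ⟨y, hYK y.2⟩) (ev l) ≠ 0 := by
    by_contra h
    push Not at h
    haveI : Fintype (↥Y →* ℂˣ) := Fintype.ofFinite _
    have e := Cfsg.Lib.Dual.expand (fun a b => Subtype.ext (hcomm a a.2 b b.2))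
      (fun y : Y => θ ⟨y, hYK y.2⟩) 1
    simp only [h, zero_mul, Finset.sum_const_zero] at e
    exact IsIrrCharacter.apply_one_ne_zero hθ e
  set lk : Y.subgroupOf K → ℂ := fun x => ev l ⟨(x : K), Subgroup.mem_subgroupOf.mp x.2⟩ with hlk
  have hlkc : Cfsg.IsCharacter (Y.subgroupOf K) lk :=
    IsCharacter.comp_hom (isCharacter_of_irr (Cfsg.Lib.Dual.isIrr_ev l))
      (Subgroup.subgroupOfEquivOfLe hYK).toMonoidHom
  have hθeq : Cfsg.indFun (Y.subgroupOf K) lk = θ := by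
    refine eq_of_inner_ne_zero_of_deg (IsCharacter.indFun hlkc) hθ ?_ ?_
    · rw [frobenius_reciprocity (Y.subgroupOf K) _ (isClassFunction_isChar hθc),
        ← classInner_conj_symm, ← classInner_comp_equiv (Subgroup.subgroupOfEquivOfLe hYK).symm.toEquiv]
      exact fun h0 => hl ((map_eq_zero (starRingEnd ℂ)).mp h0)
    · rw [indFun_one, hlk]
      have h1 : Cfsg.indFun K θ 1 = (K.index : ℂ) * θ 1 := indFun_one K θ
      rw [hd] at h1
      have h2 : Y.index = (Y.subgroupOf K).index * K.index := (Subgroup.relIndex_mul_index hYK).symm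
      rw [h2, Nat.cast_mul, mul_comm] at h1
      have h3 := mul_left_cancel₀ (Nat.cast_ne_zero.mpr Subgroup.index_ne_zero_of_finite) h1
      rw [← h3]
      simp [ev, show ∀ h, ((l ⟨1, h⟩ : ℂˣ) : ℂ) = 1 from fun h => by
        rw [show (⟨1, h⟩ : Y) = 1 from rfl, map_one, Units.val_one]]
  have hχeq : Cfsg.indFun K θ = Cfsg.indFun Y (ev l) := by
    rw [← hθeq, hlk, indFun_trans Y K hYK (ev l)]
  rw [hχeq]
  refine ⟨fun x hx => indFun_normal_not_mem Y _ hx, fun y hy => ?_⟩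
  obtain ⟨a, haP, ha⟩ : ∃ a : Y, (a : L) ∈ P ∧ l a ≠ 1 := by
    by_contra hc
    push Not at hc
    apply hnP
    intro a haP
    rw [← hθeq, indFun_apply, indFun_apply]
    congr 1
    refine Finset.sum_congr rfl fun g _ => ?_
    have hmem : g⁻¹ * a * g ∈ Y.subgroupOf K := by
      rw [Subgroup.mem_subgroupOf]
      exact hPY (by simpa using (inferInstance : P.Normal).conj_mem _ haP (g : L)⁻¹)
    have hmemP : ((g⁻¹ * a * g : K) : L) ∈ P := by
      simpa using (inferInstance : P.Normal).conj_mem _ haP (g : L)⁻¹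
    have hone : g⁻¹ * 1 * g ∈ Y.subgroupOf K := by simp
    rw [extendByZero_mem _ hmem, extendByZero_mem _ hone]
    simp only [hlk, ev]
    rw [hc ⟨_, Subgroup.mem_subgroupOf.mp hmem⟩ hmemP]
    simp [show ∀ h, ((l ⟨1, h⟩ : ℂˣ) : ℂ) = 1 from fun h => by
      rw [show (⟨1, h⟩ : Y) = 1 from rfl, map_one, Units.val_one]]
  have hmemY : ∀ h : P, y * (h : L) ∈ Y := fun h => mul_mem hy (hPY h.2)
  simp only [fun h : P => indFun_normal_mem Y (ev l) ⟨y * h, hmemY h⟩, ← Finset.mul_sum]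
  rw [Finset.sum_comm, Finset.sum_eq_zero, mul_zero]
  intro g _
  let c : P →* ℂˣ :=
    { toFun := fun h => l ⟨g * h * g⁻¹, (inferInstance : Y.Normal).conj_mem _ (hPY h.2) g⟩
      map_one' := by
        rw [← map_one l]
        exact congrArg l (Subtype.ext (by simp))
      map_mul' := fun h h' => by
        rw [← map_mul l]
        exact congrArg l (Subtype.ext (by simp [mul_assoc])) }
  have hc : c ≠ 1 := by
    intro e
    have haP' : g⁻¹ * (a : L) * g ∈ P := by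
      simpa using (inferInstance : P.Normal).conj_mem _ haP g⁻¹
    refine ha ((congrArg l (Subtype.ext ?_)).trans (DFunLike.congr_fun e ⟨_, haP'⟩))
    simp [mul_assoc]
  have hsplit : ∀ h : P, ev l ⟨g * (y * h) * g⁻¹, (inferInstance : Y.Normal).conj_mem _ (hmemY h) g⟩ =
      ev l ⟨g * y * g⁻¹, (inferInstance : Y.Normal).conj_mem _ hy g⟩ * ((c h : ℂˣ) : ℂ) := fun h => by
    simp only [ev, c, MonoidHom.coe_mk, OneHom.coe_mk, ← Units.val_mul, ← map_mul]
    congr 2
    exact Subtype.ext (by simp [mul_assoc])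
  rw [Finset.sum_congr rfl fun h _ => hsplit h, ← Finset.mul_sum]
  refine mul_eq_zero_of_right _ ?_
  obtain ⟨b, hb⟩ : ∃ b, c b ≠ 1 := by
    by_contra hh
    push Not at hh
    exact hc (MonoidHom.ext hh)
  have hs := Fintype.sum_equiv (Equiv.mulLeft b) (fun h => ((c b : ℂˣ) : ℂ) * ((c h : ℂˣ) : ℂ))
    (fun h => ((c h : ℂˣ) : ℂ)) fun h => by simp
  rw [← Finset.mul_sum] at hs
  by_contra hne
  exact hb (Units.ext (mul_right_cancel₀ hne (hs.trans (one_mul _).symm)))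

open Classical in
/-- A3: squares over `Y ∖ 1`. -/
theorem s13_coset_lower (P Y : Subgroup L) (hPY : P ≤ Y) [Fintype P] (hP : 1 < Nat.card P)
    (γ g : L → ℂ)
    (hγ : ∀ x ∈ Y, ∀ h ∈ P, x ≠ 1 → x * h ≠ 1 → γ (x * h) = γ x)
    (hg : ∀ y ∈ Y, ∑ h : P, g (y * h) = 0) :
    ∑ x ∈ Finset.univ.filter (fun x => x ∈ Y ∧ x ∉ P), ‖γ x‖ ^ 2
        + ∑ x ∈ Finset.univ.filter (fun x => x ∈ Y), ‖g x‖ ^ 2
        - ‖g 1‖ ^ 2 * (Nat.card P : ℝ) / ((Nat.card P : ℝ) - 1)
      ≤ ∑ x ∈ Finset.univ.filter (fun x => x ∈ Y ∧ x ≠ 1), ‖γ x + g x‖ ^ 2 := by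
  set A := Finset.univ.filter (fun x => x ∈ Y ∧ x ∉ P) with hA
  set B := Finset.univ.filter (fun x : L => x ∈ P ∧ x ≠ 1) with hB
  have hAB : Disjoint A B := Finset.disjoint_left.mpr fun x hx hx' => by
    simp only [hA, hB, Finset.mem_filter] at hx hx'
    exact hx.2.2 hx'.2.1
  have e1 : Finset.univ.filter (fun x => x ∈ Y ∧ x ≠ 1) = A ∪ B := by
    ext x
    simp only [hA, hB, Finset.mem_filter, Finset.mem_univ, true_and, Finset.mem_union]
    refine ⟨fun h => ?_, ?_⟩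
    · by_cases hx : x ∈ P
      · exact Or.inr ⟨hx, h.2⟩
      · exact Or.inl ⟨h.1, hx⟩
    · rintro (h | h)
      · exact ⟨h.1, fun e => h.2 (e ▸ one_mem P)⟩
      · exact ⟨hPY h.1, h.2⟩
  have h1B : (1 : L) ∉ A ∪ B := by simp [hA, hB]
  have e2 : Finset.univ.filter (fun x => x ∈ Y) = insert 1 (A ∪ B) := by
    rw [← e1]
    ext x
    by_cases hx : x = 1 <;> simp [hx]
  rw [e1, e2, Finset.sum_insert h1B, Finset.sum_union hAB, Finset.sum_union hAB]
  -- the cross terms off `P`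
  have hcross : ∑ x ∈ A, γ x * conj (g x) = 0 := by
    have hshift : ∀ h : P, ∑ x ∈ A, γ (x * h) * conj (g (x * h)) = ∑ x ∈ A, γ x * conj (g x) := by
      intro h
      refine Finset.sum_equiv (Equiv.mulRight (h : L)) (fun x => ?_) fun x _ => rfl
      simp only [hA, Finset.mem_filter, Finset.mem_univ, true_and, Equiv.coe_mulRight]
      rw [Y.mul_mem_cancel_right (hPY h.2), P.mul_mem_cancel_right h.2]
    have h0 : (Nat.card P : ℂ) * ∑ x ∈ A, γ x * conj (g x) = 0 := by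
      rw [Nat.card_eq_fintype_card, ← Finset.card_univ, ← nsmul_eq_mul, ← Finset.sum_const,
        ← Finset.sum_congr rfl fun h _ => hshift h, Finset.sum_comm]
      refine Finset.sum_eq_zero fun x hx => ?_
      simp only [hA, Finset.mem_filter, Finset.mem_univ, true_and] at hx
      have hx1 : x ≠ 1 := fun e => hx.2 (e ▸ one_mem P)
      have hne : ∀ h : P, x * (h : L) ≠ 1 := fun h e => hx.2 (by
        rw [mul_eq_one_iff_eq_inv.mp e]; exact inv_mem h.2)
      simp only [fun h : P => hγ x hx.1 h h.2 hx1 (hne h), ← Finset.mul_sum, ← map_sum, hg x hx.1,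
        map_zero, mul_zero]
    exact (mul_eq_zero.mp h0).resolve_left (Nat.cast_ne_zero.mpr Nat.card_pos.ne')
  have hA' : ∑ x ∈ A, ‖γ x + g x‖ ^ 2 = ∑ x ∈ A, ‖γ x‖ ^ 2 + ∑ x ∈ A, ‖g x‖ ^ 2 := by
    have hre : ∑ x ∈ A, (γ x * conj (g x)).re = 0 := by rw [← Complex.re_sum, hcross]; rfl
    simp only [← Complex.normSq_eq_norm_sq, Complex.normSq_add, Finset.sum_add_distrib,
      ← Finset.mul_sum, hre]
    ring
  -- the elements of `P`
  obtain ⟨b, hb, hb1⟩ := (Subgroup.bot_or_exists_ne_one P).resolve_left fun e => by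
    rw [Nat.card_congr (MulEquiv.subgroupCongr e).toEquiv, Subgroup.card_bot] at hP
    exact lt_irrefl _ hP
  have hγB : ∀ x ∈ B, γ x = γ b := by
    intro x hx
    simp only [hB, Finset.mem_filter, Finset.mem_univ, true_and] at hx
    have := hγ b (hPY hb) (b⁻¹ * x) (mul_mem (inv_mem hb) hx.1) hb1
      (by rw [mul_inv_cancel_left]; exact hx.2)
    rwa [mul_inv_cancel_left] at this
  have hsumB : ∑ x ∈ B, g x = -g 1 := by
    have h0 := hg 1 (one_mem Y)
    simp only [one_mul] at h0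
    rw [show ∑ h : P, g h = g 1 + ∑ x ∈ B, g x from ?_] at h0
    · linear_combination h0
    · have e3 : Finset.univ.filter (fun x : L => x ∈ P) = insert 1 B := by
        ext x
        by_cases hx : x = 1 <;> simp [hB, hx]
      rw [← Finset.sum_insert (show (1 : L) ∉ B by simp [hB]), ← e3]
      exact (Finset.sum_subtype (Finset.univ.filter (fun x : L => x ∈ P))
        (p := (· ∈ P)) (by simp) g).symm
  have hcardB : (B.card : ℝ) = (Nat.card P : ℝ) - 1 := by
    have e3 : Finset.univ.filter (fun x : L => x ∈ P) = insert 1 B := by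
      ext x
      by_cases hx : x = 1 <;> simp [hB, hx]
    have : Nat.card P = B.card + 1 := by
      rw [Nat.card_eq_fintype_card, Fintype.card_of_subtype (Finset.univ.filter (fun x : L => x ∈ P))
        (by simp), e3, Finset.card_insert_of_notMem (by simp [hB])]
    rw [this]; push_cast; ring
  have hB' : ∑ x ∈ B, ‖γ x + g x‖ ^ 2 =
      (B.card : ℝ) * ‖γ b‖ ^ 2 + ∑ x ∈ B, ‖g x‖ ^ 2 - 2 * (γ b * conj (g 1)).re := by
    rw [Finset.sum_congr rfl fun x hx => by rw [hγB x hx]]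
    simp only [← Complex.normSq_eq_norm_sq, Complex.normSq_add, Finset.sum_add_distrib,
      Finset.sum_const, nsmul_eq_mul, ← Finset.mul_sum, ← Complex.re_sum, ← map_sum, hsumB, map_neg,
      mul_neg, Complex.neg_re]
    ring
  rw [hA', hB', hcardB]
  have hn1 : (0 : ℝ) < (Nat.card P : ℝ) - 1 := by
    have : (2 : ℝ) ≤ (Nat.card P : ℝ) := by exact_mod_cast hP
    linarith
  have hsq := sq_nonneg (‖γ b‖ * ((Nat.card P : ℝ) - 1) - ‖g 1‖)
  have hre : (γ b * conj (g 1)).re ≤ ‖γ b‖ * ‖g 1‖ := by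
    refine (Complex.re_le_norm _).trans (le_of_eq ?_)
    rw [norm_mul, Complex.norm_conj]
  have hfrac : ‖g 1‖ ^ 2 * (Nat.card P : ℝ) / ((Nat.card P : ℝ) - 1) =
      ‖g 1‖ ^ 2 + ‖g 1‖ ^ 2 / ((Nat.card P : ℝ) - 1) := by
    field_simp
    ring
  have hkey : 2 * (‖γ b‖ * ‖g 1‖) ≤
      ((Nat.card P : ℝ) - 1) * ‖γ b‖ ^ 2 + ‖g 1‖ ^ 2 / ((Nat.card P : ℝ) - 1) := by
    rw [← sub_le_iff_le_add', le_div_iff₀ hn1]
    nlinarith
  rw [hfrac]
  nlinarith

open Classical in
/-- A4: the sum of squares of a function supported on `Y`. -/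
theorem s13_sum_sq_of_vanish (Y : Subgroup L) {g : L → ℂ} (hg : ∀ x, x ∉ Y → g x = 0) :
    ∑ x ∈ Finset.univ.filter (fun x => x ∈ Y), ‖g x‖ ^ 2
      = (Nat.card L : ℝ) * (Cfsg.classInner g g).re := by
  rw [classInner_self, Complex.ofReal_re, ← mul_assoc,
    mul_inv_cancel₀ (Nat.cast_ne_zero.mpr Nat.card_pos.ne'), one_mul]
  refine Finset.sum_subset (Finset.subset_univ _) fun x _ hx => ?_
  rw [hg x (fun h => hx (by simp [h]))]
  simp

variable {G : Type u} [Group G] [Fintype G]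

open Classical in
/-- The elements conjugate into `X`. -/
noncomputable def conjClosure (X : Finset G) : Finset G :=
  Finset.univ.filter fun g => ∃ t : G, ∃ x ∈ X, g = t * x * t⁻¹

/-- B1: sums over the conjugates of a TI set. -/
theorem s13_sum_conjClosure (S : Subgroup G) (X : Finset G)
    (hstab : ∀ s ∈ S, ∀ x ∈ X, s * x * s⁻¹ ∈ X)
    (hTI : ∀ g : G, g ∉ S → ∀ x ∈ X, g * x * g⁻¹ ∉ X)
    {F : G → ℝ} (hF : ∀ g x : G, F (g * x * g⁻¹) = F x) :
    (Nat.card S : ℝ) * ∑ g ∈ conjClosure X, F g = (Nat.card G : ℝ) * ∑ x ∈ X, F x := by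
  classical
  rw [show conjClosure X = clsOf X from by ext g; simp [conjClosure, mem_clsOf]]
  refine sum_clsOf S hstab (fun b hb x hx => ?_) F fun g x => hF x g
  by_contra h
  exact hTI x h b hb hx

/-- B2: closed under the powers prime to the order. -/
theorem s13_powClosed_conjClosure (X : Finset G)
    (hX : ∀ x ∈ X, ∀ k : ℕ, k.Coprime (Nat.card G) → x ^ k ∈ X) :
    ∀ x ∈ conjClosure X, ∀ k : ℕ, k.Coprime (Nat.card G) → x ^ k ∈ conjClosure X := by
  classical
  intro x hx k hk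
  simp only [conjClosure, Finset.mem_filter, Finset.mem_univ, true_and] at hx ⊢
  obtain ⟨t, y, hy, rfl⟩ := hx
  exact ⟨t, y ^ k, hX y hy k hk, by rw [conj_pow]⟩

open Classical in
/-- B3: complements of closed sets are closed. -/
theorem s13_powClosed_compl (X : Finset G)
    (hX : ∀ x ∈ X, ∀ k : ℕ, k.Coprime (Nat.card G) → x ^ k ∈ X) :
    ∀ x ∈ Finset.univ \ X, ∀ k : ℕ, k.Coprime (Nat.card G) → x ^ k ∈ Finset.univ \ X := by
  intro x hx k hk
  rw [Finset.mem_sdiff] at hx ⊢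
  refine ⟨Finset.mem_univ _, fun h => hx.2 ?_⟩
  haveI : NeZero (Nat.card G) := ⟨Nat.card_pos.ne'⟩
  obtain ⟨j, hj⟩ : ∃ j : ℕ, k * j ≡ 1 [MOD Nat.card G] := by
    refine ⟨((ZMod.unitOfCoprime k hk)⁻¹ : (ZMod (Nat.card G))ˣ).1.val, ?_⟩
    rw [← ZMod.natCast_eq_natCast_iff]
    push_cast
    rw [ZMod.natCast_zmod_val, ← ZMod.coe_unitOfCoprime k hk, Units.mul_inv]
  have hjc : j.Coprime (Nat.card G) := by
    refine Nat.Coprime.coprime_mul_left (k := k) ?_
    rw [Nat.coprime_iff_gcd_eq_one, hj.gcd_eq, Nat.gcd_one_left]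
  have := hX _ h j hjc
  rwa [← pow_mul, pow_eq_pow_iff_modEq.mpr (hj.of_dvd (orderOf_dvd_natCard x)), pow_one] at this

end Cfsg.Agent.PF
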