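import Cfsg.Agent.OddChar.PF.S13Image
import Cfsg.Agent.OddChar.PF.S13Members
import Cfsg.Agent.OddChar.PF.S13Family
import Cfsg.Agent.OddChar.PF.S13Galois
import Cfsg.Agent.OddChar.PF.S12Signed

/-!
# Section 13: the masses on the conjugates of the two abelian subgroups
-/

set_option linter.unusedSectionVars false
set_option linter.unusedVariables false
set_option linter.style.haveILetI false
set_option autoImplicit false

namespace Cfsg.Agent.PF

open Subgroup Cfsg.Lib.Chars Cfsg.Lib.CyclicTI Cfsg.Lib.Coherence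
open scoped commutatorElement ComplexConjugate

universe u

variable {G : Type u} [Group G] [Fintype G] {S T W₁ W₂ U V : Subgroup G}

open Classical in
/-- The non-identity elements of `M_F C_U(M_F)`. -/
noncomputable def coreFin (M U : Subgroup G) : Finset G :=
  Finset.univ.filter fun g => g ∈ core13 M U ∧ g ≠ 1

theorem mem_coreFin {M : Subgroup G} {g : G} : g ∈ coreFin M U ↔ g ∈ core13 M U ∧ g ≠ 1 := by
  simp [coreFin]

theorem card_coreFin (M : Subgroup G) :
    ((coreFin M U).card : ℝ) = (Nat.card (core13 M U) : ℝ) - 1 := by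
  classical
  have h : (coreFin M U) = (Finset.univ.filter fun g => g ∈ core13 M U).erase 1 := by
    ext g; simp [coreFin, and_comm]
  rw [h, Finset.card_erase_of_mem (by simp), Nat.cast_sub, Nat.cast_one, Nat.card_eq_fintype_card,
    Fintype.card_subtype]
  exact Finset.card_pos.mpr ⟨1, by simp⟩

theorem powClosed_coreFin (M : Subgroup G) :
    ∀ x ∈ coreFin M U, ∀ k : ℕ, k.Coprime (Nat.card G) → x ^ k ∈ coreFin M U := by
  intro x hx k hk
  rw [mem_coreFin] at hx ⊢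
  refine ⟨pow_mem hx.1 k, fun h => hx.2 ((Nat.Coprime.pow_left_bijective hk.symm).1 ?_)⟩
  simpa using h

namespace Side13

variable (d : Side13 S W₁ U W₂)
include d

theorem coreFin_stab : ∀ s ∈ S, ∀ x ∈ coreFin S U, s * x * s⁻¹ ∈ coreFin S U := by
  intro s hs x hx
  rw [mem_coreFin] at hx ⊢
  exact ⟨s09_conj_mem (d.core_normal hs) hx.1, fun e => hx.2 (conj_eq_one_iff.mp e)⟩

theorem coreFin_ti : ∀ g : G, g ∉ S → ∀ x ∈ coreFin S U, g * x * g⁻¹ ∉ coreFin S U := by
  intro g hg x hx h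
  rw [mem_coreFin] at hx h
  exact hg (d.core_fusion hx.1 hx.2 h.1)

theorem coprime_core {y : G} (hy : y ∈ core13 S U) : (orderOf y).Coprime (Nat.card W₁) := by
  refine Nat.Coprime.coprime_dvd_left ?_ d.nine.coprime_derived
  have := orderOf_dvd_natCard (G := ↥⁅S, S⁆) ⟨y, d.core_le_derived hy⟩
  rwa [orderOf_mk] at this

theorem not_InVcls {y : G} (hy : y ∈ core13 S U) (g : G) : ¬ InVcls W₁ W₂ (g * y * g⁻¹) := by
  rintro ⟨x, hx, hx1, hx2⟩
  set hW := d.nine.typeP.selfNormalizing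
  set w : ↥(W₁ ⊔ W₂) := ⟨_, hx⟩
  have hord : orderOf (w : G) = orderOf y := by
    show orderOf (x⁻¹ * (g * y * g⁻¹) * x) = _
    rw [show x⁻¹ * (g * y * g⁻¹) * x = MulAut.conj (x⁻¹ * g) y by simp [mul_assoc],
      MulEquiv.orderOf_eq]
  apply hx2
  have hpow : w ^ Nat.card W₂ = 1 := by
    have h1 : (pr₁ hW w) ^ Nat.card W₁ = 1 := Subtype.ext
      (congrArg (fun z : W₁ => (z : G))
        (pow_card_eq_one' (G := W₁) (x := ⟨_, pr₁_mem hW w⟩)))
    have h2 : (pr₂ hW w) ^ Nat.card W₂ = 1 := Subtype.ext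
      (congrArg (fun z : W₂ => (z : G))
        (pow_card_eq_one' (G := W₂) (x := ⟨_, pr₂_mem hW w⟩)))
    have h3 : w ^ (Nat.card W₂ * Nat.card W₁) = 1 := by
      rw [← pr_mul hW w, (show Commute (pr₁ hW w) (pr₂ hW w) from comm hW _ _).mul_pow]
      conv_lhs => arg 1; rw [mul_comm, pow_mul, h1, one_pow]
      rw [pow_mul, h2, one_pow, one_mul]
    have h4 : orderOf w ∣ Nat.card W₂ := by
      refine Nat.Coprime.dvd_of_dvd_mul_right ?_ (orderOf_dvd_of_pow_eq_one h3)
      rw [← Subgroup.orderOf_coe, hord]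
      exact d.coprime_core hy
    exact orderOf_dvd_iff_pow_eq_one.mp h4
  have hp1 : pr₁ hW w = 1 := by
    have h2 : (pr₂ hW w) ^ Nat.card W₂ = 1 := Subtype.ext
      (congrArg (fun z : W₂ => (z : G))
        (pow_card_eq_one' (G := W₂) (x := ⟨_, pr₂_mem hW w⟩)))
    rw [← pr_mul hW w, (show Commute (pr₁ hW w) (pr₂ hW w) from comm hW _ _).mul_pow, h2,
      mul_one] at hpow
    have h1 : (pr₁ hW w) ^ Nat.card W₁ = 1 := Subtype.ext
      (congrArg (fun z : W₁ => (z : G))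
        (pow_card_eq_one' (G := W₁) (x := ⟨_, pr₁_mem hW w⟩)))
    exact orderOf_eq_one_iff.mp (Nat.eq_one_of_dvd_coprimes (coprime_card hW)
      (orderOf_dvd_of_pow_eq_one h1) (orderOf_dvd_of_pow_eq_one hpow))
  show ((w : ↥(W₁ ⊔ W₂)) : G) ∈ W₂
  rw [← pr_mul hW w, hp1, one_mul]
  exact pr₂_mem hW w

variable [Fintype S]

theorem index_core :
    ((core13 S U).subgroupOf S).index = Nat.card W₁ * (cent13 S U).relIndex U := by
  refine Nat.eq_of_mul_eq_mul_left (Nat.card_pos (α := (core13 S U).subgroupOf S)) ?_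
  rw [card_mul_index, Nat.card_congr (subgroupOfEquivOfLe d.core_le).toEquiv, d.card_M]
  ring

theorem member_props {χ : ↥S → ℂ} (hχ : χ ∈ calS9 S ⊥)
    (hdeg : χ 1 = ((Nat.card W₁ * (cent13 S U).relIndex U : ℕ) : ℂ))
    [Fintype ↥((Cfsg.fittingHallOf S).subgroupOf S)] :
    (∀ x : S, x ∉ (core13 S U).subgroupOf S → χ x = 0) ∧
      ∀ y ∈ (core13 S U).subgroupOf S,
        ∑ h : ↥((Cfsg.fittingHallOf S).subgroupOf S), χ (y * h) = 0 := by
  haveI : ((⁅S, S⁆ : Subgroup G).subgroupOf S).Normal :=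
    (normal_subgroupOf_iff_le_normalizer (Subgroup.commutator_le_self S)).mpr
      d.nine.M_le_normalizer_derived
  haveI : ((Cfsg.fittingHallOf S).subgroupOf S).Normal :=
    (normal_subgroupOf_iff_le_normalizer d.P_le).mpr d.nine.M_le_normalizer_H
  haveI : ((core13 S U).subgroupOf S).Normal :=
    (normal_subgroupOf_iff_le_normalizer d.core_le).mpr d.core_normal
  refine s13_member_of_degree ((⁅S, S⁆ : Subgroup G).subgroupOf S)
    ((Cfsg.fittingHallOf S).subgroupOf S) ((core13 S U).subgroupOf S) ?_ ?_ ?_ ?_ ?_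
  · exact fun x hx => Subgroup.mem_sup_left hx
  · exact fun x hx => d.core_le_derived hx
  · exact fun a ha b hb => Subtype.ext (d.core_comm _ ha _ hb)
  · rw [← calS9_bot]; exact hχ
  · rw [d.index_core]; exact hdeg

/-- A generalized character vanishing nowhere at a point of the abelian subgroup has mass there at
least its order less one. -/
theorem mass_eta {a : G → ℂ} (ha : Cfsg.IsGeneralizedCharacter G a) {y : G}
    (hy : y ∈ core13 S U) (hy1 : y ≠ 1) (hay : a y ≠ 0) :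
    ((coreFin S U).card : ℝ) ≤ ∑ g ∈ coreFin S U, ‖a g‖ ^ 2 := by
  classical
  rw [card_coreFin]
  have hres : Cfsg.IsGeneralizedCharacter (core13 S U) (fun z : core13 S U => a z) := by
    obtain ⟨b, c, hb, hc, rfl⟩ := ha
    exact ⟨_, _, IsCharacter.restrict hb _, IsCharacter.restrict hc _, rfl⟩
  refine (mass_nonzero (fun u v : core13 S U => Subtype.ext (d.core_comm _ u.2 _ v.2))
    (f := fun z : core13 S U => a z)
    (fun ω => inner_int hres (IsCharacter.isGeneralized (isCharacter_of_irr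
      (Cfsg.Lib.Dual.isIrr_ev ω)))) (a := ⟨y, hy⟩) (fun e => hy1 (congrArg Subtype.val e))
    hay).trans (le_of_eq ?_)
  refine Finset.sum_bij (fun z _ => (z : G)) (fun z hz => ?_) (fun z _ z' _ e => Subtype.ext e)
    (fun g hg => ?_) fun z _ => rfl
  · rw [mem_coreFin]
    exact ⟨z.2, fun e => (Finset.mem_erase.mp hz).1 (Subtype.ext e)⟩
  · rw [mem_coreFin] at hg
    exact ⟨⟨g, hg.1⟩, Finset.mem_erase.mpr ⟨fun e => hg.2 (congrArg Subtype.val e),
      Finset.mem_univ _⟩, rfl⟩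

end Side13

namespace Coh13

variable [Fintype S] {μ : (↥(W₁ ⊔ W₂) →* ℂˣ) → (↥S → ℂ)} {δ : (↥(W₁ ⊔ W₂) →* ℂˣ) → ℂ}
  {η : (↥(W₁ ⊔ W₂) →* ℂˣ) → (G → ℂ)} {Rs : (↥S → ℂ) → Finset (G → ℂ)}
  {τ₁ : (↥S → ℂ) → (G → ℂ)} (c : Coh13 S W₁ W₂ μ δ η Rs τ₁)
include c

theorem member_deg {χ : ↥S → ℂ} (hχ : χ ∈ calS9 S ⊥) : ∃ n : ℕ, 0 < n ∧ χ 1 = n := by
  rw [calS9_bot] at hχ
  obtain ⟨⟨θ, hθ, -, -, rfl⟩, -⟩ := hχ
  obtain ⟨n, hn, he⟩ := IsIrrCharacter.apply_one hθ
  exact ⟨((⁅S, S⁆ : Subgroup G).subgroupOf S).index * n,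
    Nat.mul_pos (Nat.pos_of_ne_zero Subgroup.index_ne_zero_of_finite) hn,
    by rw [indFun_one, he, Nat.cast_mul]⟩

/-- On the members, restriction differs from the coherent map by a multiple of the degree. -/
theorem res_coeff {a : G → ℂ} (ha : Cfsg.IsClassFunction G a) :
    ∃ k : ℂ, ∀ χ ∈ calS9 S ⊥, Cfsg.classInner (fun x : S => a x) χ =
      Cfsg.classInner a (τ₁ χ) + k * χ 1 := by
  obtain ⟨χ₁, h₁⟩ := c.sys.nonempty
  obtain ⟨n₁, hn₁, e₁⟩ := c.member_deg h₁
  have hn0 : (n₁ : ℂ) ≠ 0 := Nat.cast_ne_zero.mpr hn₁.ne'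
  refine ⟨(Cfsg.classInner (fun x : S => a x) χ₁ - Cfsg.classInner a (τ₁ χ₁)) / n₁, fun χ hχ => ?_⟩
  obtain ⟨n, hn, e⟩ := c.member_deg hχ
  have hm := subset_zspan (S := calS9 S ⊥) hχ
  have hm₁ := subset_zspan (S := calS9 S ⊥) h₁
  have hz := (Submodule.span ℤ (calS9 S ⊥)).smul_mem (n₁ : ℤ) hm
  have hz₁ := (Submodule.span ℤ (calS9 S ⊥)).smul_mem (n : ℤ) hm₁
  have hf : (n₁ : ℤ) • χ - (n : ℤ) • χ₁ ∈ Cfsg.zspanOn (calS9 S ⊥) {1}ᶜ := by
    refine mem_one.mpr ⟨(Submodule.span ℤ (calS9 S ⊥)).sub_mem hz hz₁, ?_⟩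
    simp [e, e₁]
    ring
  have h := congrArg (Cfsg.classInner a) (c.ind _ hf)
  rw [c.map_sub hz hz₁, c.iso.2.1 _ hm, c.iso.2.1 _ hm₁, frobenius_reciprocity' S _ ha] at h
  simp only [← Int.cast_smul_eq_zsmul ℂ, classInner_sub_right, classInner_smul_right, Int.cast_natCast,
    map_natCast] at h
  rw [e]
  field_simp
  linear_combination -h

/-- The mass of a class function on the abelian subgroup, from its coefficients on the members. -/
theorem mass_core (d : Side13 S W₁ U W₂) {a : G → ℂ} (ha : Cfsg.IsClassFunction G a)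
    [Fintype ↥((Cfsg.fittingHallOf S).subgroupOf S)]
    {g : ↥S → ℂ} (hg : Cfsg.IsClassFunction ↥S g)
    (hvan : ∀ x : S, x ∉ (core13 S U).subgroupOf S → g x = 0)
    (hsum : ∀ y ∈ (core13 S U).subgroupOf S,
      ∑ h : ↥((Cfsg.fittingHallOf S).subgroupOf S), g (y * h) = 0)
    (hco : ∀ χ ∈ calS9 S ⊥, Cfsg.classInner g χ = Cfsg.classInner a (τ₁ χ)) :
    (Nat.card S : ℝ) * (Cfsg.classInner g g).re -
        ‖g 1‖ ^ 2 * ((Nat.card W₂ : ℝ) ^ Nat.card W₁) / ((Nat.card W₂ : ℝ) ^ Nat.card W₁ - 1)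
      ≤ ∑ x ∈ coreFin S U, ‖a x‖ ^ 2 := by
  classical
  haveI : ((⁅S, S⁆ : Subgroup G).subgroupOf S).Normal :=
    (normal_subgroupOf_iff_le_normalizer (Subgroup.commutator_le_self S)).mpr
      d.nine.M_le_normalizer_derived
  haveI : ((Cfsg.fittingHallOf S).subgroupOf S).Normal :=
    (normal_subgroupOf_iff_le_normalizer d.P_le).mpr d.nine.M_le_normalizer_H
  haveI : ((core13 S U).subgroupOf S).Normal :=
    (normal_subgroupOf_iff_le_normalizer d.core_le).mpr d.core_normal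
  set P' := (Cfsg.fittingHallOf S).subgroupOf S with hP'
  set Y' := (core13 S U).subgroupOf S with hY'
  have hPY : P' ≤ Y' := fun x hx => Subgroup.mem_sup_left hx
  obtain ⟨k, hk⟩ := c.res_coeff ha
  have hac : Cfsg.IsClassFunction ↥S (fun x : S => a x) := fun x y => by
    simpa using ha (x : G) (y : G)
  have hγc : Cfsg.IsClassFunction ↥S ((fun x : S => a x) - g) := fun x y => by
    simp only [Pi.sub_apply, hg x y]
    exact congrArg (· - g x) (hac x y)
  have hconst : ∀ x ∈ Y', ∀ h ∈ P', x ≠ 1 → x * h ≠ 1 →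
      ((fun x : S => a x) - g) (x * h) = ((fun x : S => a x) - g) x := fun x hx h hh h1 h2 =>
    s13_coset_const ((⁅S, S⁆ : Subgroup G).subgroupOf S) P' Y' hPY
      (fun z hz => d.core_le_derived hz) (fun z hz w hw => Subtype.ext (d.core_comm _ hz _ hw))
      hγc (k := k) (fun χ hχ => by
        have hχ' : χ ∈ calS9 S ⊥ := by rw [calS9_bot]; exact hχ
        rw [classInner_sub_left, hk χ hχ', hco χ hχ']
        ring) hx hh h1 h2
  have hcardP : Nat.card P' = Nat.card W₂ ^ Nat.card W₁ := by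
    rw [hP', Nat.card_congr (subgroupOfEquivOfLe d.P_le).toEquiv, d.card_H]
  have hP1 : 1 < Nat.card P' := by
    rw [hcardP]
    exact Nat.one_lt_pow d.nine.q_prime.ne_zero d.p_prime.one_lt
  have hlow := s13_coset_lower P' Y' hPY hP1 ((fun x : S => a x) - g) g hconst fun y hy => by convert hsum y hy
  rw [s13_sum_sq_of_vanish Y' hvan, hcardP, Nat.cast_pow] at hlow
  have h0 : 0 ≤ ∑ x ∈ Finset.univ.filter (fun x => x ∈ Y' ∧ x ∉ P'),
      ‖((fun x : S => a x) - g) x‖ ^ 2 := Finset.sum_nonneg fun _ _ => sq_nonneg _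
  refine le_trans (by linarith) (hlow.trans (le_of_eq ?_))
  refine Finset.sum_bij (fun z _ => (z : G)) (fun z hz => ?_) (fun z _ z' _ e => Subtype.ext e)
    (fun x hx => ?_) fun z _ => by simp
  · simp only [Finset.mem_filter, Finset.mem_univ, true_and] at hz
    exact mem_coreFin.mpr ⟨hz.1, fun e => hz.2 (Subtype.ext e)⟩
  · rw [mem_coreFin] at hx
    refine ⟨⟨x, d.core_le hx.1⟩, ?_, rfl⟩
    simp only [Finset.mem_filter, Finset.mem_univ, true_and]
    exact ⟨hx.1, fun e => hx.2 (congrArg Subtype.val e)⟩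

end Coh13

/-- The non-identity elements of the two abelian subgroups are not conjugate. -/
theorem Side13.not_conj (dS : Side13 S W₁ U W₂) (dT : Side13 T W₂ V W₁) (g : G) {y z : G}
    (hy : y ∈ core13 S U) (hy1 : y ≠ 1) (hz : z ∈ core13 T V) : g * y * g⁻¹ ≠ z := by
  intro e
  have hz1 : z ≠ 1 := fun h => hy1 (conj_eq_one_iff.mp (e.trans h))
  have hord : orderOf z = orderOf y := by
    rw [← e, ← MulAut.conj_apply, MulEquiv.orderOf_eq]
  have hle : (Cfsg.fittingHallOf S).map (MulAut.conj g).toMonoidHom ≤ T := by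
    rintro _ ⟨x, hx, rfl⟩
    refine dT.centralizer_le (dT.core_sub_A0 hz hz1) hz1 (mem_centralizer_singleton_iff.mpr ?_)
    show g * x * g⁻¹ * z = z * (g * x * g⁻¹)
    rw [← e]
    calc g * x * g⁻¹ * (g * y * g⁻¹) = g * (x * y) * g⁻¹ := by group
      _ = g * (y * x) * g⁻¹ := by rw [dS.core_comm x (mem_sup_left hx) y hy]
      _ = g * y * g⁻¹ * (g * x * g⁻¹) := by group
  have hdvd := card_dvd_of_le hle
  rw [card_map_of_injective (MulAut.conj g).injective, dS.card_H, dT.nine.card_eq,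
    dT.nine.card_derived, dT.card_H] at hdvd
  have hp := dS.p_prime
  have hne : Nat.card W₂ ≠ Nat.card W₁ := fun e' => hp.ne_one (by
    have := coprime_card dS.nine.typeP.selfNormalizing
    rwa [← e', Nat.coprime_self] at this)
  have hc1 : (Nat.card W₂ ^ Nat.card W₁).Coprime (Nat.card W₁ ^ Nat.card W₂ * Nat.card V) := by
    refine Nat.Coprime.mul_right (Nat.Coprime.pow _ _ ?_) (Nat.Coprime.pow_left _ ?_)
    · exact (Nat.coprime_primes hp dS.nine.q_prime).mpr hne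
    · exact (dT.nine.coprime_derived.coprime_dvd_left
        (card_dvd_of_le dT.nine.U_le_derived)).symm
  have h1 := hc1.dvd_of_dvd_mul_left hdvd
  have h2 := Nat.le_of_dvd hp.pos h1
  have h3 : Nat.card W₂ ^ 1 < Nat.card W₂ ^ Nat.card W₁ :=
    Nat.pow_lt_pow_right hp.one_lt dS.nine.q_prime.one_lt
  rw [pow_one] at h3
  omega

end Cfsg.Agent.PF
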