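import Cfsg.Agent.OddChar.PF.S13Count

/-!
# Section 13: the inequality

With `Z` the image of an irreducible member of degree `q u` and `η₁` a nontrivial member of the
first row, the norms of `Z` and `η₁` bound `1 / p`.
-/

set_option linter.unusedSectionVars false
set_option linter.unusedVariables false
set_option linter.style.haveILetI false
set_option autoImplicit false

namespace Cfsg.Agent.PF

open Subgroup Cfsg.Lib.Chars Cfsg.Lib.CyclicTI Cfsg.Lib.Coherence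
open scoped commutatorElement ComplexConjugate

universe u

variable {G : Type u} [Group G] [Fintype G] {S T W₁ W₂ U V : Subgroup G}

theorem s13_sum_sq_of_norm {f : G → ℂ} {n : ℕ} (h : Cfsg.classInner f f = n) :
    ∑ g, ‖f g‖ ^ 2 = (Nat.card G : ℝ) * n := by
  have e := congrArg Complex.re ((classInner_self f).symm.trans h)
  rw [Complex.ofReal_re, Complex.natCast_re] at e
  rw [← e, ← mul_assoc, mul_inv_cancel₀ (Nat.cast_ne_zero.mpr Nat.card_pos.ne'), one_mul]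

theorem s13_one_le_norm_one {f : G → ℂ} (hf : Cfsg.IsIrrCharacter G f ∨ Cfsg.IsIrrCharacter G (-f)) :
    1 ≤ ‖f 1‖ ^ 2 := by
  obtain ⟨n, hn, e⟩ : ∃ n : ℕ, 0 < n ∧ ‖f 1‖ = (n : ℝ) := by
    rcases hf with h | h <;> obtain ⟨n, hn, e⟩ := IsIrrCharacter.apply_one h
    · exact ⟨n, hn, by rw [e, Complex.norm_natCast]⟩
    · exact ⟨n, hn, by rw [← norm_neg, show -f 1 = (n : ℂ) from e, Complex.norm_natCast]⟩
  rw [e]
  exact one_le_pow₀ (by exact_mod_cast hn)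

theorem s13_class_conj {f : G → ℂ} (hf : Cfsg.IsClassFunction G f) (g x : G) :
    f (g * x * g⁻¹) = f x := hf x g

/-- The mass of a first-row member on the second abelian subgroup. -/
theorem s13_mass_other (hG : Cfsg.IsMinSimpleOddOrder G) (dS : Side13 S W₁ U W₂)
    (dT : Side13 T W₂ V W₁) [Fintype T]
    {η : (↥(W₁ ⊔ W₂) →* ℂˣ) → (G → ℂ)} (hη : Cfsg.IsCyclicTIFamily W₁ W₂ η)
    {φ₁ : ↥(W₁ ⊔ W₂) →* ℂˣ} (hφ : OnFirst φ₁) (hφ1 : φ₁ ≠ 1) :
    (Nat.card T : ℝ) / Nat.card W₂ *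
        (1 - ((cent13 T V).relIndex V : ℝ) /
          (((Nat.card W₁ : ℝ) ^ Nat.card W₂ - 1) * Nat.card (cent13 T V)))
      ≤ ∑ x ∈ coreFin T V, ‖η φ₁ x‖ ^ 2 := by
  classical
  haveI : Fintype ↥((Cfsg.fittingHallOf T).subgroupOf T) := Fintype.ofFinite _
  obtain ⟨μ, δ, Rs, τ₁, c⟩ := dT.exists_coh hG (family_swap13 hη)
  set ψ := φ₁.comp (swapW W₂ W₁) with hψdef
  have hψ : OnSecond ψ := swap_onSecond hφ
  have hψ1 : ψ ≠ 1 := fun e => hφ1 (MonoidHom.ext fun w =>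
    DFunLike.congr_fun e (swapW W₁ W₂ w))
  have ha : η φ₁ = swapFam η ((1 : ↥(W₂ ⊔ W₁) →* ℂˣ) * ψ) := by
    rw [hom_one_mul]; exact (swapFam_apply η φ₁).symm
  set a := η φ₁ with hadef
  have hagen : Cfsg.IsGeneralizedCharacter G a := IsSignedIrr.generalized (hη.irr_or_neg φ₁)
  have hac := isClassFunction_generalized hagen
  set μ₁ := redChar μ ψ with hμ₁
  set μ₂ := redChar μ ψ⁻¹ with hμ₂
  have hm₁ : μ₁ ∈ calS9 T ⊥ := (c.red ψ hψ hψ1).1
  have hm₂ : μ₂ ∈ calS9 T ⊥ := c.conj_red_mem hψ hψ1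
  have hψi := c.onSecond_inv hψ
  obtain ⟨e₁, he₁⟩ := inner_int hagen (c.gen hm₁)
  obtain ⟨e₂, he₂⟩ := inner_int hagen (c.gen hm₂)
  have hdiff : e₁ - e₂ = 1 ∨ e₁ - e₂ = -1 := by
    have h := c.column_diff hψ hψ1 onFirst_one
    rw [← ha, ← hμ₁, ← hμ₂, ← classInner_conj_symm a (τ₁ μ₁), he₁, ← classInner_conj_symm a (τ₁ μ₂), he₂,
      map_intCast, map_intCast] at h
    rcases c.chars.sign ψ with s | s <;> rw [s] at h
    · left; exact_mod_cast h
    · right; exact_mod_cast h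
  set p := Nat.card W₂ with hpdef
  set v := (cent13 T V).relIndex V with hvdef
  have hp0 : (p : ℂ) ≠ 0 := Nat.cast_ne_zero.mpr Nat.card_pos.ne'
  set g : ↥T → ℂ := ((e₁ : ℂ) / p) • μ₁ + ((e₂ : ℂ) / p) • μ₂ with hgdef
  have h12 : Cfsg.classInner μ₁ μ₂ = 0 :=
    c.pd.inner_red_red c.chars hψ hψi (c.ne_inv hψ hψ1).symm
  have h21 : Cfsg.classInner μ₂ μ₁ = 0 :=
    c.pd.inner_red_red c.chars hψi hψ (c.ne_inv hψ hψ1)
  have h11 : Cfsg.classInner μ₁ μ₁ = p := c.pd.inner_red_self c.chars hψ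
  have h22 : Cfsg.classInner μ₂ μ₂ = p := c.pd.inner_red_self c.chars hψi
  have hco : ∀ χ ∈ calS9 T ⊥, Cfsg.classInner g χ = Cfsg.classInner a (τ₁ χ) := by
    intro χ hχ
    rw [hgdef, classInner_add_left, classInner_smul_left, classInner_smul_left]
    by_cases hx : χ = μ₁
    · rw [hx, h11, h21, he₁, div_mul_cancel₀ _ hp0, mul_zero, add_zero]
    by_cases hy : χ = μ₂
    · rw [hy, h12, h22, he₂, div_mul_cancel₀ _ hp0, mul_zero, zero_add]
    have h0 := c.column_orth hψ hψ1 onFirst_one hχ hx hy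
    rw [← ha] at h0
    rw [c.sys.orthogonal μ₁ hm₁ χ hχ (Ne.symm hx), c.sys.orthogonal μ₂ hm₂ χ hχ (Ne.symm hy),
      mul_zero, mul_zero, add_zero, ← classInner_conj_symm, h0, map_zero]
  have hgg : Cfsg.classInner g g = ((((e₁ : ℝ) ^ 2 + (e₂ : ℝ) ^ 2) / p : ℝ) : ℂ) := by
    rw [hgdef]
    simp only [classInner_add_left, classInner_add_right, classInner_smul_left,
      classInner_smul_right, h11, h12, h21, h22, map_div₀, map_intCast, map_natCast]
    push_cast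
    field_simp
    ring
  have hp1 : ∀ b, OnSecond b → b ≠ 1 → redChar μ b 1 = ((p * v : ℕ) : ℂ) :=
    fun b hb hb1 => c.red_degree hG dT hb hb1
  have hg1 : g 1 = (((e₁ + e₂) * v : ℤ) : ℂ) := by
    simp only [hgdef, Pi.add_apply, Pi.smul_apply, smul_eq_mul]
    rw [hμ₁, hμ₂, hp1 _ hψ hψ1, hp1 _ hψi (s05_inv_ne hψ1)]
    push_cast
    field_simp
  obtain ⟨v₁, s₁⟩ := dT.member_props hm₁ (hp1 _ hψ hψ1)
  obtain ⟨v₂, s₂⟩ := dT.member_props hm₂ (hp1 _ hψi (s05_inv_ne hψ1))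
  have hgc : Cfsg.IsClassFunction ↥T g := fun x y => by
    simp only [hgdef, Pi.add_apply, Pi.smul_apply,
      isClassFunction_isChar (c.sys.isCharacter _ hm₁) x y,
      isClassFunction_isChar (c.sys.isCharacter _ hm₂) x y]
  have hmass := c.mass_core dT hac hgc
    (fun x hx => by simp [hgdef, v₁ x hx, v₂ x hx])
    (fun y hy => by
      simp only [hgdef, Pi.add_apply, Pi.smul_apply, smul_eq_mul, Finset.sum_add_distrib,
        ← Finset.mul_sum, s₁ y hy, s₂ y hy, mul_zero, add_zero])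
    hco
  rw [hgg, Complex.ofReal_re, hg1, Complex.norm_intCast, sq_abs] at hmass
  refine le_trans ?_ hmass
  -- arithmetic
  have hcard : (Nat.card T : ℝ) =
      (Nat.card W₁ : ℝ) ^ p * Nat.card (cent13 T V) * v * p := by
    rw [dT.card_M, dT.card_core]
    push_cast
    ring
  set q := Nat.card W₁ with hqdef
  set dd := Nat.card (cent13 T V) with hdd
  set Q : ℝ := (q : ℝ) ^ p with hQdef
  have hq3 : 3 ≤ q := by
    have h1 := dS.nine.q_prime.two_le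
    rcases (dS.odd_pieces hG).1 with ⟨k, hk⟩
    omega
  have hvb := dT.u_bound (s9Galois G) (s9NonGalois G hG.1)
  have hQn : 1 < q ^ p := Nat.one_lt_pow Nat.card_pos.ne' (by omega)
  have hQ : 1 < Q := by rw [hQdef]; exact_mod_cast hQn
  have hd1 : (1 : ℝ) ≤ dd := by exact_mod_cast (Nat.card_pos : 0 < dd)
  have hv2 : (2 : ℝ) * v ≤ (Q - 1) * dd := by
    have h2 : 2 * v ≤ q ^ p - 1 := le_trans (by rw [mul_comm]; exact Nat.mul_le_mul_left _ (by omega)) hvb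
    have h2' : ((2 * v : ℕ) : ℝ) ≤ ((q ^ p - 1 : ℕ) : ℝ) := by exact_mod_cast h2
    rw [Nat.cast_mul, Nat.cast_sub hQn.le, Nat.cast_one, Nat.cast_pow, Nat.cast_two,
      ← hQdef] at h2'
    nlinarith
  have hs : (1 : ℝ) ≤ ((e₁ : ℝ) + e₂) ^ 2 := by
    have h1 : e₁ + e₂ ≠ 0 := by rcases hdiff with h | h <;> omega
    have h2 : (1 : ℤ) ≤ (e₁ + e₂) ^ 2 := by
      rw [← sq_abs]; exact one_le_pow₀ (Int.one_le_abs h1)
    exact_mod_cast h2
  have hd2 : ((e₁ : ℝ) - e₂) ^ 2 = 1 := by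
    rcases hdiff with h | h
    · rw [show (e₁ : ℝ) - e₂ = 1 by exact_mod_cast h, one_pow]
    · rw [show (e₁ : ℝ) - e₂ = -1 by exact_mod_cast h]; norm_num
  have hp' : (0 : ℝ) < p := by exact_mod_cast (Nat.card_pos : 0 < p)
  have hv0 : (0 : ℝ) ≤ v := Nat.cast_nonneg _
  rw [hcard]
  push_cast
  have hQ1 : (0 : ℝ) < Q - 1 := by linarith
  have hd0 : (0 : ℝ) < dd := by linarith
  rw [← sub_nonneg]
  have key : Q * dd * v * p * (((e₁ : ℝ) ^ 2 + (e₂ : ℝ) ^ 2) / p) -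
      (((e₁ : ℝ) + e₂) * v) ^ 2 * Q / (Q - 1) -
      Q * dd * v * p / p * (1 - v / ((Q - 1) * dd)) =
      Q * v * ((((e₁ : ℝ) + e₂) ^ 2 - 1) * ((Q - 1) * dd - 2 * v)) / (2 * (Q - 1)) +
      Q * dd * v * (((e₁ : ℝ) - e₂) ^ 2 - 1) / 2 := by
    field_simp
    ring
  rw [key, hd2, sub_self, mul_zero, zero_div, add_zero]
  have h2v : (0 : ℝ) ≤ (Q - 1) * dd - 2 * v := by linarith
  have hs' : (0 : ℝ) ≤ ((e₁ : ℝ) + e₂) ^ 2 - 1 := by linarith
  positivity

open Classical in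
/-- Off the two abelian subgroups `Z` and `η₁` have no common zero. -/
theorem s13_not_both_zero (dS : Side13 S W₁ U W₂) [Fintype S]
    {μ : (↥(W₁ ⊔ W₂) →* ℂˣ) → (↥S → ℂ)} {δ : (↥(W₁ ⊔ W₂) →* ℂˣ) → ℂ}
    {η : (↥(W₁ ⊔ W₂) →* ℂˣ) → (G → ℂ)} {Rs : (↥S → ℂ) → Finset (G → ℂ)}
    {τ₁ : (↥S → ℂ) → (G → ℂ)} (c : Coh13 S W₁ W₂ μ δ η Rs τ₁) (hG : Cfsg.IsMinSimpleOddOrder G)
    {ζ : ↥S → ℂ} (hζ : ζ ∈ calS9 S ⊥) (hirr : Cfsg.IsIrrCharacter ↥S ζ)
    (hdeg : ζ 1 = ((Nat.card W₁ * (cent13 S U).relIndex U : ℕ) : ℂ))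
    {φ₁ : ↥(W₁ ⊔ W₂) →* ℂˣ} (hφ : OnFirst φ₁) (hφ1 : φ₁ ≠ 1) {x : G} (hx1 : x ≠ 1)
    (hxS : x ∉ conjClosure (coreFin S U)) : τ₁ ζ x ≠ 0 ∨ η φ₁ x ≠ 0 := by
  haveI : Fintype ↥((Cfsg.fittingHallOf S).subgroupOf S) := Fintype.ofFinite _
  haveI : Fintype (↥(W₁ ⊔ W₂) →* ℂˣ) := Fintype.ofFinite _
  have hW := c.pd.cycTI
  have hoddW : Odd (Nat.card ↥(W₁ ⊔ W₂)) := c.pd.odd_W
  by_contra! hc
  obtain ⟨hZ, hη0⟩ := hc
  have hgen : ∀ ω, Cfsg.IsGeneralizedCharacter G (η ω) := fun ω =>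
    IsSignedIrr.generalized (c.fam.irr_or_neg ω)
  by_cases hV : InVcls W₁ W₂ x
  · obtain ⟨t, ht, h1, h2⟩ := hV
    have e := c.fam.eq_on φ₁ ⟨_, ht⟩ h1 h2
    have e' := isClassFunction_generalized (hgen φ₁) x t⁻¹
    rw [inv_inv] at e'
    rw [show ((⟨t⁻¹ * x * t, ht⟩ : ↥(W₁ ⊔ W₂)) : G) = t⁻¹ * x * t from rfl, e', hη0] at e
    exact Units.ne_zero _ e.symm
  obtain ⟨ψ₀, hψ₀, hψ₀1⟩ := c.pd.exists_second
  obtain ⟨ψ', ε, hψ', -, hε, hcol⟩ := c.column hψ₀ hψ₀1 hζ hirr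
  have hdμ := c.red_degree hG dS hψ₀ hψ₀1
  obtain ⟨vz, -⟩ := dS.member_props hζ hdeg
  obtain ⟨vm, -⟩ := dS.member_props (c.red ψ₀ hψ₀ hψ₀1).1 hdμ
  have hmz := subset_zspan (S := calS9 S ⊥) hζ
  have hmm := subset_zspan (S := calS9 S ⊥) (c.red ψ₀ hψ₀ hψ₀1).1
  have hf : ζ - redChar μ ψ₀ ∈ Cfsg.zspanOn (calS9 S ⊥) {1}ᶜ :=
    mem_one.mpr ⟨(Submodule.span ℤ (calS9 S ⊥)).sub_mem hmz hmm, by simp [hdeg, hdμ]⟩
  have h0 : Cfsg.indFun S (ζ - redChar μ ψ₀) x = 0 := by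
    rw [indFun_apply, Finset.sum_eq_zero fun t _ => ?_, mul_zero]
    by_cases ht : t⁻¹ * x * t ∈ S
    · rw [extendByZero_mem _ ht]
      by_cases hY : (⟨_, ht⟩ : S) ∈ (core13 S U).subgroupOf S
      · exfalso
        refine hxS ?_
        simp only [conjClosure, Finset.mem_filter, Finset.mem_univ, true_and]
        refine ⟨t, t⁻¹ * x * t, mem_coreFin.mpr ⟨hY, fun e => hx1 ?_⟩, by group⟩
        have : x = t * (t⁻¹ * x * t) * t⁻¹ := by group
        rw [this, e]; group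
      · simp [vz _ hY, vm _ hY]
    · exact extendByZero_not_mem _ ht
  rw [← c.ind _ hf, c.map_sub hmz hmm, Pi.sub_apply, hZ, zero_sub, neg_eq_zero, hcol,
    Pi.smul_apply, smul_eq_mul, Finset.sum_apply] at h0
  have hsum : ∑ φ ∈ Finset.univ.filter (fun φ : ↥(W₁ ⊔ W₂) →* ℂˣ => OnFirst φ), η (φ * ψ') x =
      1 + (Nat.card W₁ : ℂ) * (η ψ' x - 1) := by
    have hcard : (Finset.univ.filter fun φ : ↥(W₁ ⊔ W₂) →* ℂˣ => OnFirst φ).card =
        Nat.card W₁ := by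
      rw [← card_onFirst hW, Nat.card_eq_fintype_card, Fintype.card_subtype]
    rw [Finset.sum_congr rfl fun φ hφ' => family_add c.fam (Finset.mem_filter.mp hφ').2 hψ' hV,
      Finset.sum_congr rfl fun φ _ => show η φ x + η ψ' x - 1 = η φ x + (η ψ' x - 1) by ring,
      Finset.sum_add_distrib, Finset.sum_const, nsmul_eq_mul, hcard,
      Finset.sum_eq_single (1 : ↥(W₁ ⊔ W₂) →* ℂˣ)]
    · rw [c.fam.map_one]
    · exact fun φ hφ' hne => first_zero hW hoddW dS.nine.q_prime c.fam hφ hφ1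
        (Finset.mem_filter.mp hφ').2 hne hη0
    · exact fun h => absurd (Finset.mem_filter.mpr ⟨Finset.mem_univ _, onFirst_one⟩) h
  have hε0 : ε ≠ 0 := by rcases hε with e | e <;> simp [e]
  rw [hsum, mul_eq_zero, or_iff_right hε0] at h0
  have hint : IsIntegral ℤ (1 - η ψ' x) := isIntegral_one.sub (s13_isIntegral (hgen ψ') x)
  have hq0 : (Nat.card W₁ : ℂ) ≠ 0 := Nat.cast_ne_zero.mpr Nat.card_pos.ne'
  have hval : 1 - η ψ' x = ((1 / (Nat.card W₁ : ℚ) : ℚ) : ℂ) := by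
    push_cast
    field_simp
    linear_combination -h0
  obtain ⟨z, hz⟩ := int_of_isIntegral_rat (q := 1 / (Nat.card W₁ : ℚ)) (hval ▸ hint)
  have hq : ((1 : ℤ) : ℚ) = ((z * (Nat.card W₁ : ℤ) : ℤ) : ℚ) := by
    push_cast
    rw [← hz]
    field_simp
  have hz' : (1 : ℤ) = z * (Nat.card W₁ : ℤ) := by exact_mod_cast hq
  have := Int.eq_one_of_dvd_one (by positivity) (Dvd.intro_left z hz'.symm)
  exact dS.nine.q_prime.ne_one (by exact_mod_cast this)

set_option maxHeartbeats 1000000 in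
/-- The inequality of the section. -/
theorem s13_inequality (hG : Cfsg.IsMinSimpleOddOrder G) (dS : Side13 S W₁ U W₂)
    (dT : Side13 T W₂ V W₁) [Fintype S] [Fintype T] {ζ : ↥S → ℂ} (hζ : ζ ∈ calS9 S ⊥)
    (hirr : Cfsg.IsIrrCharacter ↥S ζ)
    (hdeg : ζ 1 = ((Nat.card W₁ * (cent13 S U).relIndex U : ℕ) : ℂ)) :
    1 / (Nat.card W₂ : ℝ) < ((cent13 S U).relIndex U : ℝ) * Nat.card W₁ /
        (((Nat.card W₂ : ℝ) ^ Nat.card W₁ - 1) * Nat.card (cent13 S U)) +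
      ((cent13 T V).relIndex V : ℝ) /
        (((Nat.card W₁ : ℝ) ^ Nat.card W₂ - 1) * Nat.card (cent13 T V) * Nat.card W₂) +
      1 / (((cent13 T V).relIndex V : ℝ) * Nat.card W₂) := by
  classical
  haveI : Fintype ↥(W₁ ⊔ W₂) := Fintype.ofFinite _
  haveI : Fintype ↥((Cfsg.fittingHallOf S).subgroupOf S) := Fintype.ofFinite _
  have hW := dS.nine.typeP.selfNormalizing
  have hoddW : Odd (Nat.card ↥(W₁ ⊔ W₂)) :=
    hG.1.of_dvd_nat (Subgroup.card_subgroup_dvd_card _)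
  obtain ⟨η, hη⟩ := exists_family (G := G) hW hoddW
  obtain ⟨μ, δ, Rs, τ₁, c⟩ := dS.exists_coh hG hη
  haveI : Fintype (First W₁ W₂) := Fintype.ofFinite _
  obtain ⟨-, -, h3, -, -⟩ := two_le_card_first hW hoddW
  obtain ⟨⟨φ₁, hφ, hφ1⟩⟩ : Nonempty (First W₁ W₂) := Fintype.card_pos_iff.mp (by
    have := card_first (G := G) hW; omega)
  set Z := τ₁ ζ with hZdef
  set a := η φ₁ with hadef
  have hagen : Cfsg.IsGeneralizedCharacter G a := IsSignedIrr.generalized (hη.irr_or_neg φ₁)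
  have hZgen : Cfsg.IsGeneralizedCharacter G Z := c.gen hζ
  have hac := isClassFunction_generalized hagen
  have hZc := isClassFunction_generalized hZgen
  -- the two masses on the first abelian subgroup
  obtain ⟨b, hb, hb1⟩ := (Subgroup.bot_or_exists_ne_one W₂).resolve_left hW.2.1
  have hbY : b ∈ core13 S U := Subgroup.mem_sup_left (dS.nine.W₂_le_H hb)
  have hmη := dS.mass_eta hagen hbY hb1 (first_ne_zero hW dS.nine.q_prime hη hφ hb hb1)
  obtain ⟨vz, sz⟩ := dS.member_props hζ hdeg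
  have hmZ := c.mass_core dS hZc (isClassFunction_isChar (c.sys.isCharacter _ hζ)) vz sz
    fun χ hχ => (c.inner_eq hζ hχ).symm
  rw [classInner_self_irr hirr, hdeg, Complex.one_re, Complex.norm_natCast, mul_one] at hmZ
  have hmT := s13_mass_other hG dS dT hη hφ hφ1
  -- the partition
  set F : G → ℝ := fun g => ‖Z g‖ ^ 2 + ‖a g‖ ^ 2 with hF
  have hFc : ∀ g x : G, F (g * x * g⁻¹) = F x := fun g x => by
    simp only [hF, s13_class_conj hac, s13_class_conj hZc]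
  set XS := conjClosure (coreFin S U) with hXS
  set XT := conjClosure (coreFin T V) with hXT
  have hS1 := s13_sum_conjClosure S (coreFin S U) dS.coreFin_stab dS.coreFin_ti hFc
  have hT1 := s13_sum_conjClosure T (coreFin T V) dT.coreFin_stab dT.coreFin_ti hFc
  have hS2 := s13_sum_conjClosure S (coreFin S U) dS.coreFin_stab dS.coreFin_ti
    (F := fun _ => (1 : ℝ)) fun _ _ => rfl
  have hT2 := s13_sum_conjClosure T (coreFin T V) dT.coreFin_stab dT.coreFin_ti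
    (F := fun _ => (1 : ℝ)) fun _ _ => rfl
  simp only [Finset.sum_const, nsmul_eq_mul, mul_one, ← hXS, ← hXT] at hS1 hT1 hS2 hT2
  have h1S : (1 : G) ∉ XS := by
    simp only [hXS, conjClosure, Finset.mem_filter, not_and]
    rintro - ⟨t, y, hy, e⟩
    exact (mem_coreFin.mp hy).2 (conj_eq_one_iff.mp e.symm)
  have h1T : (1 : G) ∉ XT := by
    simp only [hXT, conjClosure, Finset.mem_filter, not_and]
    rintro - ⟨t, y, hy, e⟩
    exact (mem_coreFin.mp hy).2 (conj_eq_one_iff.mp e.symm)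
  have hdisj : Disjoint XS XT := Finset.disjoint_left.mpr fun g hg hg' => by
    simp only [hXS, hXT, conjClosure, Finset.mem_filter, Finset.mem_univ, true_and] at hg hg'
    obtain ⟨t, y, hy, rfl⟩ := hg
    obtain ⟨s, z, hz, e⟩ := hg'
    rw [mem_coreFin] at hy hz
    refine dS.not_conj dT (s⁻¹ * t) hy.1 hy.2 hz.1 ?_
    calc s⁻¹ * t * y * (s⁻¹ * t)⁻¹ = s⁻¹ * (t * y * t⁻¹) * s := by group
      _ = s⁻¹ * (s * z * s⁻¹) * s := by rw [e]
      _ = z := by group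
  set X1 := insert (1 : G) (XS ∪ XT) with hX1
  set X0 := Finset.univ \ X1 with hX0
  have h1ST : (1 : G) ∉ XS ∪ XT := by simp [h1S, h1T]
  have hX0c : (X0.card : ℝ) = (Nat.card G : ℝ) - 1 - XS.card - XT.card := by
    rw [hX0, Finset.card_univ_diff, Nat.cast_sub (Finset.card_le_univ _),
      Finset.card_insert_of_notMem h1ST, Finset.card_union_of_disjoint hdisj,
      Nat.card_eq_fintype_card]
    push_cast
    ring
  have hclosed : PowClosed X0 := s13_powClosed_compl X1 fun x hx k hk => by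
    simp only [hX1, Finset.mem_insert, Finset.mem_union] at hx ⊢
    rcases hx with rfl | hx | hx
    · exact Or.inl (one_pow k)
    · exact Or.inr (Or.inl (s13_powClosed_conjClosure _ (powClosed_coreFin S) x hx k hk))
    · exact Or.inr (Or.inr (s13_powClosed_conjClosure _ (powClosed_coreFin T) x hx k hk))
  have hX0F : (X0.card : ℝ) ≤ ∑ x ∈ X0, F x :=
    s13_card_le_pair hZgen hagen hclosed fun x hx => by
      simp only [hX0, hX1, Finset.mem_sdiff, Finset.mem_insert, Finset.mem_union, not_or] at hx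
      exact s13_not_both_zero dS c hG hζ hirr hdeg hφ hφ1 hx.2.1 hx.2.2.1
  have hF1 : 1 ≤ F 1 :=
    (s13_one_le_norm_one (hη.irr_or_neg φ₁)).trans (le_add_of_nonneg_left (sq_nonneg _))
  have htot : F 1 + ∑ x ∈ XS, F x + ∑ x ∈ XT, F x + ∑ x ∈ X0, F x = 2 * (Nat.card G : ℝ) := by
    rw [add_assoc (F 1), ← Finset.sum_union hdisj, ← Finset.sum_insert h1ST, ← hX1, add_comm,
      hX0, Finset.sum_sdiff (Finset.subset_univ X1)]
    simp only [hF, Finset.sum_add_distrib]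
    rw [s13_sum_sq_of_norm (n := 1) (by rw [hZdef, c.inner_eq hζ hζ, classInner_self_irr hirr,
        Nat.cast_one]),
      s13_sum_sq_of_norm (n := 1) (by rw [hadef, hη.orthonormal, if_pos rfl, Nat.cast_one])]
    push_cast
    ring
  have hsumS : ((coreFin S U).card : ℝ) + ((Nat.card S : ℝ) -
      ((Nat.card W₁ * (cent13 S U).relIndex U : ℕ) : ℝ) ^ 2 *
        (Nat.card W₂ : ℝ) ^ Nat.card W₁ / ((Nat.card W₂ : ℝ) ^ Nat.card W₁ - 1)) ≤
      ∑ x ∈ coreFin S U, F x := by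
    simp only [hF, Finset.sum_add_distrib]
    linarith
  have hsumT : (Nat.card T : ℝ) / Nat.card W₂ *
      (1 - ((cent13 T V).relIndex V : ℝ) /
        (((Nat.card W₁ : ℝ) ^ Nat.card W₂ - 1) * Nat.card (cent13 T V))) ≤
      ∑ x ∈ coreFin T V, F x := by
    simp only [hF, Finset.sum_add_distrib]
    linarith [Finset.sum_nonneg (s := coreFin T V) fun x _ => sq_nonneg ‖Z x‖]
  -- arithmetic
  have hcS : (Nat.card S : ℝ) = (Nat.card W₂ : ℝ) ^ Nat.card W₁ * Nat.card (cent13 S U) *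
      (cent13 S U).relIndex U * Nat.card W₁ := by
    rw [dS.card_M, dS.card_core]; push_cast; ring
  have hcT : (Nat.card T : ℝ) = (Nat.card W₁ : ℝ) ^ Nat.card W₂ * Nat.card (cent13 T V) *
      (cent13 T V).relIndex V * Nat.card W₂ := by
    rw [dT.card_M, dT.card_core]; push_cast; ring
  have hTc : ((coreFin T V).card : ℝ) < (Nat.card (core13 T V) : ℝ) := by
    rw [card_coreFin]; linarith
  rw [dT.card_core] at hTc
  push_cast at hTc hsumS
  have hu : (0 : ℝ) < ((cent13 S U).relIndex U : ℝ) :=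
    Nat.cast_pos.mpr (Nat.pos_of_ne_zero Subgroup.index_ne_zero_of_finite)
  have hv : (0 : ℝ) < ((cent13 T V).relIndex V : ℝ) :=
    Nat.cast_pos.mpr (Nat.pos_of_ne_zero Subgroup.index_ne_zero_of_finite)
  set p := Nat.card W₂
  set q := Nat.card W₁
  set P : ℝ := (p : ℝ) ^ q
  set Q : ℝ := (q : ℝ) ^ p
  set cc : ℝ := (Nat.card (cent13 S U) : ℝ)
  set dd : ℝ := (Nat.card (cent13 T V) : ℝ)
  set uu : ℝ := ((cent13 S U).relIndex U : ℝ)
  set vv : ℝ := ((cent13 T V).relIndex V : ℝ)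
  set N : ℝ := (Nat.card G : ℝ)
  have hp : (0 : ℝ) < p := Nat.cast_pos.mpr Nat.card_pos
  have hq : (0 : ℝ) < q := Nat.cast_pos.mpr Nat.card_pos
  have hP : 1 < P := one_lt_pow₀ (by exact_mod_cast dS.p_prime.one_lt) dS.nine.q_prime.ne_zero
  have hQ : 1 < Q := one_lt_pow₀ (by exact_mod_cast dT.p_prime.one_lt) dT.nine.q_prime.ne_zero
  have hcc : 0 < cc := Nat.cast_pos.mpr Nat.card_pos
  have hdd : 0 < dd := Nat.cast_pos.mpr Nat.card_pos
  have hN : 0 < N := Nat.cast_pos.mpr Nat.card_pos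
  have hSpos : (0 : ℝ) < Nat.card S := Nat.cast_pos.mpr Nat.card_pos
  have hTpos : (0 : ℝ) < Nat.card T := Nat.cast_pos.mpr Nat.card_pos
  set sS := ∑ x ∈ XS, F x
  set sT := ∑ x ∈ XT, F x
  -- lower bounds for the two sums
  have e1 : (XS.card : ℝ) + N - N * ((q : ℝ) * uu) ^ 2 * P / ((P - 1) * Nat.card S) ≤ sS := by
    refine le_of_mul_le_mul_left ?_ hSpos
    rw [hS1]
    refine le_trans (le_of_eq ?_) (mul_le_mul_of_nonneg_left hsumS hN.le)
    rw [mul_sub, mul_add, hS2]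
    field_simp
    ring
  have e2 : N / p * (1 - vv / ((Q - 1) * dd)) ≤ sT := by
    refine le_of_mul_le_mul_left ?_ hTpos
    rw [hT1]
    refine le_trans (le_of_eq ?_) (mul_le_mul_of_nonneg_left hsumT hN.le)
    ring
  have e3 : (XT.card : ℝ) < N * (Q * dd) / Nat.card T := by
    rw [lt_div_iff₀ hTpos, mul_comm (XT.card : ℝ), hT2]
    exact mul_lt_mul_of_pos_left hTc hN
  have hmain : N / p * (1 - vv / ((Q - 1) * dd)) <
      N * ((q : ℝ) * uu) ^ 2 * P / ((P - 1) * Nat.card S) + N * (Q * dd) / Nat.card T := by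
    linarith
  rw [hcS, hcT] at hmain
  have hrw : N * ((q : ℝ) * uu) ^ 2 * P / ((P - 1) * (P * cc * uu * q)) +
      N * (Q * dd) / (Q * dd * vv * p) =
      N * (uu * q / ((P - 1) * cc) + 1 / (vv * p)) := by
    field_simp
  have hlhs : N / p * (1 - vv / ((Q - 1) * dd)) =
      N * (1 / p - vv / ((Q - 1) * dd * p)) := by
    field_simp
  rw [hrw, hlhs] at hmain
  have := lt_of_mul_lt_mul_left hmain hN.le
  linarith

end Cfsg.Agent.PF
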