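import Cfsg.Agent.OddChar.PF.S12Induced
import Cfsg.Agent.Chars.Real
import Cfsg.Agent.OddChar.Coherence

/-!
# Section 14: parity and mass

Two real virtual characters of a group of odd order, one of them orthogonal to the principal
character, have even inner product; the mass of a class function splits over disjoint supports.
-/

set_option linter.style.haveILetI false
set_option linter.unusedSectionVars false
set_option autoImplicit false

universe u

namespace Cfsg.Agent.PF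

open Cfsg.Lib.Chars
open Cfsg.Lib.Coherence (inner_int)
open scoped ComplexConjugate

variable {G : Type u} [Group G] [Fintype G]

theorem classInner_conjFun' (φ ψ : G → ℂ) :
    Cfsg.classInner (Cfsg.conjFun φ) (Cfsg.conjFun ψ) = conj (Cfsg.classInner φ ψ) := by
  simp [classInner_def, Cfsg.conjFun, map_mul, map_sum]

theorem conjFun_add' (f f' : G → ℂ) :
    Cfsg.conjFun (f + f') = Cfsg.conjFun f + Cfsg.conjFun f' := by
  funext g; simp [Cfsg.conjFun]

theorem conjFun_sub' (f f' : G → ℂ) :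
    Cfsg.conjFun (f - f') = Cfsg.conjFun f - Cfsg.conjFun f' := by
  funext g; simp [Cfsg.conjFun]

theorem conjFun_dade {A : Set G} {L : Subgroup G} {H : G → Subgroup G} (α : L → ℂ) :
    Cfsg.conjFun (Cfsg.dadeIsometry A L H α) = Cfsg.dadeIsometry A L H (Cfsg.conjFun α) := by
  funext g
  unfold Cfsg.conjFun Cfsg.dadeIsometry
  split <;> simp

/-- The parity of the inner product of real virtual characters. -/
theorem even_inner_of_real (hodd : Odd (Nat.card G)) {X Y : G → ℂ}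
    (hX : Cfsg.IsGeneralizedCharacter G X) (hY : Cfsg.IsGeneralizedCharacter G Y)
    (hXr : Cfsg.conjFun X = X) (hYr : Cfsg.conjFun Y = Y)
    (hX1 : Cfsg.classInner X (fun _ => 1) = 0) :
    ∃ k : ℤ, Cfsg.classInner X Y = 2 * k := by
  classical
  choose a ha using fun χ : Cfsg.IrrCharacter G =>
    inner_int hX (IsSignedIrr.generalized (Or.inl χ.2 : IsSignedIrr G (χ : G → ℂ)))
  choose b hb using fun χ : Cfsg.IrrCharacter G =>
    inner_int hY (IsSignedIrr.generalized (Or.inl χ.2 : IsSignedIrr G (χ : G → ℂ)))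
  have hsum : Cfsg.classInner X Y = ((∑ χ, a χ * b χ : ℤ) : ℂ) := by
    conv_lhs => rw [classFunction_expand (isClassFunction_generalized hX)]
    rw [classInner_sum_left, Int.cast_sum]
    refine Finset.sum_congr rfl fun χ _ => ?_
    rw [classInner_smul_left, ha, ← classInner_conj_symm, hb, map_intCast, Int.cast_mul]
  have hconj : ∀ {Z : G → ℂ}, Cfsg.conjFun Z = Z → ∀ χ : Cfsg.IrrCharacter G, ∀ m : ℤ,
      Cfsg.classInner Z (χ : G → ℂ) = m → Cfsg.classInner Z (conjIrr χ : G → ℂ) = m := by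
    intro Z hZ χ m hm
    have h := classInner_conjFun' Z (χ : G → ℂ)
    rw [hm, hZ, map_intCast] at h
    exact h
  have hinv : ∀ χ : Cfsg.IrrCharacter G, a (conjIrr χ) * b (conjIrr χ) = a χ * b χ := fun χ => by
    have h1 : ((a (conjIrr χ) : ℤ) : ℂ) = a χ := (ha _).symm.trans (hconj hXr χ _ (ha χ))
    have h2 : ((b (conjIrr χ) : ℤ) : ℂ) = b χ := (hb _).symm.trans (hconj hYr χ _ (hb χ))
    rw [Int.cast_injective h1, Int.cast_injective h2]
  have hz : ((∑ χ, a χ * b χ : ℤ) : ZMod 2) = 0 := by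
    push_cast
    refine Finset.sum_involution (fun χ _ => conjIrr χ) ?_ ?_ (fun _ _ => Finset.mem_univ _) ?_
    · intro χ _
      rw [← Int.cast_mul, ← Int.cast_mul, hinv χ]
      exact CharTwo.add_self_eq_zero _
    · intro χ _ hne hfix
      have hp := eq_principal_of_real hodd χ ((conjIrr_eq_self_iff χ).mp hfix)
      subst hp
      have h0 : ((a (principal G) : ℤ) : ℂ) = 0 := (ha _).symm.trans hX1
      exact hne (by rw [show a (principal G) = 0 from by exact_mod_cast h0]; simp)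
    · intro χ _
      apply Subtype.ext; funext g
      exact Complex.conj_conj _
  obtain ⟨k, hk⟩ : (2 : ℤ) ∣ ∑ χ, a χ * b χ := (ZMod.intCast_zmod_eq_zero_iff_dvd _ 2).mp hz
  exact ⟨k, by rw [hsum, hk]; push_cast; ring⟩

/-- The images of a member and of its conjugate under an isometry respecting conjugation on
differences are conjugate. -/
theorem conj_of_diff {X Y : G → ℂ} (hX : IsSignedIrr G X) (hY : IsSignedIrr G Y)
    (horth : Cfsg.classInner X Y = 0) (h : Cfsg.conjFun (X - Y) = Y - X) :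
    Cfsg.conjFun X = Y := by
  have hXc : IsSignedIrr G (Cfsg.conjFun X) := conjFun_eq_galFun X ▸ galFun_signed _ hX
  have hYc : IsSignedIrr G (Cfsg.conjFun Y) := conjFun_eq_galFun Y ▸ galFun_signed _ hY
  have ho : Cfsg.classInner (Cfsg.conjFun X) (Cfsg.conjFun Y) = 0 := by
    rw [classInner_conjFun', horth, map_zero]
  rw [conjFun_sub'] at h
  have h1 : Cfsg.classInner (Cfsg.conjFun X) Y - Cfsg.classInner (Cfsg.conjFun Y) Y = 1 := by
    rw [← classInner_sub_left, h, classInner_sub_left, hY.inner_self, horth, sub_zero]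
  rcases hXc.trichotomy hY with ⟨h2, -⟩ | ⟨h2, h3⟩ | h2
  · exact h2
  · rw [h3] at h1
    rcases hYc.trichotomy hY with ⟨-, h4⟩ | ⟨-, h4⟩ | h4 <;> rw [h4] at h1 <;> norm_num at h1
  · have h4 : Cfsg.classInner (Cfsg.conjFun Y) Y = -1 := by rw [h2] at h1; linear_combination -h1
    rcases hYc.trichotomy hY with ⟨-, h5⟩ | ⟨h5, -⟩ | h5
    · rw [h4] at h5; norm_num at h5
    · have h6 : Cfsg.conjFun X = -X := by
        calc Cfsg.conjFun X = Cfsg.conjFun X - Cfsg.conjFun Y + Cfsg.conjFun Y := (sub_add_cancel _ _).symm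
          _ = -X := by rw [h, h5]; abel
      have h7 : Cfsg.conjFun Y = -Y := h5
      -- an irreducible character is not anti-real: it is positive at `1`
      exfalso
      rcases hX with hX' | hX'
      · obtain ⟨n, hn, hn1⟩ := IsIrrCharacter.apply_one hX'
        have h8 := congrFun h6 1
        simp only [Cfsg.conjFun, Pi.neg_apply, hn1, map_natCast] at h8
        exact hn.ne' (by exact_mod_cast (add_eq_zero_iff_eq_neg.mpr h8 |> fun e => (by
          linear_combination e / 2 : (n : ℂ) = 0)))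
      · obtain ⟨n, hn, hn1⟩ := IsIrrCharacter.apply_one hX'
        have h9 : X 1 = -(n : ℂ) := by rw [← hn1]; simp
        have h8 := congrFun h6 1
        simp only [Cfsg.conjFun, Pi.neg_apply, h9, map_neg, map_natCast, neg_neg] at h8
        exact hn.ne' (by exact_mod_cast (by linear_combination -h8 / 2 : (n : ℂ) = 0))
    · rw [h4] at h5; norm_num at h5

/-- Mass: a set `V` and test functions with pairwise disjoint supports outside `V`. -/
theorem mass_le {ι : Type*} (s : Finset ι) (χ : G → ℂ) (V : Finset G) (S : ι → Finset G)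
    (φ : ι → G → ℂ) (hdisj : (s : Set ι).PairwiseDisjoint S) (hV : ∀ i ∈ s, Disjoint V (S i))
    (hsupp : ∀ i ∈ s, ∀ g ∉ S i, φ i g = 0)
    (w : ι → ℝ) (hw : ∀ i ∈ s, (Cfsg.classInner (φ i) (φ i)).re ≤ w i) (hw0 : ∀ i ∈ s, 0 < w i) :
    (Nat.card G : ℝ)⁻¹ * ∑ g ∈ V, ‖χ g‖ ^ 2 +
        ∑ i ∈ s, ‖Cfsg.classInner χ (φ i)‖ ^ 2 / w i ≤ (Cfsg.classInner χ χ).re := by
  classical
  have hc : (0 : ℝ) < (Nat.card G : ℝ)⁻¹ := inv_pos.mpr (Nat.cast_pos.mpr Nat.card_pos)
  have key : ∀ i ∈ s, ‖Cfsg.classInner χ (φ i)‖ ^ 2 / w i ≤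
      (Nat.card G : ℝ)⁻¹ * ∑ g ∈ S i, ‖χ g‖ ^ 2 := by
    intro i hi
    rw [div_le_iff₀ (hw0 i hi)]
    have h1 : Cfsg.classInner χ (φ i) = (Nat.card G : ℂ)⁻¹ * ∑ g ∈ S i, χ g * conj (φ i g) := by
      rw [classInner_def, Finset.sum_subset (Finset.subset_univ (S i))]
      exact fun g _ hg => by rw [hsupp i hi g hg]; simp
    have h2 : ‖Cfsg.classInner χ (φ i)‖ ≤ (Nat.card G : ℝ)⁻¹ * ∑ g ∈ S i, ‖χ g‖ * ‖φ i g‖ := by
      rw [h1, norm_mul, norm_inv, Complex.norm_natCast]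
      refine mul_le_mul_of_nonneg_left ((norm_sum_le _ _).trans (le_of_eq ?_)) hc.le
      exact Finset.sum_congr rfl fun g _ => by rw [norm_mul, Complex.norm_conj]
    have h3 : (Nat.card G : ℝ)⁻¹ * ∑ g ∈ S i, ‖φ i g‖ ^ 2 ≤ w i := by
      refine le_trans ?_ (hw i hi)
      rw [classInner_self, Complex.ofReal_re]
      exact mul_le_mul_of_nonneg_left (Finset.sum_le_sum_of_subset_of_nonneg (Finset.subset_univ _)
        fun _ _ _ => by positivity) hc.le
    calc ‖Cfsg.classInner χ (φ i)‖ ^ 2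
        ≤ ((Nat.card G : ℝ)⁻¹ * ∑ g ∈ S i, ‖χ g‖ * ‖φ i g‖) ^ 2 := by gcongr
      _ ≤ (Nat.card G : ℝ)⁻¹ ^ 2 * ((∑ g ∈ S i, ‖χ g‖ ^ 2) * ∑ g ∈ S i, ‖φ i g‖ ^ 2) := by
          rw [mul_pow]
          exact mul_le_mul_of_nonneg_left (Finset.sum_mul_sq_le_sq_mul_sq _ _ _) (by positivity)
      _ = ((Nat.card G : ℝ)⁻¹ * ∑ g ∈ S i, ‖χ g‖ ^ 2) *
            ((Nat.card G : ℝ)⁻¹ * ∑ g ∈ S i, ‖φ i g‖ ^ 2) := by ring
      _ ≤ _ := mul_le_mul_of_nonneg_left h3 (by positivity)
  have hle : ∑ g ∈ V, ‖χ g‖ ^ 2 + ∑ i ∈ s, ∑ g ∈ S i, ‖χ g‖ ^ 2 ≤ ∑ g, ‖χ g‖ ^ 2 := by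
    rw [← Finset.sum_biUnion hdisj, ← Finset.sum_union]
    · exact Finset.sum_le_sum_of_subset_of_nonneg (Finset.subset_univ _) fun _ _ _ => by positivity
    · exact (Finset.disjoint_biUnion_right _ _ _).mpr hV
  rw [classInner_self, Complex.ofReal_re]
  calc _ ≤ (Nat.card G : ℝ)⁻¹ * ∑ g ∈ V, ‖χ g‖ ^ 2 +
        ∑ i ∈ s, (Nat.card G : ℝ)⁻¹ * ∑ g ∈ S i, ‖χ g‖ ^ 2 := by gcongr with i hi; exact key i hi
    _ ≤ _ := by
      rw [← Finset.mul_sum, ← mul_add]
      exact mul_le_mul_of_nonneg_left hle hc.le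

end Cfsg.Agent.PF
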