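import Cfsg.Agent.OddChar.PF.S14Mu
import Cfsg.Agent.OddChar.PF.S14Parity

/-!
# Section 14: supports and the function `α`

The differences of `μ`'s in one row and `α = Ind_{PW₁}^M 1 - μ_{ψ₁}` are supported on `P ∖ 1` and
the conjugates of `W` outside both factors, and so are their images.
-/

set_option linter.style.haveILetI false
set_option linter.unusedSectionVars false
set_option linter.unusedVariables false
set_option autoImplicit false

universe u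

namespace Cfsg.Agent.PF

open Cfsg.Lib.Chars Cfsg.Lib.CyclicTI Cfsg.Lib.Dual
open Subgroup
open scoped ComplexConjugate

variable {G : Type u} [Group G]

/-- The conjugates of the non-identity elements of `M_F`. -/
def pSet (M : Subgroup G) : Set G :=
  {g | ∃ x ∈ Cfsg.fittingHallOf M, x ≠ 1 ∧ IsConj x g}

/-- The conjugates of the elements of `W₁ W₂` outside both factors. -/
def hatSet (W₁ W₂ : Subgroup G) : Set G :=
  {g | ∃ w ∈ W₁ ⊔ W₂, w ∉ W₁ ∧ w ∉ W₂ ∧ IsConj w g}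

theorem hatSet_swap (W₁ W₂ : Subgroup G) : hatSet W₂ W₁ = hatSet W₁ W₂ := by
  ext g
  constructor
  · rintro ⟨w, hw, h1, h2, hc⟩
    exact ⟨w, sup_comm W₂ W₁ ▸ hw, h2, h1, hc⟩
  · rintro ⟨w, hw, h1, h2, hc⟩
    exact ⟨w, sup_comm W₁ W₂ ▸ hw, h2, h1, hc⟩

/-- Functions with disjoint supports are orthogonal. -/
theorem classInner_eq_zero_of_disjoint [Fintype G] {φ ψ : G → ℂ} {A : Set G}
    (hφ : ∀ g ∉ A, φ g = 0) (hψ : ∀ g ∈ A, ψ g = 0) : Cfsg.classInner φ ψ = 0 := by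
  rw [classInner_def, Finset.sum_eq_zero, mul_zero]
  intro g _
  by_cases h : g ∈ A
  · rw [hψ g h, map_zero, mul_zero]
  · rw [hφ g h, zero_mul]

variable [Fintype G] {M W₁ U W₂ : Subgroup G}

/-- Class functions of `M` vanishing at `1`, on `M' ∖ M_F` and on `W₁`. -/
structure GoodFun (M W₁ : Subgroup G) (f : ↥M → ℂ) : Prop where
  cls : Cfsg.IsClassFunction ↥M f
  one : f 1 = 0
  derived : ∀ l : M, (l : G) ∈ ⁅M, M⁆ → l ∉ Cfsg.fittingHall ↥M → f l = 0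
  onW₁ : ∀ l : M, (l : G) ∈ W₁ → f l = 0

theorem GoodFun.sub {f f' : ↥M → ℂ} (h : GoodFun M W₁ f) (h' : GoodFun M W₁ f') :
    GoodFun M W₁ (f - f') where
  cls x y := by rw [Pi.sub_apply, Pi.sub_apply, h.cls x y, h'.cls x y]
  one := by rw [Pi.sub_apply, h.one, h'.one, sub_zero]
  derived l h1 h2 := by rw [Pi.sub_apply, h.derived l h1 h2, h'.derived l h1 h2, sub_zero]
  onW₁ l h1 := by rw [Pi.sub_apply, h.onW₁ l h1, h'.onW₁ l h1, sub_zero]

namespace Side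

variable [Fintype M] (s : Side M W₁ U W₂) (hG : Cfsg.IsMinSimpleOddOrder G)
include s hG

theorem P_sub_A₀ {x : G} (hx : x ∈ Cfsg.fittingHallOf M) (h1 : x ≠ 1) : x ∈ typeA0' M := by
  refine Or.inl ?_
  unfold typeA'
  rw [if_neg (not_typeI_of_P hG (typeFacts hG) s.max s.type4)]
  exact ⟨s.hyp9.H_le_derived hx, h1, x, s.P_le_core hG hx, h1, rfl⟩

theorem good_cases {f : ↥M → ℂ} (hf : GoodFun M W₁ f) {l : M} (hl : f l ≠ 0) :
    (l : G) ∈ typeA0' M ∧ ((l ∈ Cfsg.fittingHall ↥M ∧ (l : G) ≠ 1) ∨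
      ∃ w ∈ W₁ ⊔ W₂, w ∉ W₁ ∧ w ∉ W₂ ∧ IsConj w (l : G)) := by
  have h1 : (l : G) ≠ 1 := fun e => hl (by rw [show l = 1 from Subtype.ext e, hf.one])
  by_cases hd : (l : G) ∈ ⁅M, M⁆
  · have hP : l ∈ Cfsg.fittingHall ↥M := by
      by_contra hP; exact hl (hf.derived l hd hP)
    exact ⟨s.P_sub_A₀ hG (mem_fittingHall_iff.mp hP) h1, Or.inl ⟨hP, h1⟩⟩
  obtain ⟨m, hm, w, hw2, he⟩ := (s.prime hG).exists_conj_W l.2 hd
  have hw1 : (w : G) ∉ W₁ := by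
    intro hw
    refine hl ?_
    have e : l = ⟨m, hm⟩ * ⟨w, s.hyp9.W₁_le hw⟩ * (⟨m, hm⟩ : M)⁻¹ := Subtype.ext he
    rw [e, hf.cls, hf.onW₁ _ hw]
  exact ⟨he ▸ (s.prime hG).V_subset m hm w w.2 hw1 hw2,
    Or.inr ⟨w, w.2, hw1, hw2, isConj_iff.mpr ⟨m, he.symm⟩⟩⟩

theorem good_A₀ {f : ↥M → ℂ} (hf : GoodFun M W₁ f) :
    ∀ l : M, (l : G) ∉ typeA0' M → f l = 0 := fun l hl => by
  by_contra h
  exact hl (s.good_cases hG hf h).1

theorem inner_good {f : ↥M → ℂ} (hf : GoodFun M W₁ f) {χ : G → ℂ}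
    (hχ : Cfsg.IsClassFunction G χ) :
    Cfsg.classInner (tauM M f) χ = Cfsg.classInner f (fun x : M => χ x) :=
  s.inner_tau hG hf.cls (s.good_A₀ hG hf) hχ

theorem inner_good_good {f f' : ↥M → ℂ} (hf : GoodFun M W₁ f) (hf' : GoodFun M W₁ f') :
    Cfsg.classInner (tauM M f) (tauM M f') = Cfsg.classInner f f' :=
  s.inner_tau_tau hG hf.cls (s.good_A₀ hG hf) hf'.cls (s.good_A₀ hG hf')

theorem tau_good_off {f : ↥M → ℂ} (hf : GoodFun M W₁ f) {g : G} (hP : g ∉ pSet M)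
    (hW : g ∉ hatSet W₁ W₂) : tauM M f g = 0 := by
  by_contra h
  obtain ⟨x, -, hx, hc⟩ := s.tau_ne_zero hG hf.cls h
  rcases (s.good_cases hG hf hx).2 with ⟨hxP, hx1⟩ | ⟨w, hw, h1, h2, hcw⟩
  · exact hP ⟨x, mem_fittingHall_iff.mp hxP, hx1, hc⟩
  · exact hW ⟨w, hw, h1, h2, hcw.trans hc⟩

theorem isClassFunction_tau {f : ↥M → ℂ} (hf : GoodFun M W₁ f) :
    Cfsg.IsClassFunction G (tauM M f) := Cfsg.Lib.Dade.isClassFunction_dade (s.dade hG) hf.cls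

/-- A function supported on `P` goes to a function supported on the conjugates of `P`. -/
theorem tau_P_off {f : ↥M → ℂ} (hf : Cfsg.IsClassFunction ↥M f) (h1 : f 1 = 0)
    (hP : ∀ l : M, l ∉ Cfsg.fittingHall ↥M → f l = 0) {g : G} (hg : g ∉ pSet M) :
    tauM M f g = 0 := by
  by_contra h
  obtain ⟨x, -, hx, hc⟩ := s.tau_ne_zero hG hf h
  exact hg ⟨x, mem_fittingHall_iff.mp (not_not.mp fun hn => hx (hP x hn)),
    fun e => hx (by rw [show x = 1 from Subtype.ext e, h1]), hc⟩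

theorem good_of_P {f : ↥M → ℂ} (hf : Cfsg.IsClassFunction ↥M f) (h1 : f 1 = 0)
    (hP : ∀ l : M, l ∉ Cfsg.fittingHall ↥M → f l = 0) : GoodFun M W₁ f where
  cls := hf
  one := h1
  derived l _ h := hP l h
  onW₁ l hl := by
    by_cases h : l ∈ Cfsg.fittingHall ↥M
    · have : (l : G) ∈ Cfsg.fittingHallOf M ⊓ W₁ := ⟨mem_fittingHall_iff.mp h, hl⟩
      rw [s.P_inf_W₁, Subgroup.mem_bot] at this
      rw [show l = 1 from Subtype.ext this, h1]
    · exact hP l h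

variable {μ : (↥(W₁ ⊔ W₂) →* ℂˣ) → (↥M → ℂ)} {δ : (↥(W₁ ⊔ W₂) →* ℂˣ) → ℂ}
  (hT : PrimeTIChars M ⁅M, M⁆ W₁ W₂ μ δ)
include hT

theorem good_col {φ ψ ψ' : ↥(W₁ ⊔ W₂) →* ℂˣ} (hφ : OnFirst φ) (hψ : OnSecond ψ)
    (hψ1 : ψ ≠ 1) (hψ' : OnSecond ψ') (hψ'1 : ψ' ≠ 1) :
    GoodFun M W₁ (μ (φ * ψ) - μ (φ * ψ')) where
  cls x y := by
    rw [Pi.sub_apply, Pi.sub_apply, isClassFunction_isChar (isCharacter_of_irr (hT.irr _)) x y, isClassFunction_isChar (isCharacter_of_irr (hT.irr _)) x y]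
  one := by rw [Pi.sub_apply, s.mu_deg hG hT hφ hψ hψ1, s.mu_deg hG hT hφ hψ' hψ'1, sub_self]
  derived l h1 h2 := by
    rw [Pi.sub_apply, s.mu_derived_off hG hT hφ hψ hψ1 h1 h2,
      s.mu_derived_off hG hT hφ hψ' hψ'1 h1 h2, sub_self]
  onW₁ l hl := by
    by_cases hl1 : (l : G) = 1
    · rw [show l = 1 from Subtype.ext hl1, Pi.sub_apply, s.mu_deg hG hT hφ hψ hψ1,
        s.mu_deg hG hT hφ hψ' hψ'1, sub_self]
    have hl2 : (l : G) ∉ W₂ := fun h => hl1 (Subgroup.mem_bot.mp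
      (s.dataP.selfNormalizing.2.2.1 ▸ ⟨hl, h⟩))
    set w : ↥(W₁ ⊔ W₂) := ⟨l, mem_sup_left hl⟩
    rw [Pi.sub_apply, s.mu_apply_W hG hT hφ hψ hψ1 (w := w) rfl hl2,
      s.mu_apply_W hG hT hφ hψ' hψ'1 (w := w) rfl hl2, MonoidHom.mul_apply, MonoidHom.mul_apply,
      hψ w hl, hψ' w hl, sub_self]

theorem col_image {η : (↥(W₁ ⊔ W₂) →* ℂˣ) → (G → ℂ)} (hη : Cfsg.IsCyclicTIFamily W₁ W₂ η)
    {φ ψ ψ' : ↥(W₁ ⊔ W₂) →* ℂˣ} (hφ : OnFirst φ) (hψ : OnSecond ψ)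
    (hψ1 : ψ ≠ 1) (hψ' : OnSecond ψ') (hψ'1 : ψ' ≠ 1) :
    tauM M (μ (φ * ψ) - μ (φ * ψ')) = η (φ * ψ) - η (φ * ψ') := by
  obtain ⟨-, -, h⟩ := image_column (s.prime hG) hT hη hφ hψ hψ' hψ1 hψ'1
    (by rw [s.mu_deg hG hT hφ hψ hψ1, s.mu_deg hG hT hφ hψ' hψ'1])
  rw [tauM, h, s.delta_eq_one hG hT hψ hψ1, one_smul]

end Side

/-- `P W₁` inside `M`. -/
abbrev pw (M W₁ : Subgroup G) : Subgroup ↥M := Cfsg.fittingHall ↥M ⊔ W₁.subgroupOf M

/-- `α = Ind_{PW₁}^M 1 - μ_{ψ₁}`. -/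
noncomputable def alphaM [Fintype M] (W₁ : Subgroup G) {W₂ : Subgroup G}
    (μ : (↥(W₁ ⊔ W₂) →* ℂˣ) → (↥M → ℂ)) (ψ₁ : ↥(W₁ ⊔ W₂) →* ℂˣ) : ↥M → ℂ :=
  Cfsg.indFun (pw M W₁) (fun _ => (1 : ℂ)) - μ ψ₁

namespace Side

variable [Fintype M] (s : Side M W₁ U W₂)
include s


theorem mem_PW {l : M} : l ∈ (pw M W₁) ↔
    ∃ a ∈ Cfsg.fittingHall ↥M, ∃ w : M, (w : G) ∈ W₁ ∧ a * w = l := by
  rw [Subgroup.mem_sup_of_normal_left]
  simp only [mem_subgroupOf]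

theorem PW_inf_derived {l : M} (hl : l ∈ (pw M W₁)) (hd : (l : G) ∈ ⁅M, M⁆) :
    l ∈ Cfsg.fittingHall ↥M := by
  obtain ⟨a, ha, w, hw, rfl⟩ := s.mem_PW.mp hl
  have hwd : (w : G) ∈ ⁅M, M⁆ :=
    (Subgroup.mul_mem_cancel_left _ (s.hyp9.H_le_derived (mem_fittingHall_iff.mp ha))).mp hd
  have : w = 1 := Subtype.ext (Subgroup.mem_bot.mp (s.derived_inf_W₁ ▸ ⟨hwd, hw⟩))
  rw [this, mul_one]; exact ha

theorem card_PW : Nat.card ↥(pw M W₁) = Nat.card W₂ ^ Nat.card W₁ * Nat.card W₁ := by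
  rw [Cfsg.Lib.Coprime.card_sup_of_inf_eq_bot (le_normalizer_of_normal_subgroupOf' _ _)
    ((Subgroup.eq_bot_iff_forall _).mpr fun x hx => Subtype.ext (Subgroup.mem_bot.mp
      (s.P_inf_W₁ ▸ ⟨mem_fittingHall_iff.mp hx.1, mem_subgroupOf.mp hx.2⟩))), s.card_Pm,
    Nat.card_congr (subgroupOfEquivOfLe s.hyp9.W₁_le).toEquiv]
where
  le_normalizer_of_normal_subgroupOf' (A B : Subgroup M) [A.Normal] :
      B ≤ normalizer (A : Set M) := fun x _ => by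
    rw [Subgroup.normalizer_eq_top]; exact mem_top x

theorem index_PW : (pw M W₁).index = Nat.card U := by
  have h := (pw M W₁).card_mul_index
  rw [s.card_PW, s.card_M, mul_right_comm] at h
  exact Nat.eq_of_mul_eq_mul_left (pow_pos s.p_prime.pos _)
    (Nat.eq_of_mul_eq_mul_right s.q_prime.pos h)

/-- The values of the permutation character on `M ∖ M'`. -/
theorem conj_mem_PW_iff {l : M} (hl : l ∈ (pw M W₁)) (hlP : l ∉ Cfsg.fittingHall ↥M) (y : M) :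
    y⁻¹ * l * y ∈ (pw M W₁) ↔ y ∈ (pw M W₁) := by
  refine ⟨fun h => ?_, fun h => mul_mem (mul_mem (inv_mem h) hl) h⟩
  obtain ⟨b, hb, v, hv, w, hw, e⟩ := s.exists_decomp y⁻¹
  -- `y⁻¹ = b v w`; conjugating by `w` and by `b` does not leave `P W₁`
  have hwH : w ∈ (pw M W₁) := mem_sup_right (mem_subgroupOf.mpr hw)
  have hbH : b ∈ (pw M W₁) := mem_sup_left hb
  obtain ⟨a, ha, x, hx, ex⟩ := s.mem_PW.mp (mul_mem (mul_mem hwH hl) (inv_mem hwH))
  have hx1 : x ≠ 1 := by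
    rintro rfl
    rw [mul_one] at ex
    refine hlP ?_
    have h2 := (inferInstance : (Cfsg.fittingHall ↥M).Normal).conj_mem _ (ex ▸ ha) w⁻¹
    simpa [mul_assoc] using h2
  have hmem : v * x * v⁻¹ ∈ (pw M W₁) := by
    have h2 : v * (a * x) * v⁻¹ ∈ (pw M W₁) := by
      rw [ex]
      have h3 := mul_mem (mul_mem (inv_mem hbH) h) hbH
      have e2 : y = (b * v * w)⁻¹ := by rw [← e, inv_inv]
      rw [e2] at h3
      have e3 : v * (w * l * w⁻¹) * v⁻¹ = b⁻¹ * ((b * v * w)⁻¹⁻¹ * l * (b * v * w)⁻¹) * b := by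
        group
      rw [e3]; exact h3
    have h4 : v * a⁻¹ * v⁻¹ ∈ (pw M W₁) := mem_sup_left
      ((inferInstance : (Cfsg.fittingHall ↥M).Normal).conj_mem _ (inv_mem ha) v)
    have h5 := mul_mem h4 h2
    rwa [show v * a⁻¹ * v⁻¹ * (v * (a * x) * v⁻¹) = v * x * v⁻¹ by group] at h5
  have hk : v * x * v⁻¹ * x⁻¹ ∈ (pw M W₁) :=
    mul_mem hmem (inv_mem (mem_sup_right (mem_subgroupOf.mpr hx)))
  have hkU : ((v * x * v⁻¹ * x⁻¹ : M) : G) ∈ U := by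
    have h2 : (x : G) * (v : G)⁻¹ * (x : G)⁻¹ ∈ U :=
      (mem_normalizer_iff.mp (s.hyp9.W₁_le_normalizer_U hx) _).mp (inv_mem hv)
    have h3 := mul_mem hv h2
    simpa [mul_assoc] using h3
  have hkP := s.PW_inf_derived hk (s.hyp9.U_le_derived hkU)
  have hk1 : ((v * x * v⁻¹ * x⁻¹ : M) : G) = 1 :=
    Subgroup.mem_bot.mp (s.P_inf_U ▸ ⟨mem_fittingHall_iff.mp hkP, hkU⟩)
  have hv1 : (v : G) = 1 := by
    refine s.hyp9.fpf' (x : G) hx (fun e' => hx1 (Subtype.ext e')) v hv ?_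
    exact ((mul_inv_eq_iff_eq_mul.mp (mul_inv_eq_one.mp hk1 :
      (v : G) * x * (v : G)⁻¹ = x))).symm
  have : y⁻¹ ∈ (pw M W₁) := by
    rw [e, show v = 1 from Subtype.ext hv1, mul_one]; exact mul_mem hbH hwH
  exact inv_inv y ▸ inv_mem this

theorem perm_apply_P {l : M} (hl : l ∈ Cfsg.fittingHall ↥M) :
    Cfsg.indFun (pw M W₁) (fun _ => (1 : ℂ)) l = (Nat.card U : ℂ) := by
  have hone : ∀ y : M, Cfsg.extendByZero (pw M W₁) (fun _ => (1 : ℂ)) (y⁻¹ * l * y) = 1 := fun y =>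
    extendByZero_mem _ (mem_sup_left
      (by simpa using (inferInstance : (Cfsg.fittingHall ↥M).Normal).conj_mem l hl y⁻¹))
  rw [indFun_apply, Finset.sum_congr rfl fun y _ => hone y, Finset.sum_const, Finset.card_univ, ← Nat.card_eq_fintype_card, ← (pw M W₁).card_mul_index,
    s.index_PW, nsmul_eq_mul, mul_one, Nat.cast_mul, inv_mul_cancel_left₀]
  exact Nat.cast_ne_zero.mpr Nat.card_pos.ne'

theorem perm_apply_off {l : M} (hl : l ∈ (pw M W₁)) (hlP : l ∉ Cfsg.fittingHall ↥M) :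
    Cfsg.indFun (pw M W₁) (fun _ => (1 : ℂ)) l = 1 := by
  classical
  rw [indFun_apply]
  have : ∀ y : M, Cfsg.extendByZero (pw M W₁) (fun _ => (1 : ℂ)) (y⁻¹ * l * y) =
      if y ∈ (pw M W₁) then 1 else 0 := fun y => by
    by_cases h : y ∈ (pw M W₁)
    · rw [if_pos h, extendByZero_mem _ ((s.conj_mem_PW_iff hl hlP y).mpr h)]
    · rw [if_neg h, extendByZero_not_mem _ fun h' => h ((s.conj_mem_PW_iff hl hlP y).mp h')]
  rw [Finset.sum_congr rfl fun y _ => this y, Finset.sum_boole, inv_mul_eq_one₀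
    (Nat.cast_ne_zero.mpr Nat.card_pos.ne'), Nat.card_eq_fintype_card, Fintype.card_subtype]

theorem perm_apply_derived {l : M} (hd : (l : G) ∈ ⁅M, M⁆) (hlP : l ∉ Cfsg.fittingHall ↥M) :
    Cfsg.indFun (pw M W₁) (fun _ => (1 : ℂ)) l = 0 := by
  refine indFun_eq_zero_of_forall _ _ _ fun y hy => hlP ?_
  have hd' : ((y⁻¹ * l * y : M) : G) ∈ ⁅M, M⁆ :=
    s09_conj_mem' (s.hyp9.M_le_normalizer_derived y.2) hd
  have := (inferInstance : (Cfsg.fittingHall ↥M).Normal).conj_mem _ (s.PW_inf_derived hy hd') y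
  simpa [mul_assoc] using this

theorem perm_norm :
    Cfsg.classInner (Cfsg.indFun (pw M W₁) (fun _ => (1 : ℂ))) (Cfsg.indFun (pw M W₁) (fun _ => (1 : ℂ))) =
      ((Nat.card U + Nat.card W₁ - 1 : ℕ) : ℂ) / Nat.card W₁ := by
  classical
  haveI := Fintype.ofFinite ↥(pw M W₁)
  have hv : ∀ h : (pw M W₁), Cfsg.indFun (pw M W₁) (fun _ => (1 : ℂ)) (h : M) =
      (if (h : M) ∈ Cfsg.fittingHall ↥M then (Nat.card U : ℂ) - 1 else 0) + 1 := fun h => by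
    by_cases hP : (h : M) ∈ Cfsg.fittingHall ↥M
    · rw [if_pos hP, s.perm_apply_P hP, sub_add_cancel]
    · rw [if_neg hP, s.perm_apply_off h.2 hP, zero_add]
  rw [frobenius_reciprocity' _ _ (isClassFunction_indFun _ _), classInner_def]
  simp only [hv, map_one, mul_one, Finset.sum_add_distrib, ← Finset.sum_filter, Finset.sum_const,
    Finset.card_univ]
  have hcard : (Finset.univ.filter fun h : (pw M W₁) => (h : M) ∈ Cfsg.fittingHall ↥M).card =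
      Nat.card W₂ ^ Nat.card W₁ := by
    rw [← s.card_Pm, ← Fintype.card_subtype, ← Nat.card_eq_fintype_card]
    exact Nat.card_congr
      { toFun := fun h => ⟨h.1, h.2⟩, invFun := fun x => ⟨⟨x, mem_sup_left x.2⟩, x.2⟩,
        left_inv := fun _ => rfl, right_inv := fun _ => rfl }
  rw [hcard, nsmul_eq_mul, nsmul_eq_mul, ← Nat.card_eq_fintype_card, s.card_PW,
    Nat.cast_sub (by have := s.q_prime.pos; omega), mul_one]
  have hq : (Nat.card W₁ : ℂ) ≠ 0 := Nat.cast_ne_zero.mpr s.q_prime.ne_zero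
  have hp : (Nat.card W₂ : ℂ) ^ Nat.card W₁ ≠ 0 :=
    pow_ne_zero _ (Nat.cast_ne_zero.mpr s.p_prime.ne_zero)
  push_cast
  field_simp
  ring

variable (hG : Cfsg.IsMinSimpleOddOrder G) {μ : (↥(W₁ ⊔ W₂) →* ℂˣ) → (↥M → ℂ)}
  {δ : (↥(W₁ ⊔ W₂) →* ℂˣ) → ℂ} (hT : PrimeTIChars M ⁅M, M⁆ W₁ W₂ μ δ)
include hG hT

/-- The constituents of the permutation character are trivial on `P`. -/
theorem perm_orth {ω : ↥(W₁ ⊔ W₂) →* ℂˣ} {ψ : ↥(W₁ ⊔ W₂) →* ℂˣ} (hψ : OnSecond ψ) (hψ1 : ψ ≠ 1)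
    (hω : SameColumn W₁ W₂ ω ψ) :
    Cfsg.classInner (Cfsg.indFun (pw M W₁) (fun _ => (1 : ℂ))) (μ ω) = 0 := by
  classical
  by_contra hne
  obtain ⟨f, hf, hf1, he, -⟩ := s.exists_fixed hG hT hψ hψ1
  obtain ⟨x, hx⟩ : ∃ x, f x ≠ 1 := by
    by_contra hc; push Not at hc; exact hf1 (MonoidHom.ext hc)
  have hchar : Cfsg.IsCharacter ↥M (Cfsg.indFun (pw M W₁) (fun _ => (1 : ℂ))) :=
    IsCharacter.indFun (isCharacter_of_irr isIrrCharacter_one)
  have hconst : ∀ y : Cfsg.fittingHall ↥M, μ ω (y : M) = μ ω 1 := fun y =>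
    Cfsg.Lib.InducedFamily.constituent_const hchar (hT.irr ω) hne
      (by rw [s.perm_apply_P y.2, s.perm_apply_P (one_mem _)])
  have hred : ∀ y : Cfsg.fittingHall ↥M, redChar μ ψ (y : M) = redChar μ ψ 1 := fun y => by
    rw [(s.prime hG).red_eq hT hψ]
    haveI := (s.prime hG).normal_K
    rw [indFun_apply, indFun_apply]
    congr 1
    refine Finset.sum_congr rfl fun z _ => ?_
    have hy : z⁻¹ * (y : M) * z ∈ Cfsg.fittingHall ↥M := by
      simpa using (inferInstance : (Cfsg.fittingHall ↥M).Normal).conj_mem _ y.2 z⁻¹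
    have hyK := s.Pm_le_K hG hy
    rw [extendByZero_mem _ hyK, mul_one, inv_mul_cancel, extendByZero_mem _ (one_mem _)]
    show μ ψ (z⁻¹ * (y : M) * z) = μ ψ 1
    rw [← hT.column_on_K ω ψ hω _ (mem_subgroupOf.mp hyK),
      ← hT.column_on_K ω ψ hω 1 (by simp), hconst ⟨_, hy⟩]
  haveI := Fintype.ofFinite ↥(Cfsg.fittingHall ↥M)
  have h1 := classInner_indFun_restrict (N := Cfsg.fittingHall ↥M) (ev f) (ev 1)
  have hgen : ∀ g : M,
      Cfsg.classInner (conjN (Cfsg.fittingHall ↥M) g (ev f)) (ev 1) = 0 := fun g => by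
    rw [← ev_twist, classInner_ev, if_neg]
    intro e
    refine hf1 ?_
    calc f = twist (g * g⁻¹) f := by rw [mul_inv_cancel, twist_one]
      _ = 1 := by rw [twist_mul, e, s.twist_one_left]
  rw [Finset.sum_congr rfl fun g _ => hgen g, Finset.sum_const_zero, mul_zero,
    show (fun n : ↥(Cfsg.fittingHall ↥M) => Cfsg.indFun (Cfsg.fittingHall ↥M) (ev f) n) =
      fun n : ↥(Cfsg.fittingHall ↥M) => indP f (n : M) from rfl, ← he,
    show (fun n : ↥(Cfsg.fittingHall ↥M) => redChar μ ψ n) =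
      redChar μ ψ 1 • ev 1 from funext fun y => by rw [hred y]; simp [ev],
    classInner_smul_left, classInner_ev, if_pos rfl, mul_one, he, s.indP_one] at h1
  exact Nat.cast_ne_zero.mpr (Nat.mul_ne_zero Nat.card_pos.ne' s.q_prime.ne_zero) h1

theorem good_alpha {ψ₁ : ↥(W₁ ⊔ W₂) →* ℂˣ} (hψ : OnSecond ψ₁) (hψ1 : ψ₁ ≠ 1) :
    GoodFun M W₁ (alphaM W₁ μ ψ₁) where
  cls x y := by
    simp only [alphaM, Pi.sub_apply]
    rw [isClassFunction_indFun (pw M W₁) _ x y, isClassFunction_isChar (isCharacter_of_irr (hT.irr _)) x y]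
  one := by
    simp only [alphaM, Pi.sub_apply]
    have := s.mu_deg hG hT onFirst_one hψ hψ1
    rw [hom_one_mul] at this
    rw [s.perm_apply_P (one_mem _), this, sub_self]
  derived l h1 h2 := by
    simp only [alphaM, Pi.sub_apply]
    have := s.mu_derived_off hG hT onFirst_one hψ hψ1 h1 h2
    rw [hom_one_mul] at this
    rw [s.perm_apply_derived h1 h2, this, sub_self]
  onW₁ l hl := by
    simp only [alphaM, Pi.sub_apply]
    by_cases hl1 : (l : G) = 1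
    · have := s.mu_deg hG hT onFirst_one hψ hψ1
      rw [hom_one_mul] at this
      rw [show l = 1 from Subtype.ext hl1, s.perm_apply_P (one_mem _), this, sub_self]
    have hl2 : (l : G) ∉ W₂ := fun h => hl1 (Subgroup.mem_bot.mp
      (s.dataP.selfNormalizing.2.2.1 ▸ ⟨hl, h⟩))
    have hlP : l ∉ Cfsg.fittingHall ↥M := fun h => hl1 (Subgroup.mem_bot.mp
      (s.P_inf_W₁ ▸ ⟨mem_fittingHall_iff.mp h, hl⟩))
    set w : ↥(W₁ ⊔ W₂) := ⟨l, mem_sup_left hl⟩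
    have := s.mu_apply_W hG hT onFirst_one hψ hψ1 (w := w) rfl hl2
    rw [hom_one_mul] at this
    rw [s.perm_apply_off (mem_sup_right (mem_subgroupOf.mpr hl)) hlP, this, hψ w hl, Units.val_one,
      sub_self]

/-- The inner products of `α`. -/
theorem alpha_inner {ψ₁ : ↥(W₁ ⊔ W₂) →* ℂˣ} (hψ : OnSecond ψ₁) (hψ1 : ψ₁ ≠ 1) :
    Cfsg.classInner (alphaM W₁ μ ψ₁) (alphaM W₁ μ ψ₁) =
        ((Nat.card U + Nat.card W₁ - 1 : ℕ) : ℂ) / Nat.card W₁ + 1 ∧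
      Cfsg.classInner (alphaM W₁ μ ψ₁) (fun _ : ↥M => (1 : ℂ)) = 1 ∧
      ∀ ψ : ↥(W₁ ⊔ W₂) →* ℂˣ, OnSecond ψ → ψ ≠ 1 →
        (ψ = ψ₁ → Cfsg.classInner (alphaM W₁ μ ψ₁) (μ ψ) = -1) ∧
        (ψ ≠ ψ₁ → Cfsg.classInner (alphaM W₁ μ ψ₁) (μ ψ) = 0) := by
  classical
  have h0 := s.perm_orth hG hT hψ hψ1 (ω := ψ₁) fun _ _ => rfl
  refine ⟨?_, ?_, fun ψ hs h1 => ?_⟩
  · rw [alphaM, classInner_sub_left, classInner_sub_right, classInner_sub_right, s.perm_norm, h0,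
      ← classInner_conj_symm (Cfsg.indFun _ _) (μ ψ₁), h0, map_zero,
      classInner_irrChar (hT.irr _) (hT.irr _), if_pos rfl]
    ring
  · haveI := Fintype.ofFinite ↥(pw M W₁)
    rw [alphaM, classInner_sub_left, frobenius_reciprocity _ _ (fun _ _ => rfl),
      classInner_irrChar (isIrrCharacter_one) (isIrrCharacter_one), if_pos rfl,
      classInner_irrChar (hT.irr _) isIrrCharacter_one, if_neg, sub_zero]
    rw [← (s.prime hG).mu_one' hT]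
    exact fun e => hψ1 (hT.injective e)
  · rw [alphaM, classInner_sub_left, s.perm_orth hG hT hs h1 (ω := ψ) fun _ _ => rfl,
      classInner_irrChar (hT.irr _) (hT.irr _)]
    refine ⟨fun h => ?_, fun h => ?_⟩
    · rw [if_pos (congrArg μ h.symm), zero_sub]
    · rw [if_neg fun e => h (hT.injective e).symm, sub_zero]

end Side

end Cfsg.Agent.PF
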