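import Cfsg.Agent.OddChar.PF.S14Link

/-!
# Section 14: the budgets

The covering of `G ∖ 1`, the budget of a member of the first line of the family, the budget of the
irreducible character attached to a regular character of `S_F`, and the inequality they give.
-/

set_option linter.style.haveILetI false
set_option linter.unusedSectionVars false
set_option linter.unusedVariables false
set_option autoImplicit false

universe u

namespace Cfsg.Agent.PF

open Cfsg.Lib.Chars Cfsg.Lib.CyclicTI Cfsg.Lib.Dual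
open Cfsg.Lib.Coherence (inner_int)
open Subgroup

variable {G : Type u} [Group G] [Fintype G]

theorem pSet_conj {M : Subgroup G} {w g : G} (hg : g ∈ pSet M) (h : IsConj w g) : w ∈ pSet M := by
  obtain ⟨x, hx, hx1, hc⟩ := hg
  exact ⟨x, hx, hx1, hc.trans h.symm⟩

namespace Cfg14

attribute [local instance] Piece.fin

variable {S T W₁ W₂ U V : Subgroup G} [Fintype S] [Fintype T] (c : Cfg14 S T W₁ W₂ U V)
  (hG : Cfsg.IsMinSimpleOddOrder G)
include c hG

theorem disj_ST : Disjoint (pSet S) (pSet T) := by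
  rw [Set.disjoint_left]
  rintro g ⟨x, hx, hx1, hcx⟩ ⟨y, hy, hy1, hcy⟩
  have e : orderOf x = orderOf y := by
    obtain ⟨a, ha⟩ := isConj_iff.mp (hcx.trans hcy.symm)
    rw [← ha]
    exact (orderOf_injective (MulAut.conj a).toMonoidHom (MulAut.conj a).injective x).symm
  have hp : x ^ Nat.card W₂ = 1 := c.sideS.elem.2 x hx
  have hq : y ^ Nat.card W₁ = 1 := c.sideT.elem.2 y hy
  have h1 := orderOf_dvd_of_pow_eq_one hp
  have h2 := orderOf_dvd_of_pow_eq_one hq
  rw [← e] at h2
  have hco : (Nat.card W₂).Coprime (Nat.card W₁) :=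
    (Nat.coprime_primes c.sideS.p_prime c.sideS.q_prime).mpr c.sideS.ne.symm
  exact hx1 (orderOf_eq_one_iff.mp (Nat.eq_one_of_dvd_coprimes hco h1 h2))

theorem disj_S_hat : Disjoint (pSet S) (hatSet W₁ W₂) := by
  rw [Set.disjoint_right]
  rintro g ⟨w, hw, -, h2, hc⟩ hg
  exact c.sideS.hat_not_pSet hw h2 (pSet_conj hg hc)

theorem disj_T_hat : Disjoint (pSet T) (hatSet W₁ W₂) := by
  rw [Set.disjoint_right]
  rintro g ⟨w, hw, h1, -, hc⟩ hg
  exact c.sideT.hat_not_pSet (sup_comm W₁ W₂ ▸ hw) h1 (pSet_conj hg hc)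

/-- The budget of a function orthogonal to all the images. -/
theorem budget {X : G → ℂ} (hX : Cfsg.IsClassFunction G X) (ho : ∀ i, (c.piece i).Orth X) :
    ∑ i ∈ (@Finset.univ c.ι c.fin),
        ‖Cfsg.classInner X (c.piece i).beta‖ ^ 2 * (c.piece i).share +
      mass X (pSet S) + mass X (pSet T) + mass X (hatSet W₁ W₂) ≤
      (Cfsg.classInner X X).re := by
  classical
  letI := c.fin
  let A : Option (Option (Option c.ι)) → Set G
    | none => pSet S
    | some none => pSet T
    | some (some none) => hatSet W₁ W₂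
    | some (some (some i)) => (c.piece i).supp
  have hd : ((Finset.univ : Finset (Option (Option (Option c.ι)))) : Set _).PairwiseDisjoint A := by
    rintro (_ | _ | _ | i) - (_ | _ | _ | k) - hne
    all_goals first | exact absurd rfl hne | skip
    · exact c.disj_ST hG
    · exact c.disj_S_hat hG
    · exact (c.disjS k).symm
    · exact (c.disj_ST hG).symm
    · exact c.disj_T_hat hG
    · exact (c.disjT k).symm
    · exact (c.disj_S_hat hG).symm
    · exact (c.disj_T_hat hG).symm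
    · exact (c.disjW k).symm
    · exact c.disjS i
    · exact c.disjT i
    · exact c.disjW i
    · exact c.disj i k fun e => hne (by rw [e])
  have h := mass_sum_le Finset.univ A hd X
  rw [Fintype.sum_option, Fintype.sum_option, Fintype.sum_option] at h
  have h1 : ∑ i, ‖Cfsg.classInner X (c.piece i).beta‖ ^ 2 * (c.piece i).share ≤
      ∑ i, mass X (c.piece i).supp :=
    Finset.sum_le_sum fun i _ => (c.piece i).mass_ge hG hX (ho i)
  simp only [A] at h
  linarith

/-- The covering of the non-identity elements. -/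
theorem covering :
    1 - 1 / (Nat.card G : ℝ) ≤ ∑ i ∈ (@Finset.univ c.ι c.fin), (c.piece i).share +
      ((Nat.card W₂ : ℝ) ^ Nat.card W₁ - 1) /
        ((Nat.card W₂ : ℝ) ^ Nat.card W₁ * Nat.card U * Nat.card W₁) +
      ((Nat.card W₁ : ℝ) ^ Nat.card W₂ - 1) /
        ((Nat.card W₁ : ℝ) ^ Nat.card W₂ * Nat.card V * Nat.card W₂) +
      ((Nat.card W₁ : ℝ) - 1) * ((Nat.card W₂ : ℝ) - 1) / ((Nat.card W₁ : ℝ) * Nat.card W₂) := by
  classical
  letI := c.fin
  rw [← c.sideS.card_pSet hG, ← c.sideT.card_pSet hG,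
    ← card_hatSet c.sideS.dataP.selfNormalizing, ← mass_principal, ← mass_principal,
    ← mass_principal, Finset.sum_congr rfl fun i _ => ((c.piece i).card_supp).symm,
    Finset.sum_congr rfl fun i _ => (mass_principal (c.piece i).supp).symm]
  simp only [mass]
  rw [← Finset.mul_sum, ← mul_add, ← mul_add, ← mul_add, Finset.sum_comm,
    ← Finset.sum_add_distrib, ← Finset.sum_add_distrib, ← Finset.sum_add_distrib]
  have hg : (Nat.card G : ℝ) ≠ 0 := Nat.cast_ne_zero.mpr Nat.card_pos.ne'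
  refine le_trans (le_of_eq ?_) (mul_le_mul_of_nonneg_left
    (Finset.sum_le_sum (f := fun g : G => if g = 1 then (0 : ℝ) else 1) fun g _ => ?_)
    (inv_nonneg.mpr (Nat.cast_nonneg _)))
  · rw [Finset.sum_ite, Finset.sum_const_zero, zero_add, Finset.sum_const, nsmul_eq_mul, mul_one,
      Finset.filter_ne', Finset.card_erase_of_mem (Finset.mem_univ _), Finset.card_univ,
      ← Nat.card_eq_fintype_card, Nat.cast_sub Nat.card_pos, Nat.cast_one]
    field_simp
  · have hnn : ∀ A : Set G, 0 ≤ A.indicator (fun _ => ‖(1 : ℂ)‖ ^ 2) g := fun A =>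
      Set.indicator_nonneg (fun _ _ => by positivity) g
    have hmem : ∀ A : Set G, g ∈ A → A.indicator (fun _ => ‖(1 : ℂ)‖ ^ 2) g = (1 : ℝ) := fun A hA =>
      by rw [Set.indicator_of_mem hA, norm_one, one_pow]
    have hsum := Finset.sum_nonneg (s := Finset.univ) fun i (_ : i ∈ (Finset.univ : Finset c.ι)) =>
      hnn (c.piece i).supp
    have a1 := hnn (pSet S)
    have a2 := hnn (pSet T)
    have a3 := hnn (hatSet W₁ W₂)
    by_cases h1 : g = 1
    · rw [if_pos h1]; linarith
    rw [if_neg h1]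
    rcases c.cover g h1 with h | h | h | ⟨i, hi⟩
    · have := hmem _ h; linarith
    · have := hmem _ h; linarith
    · have := hmem _ h; linarith
    · have h' := Finset.single_le_sum (fun k _ => hnn (c.piece k).supp) (Finset.mem_univ i)
      have := hmem _ hi
      linarith

variable {η : (↥(W₁ ⊔ W₂) →* ℂˣ) → (G → ℂ)} (hη : Cfsg.IsCyclicTIFamily W₁ W₂ η)
  {b b' : c.ι → ℤ} (hb : Link14 c η b b') (hfS : FreeOn U (Cfsg.fittingHallOf S))
include hη hb hfS

/-- The budget of a member of the first line. -/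
theorem budget_first (hfT : FreeOn V (Cfsg.fittingHallOf T)) :
    ∑ i ∈ (@Finset.univ c.ι c.fin), (b' i : ℝ) ^ 2 * (c.piece i).share ≤
      1 / (Nat.card W₁ : ℝ) - 1 / ((Nat.card W₁ : ℝ) * Nat.card W₂) -
        ((Nat.card W₂ : ℝ) ^ Nat.card W₁ - 1) /
          ((Nat.card W₂ : ℝ) ^ Nat.card W₁ * Nat.card U * Nat.card W₁) +
        (Nat.card V : ℝ) / (((Nat.card W₁ : ℝ) ^ Nat.card W₂ - 1) * Nat.card W₂) := by
  classical
  letI := c.fin
  obtain ⟨μ, δ, hT, -, -⟩ := exists_chars (c.sideS.prime hG)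
  obtain ⟨μ', δ', hT', -, -⟩ := exists_chars (c.sideT.prime hG)
  obtain ⟨k, hk, hk1⟩ := (c.sideT.prime hG).exists_second
  have hk0 : OnFirst (swapHom k) := onFirst_swapHom hk
  have hk01 : swapHom k ≠ 1 := fun e => hk1 (swapHom_injective (e.trans swapHom_one.symm))
  have h := c.budget hG (signed_class (family_signed hη (swapHom k)))
    fun i => c.orth_eta hG hη i (swapHom k)
  rw [(family_signed hη (swapHom k)).inner_self, Complex.one_re,
    Finset.sum_congr rfl fun i _ => by
      rw [← classInner_conj_symm (c.piece i).beta, hb.first i _ hk0 hk01, map_intCast,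
        norm_int_sq]] at h
  have hT2 := c.sideT.second_mass hG hfT hT' (family_swap hη) hk hk1
  obtain ⟨z, hz, hzv⟩ := c.sideS.first_const hG hfS hT hη hk0 hk01
  have hS : ((Nat.card W₂ : ℝ) ^ Nat.card W₁ - 1) /
      ((Nat.card W₂ : ℝ) ^ Nat.card W₁ * Nat.card U * Nat.card W₁) ≤
      mass (η (swapHom k)) (pSet S) := by
    rw [mass_of_norm (c := (z : ℝ) ^ 2) fun g hg => ?_, c.sideS.card_pSet hG]
    · refine le_mul_of_one_le_left ?_ ?_
      · rw [← c.sideS.card_pSet hG]; positivity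
      · have hz0 : z ≠ 0 := by
          rintro rfl
          have hd : (Nat.card W₁ : ℤ) ∣ 1 := by simpa using hz
          exact c.sideS.q_prime.ne_one (Nat.dvd_one.mp (Int.natCast_dvd_natCast.mp hd))
        have : (1 : ℤ) ≤ z ^ 2 := by
          have : 0 < z ^ 2 := by positivity
          omega
        exact_mod_cast this
    · obtain ⟨x, hx, hx1, hc⟩ := hg
      obtain ⟨a, rfl⟩ := isConj_iff.mp hc
      rw [signed_class (family_signed hη (swapHom k)) x a, hzv x hx hx1, norm_int_sq]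
  have hH : mass (η (swapHom k)) (hatSet W₁ W₂) =
      ((Nat.card W₁ : ℝ) - 1) * ((Nat.card W₂ : ℝ) - 1) /
        ((Nat.card W₁ : ℝ) * Nat.card W₂) := by
    rw [mass_of_norm (c := 1) fun g hg => ?_, card_hatSet c.sideS.dataP.selfNormalizing, one_mul]
    obtain ⟨w, hw, h1, h2, hc⟩ := hg
    obtain ⟨a, rfl⟩ := isConj_iff.mp hc
    rw [signed_class (family_signed hη (swapHom k)) w a, hη.eq_on _ ⟨w, hw⟩ h1 h2,
      Complex.norm_eq_one_of_pow_eq_one (n := Nat.card ↥(W₁ ⊔ W₂)) ?_ Nat.card_pos.ne', one_pow]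
    rw [← Units.val_pow_eq_pow_val, ← map_pow, pow_card_eq_one', map_one, Units.val_one]
  rw [hH] at h
  have hp : (0 : ℝ) < Nat.card W₂ := Nat.cast_pos.mpr Nat.card_pos
  have hq : (0 : ℝ) < Nat.card W₁ := Nat.cast_pos.mpr Nat.card_pos
  have e : (1 : ℝ) - (1 - (Nat.card V : ℝ) / ((Nat.card W₁ : ℝ) ^ Nat.card W₂ - 1)) / Nat.card W₂ -
      ((Nat.card W₁ : ℝ) - 1) * ((Nat.card W₂ : ℝ) - 1) / ((Nat.card W₁ : ℝ) * Nat.card W₂) =
      1 / (Nat.card W₁ : ℝ) - 1 / ((Nat.card W₁ : ℝ) * Nat.card W₂) +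
        (Nat.card V : ℝ) / (((Nat.card W₁ : ℝ) ^ Nat.card W₂ - 1) * Nat.card W₂) := by
    rw [← div_div]
    field_simp
    ring
  linarith

/-- The budget of the character attached to a regular character of `S_F`. -/
theorem budget_regular
    (hlt : (Nat.card W₂ - 1) * Nat.card U < Nat.card W₂ ^ Nat.card W₁ - 1) :
    ∃ x : c.ι → ℤ, (∀ i, x i ≠ 0 ∨ b' i ≠ 0) ∧
      ∑ i ∈ (@Finset.univ c.ι c.fin), (x i : ℝ) ^ 2 * (c.piece i).share ≤
        (Nat.card U : ℝ) * Nat.card W₁ / ((Nat.card W₂ : ℝ) ^ Nat.card W₁ - 1) := by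
  classical
  letI := c.fin
  obtain ⟨μ, δ, hT, -, -⟩ := exists_chars (c.sideS.prime hG)
  have hW := c.sideS.dataP.selfNormalizing
  obtain ⟨f, hf⟩ := c.sideS.exists_regular hG hfS hT hη hlt
  obtain ⟨χ, j, ε, F, hχ, hχη, hj, hj1, hε, -, hFoff, heq, hmass⟩ :=
    c.sideS.exists_chi hG hfS hT hη hf
  haveI := Fintype.ofFinite ↥(W₁ ⊔ W₂)
  haveI := Fintype.ofFinite {φ : ↥(W₁ ⊔ W₂) →* ℂˣ // OnFirst φ}
  have hFi : ∀ i, ∀ g ∈ (c.piece i).supp, tauM S F g = 0 := fun i g hg =>
    hFoff g fun h => Set.disjoint_left.mp (c.disjS i) hg h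
  have horth : ∀ i, (c.piece i).Orth χ := by
    intro i
    set P := c.piece i with hP
    intro φ hφ
    have hφ' := P.conj_member hφ
    obtain ⟨k, hk⟩ := (P.member_val hφ).2.2
    have h1 : φ 1 = ((1 : ℤ) : ℂ) * Cfsg.conjFun φ 1 := by simp [Cfsg.conjFun, hk]
    have e := P.diff_image hφ hφ' 1 h1
    rw [Int.cast_one, one_smul, one_smul] at e
    have hcol : ∀ ψ, ψ ∈ pieceChars P.L P.K P.N →
        Cfsg.classInner (colSum η j) (P.τ₁ ψ) = 0 := fun ψ hψ => by
      rw [colSum_eq, classInner_sum_left]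
      exact Finset.sum_eq_zero fun a _ => c.orth_eta hG hη i _ ψ hψ
    have h0 : Cfsg.classInner (tauM S F) (P.τ₁ φ - P.τ₁ (Cfsg.conjFun φ)) = 0 := by
      rw [← e]
      exact classInner_eq_zero_of_disjoint (A := P.suppᶜ)
        (fun g hg => hFi i g (not_not.mp hg)) fun g hg => P.tau_off _ hg
    rw [heq, classInner_add_left, classInner_smul_left, classInner_sub_right (φ := colSum η j),
      hcol φ hφ, hcol _ hφ', sub_zero, mul_zero, add_zero, classInner_sub_right,
      sub_eq_zero] at h0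
    refine hχ.orth_diff (a' := P.τ₁ (Cfsg.conjFun φ)) (P.img_signed hφ) ?_ h0
    rw [P.img_inner hφ hφ', classInner_irrChar (P.spec.irr _ hφ) (P.spec.irr _ hφ'),
      if_neg (P.member_ne_conj hG hφ).symm]
  choose x hx using fun i => inner_int hχ.generalized (c.piece i).beta_gen
  have hxb : ∀ i, x i ≠ 0 ∨ b' i ≠ 0 := by
    intro i
    by_contra hc
    push Not at hc
    have h0 : Cfsg.classInner (tauM S F) (c.piece i).beta = 0 :=
      classInner_eq_zero_of_disjoint (A := (c.piece i).suppᶜ)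
        (fun g hg => hFi i g (not_not.mp hg)) fun g hg => (c.piece i).beta_off hg
    rw [heq, classInner_add_left, classInner_smul_left, hx i, hc.1, colSum_eq,
      classInner_sum_left, ← Finset.sum_erase_add _ _
        (Finset.mem_univ (⟨1, onFirst_one⟩ : {φ : ↥(W₁ ⊔ W₂) →* ℂˣ // OnFirst φ}))] at h0
    rw [Finset.sum_congr rfl fun a ha => by
        rw [← classInner_conj_symm (c.piece i).beta, hb.both i a.1 j a.2
          (fun e => (Finset.mem_erase.mp ha).1 (Subtype.ext e)) hj hj1, map_intCast],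
      Finset.sum_const, Finset.card_erase_of_mem (Finset.mem_univ _), Finset.card_univ,
      ← Nat.card_eq_fintype_card, card_onFirst hW, hom_one_mul,
      ← classInner_conj_symm (c.piece i).beta, hb.second i j hj hj1, map_intCast, hc.2,
      nsmul_eq_mul, Int.cast_zero, zero_add] at h0
    have hε0 : ε ≠ 0 := by rcases hε with e | e <;> simp [e]
    have h2 := (mul_eq_zero.mp h0).resolve_left hε0
    have hq := c.sideS.q_prime.two_le
    rw [Nat.cast_sub (by omega : 1 ≤ Nat.card W₁), Nat.cast_one] at h2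
    have h3 : ((Nat.card W₁ : ℤ) - 1) * (b i + 0 - 1) + b i = 0 := by
      apply Int.cast_injective (α := ℂ)
      push_cast at h2 ⊢
      linear_combination h2
    have h4 : (Nat.card W₁ : ℤ) ∣ 1 := ⟨1 - b i, by linarith⟩
    have h5 : Nat.card W₁ ∣ 1 := Int.natCast_dvd_natCast.mp h4
    have h6 := Nat.dvd_one.mp h5
    omega
  refine ⟨x, hxb, ?_⟩
  have h := c.budget hG (signed_class hχ) horth
  rw [hχ.inner_self, Complex.one_re,
    Finset.sum_congr rfl fun i _ => by rw [hx i, norm_int_sq]] at h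
  have := mass_nonneg χ (pSet T)
  have := mass_nonneg χ (hatSet W₁ W₂)
  linarith

/-- The inequality from the two budgets and the covering. -/
theorem count_ineq (hfT : FreeOn V (Cfsg.fittingHallOf T))
    (hlt : (Nat.card W₂ - 1) * Nat.card U < Nat.card W₂ ^ Nat.card W₁ - 1) :
    1 - (Nat.card V : ℝ) / ((Nat.card W₁ : ℝ) ^ Nat.card W₂ - 1) -
        ((Nat.card W₁ : ℝ) ^ Nat.card W₂ - 1) /
          ((Nat.card W₁ : ℝ) ^ Nat.card W₂ * Nat.card V) -
        (Nat.card W₂ : ℝ) / Nat.card G ≤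
      (Nat.card W₁ : ℝ) * Nat.card W₂ * Nat.card U /
        ((Nat.card W₂ : ℝ) ^ Nat.card W₁ - 1) := by
  classical
  letI := c.fin
  obtain ⟨x, hx, hxs⟩ := c.budget_regular hG hη hb hfS hlt
  have hfirst := c.budget_first hG hη hb hfS hfT
  have hcov := c.covering hG
  have hle : ∑ i, (c.piece i).share ≤
      ∑ i, (x i : ℝ) ^ 2 * (c.piece i).share + ∑ i, (b' i : ℝ) ^ 2 * (c.piece i).share := by
    rw [← Finset.sum_add_distrib]
    refine Finset.sum_le_sum fun i _ => ?_
    have hs := (c.piece i).share_nonneg hG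
    have h1 : (1 : ℤ) ≤ x i ^ 2 + b' i ^ 2 := by
      rcases hx i with h | h
      · have : 0 < x i ^ 2 := by positivity
        nlinarith
      · have : 0 < b' i ^ 2 := by positivity
        nlinarith
    have h2 : (1 : ℝ) ≤ (x i : ℝ) ^ 2 + (b' i : ℝ) ^ 2 := by exact_mod_cast h1
    nlinarith
  have hp : (0 : ℝ) < Nat.card W₂ := Nat.cast_pos.mpr Nat.card_pos
  have hq : (0 : ℝ) < Nat.card W₁ := Nat.cast_pos.mpr Nat.card_pos
  set g : ℝ := (Nat.card G : ℝ)
  set A : ℝ := ((Nat.card W₂ : ℝ) ^ Nat.card W₁ - 1) /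
    ((Nat.card W₂ : ℝ) ^ Nat.card W₁ * Nat.card U * Nat.card W₁)
  set M' : ℝ := (Nat.card W₁ : ℝ) ^ Nat.card W₂ with hM'
  set N' : ℝ := (Nat.card W₂ : ℝ) ^ Nat.card W₁
  set v : ℝ := (Nat.card V : ℝ)
  set u : ℝ := (Nat.card U : ℝ)
  set p : ℝ := (Nat.card W₂ : ℝ)
  set q : ℝ := (Nat.card W₁ : ℝ)
  have e : (1 - v / (M' - 1) - (M' - 1) / (M' * v) - p / g) =
      p * (1 / p - v / ((M' - 1) * p) - (M' - 1) / (M' * v * p) - 1 / g) := by
    field_simp
  rw [e, show q * p * u / (N' - 1) = p * (u * q / (N' - 1)) by ring]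
  refine mul_le_mul_of_nonneg_left ?_ hp.le
  have e2 : (q - 1) * (p - 1) / (q * p) = 1 - 1 / p - 1 / q + 1 / (q * p) := by
    field_simp
    ring
  linarith

end Cfg14

end Cfsg.Agent.PF
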