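import Cfsg.Agent.OddChar.PF.S14Piece
import Cfsg.Agent.OddChar.PF.TypeI

/-!
# Section 14: the configuration

The two sides together with finitely many coherent pieces whose supports, with those of the two
sides and of `W ∖ (W₁ ∪ W₂)`, cover the non-identity elements disjointly.
-/

set_option linter.style.haveILetI false
set_option linter.unusedSectionVars false
set_option autoImplicit false

universe u

namespace Cfsg.Agent.PF

open Subgroup

variable {G : Type u} [Group G] [Fintype G]

/-- The configuration of the counting argument. -/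
structure Cfg14 (S T W₁ W₂ U V : Subgroup G) where
  /-- The pieces. -/
  ι : Type u
  /-- There are finitely many. -/
  fin : Fintype ι
  /-- A piece. -/
  piece : ι → Piece G
  sideS : Side S W₁ U W₂
  sideT : Side T W₂ V W₁
  disj : ∀ i j, i ≠ j → Disjoint (piece i).supp (piece j).supp
  disjS : ∀ i, Disjoint (piece i).supp (pSet S)
  disjT : ∀ i, Disjoint (piece i).supp (pSet T)
  disjW : ∀ i, Disjoint (piece i).supp (hatSet W₁ W₂)
  cover : ∀ g : G, g ≠ 1 → g ∈ pSet S ∨ g ∈ pSet T ∨ g ∈ hatSet W₁ W₂ ∨ ∃ i, g ∈ (piece i).supp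
  hasI : ∀ L : Subgroup G, IsCoatom L → IsTypeI' L →
    ∃ i, (∃ g : G, (piece i).L = L.map (MulAut.conj g).toMonoidHom) ∧
      (piece i).K = Cfsg.fittingHallOf (piece i).L ∧ (piece i).N = ⊥
  hasS : Cfsg.IsOfTypeIII S → ∃ i, (piece i).e = Nat.card W₁ ∧ (piece i).h = Nat.card U
  hasT : Cfsg.IsOfTypeIII T → ∃ i, (piece i).e = Nat.card W₂ ∧ (piece i).h = Nat.card V

/-- Exchanging the two sides. -/
def Cfg14.swap {S T W₁ W₂ U V : Subgroup G} (c : Cfg14 S T W₁ W₂ U V) :
    Cfg14 T S W₂ W₁ V U where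
  ι := c.ι
  fin := c.fin
  piece := c.piece
  sideS := c.sideT
  sideT := c.sideS
  disj := c.disj
  disjS := c.disjT
  disjT := c.disjS
  disjW i := hatSet_swap W₁ W₂ ▸ c.disjW i
  cover g hg := by
    rw [hatSet_swap]
    rcases c.cover g hg with h | h | h | h
    exacts [Or.inr (Or.inl h), Or.inl h, Or.inr (Or.inr (Or.inl h)), Or.inr (Or.inr (Or.inr h))]
  hasI := c.hasI
  hasS := c.hasT
  hasT := c.hasS

end Cfsg.Agent.PF
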