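import Cfsg.Agent.OddChar.PF.S14Cfg
import Cfsg.Agent.OddChar.PF.S14Ctx
import Cfsg.Agent.OddChar.PF.S12TypeI
import Cfsg.Agent.OddChar.PF.S10NoCoherence
import Cfsg.Agent.OddChar.PF.Sec08Facts
import Cfsg.Agent.OddChar.PF.Local1385
import Cfsg.Agent.OddChar.PF.S13Support
import Cfsg.Agent.OddChar.PF.S12Contradiction
import Cfsg.Agent.OddChar.PF.S09Linear
import Cfsg.Agent.S1514
import Cfsg.Agent.S1517

/-!
# Section 14: the configuration exists

One piece for each class of maximal subgroups of type I and one for each side of type III.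
-/

set_option linter.style.haveILetI false
set_option linter.unusedSectionVars false
set_option linter.unusedVariables false
set_option autoImplicit false

universe u

namespace Cfsg.Agent.PF

open Cfsg.Lib.Chars
open Subgroup
open scoped ComplexConjugate commutatorElement

variable {G : Type u} [Group G] [Fintype G] {L K N S T W₁ W₂ U V : Subgroup G}

open Classical in
/-- The normal subgroup divided out in the piece of a maximal subgroup. -/
noncomputable def cutN (L : Subgroup G) : Subgroup G :=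
  if IsTypeI' L then ⊥ else Cfsg.fittingHallOf L

/-- A combination of members vanishing at `1` vanishes outside `K ∖ N`. -/
theorem cfg14_vanish [Fintype L] [(K.subgroupOf L).Normal] [(N.subgroupOf L).Normal] (hNK : N ≤ K)
    {f : ↥L → ℂ} (hf : f ∈ Cfsg.zspanOn (pieceChars L K N) {1}ᶜ) (l : L)
    (hl : (l : G) ∉ (K : Set G) \ N) : f l = 0 := by
  obtain ⟨hspan, h1⟩ := Cfsg.Lib.Coherence.mem_one.mp hf
  haveI := Fintype.ofFinite ↥(K.subgroupOf L)
  by_cases hK : (l : G) ∈ K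
  · have hN : (l : G) ∈ N := by
      by_contra hN; exact hl ⟨hK, hN⟩
    suffices f l = f 1 by rw [this, h1]
    clear h1 hf
    refine Submodule.span_induction (p := fun g _ => g l = g 1) (fun g hg => ?_)
      rfl (fun a b _ _ ha hb => by simp [ha, hb]) (fun c a _ ha => by simp [ha]) hspan
    obtain ⟨θ, -, -, hker, rfl⟩ := hg
    rw [indFun_normal_mem (K.subgroupOf L) θ ⟨l, mem_subgroupOf.mpr hK⟩,
      show (1 : ↥L) = ((1 : ↥(K.subgroupOf L)) : ↥L) from rfl,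
      indFun_normal_mem (K.subgroupOf L) θ (1 : ↥(K.subgroupOf L))]
    congr 1
    refine Finset.sum_congr rfl fun g _ => ?_
    rw [hker ⟨g * l * g⁻¹, _⟩ ((inferInstance : (N.subgroupOf L).Normal).conj_mem l
      (mem_subgroupOf.mpr hN) g)]
    congr 1
    exact Subtype.ext (by simp)
  · clear h1 hf
    exact Submodule.span_induction (p := fun g _ => g l = 0)
      (fun g hg => by
        obtain ⟨θ, -, -, -, rfl⟩ := hg
        exact indFun_normal_not_mem _ _ fun h => hK (mem_subgroupOf.mp h))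
      rfl (fun a b _ _ ha hb => by simp [ha, hb]) (fun c a _ ha => by simp [ha]) hspan

/-- A piece from coherence. -/
theorem cfg14_piece [Fintype L] (hKL : K ≤ L) (hNK : N < K) (nK : (K.subgroupOf L).Normal)
    (nN : (N.subgroupOf L).Normal) (hsol : Group.IsSolvable ↥(K.subgroupOf L))
    (hD : Cfsg.DadeHypothesis ((K : Set G) \ N) L (Cfsg.supportR L))
    (hirr : ∀ φ ∈ pieceChars L K N, Cfsg.IsIrrCharacter ↥L φ)
    (hcoh : Cfsg.IsCoherent (pieceChars L K N) {1}ᶜ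
      (Cfsg.dadeIsometry ((K : Set G) \ N) L (Cfsg.supportR L))) :
    ∃ P : Piece G, P.L = L ∧ P.K = K ∧ P.N = N := by
  haveI := nK
  haveI := nN
  have hlt : N.subgroupOf L < K.subgroupOf L := lt_of_le_not_ge
    (fun x hx => mem_subgroupOf.mpr (hNK.le (mem_subgroupOf.mp hx))) fun hle => hNK.not_ge fun x hx =>
      mem_subgroupOf.mp (hle (show (⟨x, hKL hx⟩ : L) ∈ K.subgroupOf L from mem_subgroupOf.mpr hx))
  obtain ⟨ζ, hζ, hdeg⟩ := Cfsg.Lib.InducedFamily.exists_minimal hsol (N.subgroupOf L) hlt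
  obtain ⟨-, τ₁, hiso, hext⟩ := hcoh
  exact ⟨⟨L, K, N, inferInstance, τ₁, ζ, hKL, hNK.le, nK, nN, hD, hirr, hiso, hext, hζ,
    by rw [IsCharacter.apply_one_eq_deg (isCharacter_of_irr (hirr ζ hζ)), hdeg]⟩, rfl, rfl, rfl⟩

variable (hG : Cfsg.IsMinSimpleOddOrder G)
include hG

/-- The piece of a maximal subgroup of type I. -/
theorem cfg14_pieceI (hF : Facts13 G) (hL : IsCoatom L) (hI : IsTypeI' L) :
    ∃ P : Piece G, P.L = L ∧ P.K = Cfsg.typeCore L ∧ P.N = cutN L := by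
  classical
  have h : FrobKer L := hF.p1540 L hL hI
  rw [typeCore_of_I_II hG hF.types hL (Or.inl hI), cutN, if_pos hI]
  have hHL : Cfsg.fittingHallOf L ≤ L := map_subtype_le _
  have hsub : (Cfsg.fittingHallOf L).subgroupOf L = Cfsg.fittingHall L :=
    comap_map_eq_self_of_injective L.subtype_injective _
  have hbot : (⊥ : Subgroup G).subgroupOf L = ⊥ := bot_subgroupOf L
  have hset : (Cfsg.fittingHallOf L : Set G) \ ((⊥ : Subgroup G) : Set G) =
      (Cfsg.fittingHallOf L : Set G) \ {1} := by rw [coe_bot]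
  have hD := dade_kernel hG hF.types hF.p1391 hL hI h
  have hne : Cfsg.fittingHallOf L ≠ ⊥ := fun e => hI.1.2.2.1
    ((map_eq_bot_iff_of_injective _ L.subtype_injective).mp e)
  refine cfg14_piece hHL (bot_lt_iff_ne_bot.mpr hne) (by rw [hsub]; infer_instance)
    (by rw [hbot]; infer_instance) ?_ (by rw [hset]; exact hD) ?_ ?_
  · rw [hsub]
    haveI : Group.IsSolvable ↥L := hG.2.2.2 L hL.1
    infer_instance
  · rw [pieceChars, hsub, hbot]; exact frob_irr h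
  · rw [pieceChars, hsub, hbot, hset]; exact frobenius_coherent hG hL hI h hD

omit hG in
theorem cutN_side (hnI : ¬ IsTypeI' L) : cutN L = Cfsg.fittingHallOf L := by
  classical
  rw [cutN, if_neg hnI]

/-- The piece of a side of type III. -/
theorem cfg14_pieceIII (hF : Facts13 G) (s : Side S W₁ U W₂) (hIII : Cfsg.IsOfTypeIII S) :
    ∃ P : Piece G, P.L = S ∧ P.K = Cfsg.typeCore S ∧ P.N = cutN S := by
  classical
  have h9 := s.hyp9
  have hnI : ¬ IsTypeI' S := not_typeI_of_P hG hF.types s.max (Or.inr (Or.inl hIII))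
  have hcore : Cfsg.typeCore S = ⁅S, S⁆ := if_pos (Or.inl hIII)
  rw [cutN_side hnI, hcore]
  have hKL : ⁅S, S⁆ ≤ S := Subgroup.commutator_le_self S
  have hlt : Cfsg.fittingHallOf S < ⁅S, S⁆ := lt_of_le_not_ge h9.H_le_derived fun hle =>
    h9.U_ne (le_bot_iff.mp (s.P_inf_U ▸ le_inf (h9.U_le_derived.trans hle) le_rfl))
  haveI nK : ((⁅S, S⁆ : Subgroup G).subgroupOf S).Normal :=
    (normal_subgroupOf_iff_le_normalizer hKL).mpr h9.M_le_normalizer_derived
  haveI nN : ((Cfsg.fittingHallOf S).subgroupOf S).Normal :=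
    (normal_subgroupOf_iff_le_normalizer h9.H_le).mpr h9.M_le_normalizer_H
  have hsolS : Group.IsSolvable ↥S := hG.2.2.2 S s.max.1
  have hsol : Group.IsSolvable ↥((⁅S, S⁆ : Subgroup G).subgroupOf S) := inferInstance
  have hD : Cfsg.DadeHypothesis ((⁅S, S⁆ : Subgroup G) \ (Cfsg.fittingHallOf S : Subgroup G) : Set G)
      S (Cfsg.supportR S) := by
    refine dade_mono (p1537_of hG hF.types hF.p1391 S s.max _ (Or.inl rfl)).2 ?_ ?_
    · rintro x ⟨hx, hx'⟩
      refine ⟨hcore ▸ hx, fun e => hx' ?_⟩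
      rw [Set.mem_singleton_iff.mp e]
      exact one_mem _
    · rintro m hm x ⟨hx, hx'⟩
      exact ⟨(mem_normalizer_iff.mp (h9.M_le_normalizer_derived hm) x).mp hx,
        fun h => hx' ((mem_normalizer_iff.mp (h9.M_le_normalizer_H hm) x).mpr h)⟩
  have hder : ⁅⁅S, S⁆, ⁅S, S⁆⁆ ≤ Cfsg.fittingHallOf S :=
    derived_le_of_sup h9.U_le_derived h9.H_le_derived (hKL.trans h9.M_le_normalizer_H) s.U_comm
      (fun m hm => sup_comm (Cfsg.fittingHallOf S) U ▸ h9.derived_eq.ge hm)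
  -- the members are induced from linear characters
  have hlin : ∀ θ : ↥((⁅S, S⁆ : Subgroup G).subgroupOf S) → ℂ, Cfsg.IsIrrCharacter _ θ →
      (∀ a : ↥((⁅S, S⁆ : Subgroup G).subgroupOf S),
        (a : ↥S) ∈ (Cfsg.fittingHallOf S).subgroupOf S → θ a = θ 1) →
      ∃ f : ↥((⁅S, S⁆ : Subgroup G).subgroupOf S) →* ℂˣ, θ = fun x => (f x : ℂ) := by
    intro θ hθ hker
    refine s09_exists_hom_of_derived hθ fun a b => hker _ (mem_subgroupOf.mpr (hder ?_))
    have := Subgroup.commutator_mem_commutator (mem_subgroupOf.mp a.2) (mem_subgroupOf.mp b.2)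
    simpa [commutatorElement_def] using this
  have hirr : ∀ φ ∈ pieceChars S ⁅S, S⁆ (Cfsg.fittingHallOf S), Cfsg.IsIrrCharacter ↥S φ := by
    rintro φ ⟨θ, hθ, hne, hker, rfl⟩
    obtain ⟨f, rfl⟩ := hlin θ hθ hker
    refine s09_indFun_irr hθ fun g hg => mem_subgroupOf.mpr ?_
    by_contra hgK
    obtain ⟨a, ha, w, hw, e⟩ := h9.typeP.W₁_compl.2.2.2 (g : G) g.2
    have hw1 : w ≠ 1 := fun e1 => hgK (by rw [e, e1, mul_one]; exact ha)
    have hwS : w ∈ S := h9.W₁_le hw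
    have haS : a ∈ S := hKL ha
    -- `θ` is fixed by `w`
    have hfix : ∀ x : ↥((⁅S, S⁆ : Subgroup G).subgroupOf S),
        f ⟨(⟨w, hwS⟩ : ↥S) * x * (⟨w, hwS⟩ : ↥S)⁻¹, nK.conj_mem _ x.2 _⟩ = f x := by
      intro x
      have h1 := congrFun hg x
      simp only [Cfsg.Lib.Chars.conjN] at h1
      have h1' := Units.ext h1
      refine Eq.trans ?_ h1'
      set a' : ↥((⁅S, S⁆ : Subgroup G).subgroupOf S) := ⟨⟨a, haS⟩, mem_subgroupOf.mpr ha⟩
      set z : ↥((⁅S, S⁆ : Subgroup G).subgroupOf S) :=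
        ⟨(⟨w, hwS⟩ : ↥S) * x * (⟨w, hwS⟩ : ↥S)⁻¹, nK.conj_mem _ x.2 _⟩
      rw [show f z = f (a' * z * a'⁻¹) by
        rw [map_mul, map_mul, map_inv, mul_comm (f a') (f z), mul_inv_cancel_right]]
      congr 1
      apply Subtype.ext; apply Subtype.ext
      show a * (w * ((x : ↥S) : G) * w⁻¹) * a⁻¹ = (g : G) * ((x : ↥S) : G) * (g : G)⁻¹
      rw [e]; group
    have hUtriv : ∀ (u : G) (hu : u ∈ U), f ⟨⟨u, h9.U_le hu⟩, mem_subgroupOf.mpr (h9.U_le_derived hu)⟩ = 1 := by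
      intro u hu
      have hinj : Function.Injective fun v : U => (⟨(v : G)⁻¹ * (w * v * w⁻¹),
          mul_mem (inv_mem v.2) ((mem_normalizer_iff.mp (h9.W₁_le_normalizer_U hw) v).mp v.2)⟩ : U) := by
        intro v v' hv
        have hv' : (v : G)⁻¹ * (w * v * w⁻¹) = (v' : G)⁻¹ * (w * v' * w⁻¹) := congrArg Subtype.val hv
        refine Subtype.ext (mul_inv_eq_one.mp ?_)
        refine h9.fpf' w hw hw1 _ (mul_mem v.2 (inv_mem v'.2)) ?_
        calc w * ((v : G) * (v' : G)⁻¹) = v * ((v : G)⁻¹ * (w * v * w⁻¹)) * (w * (v' : G)⁻¹) := by group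
          _ = v * ((v' : G)⁻¹ * (w * v' * w⁻¹)) * (w * (v' : G)⁻¹) := by rw [hv']
          _ = ((v : G) * (v' : G)⁻¹) * w := by group
      obtain ⟨v, hv⟩ := (Finite.injective_iff_surjective.mp hinj) ⟨u, hu⟩
      set v' : ↥((⁅S, S⁆ : Subgroup G).subgroupOf S) :=
        ⟨⟨v, h9.U_le v.2⟩, mem_subgroupOf.mpr (h9.U_le_derived v.2)⟩
      rw [show (⟨⟨u, h9.U_le hu⟩, mem_subgroupOf.mpr (h9.U_le_derived hu)⟩ :
          ↥((⁅S, S⁆ : Subgroup G).subgroupOf S)) =
          v'⁻¹ * ⟨(⟨w, hwS⟩ : ↥S) * v' * (⟨w, hwS⟩ : ↥S)⁻¹, nK.conj_mem _ v'.2 _⟩ from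
          Subtype.ext (Subtype.ext (congrArg Subtype.val hv).symm), map_mul, map_inv, hfix,
        inv_mul_cancel]
    refine hne (funext fun x => ?_)
    obtain ⟨b, hb, u, hu, e'⟩ := h9.typeP.U_compl.2.2.2 _ (mem_subgroupOf.mp x.2)
    rw [show x = (⟨⟨b, h9.H_le hb⟩, mem_subgroupOf.mpr (h9.H_le_derived hb)⟩ :
          ↥((⁅S, S⁆ : Subgroup G).subgroupOf S)) *
        ⟨⟨u, h9.U_le hu⟩, mem_subgroupOf.mpr (h9.U_le_derived hu)⟩ from
        Subtype.ext (Subtype.ext e')]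
    rw [map_mul, hUtriv u hu, mul_one]
    exact (hker _ (mem_subgroupOf.mpr hb)).trans (by simp)
  refine cfg14_piece hKL hlt nK nN hsol hD hirr ?_
  -- coherence of characters of one degree
  set X := pieceChars S ⁅S, S⁆ (Cfsg.fittingHallOf S) with hX
  obtain ⟨ζ, hζ, -⟩ := Cfsg.Lib.InducedFamily.exists_minimal hsol
    ((Cfsg.fittingHallOf S).subgroupOf S) (lt_of_le_not_ge
      (fun x hx => mem_subgroupOf.mpr (h9.H_le_derived (mem_subgroupOf.mp hx))) fun hle =>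
        hlt.not_ge fun x hx => mem_subgroupOf.mp
          (hle (show (⟨x, hKL hx⟩ : S) ∈ (⁅S, S⁆ : Subgroup G).subgroupOf S from mem_subgroupOf.mpr hx)))
  haveI := Fintype.ofFinite ↥((⁅S, S⁆ : Subgroup G).subgroupOf S)
  have hiso := dade_isometry hD (S := X)
    (fun φ hφ => IsSignedIrr.generalized (Or.inl (hirr φ hφ)) ) _
    fun α hα => cfg14_vanish hlt.le hα
  have hconj : ∀ φ ∈ X, Cfsg.conjFun φ ∈ X ∧ Cfsg.conjFun φ ≠ φ := by
    intro φ hφ
    refine ⟨Cfsg.Lib.InducedFamily.conj_mem_above _ hφ, fun e => ?_⟩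
    have hodd : Odd (Nat.card S) := hG.1.of_dvd_nat (Subgroup.card_subgroup_dvd_card S)
    have hp := eq_principal_of_real hodd ⟨φ, hirr φ hφ⟩ fun g =>
      Complex.conj_eq_iff_im.mp (congrFun e g)
    obtain ⟨θ, hθ, hne, -, rfl⟩ := id hφ
    have h1 := frobenius_reciprocity ((⁅S, S⁆ : Subgroup G).subgroupOf S) θ
      (χ := fun _ : S => (1 : ℂ)) (fun _ _ => rfl)
    rw [show Cfsg.indFun _ θ = fun _ => (1 : ℂ) from congrArg Subtype.val hp,
      classInner_irrChar isIrrCharacter_one isIrrCharacter_one, if_pos rfl,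
      classInner_irrChar hθ isIrrCharacter_one, if_neg hne] at h1
    exact one_ne_zero h1
  obtain ⟨R, hR⟩ := Cfsg.Agent.S1514.result X ⟨ζ, hζ⟩ hirr hconj _ hiso.1 hiso.2
  refine Cfsg.Agent.S1517.result X _ R hR fun φ hφ ψ hψ => ?_
  obtain ⟨θ, hθ, -, hker, rfl⟩ := hφ
  obtain ⟨θ', hθ', -, hker', rfl⟩ := hψ
  obtain ⟨f, rfl⟩ := hlin θ hθ hker
  obtain ⟨f', rfl⟩ := hlin θ' hθ' hker'
  simp [indFun_one]

/-- The parameters of the piece of a side of type III. -/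
theorem cfg14_piece_eh (hF : Facts13 G) (s : Side S W₁ U W₂) (hIII : Cfsg.IsOfTypeIII S)
    (P : Piece G) (hL : P.L = S) (hK : P.K = Cfsg.typeCore S) (hN : P.N = cutN S) :
    P.e = Nat.card W₁ ∧ P.h = Nat.card U := by
  have h9 := s.hyp9
  have hnI : ¬ IsTypeI' S := not_typeI_of_P hG hF.types s.max (Or.inr (Or.inl hIII))
  have hcore : Cfsg.typeCore S = ⁅S, S⁆ := if_pos (Or.inl hIII)
  rw [cutN_side hnI] at hN
  rw [hcore] at hK
  constructor
  · show P.K.relIndex P.L = _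
    rw [hK, hL, relIndex_compl s.dataP.W₁_compl h9.M_le_normalizer_derived]
  · show (P.N.subgroupOf P.L).relIndex (P.K.subgroupOf P.L) = _
    rw [hK, hL, hN, relIndex_subgroupOf (Subgroup.commutator_le_self S)]
    exact relIndex_compl s.dataP.U_compl
      ((Subgroup.commutator_le_self S).trans h9.M_le_normalizer_H)

omit hG in
/-- Conjugate maximal subgroups have the same `Ã`. -/
theorem cfg14_tilde_conj (g : G) (M : Subgroup G) :
    Cfsg.tildeOf (M.map (MulAut.conj g).toMonoidHom)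
        (Cfsg.typeA1 (M.map (MulAut.conj g).toMonoidHom)) =
      Cfsg.tildeOf M (Cfsg.typeA1 M) := by
  show Cfsg.tildeOf (TypeMap.im (MulAut.conj g) M) (Cfsg.typeA1 (TypeMap.im (MulAut.conj g) M)) = _
  rw [TypeMap.typeA1_im, TypeMap.tildeOf_im]
  ext x
  constructor
  · rintro ⟨z, ⟨a, ha, r, hr, y, rfl⟩, rfl⟩
    exact ⟨a, ha, r, hr, g * y, by simp [mul_assoc]⟩
  · rintro ⟨a, ha, r, hr, y, rfl⟩
    exact ⟨g⁻¹ * y * (a * r) * (g⁻¹ * y)⁻¹, ⟨a, ha, r, hr, g⁻¹ * y, rfl⟩, by simp [mul_assoc]⟩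

/-- The `Ã` of maximal subgroups that are not conjugate are disjoint. -/
theorem cfg14_tilde_disj (hF : Facts13 G) {M N : Subgroup G} (hM : IsCoatom M) (hN : IsCoatom N)
    (hnc : ∀ g : G, M.map (MulAut.conj g).toMonoidHom ≠ N) :
    Disjoint (Cfsg.tildeOf M (Cfsg.typeA1 M)) (Cfsg.tildeOf N (Cfsg.typeA1 N)) := by
  rw [Set.disjoint_iff_inter_eq_empty, Cfsg.typeA1, Cfsg.typeA1,
    typeCore_eq_sigmaCore hG hF.types hM, typeCore_eq_sigmaCore hG hF.types hN]
  exact (p1379 hG).1 M N hM hN fun g e => hnc g e.symm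

theorem cfg14_W₂_eq (hF : Facts13 G) (s : Side S W₁ U W₂) :
    Cfsg.sigmaCore S ⊓ centralizer (W₁ : Set G) = W₂ := by
  have h9 := s.hyp9
  obtain ⟨-, hFσ, hσd, -, -⟩ := hF.types.p1355 S s.max
  refine le_antisymm ?_ (le_inf (h9.W₂_le_H.trans hFσ) fun z hz => mem_centralizer_iff.mpr fun w hw =>
    h9.typeP.selfNormalizing.2.2.2.1 w hw z hz)
  obtain ⟨w, hw, hw1⟩ := (Subgroup.bot_or_exists_ne_one W₁).resolve_left h9.typeP.W₁_ne
  rintro z ⟨hz, hzc⟩
  refine (h9.typeP.W₂_centralizer w hw hw1).le ⟨hσd hz, ?_⟩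
  exact mem_centralizer_singleton_iff.mpr (mem_centralizer_iff.mp hzc w hw).symm

omit hG in
theorem cfg14_not_conj (hG : Cfsg.IsMinSimpleOddOrder G) (s : Side S W₁ U W₂) (t : Side T W₂ V W₁)
    (g : G) : S.map (MulAut.conj g).toMonoidHom ≠ T := by
  intro e
  have h1 : Nat.card (Cfsg.fittingHallOf T) = Nat.card (Cfsg.fittingHallOf S) := by
    rw [← e, show S.map (MulAut.conj g).toMonoidHom = TypeMap.im (MulAut.conj g) S from rfl,
      TypeMap.fittingHallOf_im, TypeMap.card_im]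
  rw [s.card_P, t.card_P] at h1
  refine s.ne ((Nat.prime_dvd_prime_iff_eq s.q_prime s.p_prime).mp (s.q_prime.dvd_of_dvd_pow (n := Nat.card W₁) ?_))
  rw [← h1]
  exact dvd_pow_self _ s.p_prime.ne_zero

/-- Every maximal subgroup is of type I or conjugate to one of the sides. -/
theorem cfg14_classes (hF : Facts13 G) (s : Side S W₁ U W₂) (t : Side T W₂ V W₁) {M : Subgroup G}
    (hM : IsCoatom M) : IsTypeI' M ∨ ∃ g : G, M = S.map (MulAut.conj g).toMonoidHom ∨
      M = T.map (MulAut.conj g).toMonoidHom := by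
  have hnI : ∀ {X Y Z W : Subgroup G}, Side X Y Z W → ¬ IsTypeI' X := fun {X Y Z W} x =>
    not_typeI_of_P hG hF.types x.max (x.type.imp id Or.inl)
  rcases p1385' hG with hall | ⟨-, -, S₀, T₀, -, hS₀, hT₀, -, -, -, -, -, -, hcl⟩
  · exact Or.inl (hall M hM)
  rcases hcl M hM with h | ⟨g, hg⟩
  · exact Or.inl h
  right
  obtain ⟨a, ha⟩ := (hcl S s.max).resolve_left (hnI s)
  obtain ⟨b, hb⟩ := (hcl T t.max).resolve_left (hnI t)
  have hinv : ∀ {X Y : Subgroup G} {x : G}, X = Y.map (MulAut.conj x).toMonoidHom →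
      ∀ {Z : Subgroup G} {z : G}, Z = Y.map (MulAut.conj z).toMonoidHom →
        Z = X.map (MulAut.conj (z * x⁻¹)).toMonoidHom := by
    intro X Y x hX Z z hZ
    rw [hZ, hX, show (Y.map (MulAut.conj x).toMonoidHom).map (MulAut.conj (z * x⁻¹)).toMonoidHom =
      Y.map (MulAut.conj (z * x⁻¹ * x)).toMonoidHom from Cfsg.Lib.Coprime.conjMap_mul _ x Y,
      inv_mul_cancel_right]
  rcases ha with ha | ha <;> rcases hb with hb | hb
  · exact absurd (hinv ha hb).symm (cfg14_not_conj hG s t _)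
  · rcases hg with hg | hg
    · exact ⟨_, Or.inl (hinv ha hg)⟩
    · exact ⟨_, Or.inr (hinv hb hg)⟩
  · rcases hg with hg | hg
    · exact ⟨_, Or.inr (hinv hb hg)⟩
    · exact ⟨_, Or.inl (hinv ha hg)⟩
  · exact absurd (hinv ha hb).symm (cfg14_not_conj hG s t _)

/-- On a side the `Ã` is the union of the conjugates of `M_s ∖ 1`. -/
theorem cfg14_side_tilde (hF : Facts13 G) (s : Side S W₁ U W₂) {g : G}
    (hg : g ∈ Cfsg.tildeOf S (Cfsg.typeA1 S)) :
    g ∈ pSet S ∨ (Cfsg.IsOfTypeIII S ∧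
      g ∈ dadeSupp ((Cfsg.typeCore S : Set G) \ (cutN S : Subgroup G)) (Cfsg.supportR S)) := by
  obtain ⟨a, ha, r, hr, y, rfl⟩ := hg
  have hr1 : r = 1 := by
    rw [s.R_eq_bot (typeA_subset_typeA0 S (typeA1_subset_typeA hG hF.types s.max ha))] at hr
    exact mem_bot.mp hr
  subst hr1
  rw [mul_one]
  have ha1 : a ≠ 1 := ha.2
  by_cases haP : a ∈ Cfsg.fittingHallOf S
  · exact Or.inl ⟨a, haP, ha1, isConj_iff.mpr ⟨y, rfl⟩⟩
  rcases s.type with hII | hIII
  · exact absurd (typeCore_of_I_II hG hF.types s.max (Or.inr hII) ▸ ha.1) haP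
  refine Or.inr ⟨hIII, a, ⟨ha.1, ?_⟩, 1, one_mem _, y⁻¹, by group⟩
  rw [cutN_side (not_typeI_of_P hG hF.types s.max (Or.inr (Or.inl hIII)))]
  exact haP

/-- The pieces cover with the sets of the sides, and stay away from them. -/
theorem exists_cfg14 (hF : Facts13 G) (h47 : P1547 G) (h : Hyp13 S T W₁ W₂ U V) :
    Nonempty (Cfg14 S T W₁ W₂ U V) := by
  classical
  have s : Side S W₁ U W₂ := h.side14 hG hF h47
  have t : Side T W₂ V W₁ := h.symm.side14 hG hF h47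
  have hnS : ¬ IsTypeI' S := not_typeI_of_P hG hF.types s.max (s.type.imp id Or.inl)
  have hnT : ¬ IsTypeI' T := not_typeI_of_P hG hF.types t.max (t.type.imp id Or.inl)
  -- representatives of the classes
  let St : Setoid (Subgroup G) :=
    { r := fun a b => ∃ g : G, a.map (MulAut.conj g).toMonoidHom = b
      iseqv :=
        { refl := fun a => ⟨1, Cfsg.Lib.Coprime.conjMap_one a⟩
          symm := fun {a b} => by
            rintro ⟨g, rfl⟩
            exact ⟨g⁻¹, Cfsg.Lib.Coprime.conjMap_inv_conjMap g a⟩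
          trans := fun {a b c} => by
            rintro ⟨g, rfl⟩ ⟨k, rfl⟩
            exact ⟨k * g, (Cfsg.Lib.Coprime.conjMap_mul k g a).symm⟩ } }
  let rep : Subgroup G → Subgroup G := fun M => (Quotient.mk St M).out
  have hrep : ∀ M, ∃ g : G, (rep M).map (MulAut.conj g).toMonoidHom = M := fun M =>
    Quotient.mk_out (s := St) M
  let R : Subgroup G → Prop := fun M => (IsCoatom M ∧ IsTypeI' M ∧ rep M = M) ∨
    (M = S ∧ Cfsg.IsOfTypeIII S) ∨ (M = T ∧ Cfsg.IsOfTypeIII T)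
  have hRmax : ∀ M, R M → IsCoatom M := by
    rintro M (⟨h', -, -⟩ | ⟨rfl, -⟩ | ⟨rfl, -⟩)
    exacts [h', s.max, t.max]
  have hI_map : ∀ {M : Subgroup G} (g : G), IsTypeI' (M.map (MulAut.conj g).toMonoidHom) ↔ IsTypeI' M :=
    fun {M} g => TypeMap.typeI'_iff (MulAut.conj g) (M := M)
  have hnc : ∀ M N, R M → R N → M ≠ N → ∀ g : G, M.map (MulAut.conj g).toMonoidHom ≠ N := by
    intro M N hM hN hne g hg
    rcases hM with ⟨-, hMI, hMr⟩ | ⟨eM, -⟩ | ⟨eM, -⟩ <;>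
      rcases hN with ⟨-, hNI, hNr⟩ | ⟨eN, -⟩ | ⟨eN, -⟩
    · refine hne ?_
      rw [← hMr, ← hNr]
      show (Quotient.mk St M).out = (Quotient.mk St N).out
      rw [Quotient.sound (s := St) ⟨g, hg⟩]
    · exact hnS ((eN ▸ hg) ▸ (hI_map g).mpr hMI)
    · exact hnT ((eN ▸ hg) ▸ (hI_map g).mpr hMI)
    · exact hnS ((hI_map g).mp ((eM ▸ hg).symm ▸ hNI))
    · exact hne (eM.trans eN.symm)
    · exact cfg14_not_conj hG s t g (by rw [← eM, ← eN]; exact hg)
    · exact hnT ((hI_map g).mp ((eM ▸ hg).symm ▸ hNI))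
    · exact cfg14_not_conj hG t s g (by rw [← eM, ← eN]; exact hg)
    · exact hne (eM.trans eN.symm)
  have hex : ∀ i : {M // R M}, ∃ P : Piece G,
      P.L = i.1 ∧ P.K = Cfsg.typeCore i.1 ∧ P.N = cutN i.1 := by
    rintro ⟨M, hM, hMI, -⟩
    · exact cfg14_pieceI hG hF hM hMI
    · exact (by
        rename_i hM
        rcases hM with ⟨rfl, hIII⟩ | ⟨rfl, hIII⟩
        · exact cfg14_pieceIII hG hF s hIII
        · exact cfg14_pieceIII hG hF t hIII)
  choose P hPL hPK hPN using hex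
  have hsupp : ∀ i, (P i).supp =
      dadeSupp ((Cfsg.typeCore i.1 : Set G) \ (cutN i.1 : Subgroup G)) (Cfsg.supportR i.1) := fun i => by
    rw [Piece.supp, hPL, hPK, hPN]
  have hsub : ∀ i, (P i).supp ⊆ Cfsg.tildeOf i.1 (Cfsg.typeA1 i.1) := by
    intro i g hg
    rw [hsupp, dadeSupp_eq_tilde] at hg
    obtain ⟨a, ha, r, hr, y, rfl⟩ := hg
    exact ⟨a, ⟨ha.1, fun e => ha.2 (by rw [Set.mem_singleton_iff.mp e]; exact one_mem _)⟩, r, hr, y, rfl⟩
  -- a side against a piece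
  have hdisjP : ∀ {X A B C : Subgroup G}, Side X A C B → (X = S ∨ X = T) →
      ∀ i, Disjoint (P i).supp (pSet X) := by
    intro X A B C x hX i
    by_cases hi : i.1 = X
    · rw [Set.disjoint_left]
      rintro g hg ⟨z, hz, hz1, hc⟩
      rw [hsupp, hi, cutN_side (not_typeI_of_P hG hF.types x.max (x.type.imp id Or.inl))] at hg
      obtain ⟨a, ⟨ha, hna⟩, r, hr, v, he⟩ := hg
      have ha1 : a ≠ 1 := fun e => hna (e ▸ one_mem (Cfsg.fittingHallOf X))
      have haA : a ∈ typeA0' X :=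
        typeA_subset_typeA0 X (typeA1_subset_typeA hG hF.types x.max ⟨ha, ha1⟩)
      rw [x.R_eq_bot haA, mem_bot] at hr
      rw [hr, mul_one] at he
      obtain ⟨c, hc⟩ := isConj_iff.mp hc
      have hza : (v * c) * z * (v * c)⁻¹ = a := by rw [← he, ← hc]; group
      obtain ⟨m, hm, hme⟩ := (x.dade hG).fusion z (x.P_sub_A₀ hG hz hz1) (v * c) (hza.symm ▸ haA)
      rw [hza] at hme
      exact hna (hme ▸ (mem_normalizer_iff.mp (x.hyp9.M_le_normalizer_H hm) z).mp hz)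
    · refine Set.disjoint_of_subset (hsub i) ?_
        (cfg14_tilde_disj hG hF (hRmax i.1 i.2) x.max ?_)
      · rintro g ⟨z, hz, hz1, hc⟩
        obtain ⟨c, rfl⟩ := isConj_iff.mp hc
        obtain ⟨-, hFσ, -⟩ := hF.types.p1355 X x.max
        exact ⟨z, ⟨typeCore_eq_sigmaCore hG hF.types x.max ▸ hFσ hz, hz1⟩, 1, one_mem _, c, by group⟩
      · intro g hg
        have hnX : ¬ IsTypeI' X := not_typeI_of_P hG hF.types x.max (x.type.imp id Or.inl)
        rcases i.2 with ⟨-, hI, -⟩ | ⟨e, -⟩ | ⟨e, -⟩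
        · exact hnX (hg ▸ (hI_map g).mpr hI)
        · rcases hX with rfl | rfl
          · exact hi e
          · exact cfg14_not_conj hG s t g (e ▸ hg)
        · rcases hX with rfl | rfl
          · exact cfg14_not_conj hG t s g (e ▸ hg)
          · exact hi e
  -- the decomposition of `S`
  obtain ⟨K₀, U₀, hd⟩ := exists_decomposition hG s.max
  have hK₀ : K₀ ≠ ⊥ := Cfsg.Lib.OddLocal.RankTwoMax.kappa_of_typeP hG s.max hd s.dataP
  obtain ⟨hK₀c, -⟩ := Cfsg.Lib.OddLocal.RankTwoMax.derived_kappa_compl hG s.max hd hK₀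
  have h9 := s.hyp9
  have hcardK : Nat.card K₀ = Nat.card W₁ := Nat.eq_of_mul_eq_mul_left Nat.card_pos
    ((card_complIn hK₀c h9.M_le_normalizer_derived).symm.trans
      (card_complIn s.dataP.W₁_compl h9.M_le_normalizer_derived))
  obtain ⟨m, hm, hme⟩ := Cfsg.Lib.Coprime.exists_conj_eq_of_coprime
    (h9.W₁_le.trans h9.M_le_normalizer_derived)
    (by rw [h9.card_derived]
        exact (h9.coprime_H_UW.coprime_dvd_right (dvd_mul_left _ _)).mul_left h9.coprime_U_W)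
    (Or.inl (hG.2.2.2 _ fun e => s.max.1 (top_le_iff.mp (e ▸ Subgroup.commutator_le_self S))))
    (K := K₀) (hK₀c.2.1.trans fun x hx => by
      obtain ⟨a, ha, b, hb, rfl⟩ := s.dataP.W₁_compl.2.2.2 x hx
      exact mul_mem_sup ha hb) hcardK
  have hmS : m ∈ S := Subgroup.commutator_le_self S hm
  set mc := (MulAut.conj m).toMonoidHom with hmc
  have hfix : Cfsg.sigmaCore S ⊓ centralizer (K₀ : Set G) = W₂.map mc := by
    rw [← cfg14_W₂_eq hG hF s, hme]
    show _ = TypeMap.im (MulAut.conj m) (Cfsg.sigmaCore S ⊓ centralizer (W₁ : Set G))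
    rw [TypeMap.im_inf, TypeMap.im_centralizer']
    congr 1
    rw [← typeCore_eq_sigmaCore hG hF.types s.max, ← TypeMap.typeCore_im, conj_im_eq hmS]
  have hcover3 := (p1379 hG).2.2 S K₀ U₀ s.max hd hK₀
  have hhat : ∀ z : G, (z ∈ ((↑(K₀ ⊔ (Cfsg.sigmaCore S ⊓ centralizer (K₀ : Set G))) : Set G) \
      ((K₀ : Set G) ∪ ↑(Cfsg.sigmaCore S ⊓ centralizer (K₀ : Set G))))) ↔
      ∃ w ∈ W₁ ⊔ W₂, w ∉ W₁ ∧ w ∉ W₂ ∧ m * w * m⁻¹ = z := by
    intro z
    have hW : ∀ X : Subgroup G, z ∈ X.map mc ↔ m⁻¹ * z * m ∈ X := fun X => by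
      rw [hmc, Subgroup.mem_map_equiv]
      simp [MulAut.conj_symm_apply]
    have hmeK : K₀ = W₁.map mc := hme
    rw [Set.mem_sdiff, Set.mem_union, SetLike.mem_coe, SetLike.mem_coe, SetLike.mem_coe, hfix, hmeK,
      ← Subgroup.map_sup, hW, hW, hW]
    constructor
    · rintro ⟨h1, h2⟩
      push Not at h2
      exact ⟨_, h1, h2.1, h2.2, by group⟩
    · rintro ⟨w, h1, h2, h3, rfl⟩
      rw [show m⁻¹ * (m * w * m⁻¹) * m = w by group]
      exact ⟨h1, not_or.mpr ⟨h2, h3⟩⟩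
  have hdisjW : ∀ i, Disjoint (P i).supp (hatSet W₁ W₂) := by
    intro i
    rw [Set.disjoint_left]
    rintro g hg ⟨w, hw, hw1, hw2, hc⟩
    obtain ⟨c, rfl⟩ := isConj_iff.mp hc
    have hg' := hsub i hg
    rw [Cfsg.typeA1, typeCore_eq_sigmaCore hG hF.types (hRmax i.1 i.2)] at hg'
    refine hcover3.2 i.1 (hRmax i.1 i.2) (c * m⁻¹) (m * w * m⁻¹)
      ((hhat _).mpr ⟨w, hw, hw1, hw2, rfl⟩) ?_
    rwa [show c * m⁻¹ * (m * w * m⁻¹) * (c * m⁻¹)⁻¹ = c * w * c⁻¹ by group]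
  have hRrep : ∀ {M : Subgroup G}, IsCoatom M → IsTypeI' M → R (rep M) := by
    intro M hM hI
    obtain ⟨g, hg⟩ := hrep M
    have h1 : IsCoatom (rep M) := (TypeMap.coatom_im (MulAut.conj g)).mp
      (show IsCoatom ((rep M).map (MulAut.conj g).toMonoidHom) by rw [hg]; exact hM)
    have h2 : IsTypeI' (rep M) := (hI_map g).mp (by rw [hg]; exact hI)
    refine Or.inl ⟨h1, h2, ?_⟩
    show (Quotient.mk St (rep M)).out = (Quotient.mk St M).out
    rw [Quotient.sound (s := St) ⟨g, hg⟩]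
  have hside : ∀ {X A B C : Subgroup G}, Side X A C B → (Cfsg.IsOfTypeIII X → R X) →
      ∀ g ∈ Cfsg.tildeOf X (Cfsg.typeA1 X), g ∈ pSet X ∨ ∃ i, g ∈ (P i).supp := by
    intro X A B C x hR' g hg
    rcases cfg14_side_tilde hG hF x hg with hg' | ⟨hIII, hg'⟩
    · exact Or.inl hg'
    · exact Or.inr ⟨⟨X, hR' hIII⟩, (hsupp ⟨X, hR' hIII⟩).symm ▸ hg'⟩
  refine ⟨⟨{M // R M}, Fintype.ofFinite _, P, s, t, ?_, hdisjP s (Or.inl rfl), hdisjP t (Or.inr rfl),
    hdisjW, ?_, ?_, ?_, ?_⟩⟩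
  · intro i j hij
    exact Set.disjoint_of_subset (hsub i) (hsub j) (cfg14_tilde_disj hG hF (hRmax i.1 i.2)
      (hRmax j.1 j.2) (hnc i.1 j.1 i.2 j.2 fun e => hij (Subtype.ext e)))
  · intro g hg1
    rcases hcover3.1 g hg1 with ⟨N, hN, hgN⟩ | ⟨y, z, hz, rfl⟩
    · rw [← typeCore_eq_sigmaCore hG hF.types hN] at hgN
      change g ∈ Cfsg.tildeOf N (Cfsg.typeA1 N) at hgN
      rcases cfg14_classes hG hF s t hN with hI | ⟨k, rfl | rfl⟩
      · obtain ⟨k, hk⟩ := hrep N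
        rw [← hk, cfg14_tilde_conj k (rep N)] at hgN
        refine Or.inr (Or.inr (Or.inr ⟨⟨rep N, hRrep hN hI⟩, ?_⟩))
        obtain ⟨h1, h2, -⟩ | ⟨e, -⟩ | ⟨e, -⟩ := hRrep hN hI
        · rw [hsupp, cutN, if_pos h2, coe_bot, dadeSupp_eq_tilde]
          exact hgN
        · exact absurd ((hI_map k).mp (hk.symm ▸ hI)) (e ▸ hnS)
        · exact absurd ((hI_map k).mp (hk.symm ▸ hI)) (e ▸ hnT)
      · rw [cfg14_tilde_conj] at hgN
        rcases hside s (fun hh => Or.inr (Or.inl ⟨rfl, hh⟩)) g hgN with h' | h'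
        exacts [Or.inl h', Or.inr (Or.inr (Or.inr h'))]
      · rw [cfg14_tilde_conj] at hgN
        rcases hside t (fun hh => Or.inr (Or.inr ⟨rfl, hh⟩)) g hgN with h' | h'
        exacts [Or.inr (Or.inl h'), Or.inr (Or.inr (Or.inr h'))]
    · obtain ⟨w, hw, hw1, hw2, rfl⟩ := (hhat z).mp hz
      exact Or.inr (Or.inr (Or.inl ⟨w, hw, hw1, hw2, isConj_iff.mpr ⟨y * m, by group⟩⟩))
  · intro M hM hI
    obtain ⟨g, hg⟩ := hrep M
    have hI' : IsTypeI' (rep M) := (hI_map g).mp (by rw [hg]; exact hI)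
    have hM' : IsCoatom (rep M) := (TypeMap.coatom_im (MulAut.conj g)).mp
      (show IsCoatom ((rep M).map (MulAut.conj g).toMonoidHom) by rw [hg]; exact hM)
    refine ⟨⟨rep M, hRrep hM hI⟩, ⟨g⁻¹, ?_⟩, ?_, ?_⟩
    · rw [hPL]
      conv_rhs => rw [← hg]
      exact (Cfsg.Lib.Coprime.conjMap_inv_conjMap g (rep M)).symm
    · rw [hPK, hPL]
      exact typeCore_of_I_II hG hF.types hM' (Or.inl hI')
    · rw [hPN, cutN, if_pos hI']
  · intro hIII
    refine ⟨⟨S, Or.inr (Or.inl ⟨rfl, hIII⟩)⟩, ?_⟩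
    exact cfg14_piece_eh hG hF s hIII _ (hPL _) (hPK _) (hPN _)
  · intro hIII
    refine ⟨⟨T, Or.inr (Or.inr ⟨rfl, hIII⟩)⟩, ?_⟩
    exact cfg14_piece_eh hG hF t hIII _ (hPL _) (hPK _) (hPN _)

end Cfsg.Agent.PF
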