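import Cfsg.Agent.OddChar.PF.S14Side

/-!
# Section 14: the column sums are induced from `P`

A non-trivial linear character of `P` fixed by `W₁` has trivial stabiliser in `U`; inducing it
to `M` gives the column sums `μ_j`, all signs are `1` and every `μ_ij` has degree `|U|`.
-/

set_option linter.style.haveILetI false
set_option linter.unusedSectionVars false
set_option linter.unusedVariables false
set_option autoImplicit false

universe u

namespace Cfsg.Agent.PF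

open Cfsg.Lib.Chars Cfsg.Lib.CyclicTI Cfsg.Lib.Dual
open Subgroup
open scoped ComplexConjugate

variable {G : Type u} [Group G] [Fintype G] {M W₁ U W₂ : Subgroup G}

/-- The translate of a linear character of `P` by an element of `M`. -/
noncomputable def twist (g : M) (f : ↥(Cfsg.fittingHall ↥M) →* ℂˣ) :
    ↥(Cfsg.fittingHall ↥M) →* ℂˣ :=
  f.comp (MulAut.conjNormal (H := Cfsg.fittingHall ↥M) g).toMonoidHom

theorem ev_twist (g : M) (f : ↥(Cfsg.fittingHall ↥M) →* ℂˣ) :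
    ev (twist g f) = conjN (Cfsg.fittingHall ↥M) g (ev f) := rfl

theorem twist_mul (a b : M) (f : ↥(Cfsg.fittingHall ↥M) →* ℂˣ) :
    twist (a * b) f = twist b (twist a f) :=
  ev_injective (by simp only [ev_twist]; exact conjN_mul _ a b _)

theorem twist_one (f : ↥(Cfsg.fittingHall ↥M) →* ℂˣ) : twist (1 : M) f = f :=
  ev_injective (by rw [ev_twist]; exact conjN_one _ _)

theorem twist_eq_iff (g : M) (f : ↥(Cfsg.fittingHall ↥M) →* ℂˣ) :
    twist g f = f ↔ conjN (Cfsg.fittingHall ↥M) g (ev f) = ev f :=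
  ⟨fun h => by rw [← ev_twist, h], fun h => ev_injective (by rw [ev_twist]; exact h)⟩

/-- The subgroup of `M` fixing a linear character of `P`. -/
noncomputable def stabHom (f : ↥(Cfsg.fittingHall ↥M) →* ℂˣ) : Subgroup M where
  carrier := {g | twist g f = f}
  one_mem' := twist_one f
  mul_mem' := fun {a b} ha hb => by
    show twist (a * b) f = f
    rw [twist_mul, show twist a f = f from ha]; exact hb
  inv_mem' := fun {a} ha => by
    show twist a⁻¹ f = f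
    conv_lhs => rw [← show twist a f = f from ha]
    rw [← twist_mul, mul_inv_cancel, twist_one]

/-- Fixed by `W₁`. -/
def IsFixed (W₁ : Subgroup G) (f : ↥(Cfsg.fittingHall ↥M) →* ℂˣ) : Prop :=
  ∀ w : M, (w : G) ∈ W₁ → twist w f = f

/-- The character of `M` induced by a linear character of `P`. -/
noncomputable def indP [Fintype M] (f : ↥(Cfsg.fittingHall ↥M) →* ℂˣ) : ↥M → ℂ :=
  Cfsg.indFun (Cfsg.fittingHall ↥M) (ev f)

namespace Side

variable (s : Side M W₁ U W₂)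
include s

theorem comm_P : IsMulCommutative ↥(Cfsg.fittingHall ↥M) := ⟨⟨fun a b => by
  refine Subtype.ext (Subtype.ext ?_)
  simpa using congrArg Subtype.val (s.elem.1.is_comm.comm
    (⟨((a : M) : G), mem_fittingHall_iff.mp a.2⟩ : ↥(Cfsg.fittingHallOf M))
    ⟨((b : M) : G), mem_fittingHall_iff.mp b.2⟩)⟩⟩

theorem card_Pm : Nat.card ↥(Cfsg.fittingHall ↥M) = Nat.card W₂ ^ Nat.card W₁ := by
  rw [← s.card_P]
  exact (Subgroup.card_map_of_injective M.subtype_injective).symm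

theorem pow_Pm (x : ↥(Cfsg.fittingHall ↥M)) : x ^ Nat.card W₂ = 1 :=
  Subtype.ext (Subtype.ext (by
    simpa using s.elem.2 _ (mem_fittingHall_iff.mp x.2)))

theorem twist_of_P {g : M} (hg : g ∈ Cfsg.fittingHall ↥M) (f : ↥(Cfsg.fittingHall ↥M) →* ℂˣ) :
    twist g f = f := by
  haveI := s.comm_P
  exact (twist_eq_iff g f).mpr
    (conjN_of_mem (isClassFunction_isChar (isCharacter_of_irr (isIrr_ev f))) ⟨g, hg⟩)

theorem mem_W₂_of_fixed {x : M} (hx : x ∈ Cfsg.fittingHall ↥M)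
    (h : ∀ w : M, (w : G) ∈ W₁ → w * x * w⁻¹ = x) : (x : G) ∈ W₂ := by
  rw [← s.hyp9.H_inf_centralizer]
  refine ⟨mem_fittingHall_iff.mp hx, mem_centralizer_iff.mpr fun w hw => ?_⟩
  exact mul_inv_eq_iff_eq_mul.mp (congrArg Subtype.val (h ⟨w, s.hyp9.W₁_le hw⟩ hw))

theorem conj_W₂ {x : M} (hx : (x : G) ∈ W₂) {w : M} (hw : (w : G) ∈ W₁) : w * x * w⁻¹ = x :=
  Subtype.ext (by
    show (w : G) * x * (w : G)⁻¹ = x
    rw [s.dataP.selfNormalizing.2.2.2.1 w hw x hx, mul_inv_cancel_right])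

/-- A non-trivial fixed character is not trivial on `W₂`. -/
theorem fixed_ne_one_on_W₂ {f : ↥(Cfsg.fittingHall ↥M) →* ℂˣ} (hf : IsFixed W₁ f) (h1 : f ≠ 1) :
    ∃ x : ↥(Cfsg.fittingHall ↥M), ((x : M) : G) ∈ W₂ ∧ f x ≠ 1 := by
  obtain ⟨z, hz⟩ : ∃ z, f z ≠ 1 := by
    by_contra hc; push Not at hc; exact h1 (MonoidHom.ext hc)
  obtain ⟨y, hy1, hy2, -⟩ := exists_average _ s.comm_P (W₁.subgroupOf M) z
  refine ⟨y, s.mem_W₂_of_fixed y.2 fun w hw => hy1 w (mem_subgroupOf.mpr hw), fun h => hz ?_⟩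
  rw [hy2 f fun w hw x => DFunLike.congr_fun (hf w (mem_subgroupOf.mp hw)) x,
    Nat.card_congr (subgroupOfEquivOfLe s.hyp9.W₁_le).toEquiv] at h
  have hp : f z ^ Nat.card W₂ = 1 := by rw [← map_pow, s.pow_Pm, map_one]
  exact (pow_eq_one_iff_of_coprime
    ((Nat.coprime_primes s.q_prime s.p_prime).mpr s.ne) |>.mp) ⟨h, hp⟩

/-- A non-trivial fixed character has trivial stabiliser in `U`. -/
theorem stab_U {f : ↥(Cfsg.fittingHall ↥M) →* ℂˣ} (hf : IsFixed W₁ f) (h1 : f ≠ 1) {u : M}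
    (hu : (u : G) ∈ U) (h : twist u f = f) : u = 1 := by
  obtain ⟨x, hx2, hx⟩ := s.fixed_ne_one_on_W₂ hf h1
  set U0 : Subgroup M := stabHom f ⊓ U.subgroupOf M
  obtain ⟨y, hy1, hy2, hy3⟩ := exists_average _ s.comm_P U0 x
  have hn : ∀ w : M, (w : G) ∈ W₁ → w ∈ normalizer (U0 : Set M) := by
    intro w hw
    rw [mem_normalizer_iff]
    intro a
    have hwn : (w : G) ∈ normalizer (U : Set G) := s.hyp9.W₁_le_normalizer_U hw
    have hw' : w ∈ stabHom f := hf w hw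
    refine and_congr ⟨fun ha => (stabHom f).mul_mem ((stabHom f).mul_mem hw' ha) ((stabHom f).inv_mem hw'),
      fun ha => ?_⟩
      (mem_normalizer_iff.mp hwn (a : G))
    have := (stabHom f).mul_mem ((stabHom f).mul_mem ((stabHom f).inv_mem hw') ha) hw'
    simpa [mul_assoc] using this
  have hyW : ((y : M) : G) ∈ W₂ := s.mem_W₂_of_fixed y.2 fun w hw =>
    hy3 w (hn w hw) (Subtype.ext (by rw [MulAut.conjNormal_apply]; exact s.conj_W₂ hx2 hw))
  have hy : ((y : M) : G) ≠ 1 := by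
    intro e
    have e' : y = 1 := Subtype.ext (Subtype.ext e)
    have hfy := hy2 f fun a ha z => DFunLike.congr_fun ha.1 z
    rw [e', map_one] at hfy
    have hc : (Nat.card U0).Coprime (Nat.card W₂) := by
      refine Nat.Coprime.coprime_dvd_left ?_ (Nat.Coprime.coprime_dvd_right
        (dvd_pow_self (Nat.card W₂) s.q_prime.ne_zero)
        (s.card_P ▸ (Nat.Coprime.coprime_mul_right_right s.hyp9.coprime_H_UW).symm))
      rw [← Nat.card_congr (subgroupOfEquivOfLe s.hyp9.U_le).toEquiv]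
      exact Subgroup.card_dvd_of_le inf_le_right
    exact hx ((pow_eq_one_iff_of_coprime hc).mp ⟨hfy.symm, by rw [← map_pow, s.pow_Pm, map_one]⟩)
  haveI := Fact.mk s.p_prime
  have hgen : zpowers ((y : M) : G) = W₂ := by
    refine Subgroup.eq_of_le_of_card_ge (zpowers_le.mpr hyW) (le_of_eq ?_)
    rw [Nat.card_zpowers]
    exact (orderOf_eq_prime (orderOf_dvd_iff_pow_eq_one.mp
      (Subgroup.orderOf_dvd_natCard W₂ hyW)) hy).symm
  apply Subtype.ext
  refine Subgroup.mem_bot.mp (s.U_inf_cent_W₂ ▸ ⟨hu, ?_⟩)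
  rw [← hgen]
  refine mem_centralizer_iff.mpr ?_
  intro b hb
  obtain ⟨k, rfl⟩ := mem_zpowers_iff.mp hb
  have hc : Commute (u : G) ((y : M) : G) :=
    mul_inv_eq_iff_eq_mul.mp (congrArg Subtype.val (hy1 u ⟨h, mem_subgroupOf.mpr hu⟩))
  exact (hc.zpow_right k).eq.symm

theorem mem_derived_iff {g : M} : (g : G) ∈ ⁅M, M⁆ ↔
    ∃ a : M, a ∈ Cfsg.fittingHall ↥M ∧ ∃ u : M, (u : G) ∈ U ∧ g = a * u := by
  constructor
  · intro hg
    obtain ⟨a, ha, u, hu, he⟩ := s.dataP.U_compl.2.2.2 g hg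
    exact ⟨⟨a, s.hyp9.H_le ha⟩, mem_fittingHall_iff.mpr ha, ⟨u, s.hyp9.U_le hu⟩, hu, Subtype.ext he⟩
  · rintro ⟨a, ha, u, hu, rfl⟩
    exact mul_mem (s.hyp9.H_le_derived (mem_fittingHall_iff.mp ha)) (s.hyp9.U_le_derived hu)

theorem stab_derived {f : ↥(Cfsg.fittingHall ↥M) →* ℂˣ} (hf : IsFixed W₁ f) (h1 : f ≠ 1) {g : M}
    (hg : (g : G) ∈ ⁅M, M⁆) (h : twist g f = f) : g ∈ Cfsg.fittingHall ↥M := by
  obtain ⟨a, ha, u, hu, rfl⟩ := (s.mem_derived_iff).mp hg
  rw [twist_mul, s.twist_of_P ha] at h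
  rw [s.stab_U hf h1 hu h, mul_one]
  exact ha

theorem exists_decomp (g : M) :
    ∃ a : M, a ∈ Cfsg.fittingHall ↥M ∧ ∃ u : M, (u : G) ∈ U ∧ ∃ w : M, (w : G) ∈ W₁ ∧
      g = a * u * w := by
  obtain ⟨k, hk, w, hw, he⟩ := s.dataP.W₁_compl.2.2.2 (g : G) g.2
  have hk' : k ∈ M := Subgroup.commutator_le_self M hk
  obtain ⟨a, ha, u, hu, e⟩ := (s.mem_derived_iff (g := ⟨k, hk'⟩)).mp hk
  refine ⟨a, ha, u, hu, ⟨w, s.hyp9.W₁_le hw⟩, hw, Subtype.ext ?_⟩
  rw [he, ← show ((a * u : M) : G) = k from (congrArg Subtype.val e).symm]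
  rfl

/-- Fixed characters conjugate in `M` are equal. -/
theorem fixed_eq_of_twist {f f' : ↥(Cfsg.fittingHall ↥M) →* ℂˣ} (hf : IsFixed W₁ f)
    (h1 : f ≠ 1) (hf' : IsFixed W₁ f') {g : M} (h : twist g f = f') : f = f' := by
  obtain ⟨a, ha, u, hu, w, hw, rfl⟩ := s.exists_decomp g
  rw [twist_mul, twist_mul, s.twist_of_P ha] at h
  have hu' : twist u f = f' := by
    have hw' : w⁻¹ ∈ stabHom f' := inv_mem (hf' w hw)
    calc twist u f = twist w⁻¹ (twist w (twist u f)) := by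
          rw [← twist_mul w w⁻¹, mul_inv_cancel, twist_one]
      _ = f' := by rw [h]; exact hw'
  -- the commutator of `u` with a generator of `W₁` fixes `f`
  obtain ⟨v, hv, hv1⟩ := (Subgroup.bot_or_exists_ne_one W₁).resolve_left s.dataP.W₁_ne
  set x : M := ⟨v, s.hyp9.W₁_le hv⟩
  have e1 : twist (x * u * x⁻¹ * u⁻¹) f = f := by
    have hxf : twist x f = f := hf x hv
    have hxf' : twist x⁻¹ f' = f' := (stabHom f').inv_mem (x := x) (hf' x hv)
    have huf : twist u⁻¹ f' = f := by rw [← hu', ← twist_mul, mul_inv_cancel, twist_one]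
    rw [twist_mul, twist_mul, twist_mul, hxf, hu', hxf', huf]
  have hmem : ((x * u * x⁻¹ * u⁻¹ : M) : G) ∈ U :=
    mul_mem ((mem_normalizer_iff.mp (s.hyp9.W₁_le_normalizer_U hv) (u : G)).mp hu) (inv_mem hu)
  have e2 := congrArg Subtype.val (s.stab_U hf h1 hmem e1)
  have : (u : G) = 1 := s.hyp9.fpf' v hv hv1 u hu (mul_inv_eq_iff_eq_mul.mp (mul_inv_eq_one.mp e2))
  rw [show u = 1 from Subtype.ext this, twist_one] at hu'
  exact hu'

theorem hom_of_irr {θ : ↥(Cfsg.fittingHall ↥M) → ℂ} (hθ : Cfsg.IsIrrCharacter _ θ) :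
    ∃ f : ↥(Cfsg.fittingHall ↥M) →* ℂˣ, θ = ev f := by
  refine s09_exists_hom_of_derived hθ fun a b => congrArg θ ?_
  rw [s.comm_P.is_comm.comm a b, mul_inv_cancel_right, mul_inv_cancel]

theorem card_fixed :
    Nat.card {f : ↥(Cfsg.fittingHall ↥M) →* ℂˣ // IsFixed W₁ f} = Nat.card W₂ := by
  classical
  have := Fintype.ofFinite M
  haveI := s.hyp9.typeP.W₁_cyclic
  obtain ⟨g, hg⟩ := IsCyclic.exists_generator (α := W₁)
  set y : M := ⟨g, s.hyp9.W₁_le g.2⟩
  have hy1 : y ≠ 1 := by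
    intro e
    have : g = 1 := Subtype.ext (congrArg Subtype.val e :)
    refine s.dataP.W₁_ne ((Subgroup.eq_bot_iff_forall _).mpr fun x hx => ?_)
    obtain ⟨k, hk⟩ := hg ⟨x, hx⟩
    simp only [this, one_zpow] at hk
    exact (congrArg Subtype.val hk).symm
  have hfix : ∀ f : ↥(Cfsg.fittingHall ↥M) →* ℂˣ, IsFixed W₁ f ↔
      conjN (Cfsg.fittingHall ↥M) y (ev f) = ev f := by
    intro f
    rw [← twist_eq_iff]
    refine ⟨fun h => h y g.2, fun h w hw => ?_⟩
    obtain ⟨k, hk⟩ := hg ⟨w, hw⟩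
    have hw' : w = y ^ k := Subtype.ext (by
      rw [SubgroupClass.coe_zpow]; exact (congrArg Subtype.val hk).symm)
    exact show w ∈ stabHom f from hw' ▸ zpow_mem (show y ∈ stabHom f from h) k
  have hW : Cfsg.fittingHall ↥M ⊓ centralizer ({y} : Set M) = W₂.subgroupOf M := by
    ext x
    rw [mem_inf, mem_subgroupOf, mem_centralizer_singleton_iff]
    constructor
    · rintro ⟨hx, hc⟩
      rw [← s.dataP.W₂_centralizer g g.2 (fun e => hy1 (Subtype.ext e))]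
      exact ⟨s.hyp9.H_le_derived (mem_fittingHall_iff.mp hx),
        mem_centralizer_singleton_iff.mpr (congrArg Subtype.val hc)⟩
    · intro hx
      exact ⟨mem_fittingHall_iff.mpr (s.hyp9.W₂_le_H hx),
        Subtype.ext (s.dataP.selfNormalizing.2.2.2.1 g g.2 x hx).symm⟩
  have hcop : (Nat.card ↥(Cfsg.fittingHall ↥M)).Coprime (orderOf y) := by
    have : orderOf y ∣ Nat.card W₁ := by
      rw [← Subgroup.orderOf_coe y]; exact Subgroup.orderOf_dvd_natCard W₁ g.2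
    refine Nat.Coprime.coprime_dvd_right this ?_
    rw [s.card_Pm, ← s.card_P]
    exact Nat.Coprime.coprime_mul_left_right s.hyp9.coprime_H_UW
  have hcard := s09_card_fixed_above (K := Cfsg.fittingHall ↥M) ⊥ (W₂.subgroupOf M) bot_le hcop hW
    fun a ha b hb => Subtype.ext (by simpa using congrArg Subtype.val (s.elem.1.is_comm.comm
      (⟨a, s.hyp9.W₂_le_H (mem_subgroupOf.mp ha)⟩ : ↥(Cfsg.fittingHallOf M))
      ⟨b, s.hyp9.W₂_le_H (mem_subgroupOf.mp hb)⟩))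
  rw [inf_bot_eq, Subgroup.card_bot, mul_one,
    Nat.card_congr (subgroupOfEquivOfLe (s.hyp9.W₂_le_H.trans s.hyp9.H_le)).toEquiv] at hcard
  rw [← hcard]
  refine Nat.card_congr (Equiv.ofBijective (fun f => ⟨⟨ev f.1, isIrr_ev _⟩, ?_, (hfix _).mp f.2⟩)
    ⟨fun a b h => Subtype.ext (ev_injective (congrArg (fun t => t.1.1) h :)), ?_⟩)
  · intro a ha
    have : a = 1 := Subtype.ext (Subgroup.mem_bot.mp ha)
    rw [this]
  · rintro ⟨⟨θ, hθ⟩, -, hθf⟩
    obtain ⟨f, rfl⟩ := s.hom_of_irr hθ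
    exact ⟨⟨f, (hfix f).mpr hθf⟩, rfl⟩

theorem twist_one_left (g : M) : twist g (1 : ↥(Cfsg.fittingHall ↥M) →* ℂˣ) = 1 :=
  MonoidHom.ext fun _ => rfl

variable [Fintype M]

theorem indP_off (f : ↥(Cfsg.fittingHall ↥M) →* ℂˣ) {l : M} (hl : l ∉ Cfsg.fittingHall ↥M) :
    indP f l = 0 := indFun_normal_not_mem _ _ hl

theorem index_Pm : (Cfsg.fittingHall ↥M).index = Nat.card U * Nat.card W₁ := by
  have h := (Cfsg.fittingHall ↥M).card_mul_index
  rw [s.card_Pm, s.card_M, mul_assoc] at h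
  exact Nat.eq_of_mul_eq_mul_left (pow_pos s.p_prime.pos _) h

theorem indP_one (f : ↥(Cfsg.fittingHall ↥M) →* ℂˣ) :
    indP f 1 = ((Nat.card U * Nat.card W₁ : ℕ) : ℂ) := by
  rw [indP, indFun_one, s.index_Pm, show ev f 1 = 1 by simp [ev], mul_one]

theorem inner_indP_indP (f f' : ↥(Cfsg.fittingHall ↥M) →* ℂˣ) :
    (Nat.card ↥(Cfsg.fittingHall ↥M) : ℂ) * Cfsg.classInner (indP f) (indP f') =
      (Nat.card {g : M // twist g f = f'} : ℂ) := by
  haveI := Fintype.ofFinite ↥(Cfsg.fittingHall ↥M)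
  have h := classInner_indFun_indFun (N := Cfsg.fittingHall ↥M) (ev f) (ev f')
  replace h := h.trans (sum_classInner_conjN (N := Cfsg.fittingHall ↥M) (isIrr_ev f) (isIrr_ev f'))
  refine h.trans (congrArg _ (Nat.card_congr (Equiv.subtypeEquivRight fun g => ?_)))
  exact ⟨fun e => ev_injective (by rw [ev_twist]; exact e), fun e => by rw [← ev_twist, e]⟩

theorem indP_not_irr {f : ↥(Cfsg.fittingHall ↥M) →* ℂˣ} (hf : IsFixed W₁ f) :
    ¬ Cfsg.IsIrrCharacter ↥M (indP f) := by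
  intro hirr
  have h := s.inner_indP_indP f f
  rw [classInner_irrChar hirr hirr, if_pos rfl, mul_one] at h
  have h' : Nat.card ↥(Cfsg.fittingHall ↥M) = Nat.card ↥(stabHom f) := Nat.cast_injective (R := ℂ) h
  have hle : Cfsg.fittingHall ↥M ≤ stabHom f := fun g hg => s.twist_of_P hg f
  obtain ⟨v, hv, hv1⟩ := (Subgroup.bot_or_exists_ne_one W₁).resolve_left s.dataP.W₁_ne
  have hm : (⟨v, s.hyp9.W₁_le hv⟩ : M) ∈ Cfsg.fittingHall ↥M :=
    (Subgroup.eq_of_le_of_card_ge hle h'.ge).ge (hf ⟨v, s.hyp9.W₁_le hv⟩ hv)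
  exact hv1 (Subgroup.mem_bot.mp (s.P_inf_W₁ ▸ ⟨mem_fittingHall_iff.mp hm, hv⟩))

end Side

end Cfsg.Agent.PF
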