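import Mathlib.Algebra.BigOperators.Ring.Finset
import Mathlib.Algebra.Order.BigOperators.Group.Finset
import Mathlib.Data.Fintype.BigOperators
import Mathlib.Tactic.Linarith
import Mathlib.Tactic.LinearCombination
import Mathlib.Tactic.IntervalCases
import Mathlib.Tactic.Ring

/-!
# Section 14: coefficient patterns

A row-additive array with one column one below the others, of square norm at most `|I| + 1`.
-/

set_option autoImplicit false

namespace Cfsg.Agent.PF

open Finset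

/-- One row of the array: `x` in column `1`, `x + A` in the special column, `x + A + 1` in the other
`p - 2` columns. -/
def rowNorm (p : ℕ) (A x : ℤ) : ℤ := x ^ 2 + (x + A) ^ 2 + ((p : ℤ) - 2) * (x + A + 1) ^ 2

theorem rowNorm_one_le {p : ℕ} (hp : 3 ≤ p) (A x : ℤ) : 1 ≤ rowNorm p A x := by
  unfold rowNorm
  have hp' : (1 : ℤ) ≤ (p : ℤ) - 2 := by omega
  by_cases h : x + A + 1 = 0
  · have h2 : 1 ≤ (x + A) ^ 2 := by nlinarith
    have := sq_nonneg x
    have := mul_nonneg (by omega : (0 : ℤ) ≤ (p : ℤ) - 2) (sq_nonneg (x + A + 1))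
    linarith
  · have h2 : 1 ≤ (x + A + 1) ^ 2 := by nlinarith [mul_self_pos.mpr h]
    have := sq_nonneg x
    have := sq_nonneg (x + A)
    nlinarith

theorem rowNorm_le_two {p : ℕ} (hp : 3 ≤ p) {A x : ℤ} (h : rowNorm p A x ≤ 2) :
    (x = 0 ∧ (A = -1 ∨ (A = 0 ∧ p ≤ 4))) ∨
      (rowNorm p A x = 2 ∧ ((A ≠ -1 ∧ A ≠ 0) ∨ (A = 0 ∧ (x = -1 ∨ 4 ≤ p)) ∨
        (A = -1 ∧ x = 1 ∧ p = 3))) := by
  unfold rowNorm at h ⊢
  have hp' : (1 : ℤ) ≤ (p : ℤ) - 2 := by omega
  have hx : -1 ≤ x ∧ x ≤ 1 := by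
    constructor <;> nlinarith [sq_nonneg (x + A),
      mul_nonneg (by omega : (0 : ℤ) ≤ (p : ℤ) - 2) (sq_nonneg (x + A + 1))]
  have hy : -2 ≤ x + A ∧ x + A ≤ 1 := by
    constructor <;> nlinarith [sq_nonneg x,
      mul_nonneg (by omega : (0 : ℤ) ≤ (p : ℤ) - 2) (sq_nonneg (x + A + 1))]
  obtain ⟨hy1, hy2⟩ := hy
  obtain ⟨hx1, hx2⟩ := hx
  have hA1 : -3 ≤ A := by omega
  have hA2 : A ≤ 2 := by omega
  interval_cases x <;> interval_cases A <;> norm_num at h ⊢ <;> omega

/-- The possible patterns. -/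
theorem row_pattern {I : Type*} [Fintype I] {p : ℕ} (hp : 3 ≤ p) (hodd : Odd p)
    (hI : 3 ≤ Fintype.card I) (x : I → ℤ) (A : ℤ) (o : I) (ho : x o = 0)
    (hsum : ∑ i, rowNorm p A (x i) ≤ (Fintype.card I : ℤ) + 1) :
    (A = -1 ∨ (A = 0 ∧ p = 3)) ∧
      ((∀ i, x i = 0) ∨ (p = 3 ∧ ∃ i₀, i₀ ≠ o ∧ x i₀ = -(2 * A + 1) ∧ ∀ i, i ≠ i₀ → x i = 0)) := by
  classical
  set e : I → ℤ := fun i => rowNorm p A (x i) - 1 with he
  have he0 : ∀ i, 0 ≤ e i := fun i => by have := rowNorm_one_le hp A (x i); simp only [he]; omega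
  have hes : ∑ i, e i ≤ 1 := by
    simp only [he, sum_sub_distrib, sum_const, card_univ, nsmul_eq_mul, mul_one]
    omega
  have hi : ∀ i, rowNorm p A (x i) ≤ 2 := fun i => by
    have h1 : e i ≤ 1 := (single_le_sum (fun j _ => he0 j) (mem_univ i)).trans hes
    simp only [he] at h1
    omega
  have hA : A = -1 ∨ (A = 0 ∧ p = 3) := by
    by_contra hc
    push Not at hc
    have h2 : ∀ i, rowNorm p A (x i) = 2 := fun i => by
      rcases rowNorm_le_two hp (hi i) with ⟨-, h | ⟨h, h'⟩⟩ | ⟨h, -⟩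
      · exact absurd h hc.1
      · have hp3 : p = 3 := by
          rcases hodd with ⟨k, hk⟩
          omega
        exact absurd hp3 (hc.2 h)
      · exact h
    have hs : ∑ i, rowNorm p A (x i) = 2 * (Fintype.card I : ℤ) := by
      rw [sum_congr rfl fun i _ => h2 i, sum_const, card_univ, nsmul_eq_mul]; ring
    rw [hs] at hsum
    omega
  refine ⟨hA, ?_⟩
  by_cases hall : ∀ i, x i = 0
  · exact Or.inl hall
  push Not at hall
  obtain ⟨i₀, hi₀⟩ := hall
  have hval : ∀ i, x i ≠ 0 → p = 3 ∧ x i = -(2 * A + 1) ∧ rowNorm p A (x i) = 2 := fun i hne => by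
    rcases rowNorm_le_two hp (hi i) with ⟨h, -⟩ | ⟨h, h' | ⟨h', h''⟩ | ⟨h', h'', h3⟩⟩
    · exact absurd h hne
    · rcases hA with hA | ⟨hA, -⟩
      · exact absurd hA h'.1
      · exact absurd hA h'.2
    · rcases hA with hA | ⟨-, hp3⟩
      · omega
      · exact ⟨hp3, by rcases h'' with h'' | h'' <;> omega, h⟩
    · exact ⟨h3, by omega, h⟩
  obtain ⟨hp3, hx, hn⟩ := hval i₀ hi₀
  refine Or.inr ⟨hp3, i₀, fun e => hi₀ (e ▸ ho), hx, fun i hne => ?_⟩
  by_contra hxi
  obtain ⟨-, -, hn'⟩ := hval i hxi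
  have h1 : e i + e i₀ ≤ ∑ j, e j := by
    rw [← sum_pair hne]
    exact sum_le_sum_of_subset_of_nonneg (subset_univ _) fun j _ _ => he0 j
  simp only [he] at h1 hes
  omega

/-- The sum of the products of opposite entries for a pattern with one exceptional row. -/
theorem exceptional_sum {I : Type*} [Fintype I] [DecidableEq I] (inv : I → I)
    (hinv : Function.Involutive inv) (A : ℤ) (hA : A = -1 ∨ A = 0) (i₀ : I) (h₀ : inv i₀ ≠ i₀) :
    let x : I → ℤ := fun i => if i = i₀ then -(2 * A + 1) else 0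
    ∑ i, (x i * x (inv i) + (x i + A) * (x (inv i) + A + 1) + (x i + A + 1) * (x (inv i) + A)) =
      -2 := by
  intro x
  have h1 : ∀ i, x i * x (inv i) + (x i + A) * (x (inv i) + A + 1) +
      (x i + A + 1) * (x (inv i) + A) = (2 * A + 1) * (x i + x (inv i)) := by
    intro i
    have h0 : x i * x (inv i) = 0 := by
      by_cases h : i = i₀
      · subst h; simp [x, h₀]
      · simp [x, h]
    rcases hA with rfl | rfl <;> linear_combination 3 * h0
  have hx : ∑ i, x i = -(2 * A + 1) := by simp [x]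
  have hx' : ∑ i, x (inv i) = -(2 * A + 1) := by
    rw [← hx]
    exact Equiv.sum_comp hinv.toPerm x
  rw [sum_congr rfl fun i _ => h1 i, ← mul_sum, sum_add_distrib, hx, hx']
  rcases hA with rfl | rfl <;> norm_num

end Cfsg.Agent.PF
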