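import Cfsg.Agent.OddChar.PF.S14Alpha
import Cfsg.Agent.OddLocal.KappaCounting
import Cfsg.Agent.Chars.TI

/-!
# Section 14: the mass of a class function on a set, and the sizes of the two fixed sets
-/

set_option linter.style.haveILetI false
set_option linter.unusedSectionVars false
set_option linter.unusedVariables false
set_option autoImplicit false

universe u

namespace Cfsg.Agent.PF

open Cfsg.Lib.Chars Cfsg.Lib.CyclicTI Cfsg.Lib.Dual
open Subgroup

variable {G : Type u} [Group G] [Fintype G]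

/-- The mass of `X` on `A`. -/
noncomputable def mass (X : G → ℂ) (A : Set G) : ℝ :=
  (Nat.card G : ℝ)⁻¹ * ∑ g, A.indicator (fun g => ‖X g‖ ^ 2) g

theorem mass_nonneg (X : G → ℂ) (A : Set G) : 0 ≤ mass X A :=
  mul_nonneg (inv_nonneg.mpr (Nat.cast_nonneg _))
    (Finset.sum_nonneg fun g _ => Set.indicator_nonneg (fun g _ => by positivity) g)

/-- The masses on disjoint sets add up to at most the norm. -/
theorem mass_sum_le {ι : Type*} (s : Finset ι) (S : ι → Set G)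
    (hdisj : (s : Set ι).PairwiseDisjoint S) (X : G → ℂ) :
    ∑ i ∈ s, mass X (S i) ≤ (Cfsg.classInner X X).re := by
  classical
  rw [classInner_self, Complex.ofReal_re]
  unfold mass
  rw [← Finset.mul_sum]
  refine mul_le_mul_of_nonneg_left ?_ (inv_nonneg.mpr (Nat.cast_nonneg _))
  rw [Finset.sum_comm]
  refine Finset.sum_le_sum fun g _ => ?_
  by_cases h : ∃ i ∈ s, g ∈ S i
  · obtain ⟨i, hi, hg⟩ := h
    rw [Finset.sum_eq_single i (fun j hj hne => Set.indicator_of_notMem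
      (fun hgj => Set.disjoint_left.mp (hdisj hj hi hne) hgj hg) _) (fun hn => absurd hi hn),
      Set.indicator_of_mem hg]
  · push Not at h
    rw [Finset.sum_eq_zero fun i hi => Set.indicator_of_notMem (h i hi) _]
    positivity

/-- A test function supported on `A` bounds the mass from below. -/
theorem sq_inner_le_mass {X φ : G → ℂ} {A : Set G} (hφ : ∀ g ∉ A, φ g = 0) {w : ℝ}
    (hw : (Cfsg.classInner φ φ).re ≤ w) :
    ‖Cfsg.classInner X φ‖ ^ 2 ≤ mass X A * w := by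
  classical
  rcases le_or_gt w 0 with hw0 | hw0
  · have h0 : φ = 0 := Cfsg.Lib.Coherence.eq_zero_of_inner_self_re (hw.trans hw0)
    have hw' : w = 0 := le_antisymm hw0 ((Cfsg.Lib.Coherence.inner_self_re_nonneg φ).trans hw)
    simp [h0, hw', classInner_zero_right]
  have h := mass_le (ι := Unit) {()} (A.indicator X) ∅ (fun _ => A.toFinset) (fun _ => φ)
    (by simp) (fun _ _ => Finset.disjoint_empty_left _)
    (fun _ _ g hg => hφ g (by simpa using hg)) (fun _ => w) (fun _ _ => hw) (fun _ _ => hw0)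
  rw [Finset.sum_empty, mul_zero, zero_add, Finset.sum_singleton, div_le_iff₀ hw0] at h
  have e1 : Cfsg.classInner (A.indicator X) φ = Cfsg.classInner X φ := by
    rw [classInner_def, classInner_def]
    congr 1
    refine Finset.sum_congr rfl fun g _ => ?_
    by_cases hg : g ∈ A
    · rw [Set.indicator_of_mem hg]
    · rw [hφ g hg]; simp
  have e2 : (Cfsg.classInner (A.indicator X) (A.indicator X)).re = mass X A := by
    rw [classInner_self, Complex.ofReal_re, mass]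
    congr 1
    refine Finset.sum_congr rfl fun g _ => ?_
    by_cases hg : g ∈ A
    · rw [Set.indicator_of_mem hg, Set.indicator_of_mem hg]
    · rw [Set.indicator_of_notMem hg, Set.indicator_of_notMem hg]; simp
  rwa [e1, e2] at h

/-- A function of constant absolute value on `A`. -/
theorem mass_of_norm {X : G → ℂ} {A : Set G} {c : ℝ} (h : ∀ g ∈ A, ‖X g‖ ^ 2 = c) :
    mass X A = c * ((Nat.card A : ℝ) / Nat.card G) := by
  classical
  unfold mass
  rw [show ∑ g, A.indicator (fun g => ‖X g‖ ^ 2) g = ∑ g, if g ∈ A then c else 0 from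
    Finset.sum_congr rfl fun g _ => by
      by_cases hg : g ∈ A
      · rw [Set.indicator_of_mem hg, if_pos hg, h g hg]
      · rw [Set.indicator_of_notMem hg, if_neg hg],
    ← Finset.sum_filter, Finset.sum_const, nsmul_eq_mul, ← Fintype.card_subtype,
    ← Nat.card_eq_fintype_card]
  change (Nat.card G : ℝ)⁻¹ * ((Nat.card A : ℝ) * c) = _
  ring

theorem mass_principal (A : Set G) :
    mass (fun _ : G => (1 : ℂ)) A = (Nat.card A : ℝ) / Nat.card G := by
  rw [mass_of_norm (c := 1) fun g _ => by simp, one_mul]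

/-- The size of the set of conjugates of a TI set. -/
theorem card_conj_div (H : Subgroup G) (T : Set G) (hn : ∀ h ∈ H, ∀ z ∈ T, h * z * h⁻¹ ∈ T)
    (hti : ∀ g : G, ∀ z ∈ T, g * z * g⁻¹ ∈ T → g ∈ H) {A : Set G}
    (hA : ∀ a, a ∈ A ↔ ∃ z ∈ T, IsConj z a) :
    (Nat.card A : ℝ) / Nat.card G = (Nat.card T : ℝ) / Nat.card H := by
  have e : A = {a : G | ∃ g : G, ∃ z ∈ T, a = g * z * g⁻¹} := by
    ext a
    rw [hA]
    exact ⟨fun ⟨z, hz, hc⟩ => (isConj_iff.mp hc).elim fun g hg => ⟨g, z, hz, hg.symm⟩,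
      fun ⟨g, z, hz, hg⟩ => ⟨z, hz, isConj_iff.mpr ⟨g, hg.symm⟩⟩⟩
  rw [Nat.card_coe_set_eq, Nat.card_coe_set_eq, e,
    Cfsg.Lib.OddLocal.RankTwoMax.ncard_conj_image H T hn hti, ← H.card_mul_index]
  have h1 : (Nat.card H : ℝ) ≠ 0 := Nat.cast_ne_zero.mpr Nat.card_pos.ne'
  have h2 : (H.index : ℝ) ≠ 0 := Nat.cast_ne_zero.mpr H.index_ne_zero_of_finite
  push_cast
  field_simp

variable {W₁ W₂ : Subgroup G}

theorem card_hat_base (hW : Cfsg.IsSelfNormalizingCyclic W₁ W₂) :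
    (Nat.card ↥((↑(W₁ ⊔ W₂) : Set G) \ (↑W₁ ∪ ↑W₂)) : ℝ) =
      ((Nat.card W₁ : ℝ) - 1) * ((Nat.card W₂ : ℝ) - 1) := by
  classical
  have hsub : ((W₁ : Set G) ∪ W₂) ⊆ (↑(W₁ ⊔ W₂) : Set G) :=
    Set.union_subset (SetLike.coe_subset_coe.mpr le_sup_left) (SetLike.coe_subset_coe.mpr le_sup_right)
  have hcard : Nat.card ↥(W₁ ⊔ W₂) = Nat.card W₁ * Nat.card W₂ := by
    rw [sup_comm, Cfsg.Lib.Coprime.card_sup_of_inf_eq_bot _ (inf_comm W₂ W₁ ▸ hW.2.2.1), mul_comm]
    intro a ha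
    rw [mem_normalizer_iff]
    intro b
    refine ⟨fun hb => ?_, fun hb => ?_⟩
    · rw [hW.2.2.2.1 a ha b hb, mul_inv_cancel_right]; exact hb
    · have h := hW.2.2.2.1 a ha _ hb
      have hb' : a * b * a⁻¹ = b := by
        have h' : a * (a * b * a⁻¹) = a * b := by rw [h]; group
        exact mul_left_cancel h'
      rwa [hb'] at hb
  have hint : ((W₁ : Set G) ∩ W₂) = {1} := by rw [← Subgroup.coe_inf, hW.2.2.1]; rfl
  have hu := Set.ncard_union_add_ncard_inter (W₁ : Set G) (W₂ : Set G)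
  rw [hint, Set.ncard_singleton] at hu
  have hd := Set.ncard_sdiff_add_ncard_of_subset hsub
  have hc : ∀ H : Subgroup G, (H : Set G).ncard = Nat.card H := fun H => (Nat.card_coe_set_eq _).symm
  rw [hc, hc] at hu
  rw [hc, hcard] at hd
  rw [Nat.card_coe_set_eq]
  have hu' : (((W₁ : Set G) ∪ W₂).ncard : ℝ) + 1 = Nat.card W₁ + Nat.card W₂ := by exact_mod_cast hu
  have hd' : (((↑(W₁ ⊔ W₂) : Set G) \ (↑W₁ ∪ ↑W₂)).ncard : ℝ) + (((W₁ : Set G) ∪ W₂).ncard : ℝ) =
      (Nat.card W₁ : ℝ) * Nat.card W₂ := by exact_mod_cast hd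
  linear_combination hd' - hu'

/-- `|Ŵ^G| / |G| = (q - 1)(p - 1) / (q p)`. -/
theorem card_hatSet (hW : Cfsg.IsSelfNormalizingCyclic W₁ W₂) :
    (Nat.card (hatSet W₁ W₂) : ℝ) / Nat.card G =
      ((Nat.card W₁ : ℝ) - 1) * ((Nat.card W₂ : ℝ) - 1) / ((Nat.card W₁ : ℝ) * Nat.card W₂) := by
  have hn : ∀ h ∈ W₁ ⊔ W₂, ∀ z ∈ ((↑(W₁ ⊔ W₂) : Set G) \ (↑W₁ ∪ ↑W₂)),
      h * z * h⁻¹ ∈ ((↑(W₁ ⊔ W₂) : Set G) \ (↑W₁ ∪ ↑W₂)) := fun h hh z hz => by
    have e : (⟨h, hh⟩ : ↥(W₁ ⊔ W₂)) * ⟨z, hz.1⟩ = ⟨z, hz.1⟩ * ⟨h, hh⟩ := comm hW _ _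
    rw [show h * z = z * h from congrArg Subtype.val e, mul_inv_cancel_right]; exact hz
  rw [card_conj_div (W₁ ⊔ W₂) _ hn (fun g z hz hgz => tiSet hW g z hz hgz) (fun a => ?_),
    card_hat_base hW]
  · congr 1
    have h2 : Nat.card ↥(W₁ ⊔ W₂) = Nat.card W₁ * Nat.card W₂ := by
      rw [← card_hom (A := ↥(W₁ ⊔ W₂)) (comm hW), ← Nat.card_congr (dualEquiv hW), Nat.card_prod,
        card_onFirst hW, card_onSecond hW]
    rw [h2]; push_cast; ring
  · exact ⟨fun ⟨w, h0, h1, h2, hc⟩ => ⟨w, ⟨h0, fun h => h.elim h1 h2⟩, hc⟩,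
      fun ⟨w, hw, hc⟩ => ⟨w, hw.1, fun h => hw.2 (Or.inl h), fun h => hw.2 (Or.inr h), hc⟩⟩

theorem Side.card_pSet {M U : Subgroup G} [Fintype M] (s : Side M W₁ U W₂)
    (hG : Cfsg.IsMinSimpleOddOrder G) :
    (Nat.card (pSet M) : ℝ) / Nat.card G =
      ((Nat.card W₂ : ℝ) ^ Nat.card W₁ - 1) /
        ((Nat.card W₂ : ℝ) ^ Nat.card W₁ * Nat.card U * Nat.card W₁) := by
  rw [card_conj_div M ((Cfsg.fittingHallOf M : Set G) \ {1}) (fun h hh z hz => ?_)
      (fun g z hz hgz => ?_) (fun a => ?_), s.card_M]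
  · congr 1
    · rw [Nat.card_coe_set_eq, Set.ncard_sdiff (Set.singleton_subset_iff.mpr (one_mem _)),
        Set.ncard_singleton, show (Cfsg.fittingHallOf M : Set G).ncard =
          Nat.card (Cfsg.fittingHallOf M) from (Nat.card_coe_set_eq _).symm, s.card_P,
        Nat.cast_sub (Nat.one_le_pow _ _ s.p_prime.pos)]
      push_cast; ring
    · push_cast; ring
  · refine ⟨s09_conj_mem (s.hyp9.M_le_normalizer_H hh) hz.1, fun h1 => hz.2 ?_⟩
    simpa using h1
  · obtain ⟨m, hm, he⟩ := (s.dade hG).fusion z (s.P_sub_A₀ hG hz.1 (by simpa using hz.2)) g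
      (s.P_sub_A₀ hG hgz.1 (by simpa using hgz.2))
    have hc : m⁻¹ * g ∈ centralizer ({z} : Set G) := by
      rw [mem_centralizer_singleton_iff]
      calc m⁻¹ * g * z = m⁻¹ * (g * z * g⁻¹) * g := by group
        _ = m⁻¹ * (m * z * m⁻¹) * g := by rw [he]
        _ = z * (m⁻¹ * g) := by group
    simpa using mul_mem hm (s.cent_le z (s.P_sub_A₀ hG hz.1 (by simpa using hz.2)) hc)
  · exact ⟨fun ⟨x, hx, h1, hc⟩ => ⟨x, ⟨hx, by simpa using h1⟩, hc⟩,
      fun ⟨x, hx, hc⟩ => ⟨x, hx.1, by simpa using hx.2, hc⟩⟩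

end Cfsg.Agent.PF
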