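import Cfsg.Agent.OddChar.PF.S14Reg
import Cfsg.Agent.OddChar.PF.S14MassBasic

/-!
# Section 14: the mass on the conjugates of `P`

A function constant on the non-trivial linear characters of `P` outside one orbit, where it differs
by a unit, has mass at least `|O| (1 - |O| / (p ^ q - 1)) / (|U| |W₁|)` on the conjugates of `P`.
-/

set_option linter.style.haveILetI false
set_option linter.unusedSectionVars false
set_option linter.unusedVariables false
set_option autoImplicit false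

universe u

namespace Cfsg.Agent.PF

open Cfsg.Lib.Chars Cfsg.Lib.CyclicTI Cfsg.Lib.Dual
open Cfsg.Lib.Coherence (inner_int)
open Subgroup
open scoped ComplexConjugate

variable {G : Type u} [Group G] [Fintype G] {M W₁ U W₂ : Subgroup G} [Fintype M]

/-- The coefficient of the restriction of `X` at a linear character of `P`. -/
noncomputable def coefP (X : G → ℂ) (f : ↥(Cfsg.fittingHall ↥M) →* ℂˣ) : ℂ :=
  haveI := Fintype.ofFinite ↥(Cfsg.fittingHall ↥M)
  Cfsg.classInner (fun x : ↥(Cfsg.fittingHall ↥M) => X ((x : M) : G)) (ev f)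

theorem restrict_class {X : G → ℂ} (hX : Cfsg.IsClassFunction G X) :
    Cfsg.IsClassFunction ↥M (fun x : M => X x) := fun x y => hX x y

theorem coefP_def (X : G → ℂ) (f : ↥(Cfsg.fittingHall ↥M) →* ℂˣ)
    [inst : Fintype ↥(Cfsg.fittingHall ↥M)] :
    coefP X f = Cfsg.classInner (fun x : ↥(Cfsg.fittingHall ↥M) => X ((x : M) : G)) (ev f) := by
  unfold coefP
  congr!

theorem coefP_eq_inner {X : G → ℂ} (hX : Cfsg.IsClassFunction G X)
    (f : ↥(Cfsg.fittingHall ↥M) →* ℂˣ) :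
    coefP X f = Cfsg.classInner (fun x : M => X x) (indP f) := by
  letI := Fintype.ofFinite ↥(Cfsg.fittingHall ↥M)
  unfold coefP indP
  exact (frobenius_reciprocity' _ _ (restrict_class hX)).symm

theorem signed_class {χ : G → ℂ} (h : IsSignedIrr G χ) : Cfsg.IsClassFunction G χ :=
  isClassFunction_generalized h.generalized

namespace Side

variable (s : Side M W₁ U W₂) (hG : Cfsg.IsMinSimpleOddOrder G)
include s hG

theorem inner_tau_diff {X : G → ℂ} (hX : Cfsg.IsClassFunction G X)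
    (f f' : ↥(Cfsg.fittingHall ↥M) →* ℂˣ) :
    Cfsg.classInner X (tauM M (indP f - indP f')) = coefP X f - coefP X f' := by
  rw [← classInner_conj_symm, s.inner_good hG (s.good_indP_sub hG f f') hX, classInner_conj_symm,
    classInner_sub_right, coefP_eq_inner hX, coefP_eq_inner hX]

/-- The mass given by an orbit. -/
theorem mass_orbit {X : G → ℂ} (hX : Cfsg.IsClassFunction G X)
    [Fintype (↥(Cfsg.fittingHall ↥M) →* ℂˣ)] [DecidableEq (↥M → ℂ)]
    {f₀ : ↥(Cfsg.fittingHall ↥M) →* ℂˣ} (hf₀ : f₀ ≠ 1) {c d : ℂ} (hd : ‖d‖ = 1)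
    (hin : ∀ f, f ≠ 1 → indP f = indP f₀ → coefP X f = c + d)
    (hout : ∀ f, f ≠ 1 → indP f ≠ indP f₀ → coefP X f = c) :
    ((Finset.univ.filter fun f => indP f = indP f₀).card : ℝ) *
        (1 - ((Finset.univ.filter fun f => indP f = indP f₀).card : ℝ) /
          ((Nat.card W₂ : ℝ) ^ Nat.card W₁ - 1)) /
        ((Nat.card U : ℝ) * Nat.card W₁) ≤ mass X (pSet M) := by
  classical
  haveI := Fintype.ofFinite ↥(Cfsg.fittingHall ↥M)
  set O := Finset.univ.filter fun f => indP f = indP f₀ with hO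
  set O₁ := Finset.univ.filter fun f : ↥(Cfsg.fittingHall ↥M) →* ℂˣ => f ≠ 1 with hO₁
  set N : ℝ := (Nat.card W₂ : ℝ) ^ Nat.card W₁ - 1 with hN
  have h1O : ∀ f ∈ O, f ≠ 1 := by
    intro f hf e
    have h := (Finset.mem_filter.mp hf).2
    rw [e] at h
    obtain ⟨g, hg⟩ := s09_conj_of_indFun_eq (isIrr_ev _) (isIrr_ev _) h
    exact hf₀ (ev_injective (by rw [← hg, ← ev_twist, s.twist_one_left]))
  have hcardN : (O₁.card : ℝ) = N := by
    rw [hO₁, Finset.filter_ne', Finset.card_erase_of_mem (Finset.mem_univ _), Finset.card_univ,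
      ← Nat.card_eq_fintype_card, card_hom (fun a b => s.comm_P.is_comm.comm a b), s.card_Pm,
      Nat.cast_sub (Nat.one_le_pow _ _ s.p_prime.pos), hN]
    push_cast; ring
  have hN0 : 0 < N := by
    rw [hN, sub_pos]
    exact one_lt_pow₀ (by exact_mod_cast s.p_prime.one_lt) s.q_prime.ne_zero
  have hsub : O ⊆ O₁ := fun f hf => Finset.mem_filter.mpr ⟨Finset.mem_univ _, h1O f hf⟩
  set k : ℝ := (O.card : ℝ) with hk
  set t : ↥(Cfsg.fittingHall ↥M) → ℂ :=
    (∑ f ∈ O, ev f) - ((k / N : ℝ) : ℂ) • ∑ f ∈ O₁, ev f with ht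
  have hev1 : ∀ f : ↥(Cfsg.fittingHall ↥M) →* ℂˣ, ev f 1 = 1 := fun f => by simp [ev]
  have ht1 : t 1 = 0 := by
    simp only [ht, Pi.sub_apply, Finset.sum_apply, Pi.smul_apply, smul_eq_mul, hev1,
      Finset.sum_const, nsmul_eq_mul, mul_one]
    have e : ((k / N : ℝ) : ℂ) * (O₁.card : ℂ) = (O.card : ℂ) := by
      rw [← Complex.ofReal_natCast, ← Complex.ofReal_natCast, ← Complex.ofReal_mul, hcardN, hk,
        div_mul_cancel₀ _ hN0.ne']
    rw [e, sub_self]
  -- inner products of the test function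
  have hsum : ∀ (A B : Finset (↥(Cfsg.fittingHall ↥M) →* ℂˣ)),
      Cfsg.classInner (∑ f ∈ A, ev f) (∑ f ∈ B, ev f) = ((A ∩ B).card : ℂ) := fun A B => by
    rw [classInner_sum_left, Finset.card_eq_sum_ones (A ∩ B), Nat.cast_sum, Nat.cast_one,
      ← Finset.sum_filter_add_sum_filter_not A (fun f => f ∈ B), Finset.filter_mem_eq_inter]
    rw [Finset.sum_eq_zero (s := A.filter fun f => ¬ f ∈ B) fun f hf => ?_, add_zero]
    · refine Finset.sum_congr rfl fun f hf => ?_
      rw [classInner_sum_right, Finset.sum_eq_single f, classInner_ev, if_pos rfl]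
      · intro b _ hb; rw [classInner_ev, if_neg (Ne.symm hb)]
      · exact fun h => absurd (Finset.mem_inter.mp hf).2 h
    · rw [classInner_sum_right]
      refine Finset.sum_eq_zero fun b hb => ?_
      rw [classInner_ev, if_neg]
      intro e; exact (Finset.mem_filter.mp hf).2 (e ▸ hb)
  have htt : Cfsg.classInner t t = ((k * (1 - k / N) : ℝ) : ℂ) := by
    rw [ht, classInner_sub_left, classInner_sub_right, classInner_sub_right, classInner_smul_left,
      classInner_smul_right, classInner_smul_left, classInner_smul_right, hsum, hsum, hsum, hsum,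
      Finset.inter_self, Finset.inter_self, Finset.inter_eq_left.mpr hsub, Finset.inter_eq_right.mpr hsub,
      Complex.conj_ofReal, ← Complex.ofReal_natCast, ← Complex.ofReal_natCast, ← hk, hcardN]
    norm_cast
    field_simp
    ring
  have htX : Cfsg.classInner (fun x : ↥(Cfsg.fittingHall ↥M) => X ((x : M) : G)) t =
      ((k * (1 - k / N) : ℝ) : ℂ) * d := by
    have hO' : ∀ f ∈ O, coefP X f = c + d := fun f hf =>
      hin f (h1O f hf) (Finset.mem_filter.mp hf).2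
    have hall : ∀ f ∈ O₁, coefP X f = c + (if f ∈ O then d else 0) := fun f hf => by
      by_cases h : f ∈ O
      · rw [if_pos h, hO' f h]
      · rw [if_neg h, add_zero]
        exact hout f (Finset.mem_filter.mp hf).2 fun e =>
          h (Finset.mem_filter.mpr ⟨Finset.mem_univ _, e⟩)
    have e : ∀ A : Finset (↥(Cfsg.fittingHall ↥M) →* ℂˣ),
        Cfsg.classInner (fun x : ↥(Cfsg.fittingHall ↥M) => X ((x : M) : G)) (∑ f ∈ A, ev f) =
          ∑ f ∈ A, coefP X f := fun A => by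
      rw [classInner_sum_right]
      exact Finset.sum_congr rfl fun f _ => (coefP_def X f).symm
    rw [ht, classInner_sub_right, classInner_smul_right, e, e, Finset.sum_congr rfl hO',
      Finset.sum_congr rfl hall]
    simp only [Finset.sum_add_distrib]
    rw [Finset.sum_const, Finset.sum_const, Finset.sum_const, ← Finset.sum_filter, Finset.filter_mem_eq_inter, Finset.inter_eq_right.mpr hsub,
      Finset.sum_const, Complex.conj_ofReal, nsmul_eq_mul, nsmul_eq_mul, nsmul_eq_mul,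
      ← Complex.ofReal_natCast, ← Complex.ofReal_natCast, ← hk, hcardN]
    have hNC : (N : ℂ) ≠ 0 := Complex.ofReal_ne_zero.mpr hN0.ne'
    push_cast
    field_simp
    ring
  -- invariance
  have hinv : ∀ g : M, conjN (Cfsg.fittingHall ↥M) g t = t := by
    intro g
    have key : ∀ A : Finset (↥(Cfsg.fittingHall ↥M) →* ℂˣ), (∀ f ∈ A, twist g f ∈ A) →
        conjN (Cfsg.fittingHall ↥M) g (∑ f ∈ A, ev f) = ∑ f ∈ A, ev f := fun A hA => by
      have hinj : Set.InjOn (twist g) (A : Set (↥(Cfsg.fittingHall ↥M) →* ℂˣ)) := by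
        intro a _ b _ hab
        rw [← twist_one a, ← twist_one b, ← mul_inv_cancel g, twist_mul, twist_mul, hab]
      have himg : A.image (twist g) = A :=
        Finset.eq_of_subset_of_card_le (Finset.image_subset_iff.mpr hA)
          (by rw [Finset.card_image_of_injOn hinj])
      conv_rhs => rw [← himg, Finset.sum_image hinj]
      funext x
      simp only [conjN_eq_comp, Finset.sum_apply]
      rfl
    have kO := key O fun f hf => Finset.mem_filter.mpr ⟨Finset.mem_univ _, by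
      rw [indP, ev_twist, indFun_conjN]; exact (Finset.mem_filter.mp hf).2⟩
    have kO₁ := key O₁ fun f hf => Finset.mem_filter.mpr ⟨Finset.mem_univ _, fun e =>
      (Finset.mem_filter.mp hf).2 (by
        rw [← twist_one f, ← mul_inv_cancel g, twist_mul, e, s.twist_one_left])⟩
    funext x
    have e1 := congrFun kO x
    have e2 := congrFun kO₁ x
    simp only [conjN_eq_comp, ht, Pi.sub_apply, Pi.smul_apply] at e1 e2 ⊢
    rw [e1, e2]
  -- the function of `M` and its image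
  set F : ↥M → ℂ := Cfsg.indFun (Cfsg.fittingHall ↥M) t with hF
  have hFc : Cfsg.IsClassFunction ↥M F := isClassFunction_indFun _ _
  have hF1 : F 1 = 0 := by rw [hF, indFun_one, ht1, mul_zero]
  have hFoff : ∀ l : M, l ∉ Cfsg.fittingHall ↥M → F l = 0 := fun l hl => indFun_normal_not_mem _ _ hl
  have hFg := s.good_of_P hG hFc hF1 hFoff
  have hXF : Cfsg.classInner X (tauM M F) = ((k * (1 - k / N) : ℝ) : ℂ) * d := by
    rw [← classInner_conj_symm, s.inner_good hG hFg hX, classInner_conj_symm, hF,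
      frobenius_reciprocity' _ _ (restrict_class hX)]
    exact htX
  have hFF : (Cfsg.classInner (tauM M F) (tauM M F)).re =
      (Nat.card U : ℝ) * Nat.card W₁ * (k * (1 - k / N)) := by
    have h := classInner_indFun_indFun (N := Cfsg.fittingHall ↥M) t t
    rw [Finset.sum_congr rfl fun g _ => by rw [hinv g], Finset.sum_const, Finset.card_univ,
      nsmul_eq_mul, htt, ← Nat.card_eq_fintype_card, s.card_M, s.card_Pm] at h
    have hp : ((Nat.card W₂ ^ Nat.card W₁ : ℕ) : ℂ) ≠ 0 :=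
      Nat.cast_ne_zero.mpr (pow_pos s.p_prime.pos _).ne'
    have h' : Cfsg.classInner F F =
        (((Nat.card U : ℝ) * Nat.card W₁ * (k * (1 - k / N)) : ℝ) : ℂ) := by
      refine mul_left_cancel₀ hp (h.trans ?_)
      push_cast; ring
    rw [s.inner_good_good hG hFg hFg, h', Complex.ofReal_re]
  have hk0 : 0 < k := by
    rw [hk, Nat.cast_pos, Finset.card_pos]
    exact ⟨f₀, Finset.mem_filter.mpr ⟨Finset.mem_univ _, rfl⟩⟩
  have hkN : k ≤ N := by rw [hk, ← hcardN]; exact_mod_cast Finset.card_le_card hsub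
  have h := sq_inner_le_mass (X := X) (fun g hg => s.tau_P_off hG hFc hF1 hFoff hg) hFF.le
  have ha : 0 ≤ k * (1 - k / N) :=
    mul_nonneg hk0.le (sub_nonneg.mpr ((div_le_one hN0).mpr hkN))
  rw [hXF, norm_mul, hd, mul_one, Complex.norm_real, Real.norm_of_nonneg ha] at h
  have hU : 0 < (Nat.card U : ℝ) * Nat.card W₁ :=
    mul_pos (Nat.cast_pos.mpr Nat.card_pos) (Nat.cast_pos.mpr Nat.card_pos)
  rcases ha.eq_or_lt with h0 | h0
  · rw [← h0, zero_div]; exact mass_nonneg _ _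
  · rw [div_le_iff₀ hU]
    refine le_of_mul_le_mul_left ?_ h0
    nlinarith [h]

variable (hfree : FreeOn U (Cfsg.fittingHallOf M))
  {μ : (↥(W₁ ⊔ W₂) →* ℂˣ) → (↥M → ℂ)} {δ : (↥(W₁ ⊔ W₂) →* ℂˣ) → ℂ}
  (hT : PrimeTIChars M ⁅M, M⁆ W₁ W₂ μ δ)
  {η : (↥(W₁ ⊔ W₂) →* ℂˣ) → (G → ℂ)} (hη : Cfsg.IsCyclicTIFamily W₁ W₂ η)
include hfree hT hη

/-- A regular character exists when `U W₁` is small. -/
theorem exists_regular
    (hlt : (Nat.card W₂ - 1) * Nat.card U < Nat.card W₂ ^ Nat.card W₁ - 1) :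
    ∃ f : ↥(Cfsg.fittingHall ↥M) →* ℂˣ, IsRegular f := by
  classical
  by_contra hno
  push Not at hno
  haveI := Fintype.ofFinite (↥(Cfsg.fittingHall ↥M) →* ℂˣ)
  haveI := Fintype.ofFinite {ψ : ↥(W₁ ⊔ W₂) →* ℂˣ // OnSecond ψ}
  have hsub : (Finset.univ.erase (1 : ↥(Cfsg.fittingHall ↥M) →* ℂˣ)) ⊆
      (Finset.univ.erase (⟨1, onSecond_one⟩ : {ψ : ↥(W₁ ⊔ W₂) →* ℂˣ // OnSecond ψ})).biUnion
        fun ψ => Finset.univ.filter fun f => indP f = redChar μ ψ.1 := by
    intro f hf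
    obtain ⟨ψ, hψ, hψ1, he⟩ :=
      (s.classify_hom hfree hG hT (Finset.mem_erase.mp hf).1).resolve_left (hno f)
    exact Finset.mem_biUnion.mpr ⟨⟨ψ, hψ⟩,
      Finset.mem_erase.mpr ⟨fun e => hψ1 (congrArg Subtype.val e), Finset.mem_univ _⟩,
      Finset.mem_filter.mpr ⟨Finset.mem_univ _, he⟩⟩
  have h := (Finset.card_le_card hsub).trans Finset.card_biUnion_le
  rw [Finset.card_erase_of_mem (Finset.mem_univ _), Finset.card_univ, ← Nat.card_eq_fintype_card,
    card_hom (fun a b => s.comm_P.is_comm.comm a b), s.card_Pm,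
    Finset.sum_congr rfl fun ψ hψ => s.orbit_card_red hG hT ψ.2
      fun e => (Finset.mem_erase.mp hψ).1 (Subtype.ext e),
    Finset.sum_const, Finset.card_erase_of_mem (Finset.mem_univ _), Finset.card_univ,
    ← Nat.card_eq_fintype_card, card_onSecond s.dataP.selfNormalizing, smul_eq_mul] at h
  omega

/-- The members of the first row are constant on `P ∖ 1`. -/
theorem first_const {φ₀ : ↥(W₁ ⊔ W₂) →* ℂˣ} (hφ₀ : OnFirst φ₀) (hφ₀1 : φ₀ ≠ 1) :
    ∃ c : ℤ, (Nat.card W₁ : ℤ) ∣ c - 1 ∧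
      ∀ x ∈ Cfsg.fittingHallOf M, x ≠ 1 → η φ₀ x = (c : ℂ) := by
  classical
  have hW := s.dataP.selfNormalizing
  haveI := Fintype.ofFinite ↥(Cfsg.fittingHall ↥M)
  haveI := Fintype.ofFinite (↥(Cfsg.fittingHall ↥M) →* ℂˣ)
  have hcl := signed_class (family_signed hη φ₀)
  obtain ⟨j, hj, hj1⟩ := (s.prime hG).exists_second
  obtain ⟨fj, -, hfj1, hej, -⟩ := s.exists_fixed hG hT hj hj1
  have hcol : ∀ ψ, OnSecond ψ → ψ ≠ 1 → Cfsg.classInner (η φ₀) (colSum η ψ) = 0 := by
    intro ψ hψ h1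
    have h := inner_eta_colSum hW hη hφ₀ onSecond_one hψ
    rw [hom_mul_one, if_neg (Ne.symm h1)] at h
    exact h
  have hconst : ∀ f : ↥(Cfsg.fittingHall ↥M) →* ℂˣ, f ≠ 1 → coefP (η φ₀) f = coefP (η φ₀) fj := by
    intro f hf1
    have h := s.inner_tau_diff hG hcl f fj
    refine sub_eq_zero.mp (h.symm.trans ?_)
    rcases s.classify_hom hfree hG hT hf1 with hreg | ⟨ψ, hψ, hψ1, he⟩
    · rw [← hej]
      obtain ⟨χ, hχ, ho, hpat | ⟨-, hpat⟩⟩ := s.reg_pattern hG hT hη hreg hj hj1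
      · rw [hpat, classInner_sub_right, ← classInner_conj_symm χ, ho, map_zero, hcol j hj hj1,
          sub_zero]
      · rw [hpat, classInner_add_right, ← classInner_conj_symm χ, ho, map_zero,
          hcol _ (onSecond_inv hj) fun e => hj1 (hom_inv_eq_one e), add_zero]
    · rw [he, ← hej, s.red_image hG hT hη hψ hψ1 hj hj1, classInner_sub_right, hcol ψ hψ hψ1,
        hcol j hj hj1, sub_zero]
  -- the value on `P ∖ 1`
  set cc : ℂ := coefP (η φ₀) 1 - coefP (η φ₀) fj with hcc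
  have hval : ∀ x ∈ Cfsg.fittingHallOf M, x ≠ 1 → η φ₀ x = cc := by
    intro x hx hx1
    set y : ↥(Cfsg.fittingHall ↥M) := ⟨⟨x, s.hyp9.H_le hx⟩, mem_fittingHall_iff.mpr hx⟩
    have hy1 : y ≠ 1 := fun e => hx1 (congrArg (fun z : ↥(Cfsg.fittingHall ↥M) => ((z : M) : G)) e)
    have hab := fun a b => s.comm_P.is_comm.comm a b
    have h := expand hab (fun z : ↥(Cfsg.fittingHall ↥M) => η φ₀ ((z : M) : G)) y
    have hzero : ∑ f : ↥(Cfsg.fittingHall ↥M) →* ℂˣ, ev f y = 0 := by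
      obtain ⟨g, hg⟩ := exists_hom_ne_one hab hy1
      have e : (g y : ℂ) * ∑ f : ↥(Cfsg.fittingHall ↥M) →* ℂˣ, ev f y =
          ∑ f : ↥(Cfsg.fittingHall ↥M) →* ℂˣ, ev f y := by
        rw [Finset.mul_sum]
        exact Fintype.sum_equiv (Equiv.mulLeft g) _ _ fun f => by simp [ev, MonoidHom.mul_apply]
      have hg' : (g y : ℂ) - 1 ≠ 0 := sub_ne_zero.mpr fun e' => hg (Units.ext e')
      exact (mul_eq_zero.mp (by linear_combination e :
        ((g y : ℂ) - 1) * ∑ f : ↥(Cfsg.fittingHall ↥M) →* ℂˣ, ev f y = 0)).resolve_left hg'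
    rw [← Finset.add_sum_erase _ _ (Finset.mem_univ (1 : ↥(Cfsg.fittingHall ↥M) →* ℂˣ))] at h hzero
    rw [Finset.sum_congr rfl fun f hf => by
      rw [← coefP_def (η φ₀) f,
        hconst f (Finset.mem_erase.mp hf).1], ← Finset.mul_sum] at h
    have e1 : ev (1 : ↥(Cfsg.fittingHall ↥M) →* ℂˣ) y = 1 := by simp [ev]
    rw [e1] at h hzero
    rw [show η φ₀ x = η φ₀ ((y : M) : G) from rfl, h, hcc,
      ← coefP_def (η φ₀) 1]
    linear_combination coefP (η φ₀) fj * hzero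
  -- integrality and the congruence
  obtain ⟨v, hv, hv1⟩ := (Subgroup.bot_or_exists_ne_one W₂).resolve_left hW.2.1
  have hford : orderOf φ₀ ∣ Nat.card W₁ := by
    refine orderOf_dvd_of_pow_eq_one (MonoidHom.ext fun w => ?_)
    have e : (φ₀ ^ Nat.card W₁ : ↥(W₁ ⊔ W₂) →* ℂˣ) w = φ₀ w ^ Nat.card W₁ := rfl
    obtain ⟨a, b, ha, hb, rfl⟩ := mem_sup hW w
    rw [e, map_mul, hφ₀ b hb, mul_one, ← map_pow, MonoidHom.one_apply,
      show a ^ Nat.card W₁ = 1 from Subtype.ext (Cfsg.Lib.Dade.pow_card_mem ha), map_one]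
  obtain ⟨z, hz⟩ := family_int hW (s.odd_W hG) hη φ₀ v (Nat.Coprime.coprime_dvd_right hford
    (Nat.Coprime.coprime_dvd_left (Subgroup.orderOf_dvd_natCard W₂ hv)
      ((Nat.coprime_primes s.p_prime s.q_prime).mpr (Ne.symm s.ne))))
  have hzc : cc = (z : ℂ) := (hval v (s.hyp9.W₂_le_H hv) hv1).symm.trans hz
  refine ⟨z, ?_, fun x hx hx1 => (hval x hx hx1).trans hzc⟩
  haveI := Fintype.ofFinite ↥(W₁ ⊔ W₂)
  set X : ↥(W₁ ⊔ W₂) → ℂ := fun w => η φ₀ (w : G) with hX
  have hXgen : Cfsg.IsGeneralizedCharacter ↥(W₁ ⊔ W₂) X :=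
    IsGeneralizedCharacter.comp_hom (family_signed hη φ₀).generalized (W₁ ⊔ W₂).subtype
  obtain ⟨m₁, hm₁⟩ := inner_int hXgen (IsSignedIrr.generalized (Or.inl (isIrr_ev (1 : ↥(W₁ ⊔ W₂) →* ℂˣ))))
  obtain ⟨m₂, hm₂⟩ := inner_int hXgen (IsSignedIrr.generalized (Or.inl (isIrr_ev j)))
  have hpt : ∀ w : ↥(W₁ ⊔ W₂), X w * conj ((ev (1 : ↥(W₁ ⊔ W₂) →* ℂˣ) - ev j : ↥(W₁ ⊔ W₂) → ℂ) w) =
      (ev φ₀ w + if (w : G) ∈ W₂ then (z : ℂ) - 1 else 0) * conj ((ev (1 : ↥(W₁ ⊔ W₂) →* ℂˣ) - ev j : ↥(W₁ ⊔ W₂) → ℂ) w) := by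
    intro w
    by_cases h1 : (w : G) ∈ W₁
    · simp [ev, hj w h1]
    by_cases h2 : (w : G) ∈ W₂
    · rw [if_pos h2, hX]
      by_cases hw : (w : G) = 1
      · exact absurd (hw ▸ one_mem W₁) h1
      · show η φ₀ (w : G) * _ = _
        rw [hval w (s.hyp9.W₂_le_H h2) hw, hzc, show ev φ₀ w = 1 by simp [ev, hφ₀ w h2]]
        ring
    · rw [if_neg h2, add_zero, hX]
      show η φ₀ (w : G) * _ = _
      rw [hη.eq_on φ₀ w h1 h2]
      rfl
  have hsumW₂ : ∑ w : ↥(W₁ ⊔ W₂), (if (w : G) ∈ W₂ then conj (ev j w) else 0) = 0 := by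
    obtain ⟨w₀, hw₀, hj₀⟩ : ∃ w₀ : ↥(W₁ ⊔ W₂), (w₀ : G) ∈ W₂ ∧ j w₀ ≠ 1 := by
      by_contra hc
      push Not at hc
      refine hj1 (MonoidHom.ext fun w => ?_)
      obtain ⟨a, b, ha, hb, rfl⟩ := mem_sup hW w
      rw [map_mul, hj a ha, hc b hb, one_mul, MonoidHom.one_apply]
    have e : conj (ev j w₀) * ∑ w : ↥(W₁ ⊔ W₂), (if (w : G) ∈ W₂ then conj (ev j w) else 0) =
        ∑ w : ↥(W₁ ⊔ W₂), (if (w : G) ∈ W₂ then conj (ev j w) else 0) := by
      rw [Finset.mul_sum]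
      refine Fintype.sum_equiv (Equiv.mulLeft w₀) _ _ fun w => ?_
      rw [Equiv.coe_mulLeft, mul_ite, mul_zero]
      refine if_congr (Subgroup.mul_mem_cancel_left W₂ hw₀).symm ?_ rfl
      simp [ev, map_mul]
    have hne : conj (ev j w₀) - 1 ≠ 0 := sub_ne_zero.mpr fun e' => hj₀ (Units.ext (by
      have := congrArg conj e'
      simpa [ev] using this))
    exact (mul_eq_zero.mp (by linear_combination e :
      (conj (ev j w₀) - 1) * ∑ w : ↥(W₁ ⊔ W₂),
        (if (w : G) ∈ W₂ then conj (ev j w) else 0) = 0)).resolve_left hne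
  have hcount : ∑ w : ↥(W₁ ⊔ W₂), (if (w : G) ∈ W₂ then (1 : ℂ) else 0) = Nat.card W₂ := by
    rw [Finset.sum_boole, ← Fintype.card_subtype, ← Nat.card_eq_fintype_card]
    exact congrArg Nat.cast (Nat.card_congr
      { toFun := fun w => ⟨w.1.1, w.2⟩, invFun := fun x => ⟨⟨x, mem_sup_right x.2⟩, x.2⟩,
        left_inv := fun _ => rfl, right_inv := fun _ => rfl })
  have hWcard : Nat.card ↥(W₁ ⊔ W₂) = Nat.card W₁ * Nat.card W₂ := by
    rw [← card_hom (A := ↥(W₁ ⊔ W₂)) (comm hW), ← Nat.card_congr (dualEquiv hW), Nat.card_prod,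
      card_onFirst hW, card_onSecond hW]
  have hmain : ((z : ℂ) - 1) = ((m₁ : ℂ) - m₂) * Nat.card W₁ := by
    have e : Cfsg.classInner X (ev 1 - ev j) = Cfsg.classInner (ev φ₀) (ev 1 - ev j) +
        (Nat.card ↥(W₁ ⊔ W₂) : ℂ)⁻¹ * (((z : ℂ) - 1) * Nat.card W₂) := by
      rw [classInner_def, classInner_def, ← mul_add]
      congr 1
      rw [Finset.sum_congr rfl fun w _ => hpt w]
      simp only [add_mul, Finset.sum_add_distrib]
      congr 1
      calc ∑ w : ↥(W₁ ⊔ W₂), (if (w : G) ∈ W₂ then (z : ℂ) - 1 else 0) * conj ((ev (1 : ↥(W₁ ⊔ W₂) →* ℂˣ) - ev j : ↥(W₁ ⊔ W₂) → ℂ) w)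
          = ((z : ℂ) - 1) * (∑ w : ↥(W₁ ⊔ W₂), (if (w : G) ∈ W₂ then (1 : ℂ) else 0) -
              ∑ w : ↥(W₁ ⊔ W₂), (if (w : G) ∈ W₂ then conj (ev j w) else 0)) := by
            rw [← Finset.sum_sub_distrib, Finset.mul_sum]
            refine Finset.sum_congr rfl fun w _ => ?_
            by_cases h : (w : G) ∈ W₂ <;> simp [h, ev]
        _ = _ := by rw [hcount, hsumW₂, sub_zero]
    have hne1 : φ₀ ≠ j := fun e' => hφ₀1 (by
      refine MonoidHom.ext fun w => ?_
      obtain ⟨a, b, ha, hb, rfl⟩ := mem_sup hW w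
      have e'' := DFunLike.congr_fun e' a
      rw [hj a ha] at e''
      rw [map_mul, e'', hφ₀ b hb, one_mul, MonoidHom.one_apply])
    rw [classInner_sub_right, classInner_sub_right, hm₁, hm₂, classInner_ev, classInner_ev,
      if_neg hφ₀1, if_neg hne1, sub_zero, zero_add, hWcard] at e
    have hp : (Nat.card W₂ : ℂ) ≠ 0 := Nat.cast_ne_zero.mpr Nat.card_pos.ne'
    have hq : (Nat.card W₁ : ℂ) ≠ 0 := Nat.cast_ne_zero.mpr Nat.card_pos.ne'
    rw [e]; push_cast; field_simp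
  exact ⟨m₁ - m₂, by
    have h : (((z - 1 : ℤ)) : ℂ) = (((Nat.card W₁ : ℤ) * (m₁ - m₂) : ℤ) : ℂ) := by
      push_cast; rw [hmain]; ring
    exact_mod_cast h⟩

/-- The mass of a member of the first column. -/
theorem second_mass {ψ₁ : ↥(W₁ ⊔ W₂) →* ℂˣ} (hψ : OnSecond ψ₁) (hψ1 : ψ₁ ≠ 1) :
    (1 - (Nat.card U : ℝ) / ((Nat.card W₂ : ℝ) ^ Nat.card W₁ - 1)) / Nat.card W₁ ≤
      mass (η ψ₁) (pSet M) := by
  classical
  have hW := s.dataP.selfNormalizing
  haveI := Fintype.ofFinite (↥(Cfsg.fittingHall ↥M) →* ℂˣ)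
  have hcl := signed_class (family_signed hη ψ₁)
  obtain ⟨fj, -, hfj1, hej, -⟩ := s.exists_fixed hG hT hψ hψ1
  have hjinv : ψ₁⁻¹ ≠ ψ₁ := hom_inv_ne (s.odd_W hG) hψ1
  have hjinv1 : ψ₁⁻¹ ≠ 1 := fun e => hψ1 (hom_inv_eq_one e)
  have hcol : ∀ ψ, OnSecond ψ → Cfsg.classInner (η ψ₁) (colSum η ψ) =
      if ψ₁ = ψ then 1 else 0 := fun ψ h => by
    have h' := inner_eta_colSum hW hη onFirst_one hψ h
    rwa [hom_one_mul] at h'
  have hred : ∀ ψ f, OnSecond ψ → ψ ≠ 1 → indP f = redChar μ ψ →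
      coefP (η ψ₁) f - coefP (η ψ₁) fj = (if ψ₁ = ψ then 1 else 0) - 1 := by
    intro ψ f hs h1 he
    rw [← s.inner_tau_diff hG hcl f fj, he, ← hej, s.red_image hG hT hη hs h1 hψ hψ1,
      classInner_sub_right, hcol ψ hs, hcol ψ₁ hψ, if_pos rfl]
  have fin : ∀ (ψ : ↥(W₁ ⊔ W₂) →* ℂˣ) (hs : OnSecond ψ) (h1 : ψ ≠ 1) (c d : ℂ), ‖d‖ = 1 →
      (∀ f, f ≠ 1 → indP f = redChar μ ψ → coefP (η ψ₁) f = c + d) →
      (∀ f, f ≠ 1 → indP f ≠ redChar μ ψ → coefP (η ψ₁) f = c) →
      (1 - (Nat.card U : ℝ) / ((Nat.card W₂ : ℝ) ^ Nat.card W₁ - 1)) / Nat.card W₁ ≤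
        mass (η ψ₁) (pSet M) := by
    intro ψ hs h1 c d hd hin hout
    obtain ⟨f₀, -, hf₀1, he, -⟩ := s.exists_fixed hG hT hs h1
    rw [he] at hin hout
    have h := s.mass_orbit hG hcl hf₀1 hd hin hout
    rw [show (Finset.univ.filter fun f => indP f = indP f₀).card = Nat.card U from by
      rw [← he]; exact s.orbit_card_red hG hT hs h1] at h
    refine le_trans (le_of_eq ?_) h
    have hU : (Nat.card U : ℝ) ≠ 0 := Nat.cast_ne_zero.mpr Nat.card_pos.ne'
    field_simp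
  by_cases hp2 : ∃ f : ↥(Cfsg.fittingHall ↥M) →* ℂˣ, ∃ χ : G → ℂ, IsRegular f ∧
      IsSignedIrr G χ ∧ (∀ ω, Cfsg.classInner χ (η ω) = 0) ∧ Nat.card W₂ = 3 ∧
      tauM M (indP f - redChar μ ψ₁) = χ + colSum η ψ₁⁻¹
  · -- the exceptional column is `ψ₁⁻¹`
    obtain ⟨f₁, χ₁, hf₁, hχ₁, ho₁, h3, hpat₁⟩ := hp2
    refine fin ψ₁⁻¹ (onSecond_inv hψ) hjinv1 (coefP (η ψ₁) fj) (-1) (by simp)
      (fun f hf he => ?_) fun f hf he => ?_
    · have h := hred _ f (onSecond_inv hψ) hjinv1 he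
      rw [if_neg hjinv.symm] at h
      linear_combination h
    · rcases s.classify_hom hfree hG hT hf with hreg | ⟨ψ, hs, h1, he'⟩
      · have h := s.inner_tau_diff hG hcl f fj
        rw [← hej] at h
        obtain ⟨χ, hχ, ho, hpat | ⟨-, hpat⟩⟩ := s.reg_pattern hG hT hη hreg hψ hψ1
        · exact absurd hpat₁ ((s.reg_compat hG hT hη hreg hf₁ hψ hψ1 hχ hχ₁ ho ho₁).1 hpat)
        · rw [hpat, classInner_add_right, ← classInner_conj_symm χ, ho, map_zero,
            hcol _ (onSecond_inv hψ), if_neg hjinv.symm, add_zero] at h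
          linear_combination -h
      · by_cases hψψ : ψ₁ = ψ
        · have h := hred ψ f hs h1 he'
          rw [if_pos hψψ] at h
          linear_combination h
        · exfalso
          refine he (he'.trans ?_)
          -- only three linear characters on `W₂`
          have hcard : ({ψ : ↥(W₁ ⊔ W₂) →* ℂˣ | OnSecond ψ}).ncard = 3 := by
            rw [← Nat.card_coe_set_eq]
            exact (card_onSecond hW).trans h3
          have hle : ({1, ψ₁, ψ₁⁻¹, ψ} : Set (↥(W₁ ⊔ W₂) →* ℂˣ)).ncard ≤ 3 := by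
            rw [← hcard]
            refine Set.ncard_le_ncard ?_ (Set.toFinite _)
            intro x hx
            simp only [Set.mem_insert_iff, Set.mem_singleton_iff] at hx
            rcases hx with rfl | rfl | rfl | rfl
            exacts [onSecond_one, hψ, onSecond_inv hψ, hs]
          by_contra hne
          have hne' : ψ₁⁻¹ ≠ ψ := fun e => hne (by rw [e])
          rw [Set.ncard_insert_of_notMem (by simp [hψ1.symm, hjinv1.symm, h1.symm]),
            Set.ncard_insert_of_notMem (by simp [hjinv.symm, hψψ]),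
            Set.ncard_pair hne'] at hle
          omega
  · refine fin ψ₁ hψ hψ1 (coefP (η ψ₁) fj - 1) 1 norm_one (fun f hf he => ?_)
      fun f hf he => ?_
    · have h := hred ψ₁ f hψ hψ1 he
      rw [if_pos rfl] at h
      linear_combination h
    · rcases s.classify_hom hfree hG hT hf with hreg | ⟨ψ, hs, h1, he'⟩
      · have h := s.inner_tau_diff hG hcl f fj
        rw [← hej] at h
        obtain ⟨χ, hχ, ho, hpat | ⟨h3, hpat⟩⟩ := s.reg_pattern hG hT hη hreg hψ hψ1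
        · rw [hpat, classInner_sub_right, ← classInner_conj_symm χ, ho, map_zero,
            hcol _ hψ, if_pos rfl] at h
          linear_combination -h
        · exact absurd ⟨f, χ, hreg, hχ, ho, h3, hpat⟩ hp2
      · have h := hred ψ f hs h1 he'
        rw [if_neg fun e : ψ₁ = ψ => he (he'.trans (by rw [e]))] at h
        linear_combination h

/-- The character of a regular orbit. -/
theorem exists_chi {f₀ : ↥(Cfsg.fittingHall ↥M) →* ℂˣ} (hf₀ : IsRegular f₀) :
    ∃ (χ : G → ℂ) (j : ↥(W₁ ⊔ W₂) →* ℂˣ) (ε : ℂ) (F : ↥M → ℂ),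
      IsSignedIrr G χ ∧ (∀ ω, Cfsg.classInner χ (η ω) = 0) ∧ OnSecond j ∧ j ≠ 1 ∧
      (ε = 1 ∨ ε = -1) ∧ GoodFun M W₁ F ∧ (∀ g ∉ pSet M, tauM M F g = 0) ∧
      tauM M F = χ + ε • colSum η j ∧
      1 - (Nat.card U : ℝ) * Nat.card W₁ / ((Nat.card W₂ : ℝ) ^ Nat.card W₁ - 1) ≤
        mass χ (pSet M) := by
  classical
  haveI := Fintype.ofFinite (↥(Cfsg.fittingHall ↥M) →* ℂˣ)
  obtain ⟨j, hj, hj1⟩ := (s.prime hG).exists_second
  obtain ⟨fj, -, hfj1, hej, -⟩ := s.exists_fixed hG hT hj hj1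
  obtain ⟨χ, hχ, ho, hpat⟩ := s.reg_pattern hG hT hη hf₀ hj hj1
  have hmass : 1 - (Nat.card U : ℝ) * Nat.card W₁ / ((Nat.card W₂ : ℝ) ^ Nat.card W₁ - 1) ≤
      mass χ (pSet M) := by
    have hcl := signed_class hχ
    have hzero : ∀ ψ, Cfsg.classInner χ (colSum η ψ) = 0 := fun ψ => by
      haveI := Fintype.ofFinite {φ : ↥(W₁ ⊔ W₂) →* ℂˣ // OnFirst φ}
      rw [colSum_eq, classInner_sum_right, Finset.sum_eq_zero fun φ _ => ho _]
    have hreg : ∀ f, IsRegular f → coefP χ f - coefP χ fj =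
        Cfsg.classInner (indP f₀) (indP f) := by
      intro f hf
      rw [← s.inner_tau_diff hG hcl f fj, ← hej]
      obtain ⟨χ', hχ', ho', hpat'⟩ := s.reg_pattern hG hT hη hf hj hj1
      obtain ⟨c1, c2, c3⟩ := s.reg_compat hG hT hη hf₀ hf hj hj1 hχ hχ' ho ho'
      rcases hpat with h | ⟨-, h⟩ <;> rcases hpat' with h' | ⟨-, h'⟩
      · rw [h', classInner_sub_right, hzero, sub_zero, c2 h h']
      · exact absurd h' (c1 h)
      · exact absurd h ((s.reg_compat hG hT hη hf hf₀ hj hj1 hχ' hχ ho' ho).1 h')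
      · rw [h', classInner_add_right, hzero, add_zero, c3 h h']
    have h := s.mass_orbit hG hcl hf₀.1 (c := coefP χ fj) (d := 1) norm_one (fun f hf he => ?_)
      fun f hf he => ?_
    · rw [s.orbit_card_regular hf₀] at h
      refine le_trans (le_of_eq ?_) h
      have hU : (Nat.card U : ℝ) * Nat.card W₁ ≠ 0 := mul_ne_zero
        (Nat.cast_ne_zero.mpr Nat.card_pos.ne') (Nat.cast_ne_zero.mpr Nat.card_pos.ne')
      push_cast
      field_simp
    · have hfr : IsRegular f := by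
        rcases s.classify_hom hfree hG hT hf with h | ⟨ψ, hs, h1, he'⟩
        · exact h
        · exact absurd (he.symm.trans he') (s.indP_ne_red hG hT hf₀ hs h1)
      have h := hreg f hfr
      rw [he, classInner_irrChar (s.regular_irr hf₀) (s.regular_irr hf₀), if_pos rfl] at h
      linear_combination h
    · rcases s.classify_hom hfree hG hT hf with hfr | ⟨ψ, hs, h1, he'⟩
      · have h := hreg f hfr
        rw [s.inner_indP_ne (Ne.symm he)] at h
        linear_combination h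
      · have h := s.inner_tau_diff hG hcl f fj
        rw [he', ← hej, s.red_image hG hT hη hs h1 hj hj1, classInner_sub_right, hzero, hzero,
          sub_zero] at h
        linear_combination -h
  have hgood : GoodFun M W₁ (indP f₀ - redChar μ j) := by rw [hej]; exact s.good_indP_sub hG _ _
  have hoff : ∀ g ∉ pSet M, tauM M (indP f₀ - redChar μ j) g = 0 := fun g hg => by
    rw [hej]; exact s.tau_indP_off hG _ _ hg
  rcases hpat with h | ⟨-, h⟩
  · exact ⟨χ, j, -1, _, hχ, ho, hj, hj1, Or.inr rfl, hgood, hoff,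
      by rw [h, neg_one_smul, sub_eq_add_neg], hmass⟩
  · exact ⟨χ, j⁻¹, 1, _, hχ, ho, onSecond_inv hj, fun e => hj1 (hom_inv_eq_one e), Or.inl rfl,
      hgood, hoff, by rw [h, one_smul], hmass⟩

end Side

end Cfsg.Agent.PF
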