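import Cfsg.Agent.OddChar.PF.S14Cfg
import Cfsg.Agent.OddChar.PF.S14Mass

/-!
# Section 14: linking the pieces with the two sides

The images of the members of the pieces are orthogonal to the family `η`; this gives the integral
coefficients `b`, `b'` of the `β` of each piece, its room inequality and the parity of the mutual
coefficients.
-/

set_option linter.style.haveILetI false
set_option linter.unusedSectionVars false
set_option linter.unusedVariables false
set_option autoImplicit false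

universe u

namespace Cfsg.Agent.PF

open Cfsg.Lib.Chars Cfsg.Lib.CyclicTI Cfsg.Lib.Dual
open Cfsg.Lib.Coherence (inner_int inner_self_re_nonneg comb project)
open Subgroup
open scoped ComplexConjugate

variable {G : Type u} [Group G] [Fintype G]

/-- Bessel's inequality. -/
theorem bessel14 {ι : Type*} (t : Finset ι) (v : ι → G → ℂ) (X : G → ℂ)
    (h1 : ∀ a ∈ t, Cfsg.classInner (v a) (v a) = 1)
    (h0 : ∀ a ∈ t, ∀ b ∈ t, a ≠ b → Cfsg.classInner (v a) (v b) = 0) :
    ∑ a ∈ t, ‖Cfsg.classInner X (v a)‖ ^ 2 ≤ (Cfsg.classInner X X).re := by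
  classical
  set c : ι → ℂ := fun a => Cfsg.classInner X (v a)
  set V : G → ℂ := ∑ a ∈ t, c a • v a
  have hV : ∀ b ∈ t, Cfsg.classInner V (v b) = c b := fun b hb => by
    rw [classInner_sum_left, Finset.sum_eq_single b]
    · rw [classInner_smul_left, h1 b hb, mul_one]
    · intro a ha hab
      rw [classInner_smul_left, h0 a ha b hb hab, mul_zero]
    · exact fun h => absurd hb h
  have hXV : Cfsg.classInner X V = ((∑ a ∈ t, ‖c a‖ ^ 2 : ℝ) : ℂ) := by
    rw [classInner_sum_right, Complex.ofReal_sum]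
    refine Finset.sum_congr rfl fun a _ => ?_
    rw [classInner_smul_right, Complex.ofReal_pow, ← Complex.mul_conj', mul_comm]
  have hVV : Cfsg.classInner V V = ((∑ a ∈ t, ‖c a‖ ^ 2 : ℝ) : ℂ) := by
    show Cfsg.classInner V (∑ a ∈ t, c a • v a) = _
    rw [classInner_sum_right, Complex.ofReal_sum]
    refine Finset.sum_congr rfl fun a ha => ?_
    rw [classInner_smul_right, hV a ha, Complex.ofReal_pow, ← Complex.mul_conj', mul_comm]
  have h := inner_self_re_nonneg (X - V)
  rw [classInner_sub_left, classInner_sub_right, classInner_sub_right, hXV, hVV,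
    ← classInner_conj_symm X V, hXV, Complex.conj_ofReal] at h
  simp only [Complex.sub_re, Complex.ofReal_re] at h
  linarith

theorem norm_int_sq (z : ℤ) : ‖(z : ℂ)‖ ^ 2 = (z : ℝ) ^ 2 := by
  rw [Complex.norm_intCast, sq_abs]

/-- The coefficients of the `β` along the family. -/
structure Link14 {S T W₁ W₂ U V : Subgroup G} (c : Cfg14 S T W₁ W₂ U V)
    (η : (↥(W₁ ⊔ W₂) →* ℂˣ) → (G → ℂ)) (b b' : c.ι → ℤ) : Prop where
  second : ∀ i ψ, OnSecond ψ → ψ ≠ 1 → Cfsg.classInner (c.piece i).beta (η ψ) = (b i : ℂ)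
  first : ∀ i φ, OnFirst φ → φ ≠ 1 → Cfsg.classInner (c.piece i).beta (η φ) = (b' i : ℂ)
  both : ∀ i φ ψ, OnFirst φ → φ ≠ 1 → OnSecond ψ → ψ ≠ 1 →
    Cfsg.classInner (c.piece i).beta (η (φ * ψ)) = ((b i + b' i - 1 : ℤ) : ℂ)

namespace Cfg14

attribute [local instance] Piece.fin

variable {S T W₁ W₂ U V : Subgroup G} [Fintype S] [Fintype T] (c : Cfg14 S T W₁ W₂ U V)
  (hG : Cfsg.IsMinSimpleOddOrder G)
  {η : (↥(W₁ ⊔ W₂) →* ℂˣ) → (G → ℂ)} (hη : Cfsg.IsCyclicTIFamily W₁ W₂ η)

theorem link_swap {b b' : c.ι → ℤ} (h : Link14 c η b b') :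
    Link14 c.swap (fun ω => η (swapHom ω)) b' b where
  second i ψ hs h1 := h.first i _ (onFirst_swapHom hs) fun e => h1 (swapHom_injective (e.trans
    swapHom_one.symm))
  first i φ hs h1 := h.second i _ (onSecond_swapHom hs) fun e => h1 (swapHom_injective (e.trans
    swapHom_one.symm))
  both i φ ψ hs h1 hs' h1' := by
    show Cfsg.classInner (c.piece i).beta (η (swapHom (φ * ψ))) = _
    rw [swapHom_mul, show swapHom φ * swapHom ψ = swapHom ψ * swapHom φ from
        MonoidHom.ext fun w => mul_comm _ _,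
      h.both i _ _ (onFirst_swapHom hs') (fun e => h1' (swapHom_injective (e.trans swapHom_one.symm)))
        (onSecond_swapHom hs) (fun e => h1 (swapHom_injective (e.trans swapHom_one.symm))),
      add_comm (b i)]

include hG hη

/-- The coefficient of a function supported on a piece along the second line is constant. -/
theorem inner_second_eq (i : c.ι) {θ : G → ℂ} (hθ : ∀ g ∉ (c.piece i).supp, θ g = 0)
    {ψ ψ' : ↥(W₁ ⊔ W₂) →* ℂˣ} (hs : OnSecond ψ) (h1 : ψ ≠ 1) (hs' : OnSecond ψ') (h1' : ψ' ≠ 1) :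
    Cfsg.classInner θ (η ψ) = Cfsg.classInner θ (η ψ') := by
  obtain ⟨μ, δ, hT, -, -⟩ := exists_chars (c.sideS.prime hG)
  have e := c.sideS.col_image hG hT hη (φ := 1) onFirst_one hs h1 hs' h1'
  have hgood := c.sideS.good_col hG hT (φ := 1) onFirst_one hs h1 hs' h1'
  rw [hom_one_mul, hom_one_mul] at e hgood
  rw [← sub_eq_zero, ← classInner_sub_right, ← e]
  refine classInner_eq_zero_of_disjoint (A := (c.piece i).supp) hθ fun g hg => ?_
  exact c.sideS.tau_good_off hG hgood (fun h => Set.disjoint_left.mp (c.disjS i) hg h)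
    fun h => Set.disjoint_left.mp (c.disjW i) hg h

/-- The coefficient of a function supported on a piece along the first line is constant. -/
theorem inner_first_eq (i : c.ι) {θ : G → ℂ} (hθ : ∀ g ∉ (c.piece i).supp, θ g = 0)
    {φ φ' : ↥(W₁ ⊔ W₂) →* ℂˣ} (hs : OnFirst φ) (h1 : φ ≠ 1) (hs' : OnFirst φ') (h1' : φ' ≠ 1) :
    Cfsg.classInner θ (η φ) = Cfsg.classInner θ (η φ') := by
  have key := c.swap.inner_second_eq hG (family_swap hη) i hθ (ψ := swapHom φ) (ψ' := swapHom φ')
    (onSecond_swapHom hs) (fun e => h1 (swapHom_injective (e.trans swapHom_one.symm)))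
    (onSecond_swapHom hs') (fun e => h1' (swapHom_injective (e.trans swapHom_one.symm)))
  simpa only [swapHom_swapHom] using key

/-- A function vanishing outside a piece vanishes on the hat set. -/
theorem piece_hat (i : c.ι) {θ : G → ℂ} (hθ : ∀ g ∉ (c.piece i).supp, θ g = 0)
    (w : ↥(W₁ ⊔ W₂)) (h₁ : (w : G) ∉ W₁) (h₂ : (w : G) ∉ W₂) : θ w = 0 :=
  hθ _ fun hs => Set.disjoint_left.mp (c.disjW i) hs ⟨_, w.2, h₁, h₂, IsConj.refl _⟩

/-- The images of the members are orthogonal to the family. -/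
theorem orth_eta (i : c.ι) (ω : ↥(W₁ ⊔ W₂) →* ℂˣ) : (c.piece i).Orth (η ω) := by
  haveI := Fintype.ofFinite ↥(W₁ ⊔ W₂)
  set P := c.piece i with hP
  intro φ hφ
  have hW := c.sideS.dataP.selfNormalizing
  have hodd := c.sideS.odd_W hG
  have hφ' := P.conj_member hφ
  obtain ⟨k, hk⟩ := (P.member_val hφ).2.2
  have h1 : φ 1 = ((1 : ℤ) : ℂ) * Cfsg.conjFun φ 1 := by simp [Cfsg.conjFun, hk]
  set D : G → ℂ := P.τ₁ φ - P.τ₁ (Cfsg.conjFun φ) with hD
  have e := P.diff_image hφ hφ' 1 h1
  rw [Int.cast_one, one_smul, one_smul, ← hD] at e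
  have hDcls : Cfsg.IsClassFunction G D := by
    rw [← e]
    exact P.tau_class fun x y => by
      rw [Pi.sub_apply, Pi.sub_apply, P.member_class hφ x y, P.member_class hφ' x y]
  have hDoff : ∀ g ∉ P.supp, D g = 0 := fun g hg => e ▸ P.tau_off _ hg
  have hDconj : Cfsg.conjFun D = -D := by
    rw [hD, conjFun_sub', P.conj_img hG hφ, P.conj_img hG hφ', neg_sub]
    congr 2
    exact funext fun x => Complex.conj_conj _
  have hgen : Cfsg.IsGeneralizedCharacter G D := by
    rw [hD]
    exact IsGeneralizedCharacter.sub (P.img_signed hφ).generalized (P.img_signed hφ').generalized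
  -- the coefficient of a nontrivial member of either line
  have key : ∀ χ : ↥(W₁ ⊔ W₂) →* ℂˣ,
      Cfsg.classInner D (η χ⁻¹) = Cfsg.classInner D (η χ) → Cfsg.classInner D (η χ) = 0 := by
    intro χ hc
    obtain ⟨m, hm⟩ := inner_int hgen (family_signed hη χ).generalized
    have h2 := classInner_conjFun' D (η χ)
    rw [hDconj, family_conj hW hodd hη, classInner_neg_left, hc, hm, map_intCast] at h2
    rw [hm]
    linear_combination (-1 / 2 : ℂ) * h2
  have hone : Cfsg.classInner D (η 1) = 0 := by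
    rw [hη.map_one, hD, classInner_sub_left, P.tau_inner_one hφ hG, P.tau_inner_one hφ' hG,
      sub_zero]
  have hsec : ∀ ψ, OnSecond ψ → Cfsg.classInner D (η ψ) = Cfsg.classInner D (η 1) := by
    intro ψ hs
    by_cases hψ : ψ = 1
    · rw [hψ]
    rw [hone]
    exact key ψ (c.inner_second_eq hG hη i hDoff (onSecond_inv hs)
      (fun e0 => hψ (hom_inv_eq_one e0)) hs hψ)
  have hfst : ∀ ψ, OnFirst ψ → Cfsg.classInner D (η ψ) = Cfsg.classInner D (η 1) := by
    intro ψ hs
    by_cases hψ : ψ = 1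
    · rw [hψ]
    rw [hone]
    exact key ψ (c.inner_first_eq hG hη i hDoff (onFirst_inv hs)
      (fun e0 => hψ (hom_inv_eq_one e0)) hs hψ)
  have hzero : Cfsg.classInner D (η ω) = 0 := by
    have h := coeff_add hη hDcls (c.piece_hat hG hη i hDoff) (onFirst_comp hW ω)
      (onSecond_comp hW ω)
    rw [comp_mul_comp] at h
    rw [h, hfst _ (onFirst_comp hW ω), hsec _ (onSecond_comp hW ω), hone]
    ring
  rw [hD, classInner_sub_left, sub_eq_zero] at hzero
  refine (family_signed hη ω).orth_diff (a' := P.τ₁ (Cfsg.conjFun φ)) (P.img_signed hφ) ?_ ?_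
  · rw [P.img_inner hφ hφ', classInner_irrChar (P.spec.irr _ hφ) (P.spec.irr _ hφ'),
      if_neg (P.member_ne_conj hG hφ).symm]
  · rw [← classInner_conj_symm (P.τ₁ φ), hzero, classInner_conj_symm]

/-- The coefficients `b`, `b'`. -/
theorem exists_link : ∃ b b' : c.ι → ℤ, Link14 c η b b' := by
  classical
  have hW := c.sideS.dataP.selfNormalizing
  haveI := Fintype.ofFinite ↥(W₁ ⊔ W₂)
  obtain ⟨j, hj, hj1⟩ := (c.sideS.prime hG).exists_second
  obtain ⟨k, hk, hk1⟩ := (c.sideT.prime hG).exists_second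
  have hk0 : OnFirst (swapHom k) := onFirst_swapHom hk
  have hk01 : swapHom k ≠ 1 := fun e => hk1 (swapHom_injective (e.trans swapHom_one.symm))
  choose b hb using fun i => inner_int (c.piece i).beta_gen (family_signed hη j).generalized
  choose b' hb' using fun i =>
    inner_int (c.piece i).beta_gen (family_signed hη (swapHom k)).generalized
  have h2 : ∀ i ψ, OnSecond ψ → ψ ≠ 1 →
      Cfsg.classInner (c.piece i).beta (η ψ) = (b i : ℂ) := fun i ψ hs h1 =>
    (c.inner_second_eq hG hη i (fun g hg => (c.piece i).beta_off hg) hs h1 hj hj1).trans (hb i)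
  have h1' : ∀ i φ, OnFirst φ → φ ≠ 1 →
      Cfsg.classInner (c.piece i).beta (η φ) = (b' i : ℂ) := fun i φ hs h1 =>
    (c.inner_first_eq hG hη i (fun g hg => (c.piece i).beta_off hg) hs h1 hk0 hk01).trans (hb' i)
  refine ⟨b, b', h2, h1', fun i φ ψ hs h1 hs' h1'' => ?_⟩
  rw [coeff_add hη (c.piece i).beta_class
    (c.piece_hat hG hη i fun g hg => (c.piece i).beta_off hg) hs hs', h1' i φ hs h1,
    h2 i ψ hs' h1'', hη.map_one, (c.piece i).beta_one]
  push_cast
  ring

omit hη in
/-- The images of the members are pairwise orthogonal of norm one. -/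
theorem img_pair {i k : c.ι} {φ : ↥(c.piece i).L → ℂ} {ψ : ↥(c.piece k).L → ℂ}
    (hφ : φ ∈ pieceChars (c.piece i).L (c.piece i).K (c.piece i).N)
    (hψ : ψ ∈ pieceChars (c.piece k).L (c.piece k).K (c.piece k).N) :
    (∀ h : i = k, ¬ HEq φ ψ → Cfsg.classInner ((c.piece i).τ₁ φ) ((c.piece k).τ₁ ψ) = 0) ∧
      (i ≠ k → Cfsg.classInner ((c.piece i).τ₁ φ) ((c.piece k).τ₁ ψ) = 0) := by
  refine ⟨fun h hne => ?_, fun h => (c.piece i).img_orth hG (c.disj i k h) hφ hψ⟩
  subst h
  rw [(c.piece i).img_inner hφ hψ, classInner_irrChar ((c.piece i).spec.irr _ hφ)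
    ((c.piece i).spec.irr _ hψ), if_neg fun e => hne (heq_of_eq e)]

/-- Bessel along the family and the images of all the pieces. -/
theorem bessel_all [Fintype (↥(W₁ ⊔ W₂) →* ℂˣ)] (X : G → ℂ) :
    ∑ ω, ‖Cfsg.classInner X (η ω)‖ ^ 2 +
        ∑ k ∈ (@Finset.univ c.ι c.fin), ∑ φ ∈ (c.piece k).members,
          ‖Cfsg.classInner X ((c.piece k).τ₁ φ)‖ ^ 2 ≤ (Cfsg.classInner X X).re := by
  classical
  letI := c.fin
  let t : Finset ((↥(W₁ ⊔ W₂) →* ℂˣ) ⊕ ((k : c.ι) × (↥(c.piece k).L → ℂ))) :=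
    Finset.univ.disjSum (Finset.univ.sigma fun k => (c.piece k).members)
  let v : (↥(W₁ ⊔ W₂) →* ℂˣ) ⊕ ((k : c.ι) × (↥(c.piece k).L → ℂ)) → G → ℂ :=
    Sum.elim η fun p => (c.piece p.1).τ₁ p.2
  have h := bessel14 t v X ?_ ?_
  · rw [Finset.sum_disjSum, Finset.sum_sigma] at h
    simpa [v] using h
  · rintro (ω | ⟨k, φ⟩) ha
    · show Cfsg.classInner (η ω) (η ω) = 1
      rw [hη.orthonormal, if_pos rfl]
    · have hm : φ ∈ (c.piece k).members := by simpa [t] using ha
      exact ((c.piece k).img_signed ((c.piece k).mem_members.mp hm)).inner_self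
  · rintro (ω | ⟨k, φ⟩) ha (ω' | ⟨l, ψ⟩) hb hne
    · show Cfsg.classInner (η ω) (η ω') = 0
      rw [hη.orthonormal, if_neg fun e => hne (congrArg Sum.inl e)]
    · have hm : ψ ∈ (c.piece l).members := by simpa [t] using hb
      exact c.orth_eta hG hη l ω ψ ((c.piece l).mem_members.mp hm)
    · have hm : φ ∈ (c.piece k).members := by simpa [t] using ha
      show Cfsg.classInner ((c.piece k).τ₁ φ) (η ω') = 0
      rw [← classInner_conj_symm (η ω'), c.orth_eta hG hη k ω' φ ((c.piece k).mem_members.mp hm),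
        map_zero]
    · have hm : φ ∈ (c.piece k).members := by simpa [t] using ha
      have hm' : ψ ∈ (c.piece l).members := by simpa [t] using hb
      have hp := c.img_pair hG ((c.piece k).mem_members.mp hm) ((c.piece l).mem_members.mp hm')
      by_cases hkl : k = l
      · exact hp.1 hkl fun he => hne (congrArg Sum.inr (Sigma.ext hkl he))
      · exact hp.2 hkl

/-- The coefficient of `X` along the image of `ζ` of a piece bounds a part of its norm. -/
theorem bessel_zeta [Fintype (↥(W₁ ⊔ W₂) →* ℂˣ)] (X : G → ℂ) (t : Finset c.ι)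
    (hX : ∀ k ∈ t, ∀ g ∈ (c.piece k).supp, X g = 0) :
    ∑ ω, ‖Cfsg.classInner X (η ω)‖ ^ 2 +
        ∑ k ∈ t, ‖Cfsg.classInner X (c.piece k).zt‖ ^ 2 *
          ((((c.piece k).h : ℝ) - 1) / (c.piece k).e) ≤ (Cfsg.classInner X X).re := by
  classical
  letI := c.fin
  refine le_trans (add_le_add_right ?_ _) (c.bessel_all hG hη X)
  refine le_trans (le_of_eq ?_) (Finset.sum_le_sum_of_subset_of_nonneg (Finset.subset_univ t)
    fun k _ _ => Finset.sum_nonneg fun φ _ => by positivity)
  exact Finset.sum_congr rfl fun k hk => ((c.piece k).coeff_sum (hX k hk)).symm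

/-- The room left by the family in the norm of `β`. -/
theorem room {b b' : c.ι → ℤ} (hb : Link14 c η b b') (i : c.ι) [DecidableEq c.ι]
    (x : c.ι → ℤ) (hx : ∀ k, k ≠ i → Cfsg.classInner (c.piece i).beta (c.piece k).zt = (x k : ℂ)) :
    ((Nat.card W₂ : ℝ) - 1) * (b i : ℝ) ^ 2 + ((Nat.card W₁ : ℝ) - 1) * (b' i : ℝ) ^ 2 +
        ((Nat.card W₁ : ℝ) - 1) * ((Nat.card W₂ : ℝ) - 1) * ((b i : ℝ) + b' i - 1) ^ 2 +
        ∑ k ∈ (@Finset.univ c.ι c.fin).erase i,
          (x k : ℝ) ^ 2 * ((((c.piece k).h : ℝ) - 1) / (c.piece k).e) ≤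
      ((c.piece i).e : ℝ) - 1 := by
  classical
  letI := c.fin
  haveI := Fintype.ofFinite ↥(W₁ ⊔ W₂)
  haveI := Fintype.ofFinite (↥(W₁ ⊔ W₂) →* ℂˣ)
  have hW := c.sideS.dataP.selfNormalizing
  haveI := Fintype.ofFinite (First W₁ W₂)
  haveI := Fintype.ofFinite (Second W₁ W₂)
  set P := c.piece i with hP
  have hbes := c.bessel_all hG hη P.beta
  rw [P.beta_norm, ← Finset.sum_erase_add _ _ (Finset.mem_univ i)] at hbes
  have hown := P.own_ge hG
  have hsum : ∀ k ∈ Finset.univ.erase i,
      ∑ φ ∈ (c.piece k).members, ‖Cfsg.classInner P.beta ((c.piece k).τ₁ φ)‖ ^ 2 =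
        (x k : ℝ) ^ 2 * ((((c.piece k).h : ℝ) - 1) / (c.piece k).e) := by
    intro k hk
    have hki := (Finset.mem_erase.mp hk).1
    rw [(c.piece k).coeff_sum fun g hg => P.beta_off fun h =>
      Set.disjoint_left.mp (c.disj i k (Ne.symm hki)) h hg, hx k hki, norm_int_sq]
  rw [Finset.sum_congr rfl hsum, ← hP] at hbes
  -- the four parts of the dual
  let e : Unit ⊕ (First W₁ W₂ ⊕ (Second W₁ W₂ ⊕ First W₁ W₂ × Second W₁ W₂)) →
      (↥(W₁ ⊔ W₂) →* ℂˣ) :=
    Sum.elim (fun _ => 1) (Sum.elim (fun a => a.1) (Sum.elim (fun b => b.1)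
      fun p => p.1.1 * p.2.1))
  have heinj : Function.Injective e := by
    have d := fun {a b a' b' : ↥(W₁ ⊔ W₂) →* ℂˣ} (ha : OnFirst a) (hb : OnSecond b)
      (ha' : OnFirst a') (hb' : OnSecond b') => mul_eq_iff hW ha hb ha' hb'
    rintro (⟨⟩ | a | b | ⟨a, b⟩) (⟨⟩ | a' | b' | ⟨a', b'⟩) he <;>
      simp only [e, Sum.elim_inl, Sum.elim_inr] at he
    · rfl
    · exact absurd he.symm a'.2.2
    · exact absurd he.symm b'.2.2
    · exact absurd he.symm (mul_ne_one hW a'.2.1 b'.2.1 a'.2.2)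
    · exact absurd he a.2.2
    · rw [Subtype.ext he]
    · exact absurd ((d a.2.1 onSecond_one onFirst_one b'.2.1).mp
        (by rw [hom_mul_one, hom_one_mul]; exact he)).1 a.2.2
    · exact absurd ((d a.2.1 onSecond_one a'.2.1 b'.2.1).mp
        (by rw [hom_mul_one]; exact he)).2.symm b'.2.2
    · exact absurd he b.2.2
    · exact absurd ((d onFirst_one b.2.1 a'.2.1 onSecond_one).mp
        (by rw [hom_mul_one, hom_one_mul]; exact he)).2 b.2.2
    · rw [Subtype.ext he]
    · exact absurd ((d onFirst_one b.2.1 a'.2.1 b'.2.1).mp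
        (by rw [hom_one_mul]; exact he)).1.symm a'.2.2
    · exact absurd he (mul_ne_one hW a.2.1 b.2.1 a.2.2)
    · exact absurd ((d a.2.1 b.2.1 a'.2.1 onSecond_one).mp
        (by rw [hom_mul_one]; exact he)).2 b.2.2
    · exact absurd ((d a.2.1 b.2.1 onFirst_one b'.2.1).mp
        (by rw [hom_one_mul]; exact he)).1 a.2.2
    · obtain ⟨e1, e2⟩ := (d a.2.1 b.2.1 a'.2.1 b'.2.1).mp he
      rw [Subtype.ext e1, Subtype.ext e2]
  have hfam : (1 : ℝ) + (((Nat.card W₂ : ℝ) - 1) * (b i : ℝ) ^ 2 +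
      ((Nat.card W₁ : ℝ) - 1) * (b' i : ℝ) ^ 2 +
      ((Nat.card W₁ : ℝ) - 1) * ((Nat.card W₂ : ℝ) - 1) * ((b i : ℝ) + b' i - 1) ^ 2) ≤
      ∑ ω, ‖Cfsg.classInner P.beta (η ω)‖ ^ 2 := by
    refine le_trans (le_of_eq ?_) (Finset.sum_le_sum_of_subset_of_nonneg
      (Finset.subset_univ (Finset.univ.image e)) fun _ _ _ => by positivity)
    rw [Finset.sum_image fun a _ a' _ h => heinj h, Fintype.sum_sum_type, Fintype.sum_sum_type,
      Fintype.sum_sum_type]
    simp only [e, Sum.elim_inl, Sum.elim_inr]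
    rw [Fintype.sum_congr _ (fun _ => (b' i : ℝ) ^ 2)
        (fun a : First W₁ W₂ => by rw [hb.first i _ a.2.1 a.2.2, norm_int_sq]),
      Fintype.sum_congr _ (fun _ => (b i : ℝ) ^ 2)
        (fun a : Second W₁ W₂ => by rw [hb.second i _ a.2.1 a.2.2, norm_int_sq]),
      Fintype.sum_congr _ (fun _ => ((b i : ℝ) + b' i - 1) ^ 2)
        (fun p : First W₁ W₂ × Second W₁ W₂ => by
          rw [hb.both i _ _ p.1.2.1 p.1.2.2 p.2.2.1 p.2.2.2, norm_int_sq]; push_cast; rfl)]
    simp only [Finset.sum_const, Finset.card_univ, nsmul_eq_mul, Fintype.card_prod,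
      Fintype.card_unit, Nat.cast_mul, Nat.cast_one, one_mul]
    rw [hη.map_one, P.beta_one, norm_one, one_pow,
      show (Fintype.card (First W₁ W₂) : ℝ) = (Nat.card W₁ : ℝ) - 1 by
        rw [← card_first hW]; push_cast; ring,
      show (Fintype.card (Second W₁ W₂) : ℝ) = (Nat.card W₂ : ℝ) - 1 by
        rw [← card_second hW]; push_cast; ring]
    ring
  simp only [Complex.add_re, Complex.natCast_re, Complex.one_re] at hbes
  linarith

/-- The two mutual coefficients have opposite parity. -/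
theorem parity {i k : c.ι} (hik : i ≠ k) {x y : ℤ}
    (hx : Cfsg.classInner (c.piece i).beta (c.piece k).zt = (x : ℂ))
    (hy : Cfsg.classInner (c.piece k).beta (c.piece i).zt = (y : ℂ)) : Odd (x + y) := by
  have hX1 : ∀ j, Cfsg.classInner ((c.piece j).beta - (fun _ : G => (1 : ℂ)) + (c.piece j).zt)
      (fun _ => 1) = 0 := fun j => by
    rw [classInner_add_left, classInner_sub_left, (c.piece j).beta_one,
      classInner_irrChar isIrrCharacter_one isIrrCharacter_one, if_pos rfl,
      Piece.zt, (c.piece j).tau_inner_one (c.piece j).spec.zeta_mem hG]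
    ring
  have hgen : ∀ j, Cfsg.IsGeneralizedCharacter G
      ((c.piece j).beta - (fun _ : G => (1 : ℂ)) + (c.piece j).zt) := fun j =>
    IsGeneralizedCharacter.add (IsGeneralizedCharacter.sub (c.piece j).beta_gen
      (IsSignedIrr.generalized (Or.inl isIrrCharacter_one))) (c.piece j).zt_signed.generalized
  obtain ⟨m, hm⟩ := even_inner_of_real hG.1 (hgen i) (hgen k) ((c.piece i).beta_real hG)
    ((c.piece k).beta_real hG) (hX1 i)
  have hbb : Cfsg.classInner (c.piece i).beta (c.piece k).beta = 0 :=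
    classInner_eq_zero_of_disjoint (A := (c.piece i).supp) (fun g hg => (c.piece i).beta_off hg)
      fun g hg => (c.piece k).beta_off fun h => Set.disjoint_left.mp (c.disj i k hik) hg h
  rw [classInner_add_left, classInner_sub_left, classInner_add_right, classInner_add_right,
    classInner_add_right, classInner_sub_right, classInner_sub_right, classInner_sub_right,
    hbb, (c.piece i).beta_one, hx, ← classInner_conj_symm (c.piece k).beta (fun _ : G => (1 : ℂ)),
    (c.piece k).beta_one, map_one, classInner_irrChar isIrrCharacter_one isIrrCharacter_one,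
    if_pos rfl, ← classInner_conj_symm (c.piece k).zt (fun _ : G => (1 : ℂ)), Piece.zt, Piece.zt,
    (c.piece k).tau_inner_one (c.piece k).spec.zeta_mem hG, map_zero,
    ← classInner_conj_symm (c.piece k).beta, show (c.piece i).τ₁ (c.piece i).ζ = (c.piece i).zt
      from rfl, hy, map_intCast, Piece.zt, (c.piece i).tau_inner_one (c.piece i).spec.zeta_mem hG,
    (c.piece i).img_orth hG (c.disj i k hik) (c.piece i).spec.zeta_mem
      (c.piece k).spec.zeta_mem] at hm
  have hm' : x + y = 2 * m + 1 := by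
    apply Int.cast_injective (α := ℂ)
    push_cast
    linear_combination hm
  exact ⟨m, hm'⟩

/-- The coefficients of `τ α`. -/
theorem alpha_room {b b' : c.ι → ℤ} (hb : Link14 c η b b') :
    ∃ x : c.ι → ℤ, (∀ k, Odd (x k + b k)) ∧
      ∑ k ∈ (@Finset.univ c.ι c.fin), (x k : ℝ) ^ 2 *
          ((((c.piece k).h : ℝ) - 1) / (c.piece k).e) ≤
        ((Nat.card U : ℝ) - 1) / Nat.card W₁ := by
  classical
  letI := c.fin
  haveI := Fintype.ofFinite ↥(W₁ ⊔ W₂)
  haveI := Fintype.ofFinite (↥(W₁ ⊔ W₂) →* ℂˣ)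
  obtain ⟨μ, δ, hT, -, -⟩ := exists_chars (c.sideS.prime hG)
  have hW := c.sideS.dataP.selfNormalizing
  have hodd := c.sideS.odd_W hG
  obtain ⟨ψ₁, hψ, hψ1⟩ := (c.sideS.prime hG).exists_second
  have hinv : OnSecond ψ₁⁻¹ := onSecond_inv hψ
  have hinv1 : ψ₁⁻¹ ≠ 1 := fun e => hψ1 (hom_inv_eq_one e)
  have hoddW : Odd (Nat.card ↥(W₁ ⊔ W₂)) := hodd
  have hne : ψ₁⁻¹ ≠ ψ₁ := hom_inv_ne hoddW hψ1
  have hga := c.sideS.good_alpha hG hT hψ hψ1
  obtain ⟨hnorm, hone, hcoef⟩ := c.sideS.alpha_inner hG hT hψ hψ1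
  set α := alphaM W₁ μ ψ₁ with hα
  set A := tauM S α with hA
  have hAoff : ∀ k, ∀ g ∈ (c.piece k).supp, A g = 0 := fun k g hg =>
    c.sideS.tau_good_off hG hga (fun h => Set.disjoint_left.mp (c.disjS k) hg h)
      fun h => Set.disjoint_left.mp (c.disjW k) hg h
  have hAgen : Cfsg.IsGeneralizedCharacter G A :=
    Cfsg.Lib.Dade.isGeneralized_dade (c.sideS.dade hG)
      (IsGeneralizedCharacter.sub (IsGeneralizedCharacter.indFun
        (IsSignedIrr.generalized (Or.inl isIrrCharacter_one)))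
        (IsSignedIrr.generalized (Or.inl (hT.irr ψ₁)))) (c.sideS.good_A₀ hG hga)
  choose x hx using fun k => inner_int hAgen (c.piece k).zt_signed.generalized
  have hA1 : Cfsg.classInner A (fun _ => 1) = 1 := by
    rw [hA, c.sideS.inner_good hG hga (fun _ _ => rfl)]; exact hone
  refine ⟨x, fun k => ?_, ?_⟩
  · set P := c.piece k with hP
    set Y : G → ℂ := A - (fun _ => 1) + η ψ₁ with hY
    have hYgen : Cfsg.IsGeneralizedCharacter G Y :=
      IsGeneralizedCharacter.add (IsGeneralizedCharacter.sub hAgen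
        (IsSignedIrr.generalized (Or.inl isIrrCharacter_one))) (family_signed hη ψ₁).generalized
    have hY1 : Cfsg.classInner Y (fun _ => 1) = 0 := by
      rw [hY, classInner_add_left, classInner_sub_left, hA1,
        classInner_irrChar isIrrCharacter_one isIrrCharacter_one, if_pos rfl, ← hη.map_one,
        hη.orthonormal, if_neg hψ1]
      ring
    have hconjα : Cfsg.conjFun α = α + (μ ψ₁ - μ ψ₁⁻¹) := by
      have hind : Cfsg.conjFun (Cfsg.indFun (pw S W₁) (fun _ => (1 : ℂ))) =
          Cfsg.indFun (pw S W₁) (fun _ => (1 : ℂ)) := by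
        funext l
        simp only [Cfsg.conjFun, Cfsg.indFun, Cfsg.extendByZero, map_mul, map_inv₀, map_natCast,
          map_sum]
        congr 1
        refine Finset.sum_congr rfl fun y _ => ?_
        by_cases hy : ∃ a : ↥(pw S W₁), (a : ↥S) = y⁻¹ * l * y
        · obtain ⟨a, ha⟩ := hy
          rw [← ha, Subtype.val_injective.extend_apply, map_one]
        · rw [Function.extend_apply' _ _ _ hy, Pi.zero_apply, map_zero]
      rw [hα, alphaM, conjFun_sub', hind, hT.conj]
      abel
    have hYreal : Cfsg.conjFun Y = Y := by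
      have hc := c.sideS.col_image hG hT hη (φ := 1) onFirst_one hψ hψ1 hinv hinv1
      rw [hom_one_mul, hom_one_mul] at hc
      have hAc : Cfsg.conjFun A = A + (η ψ₁ - η ψ₁⁻¹) := by
        rw [hA, conjFun_tauM, hconjα, tauM_add, hc]
      rw [hY, conjFun_add', conjFun_sub', hAc, family_conj hW hodd hη,
        show Cfsg.conjFun (fun _ : G => (1 : ℂ)) = fun _ : G => (1 : ℂ) from
          funext fun _ => map_one _]
      abel
    have hXgen : Cfsg.IsGeneralizedCharacter G (P.beta - (fun _ : G => (1 : ℂ)) + P.zt) :=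
      IsGeneralizedCharacter.add (IsGeneralizedCharacter.sub P.beta_gen
        (IsSignedIrr.generalized (Or.inl isIrrCharacter_one))) P.zt_signed.generalized
    obtain ⟨m, hm⟩ := even_inner_of_real hG.1 hYgen hXgen hYreal (P.beta_real hG) hY1
    have hAb : Cfsg.classInner A P.beta = 0 :=
      classInner_eq_zero_of_disjoint (A := P.suppᶜ)
        (fun g hg => hAoff k g (not_not.mp hg)) fun g hg => P.beta_off hg
    have hez : Cfsg.classInner (η ψ₁) P.zt = 0 := c.orth_eta hG hη k ψ₁ _ P.spec.zeta_mem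
    rw [hY, classInner_add_left, classInner_sub_left, classInner_add_right, classInner_add_right,
      classInner_add_right, classInner_sub_right, classInner_sub_right, classInner_sub_right,
      hAb, hA1, hx k, ← classInner_conj_symm P.beta (fun _ : G => (1 : ℂ)), P.beta_one, map_one,
      classInner_irrChar isIrrCharacter_one isIrrCharacter_one, if_pos rfl,
      ← classInner_conj_symm P.zt (fun _ : G => (1 : ℂ)),
      show Cfsg.classInner P.zt (fun _ : G => (1 : ℂ)) = 0 from
        P.tau_inner_one P.spec.zeta_mem hG, map_zero,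
      ← classInner_conj_symm P.beta (η ψ₁), hb.second k ψ₁ hψ hψ1, map_intCast, hez,
      ← hη.map_one, hη.orthonormal, if_neg hψ1] at hm
    have hm' : x k + b k = 2 * m + 1 := by
      apply Int.cast_injective (α := ℂ)
      push_cast
      linear_combination hm
    exact ⟨m, hm'⟩
  · have hbes := c.bessel_zeta hG hη A Finset.univ fun k _ g hg => hAoff k g hg
    simp only [hx, norm_int_sq] at hbes
    have hAA : (Cfsg.classInner A A).re = ((Nat.card U : ℝ) - 1) / Nat.card W₁ + 2 := by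
      rw [hA, c.sideS.inner_good_good hG hga hga, hnorm, Nat.cast_sub (by
        have := (Nat.card_pos : 0 < Nat.card U); omega), Nat.cast_add, Nat.cast_one,
        Complex.add_re, Complex.div_natCast_re]
      simp only [Complex.sub_re, Complex.add_re, Complex.natCast_re, Complex.one_re]
      have hq : (Nat.card W₁ : ℝ) ≠ 0 := Nat.cast_ne_zero.mpr Nat.card_pos.ne'
      field_simp
      ring
    -- the coefficients at `1` and at one of two columns
    have hdiff : Cfsg.classInner A (η ψ₁⁻¹) - Cfsg.classInner A (η ψ₁) = 1 := by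
      have hc := c.sideS.col_image hG hT hη (φ := 1) onFirst_one hinv hinv1 hψ hψ1
      have hgc := c.sideS.good_col hG hT (φ := 1) onFirst_one hinv hinv1 hψ hψ1
      rw [hom_one_mul, hom_one_mul] at hc hgc
      rw [← classInner_sub_right, ← hc, hA, c.sideS.inner_good_good hG hga hgc,
        classInner_sub_right, (hcoef _ hinv hinv1).2 hne, (hcoef _ hψ hψ1).1 rfl]
      ring
    obtain ⟨a, ha⟩ := inner_int hAgen (family_signed hη ψ₁).generalized
    have ha' : Cfsg.classInner A (η ψ₁⁻¹) = ((a + 1 : ℤ) : ℂ) := by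
      push_cast; linear_combination hdiff + ha
    have h3 : (2 : ℝ) ≤ ∑ ω, ‖Cfsg.classInner A (η ω)‖ ^ 2 := by
      refine le_trans ?_ (Finset.sum_le_sum_of_subset_of_nonneg
        (Finset.subset_univ ({1, ψ₁, ψ₁⁻¹} : Finset (↥(W₁ ⊔ W₂) →* ℂˣ))) fun _ _ _ => by positivity)
      rw [Finset.sum_insert (by simp [hψ1.symm, hinv1.symm]), Finset.sum_pair hne.symm, hη.map_one,
        hA1, norm_one, one_pow, ha, ha', norm_int_sq, norm_int_sq]
      have hz : (1 : ℤ) ≤ a ^ 2 + (a + 1) ^ 2 := by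
        rcases eq_or_ne a 0 with rfl | h0
        · norm_num
        · have : 0 < a ^ 2 := by positivity
          nlinarith
      have := (Int.cast_le (R := ℝ)).mpr hz
      push_cast at this ⊢
      linarith
    linarith

end Cfg14

end Cfsg.Agent.PF
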