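import Cfsg.Agent.OddChar.PF.S14Fixed
import Cfsg.Agent.OddChar.InducedFamily

/-!
# Section 14: the characters `μ` of one side

Every column sum is induced from a fixed linear character of `P`, so the `μ ω` with non-trivial
column have degree `|U|`, sign `1` and vanish on `M' ∖ P`.
-/

set_option linter.style.haveILetI false
set_option linter.unusedSectionVars false
set_option linter.unusedVariables false
set_option autoImplicit false

universe u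

namespace Cfsg.Agent.PF

open Cfsg.Lib.Chars Cfsg.Lib.CyclicTI Cfsg.Lib.Dual
open Subgroup
open scoped ComplexConjugate

variable {G : Type u} [Group G] [Fintype G] {M W₁ U W₂ : Subgroup G} [Fintype M]
  {μ : (↥(W₁ ⊔ W₂) →* ℂˣ) → (↥M → ℂ)} {δ : (↥(W₁ ⊔ W₂) →* ℂˣ) → ℂ}

/-- The principal character is `μ 1`. -/
theorem PrimeDade.mu_one' {K H : Subgroup G} {A A₀ : Set G} {R : G → Subgroup G}
    (d : PrimeDade M K W₁ W₂ H A A₀ R) (hT : PrimeTIChars M K W₁ W₂ μ δ) :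
    μ 1 = fun _ => 1 := by
  classical
  haveI : Fintype ↥(W₁.subgroupOf M ⊔ W₂.subgroupOf M) := Fintype.ofFinite _
  obtain ⟨a, ha, ha1⟩ := (Subgroup.bot_or_exists_ne_one W₁).resolve_left d.cycTI.1
  have ha2 : a ∉ W₂ := fun hh => ha1 (Subgroup.mem_bot.mp (d.cycTI.2.2.1 ▸ ⟨ha, hh⟩))
  obtain ⟨ω', hω'⟩ : ∃ ω', (fun _ : ↥M => (1 : ℂ)) = μ ω' := by
    by_contra! hne
    exact one_ne_zero (hT.vanish _ isIrrCharacter_one hne ⟨a, d.W₁_le ha⟩
      (Subgroup.mem_sup_left ha) ha2)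
  have key := d.hyp.eq_of_off (ω := (1 : ↥(W₁ ⊔ W₂) →* ℂˣ).comp d.eW.toMonoidHom)
    (ω' := ω'.comp d.eW.toMonoidHom) (d := 1) (d' := δ ω') one_ne_zero fun x hx => by
      have hx2 : ((x : M) : G) ∉ W₂ := d.hyp.mem_offSet.mp hx
      have h2 := hT.apply_off ω' (x : M) (d.eW x) rfl hx2
      rw [← hω'] at h2
      simpa using h2
  have : ω' = 1 := MonoidHom.ext fun w => by
    have := DFunLike.congr_fun key.1 (d.eW.symm w)
    simpa using this.symm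
  rw [hω', this]

namespace Side

variable (s : Side M W₁ U W₂) (hG : Cfsg.IsMinSimpleOddOrder G)
  (hT : PrimeTIChars M ⁅M, M⁆ W₁ W₂ μ δ)
include s hG hT

omit hT in
theorem Pm_le_K : Cfsg.fittingHall ↥M ≤ (⁅M, M⁆ : Subgroup G).subgroupOf M := fun x hx =>
  mem_subgroupOf.mpr (s.hyp9.H_le_derived (mem_fittingHall_iff.mp hx))

/-- A fixed character induces a column sum. -/
theorem exists_col {f : ↥(Cfsg.fittingHall ↥M) →* ℂˣ} (hf : IsFixed W₁ f) (h1 : f ≠ 1) :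
    ∃ ψ : ↥(W₁ ⊔ W₂) →* ℂˣ, OnSecond ψ ∧ ψ ≠ 1 ∧ redChar μ ψ = indP f ∧
      ∀ l : M, (l : G) ∈ ⁅M, M⁆ → l ∉ Cfsg.fittingHall ↥M → μ ψ l = 0 := by
  classical
  set d := s.prime hG
  set K := (⁅M, M⁆ : Subgroup G).subgroupOf M
  haveI : K.Normal := d.normal_K
  haveI : ((Cfsg.fittingHall ↥M).subgroupOf K).Normal := inferInstance
  haveI := Fintype.ofFinite ↥K
  haveI := Fintype.ofFinite ↥((Cfsg.fittingHall ↥M).subgroupOf K)
  have hPK := s.Pm_le_K hG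
  set f' : ↥((Cfsg.fittingHall ↥M).subgroupOf K) →* ℂˣ :=
    f.comp (subgroupOfEquivOfLe hPK).toMonoidHom with hf'
  set θ : ↥K → ℂ := Cfsg.indFun _ (ev f') with hθdef
  have hθ : Cfsg.IsIrrCharacter ↥K θ := by
    refine s09_indFun_irr (isIrr_ev f') fun k hk => mem_subgroupOf.mpr ?_
    refine s.stab_derived hf h1 (mem_subgroupOf.mp k.2) (MonoidHom.ext fun x => Units.ext ?_)
    exact congrFun hk ((subgroupOfEquivOfLe hPK).symm x)
  have hind : Cfsg.indFun K θ = indP f := indFun_trans _ K hPK (ev f)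
  rcases d.classify hT hθ with h | ⟨ψ, hψ, he⟩
  · rw [hind] at h; exact absurd h (s.indP_not_irr hf)
  refine ⟨ψ, hψ, fun e => ?_, by rw [d.red_eq hT hψ, ← he, hind], fun l hl hlP => ?_⟩
  · -- the column is not the trivial one
    rw [e, d.mu_one' hT] at he
    obtain ⟨x, hx⟩ : ∃ x, f x ≠ 1 := by
      by_contra hc; push Not at hc; exact h1 (MonoidHom.ext hc)
    have h := frobenius_reciprocity ((Cfsg.fittingHall ↥M).subgroupOf K) (ev f')
      (χ := fun _ : ↥K => (1 : ℂ)) (fun _ _ => rfl)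
    rw [← hθdef, he, classInner_irrChar isIrrCharacter_one isIrrCharacter_one, if_pos rfl,
      show (fun _ : ↥((Cfsg.fittingHall ↥M).subgroupOf K) => (1 : ℂ)) = ev 1 from rfl,
      classInner_ev] at h
    split at h
    · rename_i h0
      exact hx (by simpa [hf'] using DFunLike.congr_fun h0 ((subgroupOfEquivOfLe hPK).symm x))
    · exact one_ne_zero h
  · have h := congrFun he ⟨l, mem_subgroupOf.mpr hl⟩
    rw [hθdef, indFun_normal_not_mem] at h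
    · exact h.symm
    · exact fun hc => hlP (mem_subgroupOf.mp hc)

/-- Every non-trivial column comes from a fixed character. -/
theorem exists_fixed {ψ : ↥(W₁ ⊔ W₂) →* ℂˣ} (hψ : OnSecond ψ) (hψ1 : ψ ≠ 1) :
    ∃ f : ↥(Cfsg.fittingHall ↥M) →* ℂˣ, IsFixed W₁ f ∧ f ≠ 1 ∧ redChar μ ψ = indP f ∧
      ∀ l : M, (l : G) ∈ ⁅M, M⁆ → l ∉ Cfsg.fittingHall ↥M → μ ψ l = 0 := by
  classical
  let F : {f : {f : ↥(Cfsg.fittingHall ↥M) →* ℂˣ // IsFixed W₁ f} // f.1 ≠ 1} →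
      {ψ : {ψ : ↥(W₁ ⊔ W₂) →* ℂˣ // OnSecond ψ} // ψ.1 ≠ 1} := fun f =>
    ⟨⟨(s.exists_col hG hT f.1.2 f.2).choose, (s.exists_col hG hT f.1.2 f.2).choose_spec.1⟩,
      (s.exists_col hG hT f.1.2 f.2).choose_spec.2.1⟩
  have hF : Function.Injective F := by
    intro a b h
    have ha := (s.exists_col hG hT a.1.2 a.2).choose_spec.2.2.1
    have hb := (s.exists_col hG hT b.1.2 b.2).choose_spec.2.2.1
    rw [show (s.exists_col hG hT a.1.2 a.2).choose = (s.exists_col hG hT b.1.2 b.2).choose from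
      congrArg (fun t => t.1.1) h, hb] at ha
    haveI := Fintype.ofFinite ↥(Cfsg.fittingHall ↥M)
    obtain ⟨g, hg⟩ := s09_conj_of_indFun_eq (isIrr_ev a.1.1) (isIrr_ev b.1.1) ha.symm
    refine Subtype.ext (Subtype.ext ?_)
    exact s.fixed_eq_of_twist a.1.2 a.2 b.1.2 (ev_injective (by rw [ev_twist]; exact hg))
  have hsub : ∀ {α : Type u} [Finite α] (x : α), Nat.card {a : α // a ≠ x} = Nat.card α - 1 := by
    intro α _ x
    have := Fintype.ofFinite α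
    rw [Nat.card_eq_fintype_card, Nat.card_eq_fintype_card, Fintype.card_subtype_compl,
      Fintype.card_subtype_eq]
  have hc : Nat.card {f : {f : ↥(Cfsg.fittingHall ↥M) →* ℂˣ // IsFixed W₁ f} // f.1 ≠ 1} =
      Nat.card {ψ : {ψ : ↥(W₁ ⊔ W₂) →* ℂˣ // OnSecond ψ} // ψ.1 ≠ 1} := by
    have e1 := hsub (⟨1, fun w _ => s.twist_one_left w⟩ :
      {f : ↥(Cfsg.fittingHall ↥M) →* ℂˣ // IsFixed W₁ f})
    have e2 := hsub (⟨1, onSecond_one⟩ : {ψ : ↥(W₁ ⊔ W₂) →* ℂˣ // OnSecond ψ})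
    rw [s.card_fixed] at e1
    rw [card_onSecond s.dataP.selfNormalizing] at e2
    refine (Nat.card_congr (Equiv.subtypeEquivRight fun f => ?_)).trans
      ((e1.trans e2.symm).trans (Nat.card_congr (Equiv.subtypeEquivRight fun f => ?_)))
    · exact ⟨fun h e => h (congrArg Subtype.val e), fun h e => h (Subtype.ext e)⟩
    · exact ⟨fun h e => h (Subtype.ext e), fun h e => h (congrArg Subtype.val e)⟩
  obtain ⟨f, hf⟩ := ((Nat.bijective_iff_injective_and_card F).mpr ⟨hF, hc⟩).2 ⟨⟨ψ, hψ⟩, hψ1⟩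
  have he : (s.exists_col hG hT f.1.2 f.2).choose = ψ := congrArg (fun t => t.1.1) hf
  have hs := (s.exists_col hG hT f.1.2 f.2).choose_spec.2.2
  rw [he] at hs
  exact ⟨f.1.1, f.1.2, f.2, hs⟩

/-- A non-trivial column sum vanishes off `P`. -/
theorem red_off {ψ : ↥(W₁ ⊔ W₂) →* ℂˣ} (hψ : OnSecond ψ) (hψ1 : ψ ≠ 1) {l : M}
    (hl : l ∉ Cfsg.fittingHall ↥M) : redChar μ ψ l = 0 := by
  obtain ⟨f, -, -, he, -⟩ := s.exists_fixed hG hT hψ hψ1
  rw [he, s.indP_off f hl]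

theorem mu_derived_off {φ ψ : ↥(W₁ ⊔ W₂) →* ℂˣ} (hφ : OnFirst φ) (hψ : OnSecond ψ) (hψ1 : ψ ≠ 1)
    {l : M} (hl : (l : G) ∈ ⁅M, M⁆) (hlP : l ∉ Cfsg.fittingHall ↥M) : μ (φ * ψ) l = 0 := by
  obtain ⟨f, -, -, -, h⟩ := s.exists_fixed hG hT hψ hψ1
  rw [hT.column_on_K _ _ (sameColumn_mul hφ) l hl, h l hl hlP]

theorem mu_deg {φ ψ : ↥(W₁ ⊔ W₂) →* ℂˣ} (hφ : OnFirst φ) (hψ : OnSecond ψ) (hψ1 : ψ ≠ 1) :
    μ (φ * ψ) 1 = (Nat.card U : ℂ) := by
  classical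
  have hψe : μ (φ * ψ) 1 = μ ψ 1 :=
    hT.column_on_K _ _ (sameColumn_mul hφ) 1 (by simp)
  obtain ⟨f, -, -, he, -⟩ := s.exists_fixed hG hT hψ hψ1
  have h1 : redChar μ ψ 1 = (Nat.card W₁ : ℂ) * μ ψ 1 := by
    rw [(s.prime hG).red_eq hT hψ, indFun_one]
    have hi : ((⁅M, M⁆ : Subgroup G).subgroupOf M).index = Nat.card W₁ := by
      have h := ((⁅M, M⁆ : Subgroup G).subgroupOf M).card_mul_index
      rw [Nat.card_congr (subgroupOfEquivOfLe (Subgroup.commutator_le_self M)).toEquiv,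
        s.hyp9.card_eq] at h
      exact Nat.eq_of_mul_eq_mul_left Nat.card_pos h
    rw [hi]; rfl
  rw [he, s.indP_one] at h1
  push_cast at h1
  rw [hψe]
  exact mul_left_cancel₀ (Nat.cast_ne_zero.mpr s.q_prime.ne_zero)
    (h1.symm.trans (mul_comm _ _))

theorem delta_eq_one {ψ : ↥(W₁ ⊔ W₂) →* ℂˣ} (hψ : OnSecond ψ) (hψ1 : ψ ≠ 1) : δ ψ = 1 := by
  rcases hT.sign ψ with h | h
  · exact h
  exfalso
  obtain ⟨n, hn⟩ := hT.degree ψ
  have hd := s.mu_deg hG hT onFirst_one hψ hψ1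
  rw [hom_one_mul] at hd
  rw [hd, h] at hn
  have h2 : ((Nat.card U : ℤ) + 1) = n * (Nat.card W₁ : ℤ) := by
    have : (((Nat.card U : ℤ) + 1 : ℤ) : ℂ) = ((n * (Nat.card W₁ : ℤ) : ℤ) : ℂ) := by
      push_cast; rw [← hn]; ring
    exact_mod_cast this
  have h3 : (Nat.card W₁ : ℤ) ∣ 2 := by
    have h4 := (Nat.modEq_iff_dvd (a := 1) (b := Nat.card U)).mp s.u_modEq.symm
    have h5 : (Nat.card W₁ : ℤ) ∣ (Nat.card U : ℤ) + 1 := ⟨n, by rw [h2]; ring⟩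
    have := dvd_sub h5 h4
    simpa using this
  have h6 : Nat.card W₁ ∣ 2 := Int.natCast_dvd_natCast.mp h3
  have := (Nat.prime_dvd_prime_iff_eq s.q_prime Nat.prime_two).mp h6
  exact absurd (s.odd_q hG) (by rw [this]; decide)

theorem mu_apply_W {φ ψ : ↥(W₁ ⊔ W₂) →* ℂˣ} (hφ : OnFirst φ) (hψ : OnSecond ψ) (hψ1 : ψ ≠ 1)
    {l : M} {w : ↥(W₁ ⊔ W₂)} (hlw : (l : G) = w) (hw : (w : G) ∉ W₂) :
    μ (φ * ψ) l = ((φ * ψ) w : ℂ) := by
  rw [hT.apply_off _ l w hlw hw, delta_mul hT hφ, s.delta_eq_one hG hT hψ hψ1, one_mul]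

theorem mu_ne {ω ω' : ↥(W₁ ⊔ W₂) →* ℂˣ} (h : ω ≠ ω') : Cfsg.classInner (μ ω) (μ ω') = 0 := by
  rw [classInner_irrChar (hT.irr ω) (hT.irr ω'), if_neg fun e => h (hT.injective e)]

end Side

end Cfsg.Agent.PF
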