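import Cfsg.Agent.OddChar.PF.S14Budget

/-!
# Section 14: the mass of `ζ` on the support of its piece
-/

set_option linter.style.haveILetI false
set_option linter.unusedSectionVars false
set_option linter.unusedVariables false
set_option autoImplicit false

universe u

namespace Cfsg.Agent.PF

open Cfsg.Lib.Chars
open scoped ComplexConjugate

variable {G : Type u} [Group G] [Fintype G]

attribute [local instance] Piece.fin

/-- The image of `ζ` has mass at least `1 - e / (h - 1)` on the support of its piece. -/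
theorem Piece.own_mass (P : Piece G) (hG : Cfsg.IsMinSimpleOddOrder G) :
    1 - (P.e : ℝ) / ((P.h : ℝ) - 1) ≤ mass P.zt P.supp := by
  classical
  choose! k hk using fun φ (h : φ ∈ P.members) => (P.member_val (P.mem_members.mp h)).2.2
  set A : ℝ := ∑ φ ∈ P.members, (k φ : ℝ) ^ 2 with hA
  have hζ := P.mem_members.mpr P.spec.zeta_mem
  have he : (0 : ℝ) < P.e := Nat.cast_pos.mpr P.e_pos
  have hAe : A * P.e = (P.h : ℝ) - 1 := by
    refine mul_right_cancel₀ he.ne' ?_
    rw [mul_comm ((P.h : ℝ) - 1), ← P.sum_sq, hA, Finset.sum_mul, Finset.sum_mul]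
    refine Finset.sum_congr rfl fun φ hφ => ?_
    rw [hk φ hφ, ← Nat.cast_mul, Complex.natCast_re, Nat.cast_mul]
    ring
  have hkζ : k P.ζ = 1 := by
    have h := (hk _ hζ).symm.trans P.spec.zeta_deg
    have h' : k P.ζ * P.e = 1 * P.e := by
      rw [one_mul]; exact_mod_cast h
    exact Nat.eq_of_mul_eq_mul_right P.e_pos h'
  set f : ↥P.L → ℂ := ∑ φ ∈ P.members, (k φ : ℂ) • (φ - ((k φ : ℤ) : ℂ) • P.ζ) with hf
  set Y : G → ℂ := ∑ φ ∈ P.members, (k φ : ℂ) • P.τ₁ φ with hY
  have hD : pieceTau P.L P.K P.N f = Y - (A : ℂ) • P.zt := by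
    rw [hf, pieceTau_sum, hY, hA, Complex.ofReal_sum, Finset.sum_smul, ← Finset.sum_sub_distrib]
    refine Finset.sum_congr rfl fun φ hφ => ?_
    rw [pieceTau_smul, P.diff_image (P.mem_members.mp hφ) P.spec.zeta_mem (k φ)
      (by rw [P.spec.zeta_deg]; push_cast; exact hk φ hφ), smul_sub, smul_smul, Piece.zt]
    push_cast
    rw [pow_two]
  have hon : ∀ φ ∈ P.members, ∀ ψ ∈ P.members,
      Cfsg.classInner (P.τ₁ φ) (P.τ₁ ψ) = if φ = ψ then 1 else 0 := fun φ hφ ψ hψ => by
    rw [P.img_inner (P.mem_members.mp hφ) (P.mem_members.mp hψ),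
      classInner_irrChar (P.spec.irr _ (P.mem_members.mp hφ))
        (P.spec.irr _ (P.mem_members.mp hψ))]
  have hzY : Cfsg.classInner P.zt Y = 1 := by
    rw [hY, classInner_sum_right, Finset.sum_eq_single P.ζ]
    · rw [classInner_smul_right, Piece.zt, hon _ hζ _ hζ, if_pos rfl, hkζ]; simp
    · intro φ hφ hne
      rw [classInner_smul_right, Piece.zt, hon _ hζ _ hφ, if_neg hne.symm, mul_zero]
    · exact fun h => absurd hζ h
  have hYY : Cfsg.classInner Y Y = (A : ℂ) := by
    rw [hY, classInner_sum_left, hA, Complex.ofReal_sum]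
    refine Finset.sum_congr rfl fun φ hφ => ?_
    rw [classInner_smul_left, classInner_sum_right, Finset.sum_eq_single φ]
    · rw [classInner_smul_right, hon _ hφ _ hφ, if_pos rfl, map_natCast, mul_one]
      push_cast; ring
    · intro ψ hψ hne
      rw [classInner_smul_right, hon _ hφ _ hψ, if_neg hne.symm, mul_zero]
    · exact fun h => absurd hφ h
  have hzz : Cfsg.classInner P.zt P.zt = 1 := P.zt_signed.inner_self
  have h1 : Cfsg.classInner P.zt (pieceTau P.L P.K P.N f) = ((1 - A : ℝ) : ℂ) := by
    rw [hD, classInner_sub_right, classInner_smul_right, hzY, hzz, Complex.conj_ofReal]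
    push_cast; ring
  have h2 : (Cfsg.classInner (pieceTau P.L P.K P.N f) (pieceTau P.L P.K P.N f)).re = A ^ 2 - A := by
    rw [hD, classInner_sub_left, classInner_sub_right, classInner_sub_right, classInner_smul_left,
      classInner_smul_right, classInner_smul_left, classInner_smul_right, hzY, hzz, hYY,
      ← classInner_conj_symm P.zt Y, hzY, map_one, Complex.conj_ofReal]
    simp; ring
  have h := sq_inner_le_mass (X := P.zt) (fun g hg => P.tau_off f hg) h2.le
  rw [h1, Complex.norm_real, Real.norm_eq_abs, sq_abs] at h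
  have hA2 : 2 ≤ A := le_of_mul_le_mul_right ((P.two_e_lt hG).trans hAe.ge) he
  have h3 : (A - 1) * (A - 1) ≤ (mass P.zt P.supp * A) * (A - 1) := by nlinarith
  have h4 := le_of_mul_le_mul_right h3 (by linarith)
  rw [← hAe, show (P.e : ℝ) / (A * P.e) = 1 / A by field_simp]
  rw [sub_le_iff_le_add, ← sub_le_iff_le_add', le_div_iff₀ (by linarith)]
  nlinarith

namespace Cfg14

variable {S T W₁ W₂ U V : Subgroup G} [Fintype S] [Fintype T] (c : Cfg14 S T W₁ W₂ U V)
  (hG : Cfsg.IsMinSimpleOddOrder G)
include c hG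

/-- If all other pieces have odd coefficient along `ζ` of one piece, they are small. -/
theorem others_small (i : c.ι) [DecidableEq c.ι] (x : c.ι → ℤ)
    (hx : ∀ k, k ≠ i → Cfsg.classInner (c.piece k).beta (c.piece i).zt = (x k : ℂ))
    (hx0 : ∀ k, k ≠ i → x k ≠ 0) :
    ∑ k ∈ (@Finset.univ c.ι c.fin).erase i, (c.piece k).share ≤
      ((c.piece i).e : ℝ) / (((c.piece i).h : ℝ) - 1) := by
  classical
  letI := c.fin
  set χ := (c.piece i).zt with hχ
  have hsig : IsSignedIrr G χ := (c.piece i).zt_signed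
  have hd : ((Finset.univ : Finset c.ι) : Set c.ι).PairwiseDisjoint fun k => (c.piece k).supp :=
    fun a _ b _ hab => c.disj a b hab
  have h := mass_sum_le Finset.univ (fun k => (c.piece k).supp) hd χ
  rw [hsig.inner_self, Complex.one_re, ← Finset.sum_erase_add _ _ (Finset.mem_univ i)] at h
  have hown := (c.piece i).own_mass hG
  have hle : ∀ k ∈ Finset.univ.erase i, (c.piece k).share ≤ mass χ (c.piece k).supp := by
    intro k hk
    have hki := (Finset.mem_erase.mp hk).1
    have hm := (c.piece k).mass_ge hG (signed_class hsig) fun φ hφ =>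
      (c.piece i).img_orth hG (c.disj i k hki.symm) (c.piece i).spec.zeta_mem hφ
    rw [← classInner_conj_symm (c.piece k).beta χ, hx k hki, map_intCast, norm_int_sq] at hm
    refine le_trans (le_mul_of_one_le_left ((c.piece k).share_nonneg hG) ?_) hm
    have : (1 : ℤ) ≤ x k ^ 2 := by
      have : 0 < x k ^ 2 := by have := hx0 k hki; positivity
      omega
    exact_mod_cast this
  have hsum := Finset.sum_le_sum hle
  linarith

end Cfg14

end Cfsg.Agent.PF
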