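import Cfsg.Agent.OddChar.PF.S14MassBasic
import Cfsg.Agent.OddChar.PF.S12Induced
import Cfsg.Agent.OddChar.InducedFamily
import Cfsg.Agent.OddChar.PF.S07InvDade

/-!
# Section 14: a coherent Frobenius piece

A subgroup `L` with normal subgroups `N < K`, `L / N` Frobenius with kernel `K / N`, the Dade
hypothesis on `K ∖ N` and coherence of the characters induced from those of `K / N`. With
`β = τ(Ind_K^L 1 - ζ)`, `ζ` of degree `|L : K|`.
-/

set_option linter.style.haveILetI false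
set_option linter.unusedSectionVars false
set_option linter.unusedVariables false
set_option autoImplicit false

universe u

namespace Cfsg.Agent.PF

open Cfsg.Lib.Chars
open Cfsg.Lib.Coherence (inner_int subset_zspan zspan_gen)
open Cfsg.Lib.InducedFamily
open Subgroup
open scoped ComplexConjugate

variable {G : Type u} [Group G] [Fintype G]

/-- The members of the piece. -/
def pieceChars (L K N : Subgroup G) [Fintype L] : Set (↥L → ℂ) :=
  Cfsg.inducedIrrAbove (K.subgroupOf L) (N.subgroupOf L)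

/-- The Dade map of the piece. -/
noncomputable def pieceTau (L K N : Subgroup G) (f : ↥L → ℂ) : G → ℂ :=
  Cfsg.dadeIsometry ((K : Set G) \ N) L (Cfsg.supportR L) f

theorem pieceTau_add (L K N : Subgroup G) (f f' : ↥L → ℂ) :
    pieceTau L K N (f + f') = pieceTau L K N f + pieceTau L K N f' := by
  funext g; simp only [pieceTau, Cfsg.dadeIsometry, Pi.add_apply]; split <;> simp

theorem pieceTau_sub (L K N : Subgroup G) (f f' : ↥L → ℂ) :
    pieceTau L K N (f - f') = pieceTau L K N f - pieceTau L K N f' := by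
  funext g; simp only [pieceTau, Cfsg.dadeIsometry, Pi.sub_apply]; split <;> simp

theorem pieceTau_smul (L K N : Subgroup G) (c : ℂ) (f : ↥L → ℂ) :
    pieceTau L K N (c • f) = c • pieceTau L K N f := by
  funext g; simp only [pieceTau, Cfsg.dadeIsometry, Pi.smul_apply, smul_eq_mul]; split <;> simp

theorem pieceTau_sum (L K N : Subgroup G) {ι : Type*} (t : Finset ι) (f : ι → ↥L → ℂ) :
    pieceTau L K N (∑ i ∈ t, f i) = ∑ i ∈ t, pieceTau L K N (f i) := by
  classical
  induction t using Finset.induction with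
  | empty =>
    rw [Finset.sum_empty, Finset.sum_empty]
    have := pieceTau_smul L K N (0 : ℂ) 0
    rwa [zero_smul, zero_smul] at this
  | insert i t hi ih => rw [Finset.sum_insert hi, Finset.sum_insert hi, pieceTau_add, ih]

/-- The hypotheses on a piece, with a lifting `τ₁` and a member `ζ` of least degree. -/
structure PieceSpec (L K N : Subgroup G) [Fintype L] (τ₁ : (↥L → ℂ) → (G → ℂ)) (ζ : ↥L → ℂ) :
    Prop where
  K_le : K ≤ L
  N_le : N ≤ K
  normalK : (K.subgroupOf L).Normal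
  normalN : (N.subgroupOf L).Normal
  dade : Cfsg.DadeHypothesis ((K : Set G) \ N) L (Cfsg.supportR L)
  irr : ∀ φ ∈ pieceChars L K N, Cfsg.IsIrrCharacter ↥L φ
  iso : Cfsg.IsLinearIsometryOn (Cfsg.zspan (pieceChars L K N)) τ₁
  ext : ∀ f ∈ Cfsg.zspanOn (pieceChars L K N) {1}ᶜ, τ₁ f = pieceTau L K N f
  zeta_mem : ζ ∈ pieceChars L K N
  zeta_deg : ζ 1 = ((K.subgroupOf L).index : ℂ)

/-- A piece. -/
structure Piece (G : Type u) [Group G] [Fintype G] where
  /-- The subgroup. -/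
  L : Subgroup G
  /-- The kernel. -/
  K : Subgroup G
  /-- The normal subgroup divided out. -/
  N : Subgroup G
  /-- Finiteness. -/
  fin : Fintype L
  /-- The lifting. -/
  τ₁ : (↥L → ℂ) → (G → ℂ)
  /-- The member of least degree. -/
  ζ : ↥L → ℂ
  spec : @PieceSpec G _ _ L K N fin τ₁ ζ

namespace Piece

attribute [local instance] Piece.fin

variable (P : Piece G)

instance : (P.K.subgroupOf P.L).Normal := P.spec.normalK

instance : (P.N.subgroupOf P.L).Normal := P.spec.normalN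

/-- The index of the kernel. -/
noncomputable def e : ℕ := (P.K.subgroupOf P.L).index

/-- The order of the kernel modulo `N`. -/
noncomputable def h : ℕ := (P.N.subgroupOf P.L).relIndex (P.K.subgroupOf P.L)

/-- The share of the piece in `G`. -/
noncomputable def share : ℝ := (1 - 1 / (P.h : ℝ)) / P.e

/-- The support of the images. -/
def supp : Set G := dadeSupp ((P.K : Set G) \ P.N) (Cfsg.supportR P.L)

/-- The permutation character on the cosets of the kernel. -/
noncomputable def perm : ↥P.L → ℂ := Cfsg.indFun (P.K.subgroupOf P.L) (fun _ => (1 : ℂ))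

/-- `τ(Ind_K 1 - ζ)`. -/
noncomputable def beta : G → ℂ := pieceTau P.L P.K P.N (P.perm - P.ζ)

/-- The image of `ζ`. -/
noncomputable def zt : G → ℂ := P.τ₁ P.ζ

/-- Orthogonal to all the images of the members. -/
def Orth (χ : G → ℂ) : Prop :=
  ∀ φ ∈ pieceChars P.L P.K P.N, Cfsg.classInner χ (P.τ₁ φ) = 0

theorem mem_A {a : P.L} (hK : a ∈ P.K.subgroupOf P.L) (hN : a ∉ P.N.subgroupOf P.L) :
    (a : G) ∈ (P.K : Set G) \ P.N := ⟨mem_subgroupOf.mp hK, fun h => hN (mem_subgroupOf.mpr h)⟩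

theorem le_KN : P.N.subgroupOf P.L ≤ P.K.subgroupOf P.L := fun x hx =>
  mem_subgroupOf.mpr (P.spec.N_le (mem_subgroupOf.mp hx))

theorem e_pos : 0 < P.e := Nat.pos_of_ne_zero (Subgroup.index_ne_zero_of_finite)

theorem perm_apply (l : P.L) [Decidable (l ∈ P.K.subgroupOf P.L)] :
    P.perm l = if l ∈ P.K.subgroupOf P.L then (P.e : ℂ) else 0 := by
  split
  · rename_i hl
    show Cfsg.indFun (P.K.subgroupOf P.L) (fun _ => (1 : ℂ)) l = _
    rw [indFun_normal_mem (P.K.subgroupOf P.L) _ ⟨l, hl⟩, Finset.sum_const, Finset.card_univ,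
      ← Nat.card_eq_fintype_card, ← (P.K.subgroupOf P.L).card_mul_index, nsmul_eq_mul, mul_one,
      Nat.cast_mul, inv_mul_cancel_left₀ (Nat.cast_ne_zero.mpr Nat.card_pos.ne')]
    rfl
  · rename_i hl; exact indFun_normal_not_mem _ _ hl

theorem member_val {φ : ↥P.L → ℂ} (h : φ ∈ pieceChars P.L P.K P.N) :
    (∀ l : P.L, l ∉ P.K.subgroupOf P.L → φ l = 0) ∧
      (∀ l : P.L, l ∈ P.N.subgroupOf P.L → φ l = φ 1) ∧ ∃ k : ℕ, φ 1 = (k : ℂ) * P.e := by
  obtain ⟨θ, hθ, -, hker, rfl⟩ := h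
  refine ⟨fun l hl => indFun_normal_not_mem _ _ hl, fun l hl => ?_, ?_⟩
  · rw [indFun_normal_mem (P.K.subgroupOf P.L) θ ⟨l, P.le_KN hl⟩,
      show (1 : ↥P.L) = ((1 : ↥(P.K.subgroupOf P.L)) : ↥P.L) from rfl,
      indFun_normal_mem (P.K.subgroupOf P.L) θ (1 : ↥(P.K.subgroupOf P.L))]
    congr 1
    refine Finset.sum_congr rfl fun g _ => ?_
    rw [hker ⟨g * l * g⁻¹, _⟩ (P.spec.normalN.conj_mem l hl g)]
    congr 1
    exact Subtype.ext (by simp)
  · obtain ⟨k, hk⟩ := IsCharacter.apply_one (isCharacter_of_irr hθ)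
    exact ⟨k, by rw [indFun_one, hk, mul_comm]; rfl⟩

theorem vanish_of_member_comb {f : ↥P.L → ℂ} (hf : f ∈ Cfsg.zspanOn (pieceChars P.L P.K P.N) {1}ᶜ)
    (l : P.L) (hl : (l : G) ∉ (P.K : Set G) \ P.N) : f l = 0 := by
  obtain ⟨hspan, h1⟩ := Cfsg.Lib.Coherence.mem_one.mp hf
  by_cases hK : l ∈ P.K.subgroupOf P.L
  · have hN : l ∈ P.N.subgroupOf P.L := by
      by_contra hN; exact hl (P.mem_A hK hN)
    suffices f l = f 1 by rw [this, h1]
    clear h1 hf
    refine Submodule.span_induction (p := fun g _ => g l = g 1) (fun g hg => (P.member_val hg).2.1 l hN)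
      rfl (fun a b _ _ ha hb => by simp [ha, hb]) (fun c a _ ha => by simp [ha]) hspan
  · clear h1 hf
    exact Submodule.span_induction (p := fun g _ => g l = 0) (fun g hg => (P.member_val hg).1 l hK)
      rfl (fun a b _ _ ha hb => by simp [ha, hb]) (fun c a _ ha => by simp [ha]) hspan

theorem member_class {φ : ↥P.L → ℂ} (h : φ ∈ pieceChars P.L P.K P.N) :
    Cfsg.IsClassFunction ↥P.L φ :=
  isClassFunction_isChar (isCharacter_of_irr (P.spec.irr φ h))

theorem zspan_class {f : ↥P.L → ℂ} (hf : f ∈ Cfsg.zspan (pieceChars P.L P.K P.N)) :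
    Cfsg.IsClassFunction ↥P.L f :=
  isClassFunction_generalized (zspan_gen
    (fun φ hφ => IsSignedIrr.generalized (Or.inl (P.spec.irr φ hφ))) hf)

/-- A signed irreducible image. -/
theorem img_signed {φ : ↥P.L → ℂ} (h : φ ∈ pieceChars P.L P.K P.N) : IsSignedIrr G (P.τ₁ φ) :=
  signed_of_norm_one (P.spec.iso.2.2.2 φ (subset_zspan h)) (by
    rw [P.spec.iso.2.2.1 φ (subset_zspan h) φ (subset_zspan h),
      classInner_irrChar (P.spec.irr φ h) (P.spec.irr φ h), if_pos rfl])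

theorem img_inner {φ φ' : ↥P.L → ℂ} (h : φ ∈ pieceChars P.L P.K P.N)
    (h' : φ' ∈ pieceChars P.L P.K P.N) :
    Cfsg.classInner (P.τ₁ φ) (P.τ₁ φ') = Cfsg.classInner φ φ' :=
  P.spec.iso.2.2.1 φ (subset_zspan h) φ' (subset_zspan h')

theorem conj_member {φ : ↥P.L → ℂ} (h : φ ∈ pieceChars P.L P.K P.N) :
    Cfsg.conjFun φ ∈ pieceChars P.L P.K P.N := conj_mem_above _ h

theorem member_ne_conj (hG : Cfsg.IsMinSimpleOddOrder G) {φ : ↥P.L → ℂ}
    (h : φ ∈ pieceChars P.L P.K P.N) : Cfsg.conjFun φ ≠ φ := by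
  intro e
  have hodd : Odd (Nat.card P.L) := hG.1.of_dvd_nat (Subgroup.card_subgroup_dvd_card P.L)
  have hp := eq_principal_of_real hodd ⟨φ, P.spec.irr φ h⟩ fun g =>
    Complex.conj_eq_iff_im.mp (congrFun e g)
  obtain ⟨θ, hθ, hne, -, rfl⟩ := id h
  haveI := Fintype.ofFinite ↥(P.K.subgroupOf P.L)
  have h1 := frobenius_reciprocity (P.K.subgroupOf P.L) θ (χ := fun _ : P.L => (1 : ℂ))
    (fun _ _ => rfl)
  rw [show Cfsg.indFun (P.K.subgroupOf P.L) θ = fun _ => (1 : ℂ) from congrArg Subtype.val hp,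
    classInner_irrChar isIrrCharacter_one isIrrCharacter_one, if_pos rfl,
    classInner_irrChar hθ isIrrCharacter_one, if_neg hne] at h1
  exact one_ne_zero h1

/-- A difference of members as an element of the span. -/
theorem diff_mem {φ φ' : ↥P.L → ℂ} (h : φ ∈ pieceChars P.L P.K P.N)
    (h' : φ' ∈ pieceChars P.L P.K P.N) (k : ℤ) (hk : φ 1 = (k : ℂ) * φ' 1) :
    φ - (k : ℂ) • φ' ∈ Cfsg.zspanOn (pieceChars P.L P.K P.N) {1}ᶜ := by
  refine Cfsg.Lib.Coherence.mem_one.mpr ⟨?_, by simp [hk]⟩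
  refine Submodule.sub_mem _ (Submodule.subset_span h) ?_
  rw [show (k : ℂ) • φ' = k • φ' from by funext x; simp]
  exact Submodule.smul_mem _ k (Submodule.subset_span h')

theorem diff_image {φ φ' : ↥P.L → ℂ} (h : φ ∈ pieceChars P.L P.K P.N)
    (h' : φ' ∈ pieceChars P.L P.K P.N) (k : ℤ) (hk : φ 1 = (k : ℂ) * φ' 1) :
    pieceTau P.L P.K P.N (φ - (k : ℂ) • φ') = P.τ₁ φ - (k : ℂ) • P.τ₁ φ' := by
  rw [← P.spec.ext _ (P.diff_mem h h' k hk)]
  have hτ := P.spec.iso
  have hs : (k : ℂ) • φ' = k • φ' := by funext x; simp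
  rw [hs, Cfsg.Lib.Coherence.map_sub' (E := Submodule.span ℤ (pieceChars P.L P.K P.N)) hτ
    (Submodule.subset_span h) (Submodule.smul_mem _ k (Submodule.subset_span h')),
    hτ.2.1 φ' (subset_zspan h') k]
  funext g; simp

theorem tau_class {f : ↥P.L → ℂ} (hf : Cfsg.IsClassFunction ↥P.L f) :
    Cfsg.IsClassFunction G (pieceTau P.L P.K P.N f) :=
  Cfsg.Lib.Dade.isClassFunction_dade P.spec.dade hf

theorem tau_off (f : ↥P.L → ℂ) {g : G} (hg : g ∉ P.supp) : pieceTau P.L P.K P.N f g = 0 := by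
  simp only [pieceTau, Cfsg.dadeIsometry]
  rw [dif_neg]
  rintro ⟨a, ha, x, u, hu, he⟩
  exact hg ⟨a, ha, u, hu, x, he⟩

/-- Conjugation commutes with the lifting. -/
theorem conj_img (hG : Cfsg.IsMinSimpleOddOrder G) {φ : ↥P.L → ℂ}
    (h : φ ∈ pieceChars P.L P.K P.N) :
    Cfsg.conjFun (P.τ₁ φ) = P.τ₁ (Cfsg.conjFun φ) := by
  have h' := P.conj_member h
  obtain ⟨k, hk⟩ := (P.member_val h).2.2
  have h1 : φ 1 = ((1 : ℤ) : ℂ) * Cfsg.conjFun φ 1 := by
    simp [Cfsg.conjFun, hk]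
  have h2 : Cfsg.conjFun φ 1 = ((1 : ℤ) : ℂ) * φ 1 := by simp [Cfsg.conjFun, hk]
  refine conj_of_diff (P.img_signed h) (P.img_signed h') ?_ ?_
  · rw [P.img_inner h h', classInner_irrChar (P.spec.irr _ h) (P.spec.irr _ h'),
      if_neg (P.member_ne_conj hG h).symm]
  · have e1 := P.diff_image h h' 1 h1
    have e2 := P.diff_image h' h 1 h2
    rw [Int.cast_one, one_smul, one_smul] at e1 e2
    rw [← e1, ← e2, pieceTau, pieceTau, conjFun_dade, conjFun_sub']
    congr 2
    funext x; exact Complex.conj_conj _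

/-- The members as a finite set. -/
noncomputable def members : Finset (↥P.L → ℂ) :=
  (finite_above (K := P.K.subgroupOf P.L) (P.N.subgroupOf P.L)).toFinset

theorem mem_members {φ : ↥P.L → ℂ} : φ ∈ P.members ↔ φ ∈ pieceChars P.L P.K P.N :=
  Set.Finite.mem_toFinset _

/-- `∑ φ(1) ^ 2 = e (h - 1)`. -/
theorem sum_sq : ∑ φ ∈ P.members, ((φ 1).re) ^ 2 = (P.e : ℝ) * ((P.h : ℝ) - 1) := by
  have h := sum_ratio (K := P.K.subgroupOf P.L) (P.N.subgroupOf P.L)
  refine Eq.trans (Finset.sum_congr rfl fun φ hφ => ?_) h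
  have hi := P.spec.irr φ (P.mem_members.mp hφ)
  rw [classInner_irrChar hi hi, if_pos rfl, Complex.one_re, div_one,
    IsCharacter.apply_one_eq_deg (isCharacter_of_irr hi), Complex.natCast_re]

theorem two_e_lt (hG : Cfsg.IsMinSimpleOddOrder G) : 2 * (P.e : ℝ) ≤ (P.h : ℝ) - 1 := by
  classical
  have hz := P.spec.zeta_mem
  have hz' := P.conj_member hz
  have hne := P.member_ne_conj hG hz
  have h : ∑ φ ∈ ({P.ζ, Cfsg.conjFun P.ζ} : Finset (↥P.L → ℂ)), ((φ 1).re) ^ 2 ≤
      ∑ φ ∈ P.members, ((φ 1).re) ^ 2 :=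
    Finset.sum_le_sum_of_subset_of_nonneg (by
      intro x hx
      rcases Finset.mem_insert.mp hx with rfl | hx
      · exact P.mem_members.mpr hz
      · rw [Finset.mem_singleton.mp hx]; exact P.mem_members.mpr hz') fun _ _ _ => sq_nonneg _
  rw [P.sum_sq, Finset.sum_pair hne.symm] at h
  have e1 : (P.ζ 1).re = (P.e : ℝ) := by rw [P.spec.zeta_deg, Complex.natCast_re]; rfl
  have e2 : (Cfsg.conjFun P.ζ 1).re = (P.e : ℝ) := by simp [Cfsg.conjFun, e1]
  rw [e1, e2] at h
  have he : (0 : ℝ) < P.e := Nat.cast_pos.mpr P.e_pos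
  exact le_of_mul_le_mul_left (by nlinarith [h]) he

theorem h_gt_one (hG : Cfsg.IsMinSimpleOddOrder G) : 1 < P.h := by
  have h1 := P.two_e_lt hG
  have h2 : (0 : ℝ) < P.e := Nat.cast_pos.mpr P.e_pos
  have h3 : (1 : ℝ) < (P.h : ℝ) := by linarith
  exact_mod_cast h3

theorem share_nonneg (hG : Cfsg.IsMinSimpleOddOrder G) : 0 ≤ P.share := by
  refine div_nonneg (sub_nonneg.mpr ?_) (Nat.cast_nonneg _)
  rw [div_le_one (by exact_mod_cast (P.h_gt_one hG).trans' zero_lt_one)]
  exact_mod_cast (P.h_gt_one hG).le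

theorem perm_zeta_off (l : P.L) (hl : (l : G) ∉ (P.K : Set G) \ P.N) :
    (P.perm - P.ζ) l = 0 := by
  classical
  have hz := P.member_val P.spec.zeta_mem
  rw [Pi.sub_apply, P.perm_apply]
  by_cases hK : l ∈ P.K.subgroupOf P.L
  · have hN : l ∈ P.N.subgroupOf P.L := by
      by_contra hN; exact hl (P.mem_A hK hN)
    rw [if_pos hK, hz.2.1 l hN, P.spec.zeta_deg]
    exact sub_self _
  · rw [if_neg hK, hz.1 l hK, sub_zero]

theorem perm_gen : Cfsg.IsGeneralizedCharacter ↥P.L P.perm := by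
  haveI := Fintype.ofFinite ↥(P.K.subgroupOf P.L)
  exact IsGeneralizedCharacter.indFun (IsSignedIrr.generalized (Or.inl isIrrCharacter_one))

theorem perm_zeta_class : Cfsg.IsClassFunction ↥P.L (P.perm - P.ζ) :=
  isClassFunction_generalized (IsGeneralizedCharacter.sub P.perm_gen
    (IsSignedIrr.generalized (Or.inl (P.spec.irr _ P.spec.zeta_mem))))

theorem beta_gen : Cfsg.IsGeneralizedCharacter G P.beta :=
  Cfsg.Lib.Dade.isGeneralized_dade P.spec.dade (IsGeneralizedCharacter.sub P.perm_gen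
    (IsSignedIrr.generalized (Or.inl (P.spec.irr _ P.spec.zeta_mem)))) P.perm_zeta_off

theorem beta_class : Cfsg.IsClassFunction G P.beta := P.tau_class P.perm_zeta_class

theorem beta_off {g : G} (hg : g ∉ P.supp) : P.beta g = 0 := P.tau_off _ hg

theorem zt_signed : IsSignedIrr G P.zt := P.img_signed P.spec.zeta_mem

theorem inner_perm_self : Cfsg.classInner P.perm P.perm = (P.e : ℂ) := by
  haveI := Fintype.ofFinite ↥(P.K.subgroupOf P.L)
  classical
  show Cfsg.classInner (Cfsg.indFun _ _) P.perm = _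
  rw [frobenius_reciprocity _ _ (isClassFunction_generalized P.perm_gen),
    show (fun x : ↥(P.K.subgroupOf P.L) => P.perm (x : P.L)) =
      (P.e : ℂ) • (fun _ => (1 : ℂ)) from funext fun x => by
        rw [P.perm_apply, if_pos x.2]; simp,
    classInner_smul_right, classInner_irrChar isIrrCharacter_one isIrrCharacter_one, if_pos rfl,
    mul_one, map_natCast]

theorem inner_perm_member {φ : ↥P.L → ℂ} (hφ : φ ∈ pieceChars P.L P.K P.N) :
    Cfsg.classInner P.perm φ = 0 := by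
  obtain ⟨θ, hθ, hne, -, rfl⟩ := hφ
  haveI := Fintype.ofFinite ↥(P.K.subgroupOf P.L)
  classical
  rw [frobenius_reciprocity' _ _ (isClassFunction_generalized P.perm_gen),
    show (fun x : ↥(P.K.subgroupOf P.L) => P.perm (x : P.L)) =
      (P.e : ℂ) • (fun _ => (1 : ℂ)) from funext fun x => by
        rw [P.perm_apply, if_pos x.2]; simp,
    classInner_smul_left, classInner_irrChar isIrrCharacter_one hθ, if_neg (Ne.symm hne), mul_zero]

theorem member_ne_one {φ : ↥P.L → ℂ} (hφ : φ ∈ pieceChars P.L P.K P.N) :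
    Cfsg.classInner φ (fun _ : P.L => (1 : ℂ)) = 0 := by
  obtain ⟨θ, hθ, hne, -, rfl⟩ := hφ
  haveI := Fintype.ofFinite ↥(P.K.subgroupOf P.L)
  rw [frobenius_reciprocity _ _ (fun _ _ => rfl), classInner_irrChar hθ isIrrCharacter_one,
    if_neg hne]

theorem beta_norm : Cfsg.classInner P.beta P.beta = (P.e : ℂ) + 1 := by
  rw [beta, pieceTau, Cfsg.Lib.Dade.classInner_dade_dade P.spec.dade P.perm_zeta_class
    P.perm_zeta_off P.perm_zeta_class, classInner_sub_left, classInner_sub_right,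
    classInner_sub_right, P.inner_perm_self, P.inner_perm_member P.spec.zeta_mem,
    ← classInner_conj_symm P.perm P.ζ, P.inner_perm_member P.spec.zeta_mem, map_zero,
    classInner_irrChar (P.spec.irr _ P.spec.zeta_mem) (P.spec.irr _ P.spec.zeta_mem), if_pos rfl]
  ring

theorem beta_one : Cfsg.classInner P.beta (fun _ : G => (1 : ℂ)) = 1 := by
  rw [beta, pieceTau, inner_dade P.spec.dade P.perm_zeta_class P.perm_zeta_off (fun _ _ => rfl)]
  have e : Cfsg.classInner (P.perm - P.ζ)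
      (rho ((P.K : Set G) \ P.N) P.L (Cfsg.supportR P.L) (fun _ => 1)) =
      Cfsg.classInner (P.perm - P.ζ) (fun _ : P.L => (1 : ℂ)) := by
    rw [classInner_def, classInner_def]
    congr 1
    refine Finset.sum_congr rfl fun x _ => ?_
    by_cases hx : (x : G) ∈ (P.K : Set G) \ P.N
    · rw [rho_one hx]
    · rw [P.perm_zeta_off x hx, zero_mul, zero_mul]
  haveI := Fintype.ofFinite ↥(P.K.subgroupOf P.L)
  rw [e, classInner_sub_left, P.member_ne_one P.spec.zeta_mem, sub_zero]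
  show Cfsg.classInner (Cfsg.indFun _ _) _ = 1
  rw [frobenius_reciprocity _ _ (fun _ _ => rfl),
    classInner_irrChar isIrrCharacter_one isIrrCharacter_one, if_pos rfl]

theorem tau_inner_one {φ : ↥P.L → ℂ} (hφ : φ ∈ pieceChars P.L P.K P.N)
    (hG : Cfsg.IsMinSimpleOddOrder G) :
    Cfsg.classInner (P.τ₁ φ) (fun _ : G => (1 : ℂ)) = 0 := by
  have h1 : IsSignedIrr G (fun _ : G => (1 : ℂ)) := Or.inl isIrrCharacter_one
  have e : Cfsg.classInner (P.τ₁ φ) (fun _ : G => (1 : ℂ)) =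
      Cfsg.classInner (P.τ₁ (Cfsg.conjFun φ)) (fun _ : G => (1 : ℂ)) := by
    rw [← P.conj_img hG hφ]
    obtain ⟨m, hm⟩ := inner_int (P.img_signed hφ).generalized h1.generalized
    rw [show (fun _ : G => (1 : ℂ)) = Cfsg.conjFun (fun _ : G => (1 : ℂ)) from
      funext fun _ => (map_one _).symm, classInner_conjFun']
    rw [show Cfsg.conjFun (fun _ : G => (1 : ℂ)) = fun _ : G => (1 : ℂ) from
      funext fun _ => map_one _, hm, map_intCast]
  have ho : Cfsg.classInner (P.τ₁ φ) (P.τ₁ (Cfsg.conjFun φ)) = 0 := by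
    rw [P.img_inner hφ (P.conj_member hφ),
      classInner_irrChar (P.spec.irr _ hφ) (P.spec.irr _ (P.conj_member hφ)),
      if_neg (P.member_ne_conj hG hφ).symm]
  have hflip := congrArg conj e
  rw [classInner_conj_symm, classInner_conj_symm] at hflip
  have := h1.orth_diff (P.img_signed hφ) ho hflip
  rw [← classInner_conj_symm, this, map_zero]

/-- The real part of `β`. -/
theorem beta_real (hG : Cfsg.IsMinSimpleOddOrder G) :
    Cfsg.conjFun (P.beta - (fun _ => 1) + P.zt) = P.beta - (fun _ => 1) + P.zt := by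
  have hz := P.spec.zeta_mem
  have e1 : Cfsg.conjFun P.beta = pieceTau P.L P.K P.N (P.perm - Cfsg.conjFun P.ζ) := by
    rw [beta, pieceTau, conjFun_dade, conjFun_sub']
    congr 2
    haveI := Classical.decPred (· ∈ P.K.subgroupOf P.L)
    funext l
    show conj (P.perm l) = P.perm l
    rw [P.perm_apply]
    split <;> simp
  obtain ⟨k, hk⟩ := (P.member_val hz).2.2
  have h1 : P.ζ 1 = ((1 : ℤ) : ℂ) * Cfsg.conjFun P.ζ 1 := by simp [Cfsg.conjFun, hk]
  have e2 := P.diff_image hz (P.conj_member hz) 1 h1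
  rw [Int.cast_one, one_smul, one_smul] at e2
  have e3 : pieceTau P.L P.K P.N (P.perm - Cfsg.conjFun P.ζ) =
      P.beta + (P.zt - P.τ₁ (Cfsg.conjFun P.ζ)) := by
    rw [beta, zt, ← e2, ← pieceTau_add]
    congr 1
    abel
  rw [conjFun_add', conjFun_sub', e1, e3, zt, P.conj_img hG hz,
    show Cfsg.conjFun (fun _ : G => (1 : ℂ)) = fun _ : G => (1 : ℂ) from
      funext fun _ => map_one _]
  abel

/-- The constancy of the coefficients of a function orthogonal to the images of the differences. -/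
theorem coeff_const {X : G → ℂ} (hX : ∀ g ∈ P.supp, X g = 0) {φ : ↥P.L → ℂ}
    (hφ : φ ∈ pieceChars P.L P.K P.N) :
    Cfsg.classInner X (P.τ₁ φ) = ((φ 1).re / P.e : ℝ) * Cfsg.classInner X P.zt := by
  obtain ⟨k, hk⟩ := (P.member_val hφ).2.2
  have h1 : φ 1 = ((k : ℤ) : ℂ) * P.ζ 1 := by rw [P.spec.zeta_deg, hk, Int.cast_natCast]; rfl
  have h0 : Cfsg.classInner X (pieceTau P.L P.K P.N (φ - ((k : ℤ) : ℂ) • P.ζ)) = 0 := by
    rw [← classInner_conj_symm, classInner_eq_zero_of_disjoint (A := P.supp)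
      (fun g hg => P.tau_off _ hg) hX, map_zero]
  rw [P.diff_image hφ P.spec.zeta_mem k h1, classInner_sub_right, classInner_smul_right,
    map_intCast, sub_eq_zero] at h0
  have he : (P.e : ℝ) ≠ 0 := Nat.cast_ne_zero.mpr P.e_pos.ne'
  rw [h0, show ((φ 1).re / P.e : ℝ) = (k : ℝ) from by
    rw [hk, ← Nat.cast_mul, Complex.natCast_re, Nat.cast_mul, mul_div_cancel_right₀ _ he]]
  simp [zt]

/-- `∑ |⟨X, τ₁ φ⟩| ^ 2` for constant coefficients. -/
theorem coeff_sum {X : G → ℂ} (hX : ∀ g ∈ P.supp, X g = 0) :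
    ∑ φ ∈ P.members, ‖Cfsg.classInner X (P.τ₁ φ)‖ ^ 2 =
      ‖Cfsg.classInner X P.zt‖ ^ 2 * (((P.h : ℝ) - 1) / P.e) := by
  rw [Finset.sum_congr rfl fun φ hφ => show ‖Cfsg.classInner X (P.τ₁ φ)‖ ^ 2 =
      ‖Cfsg.classInner X P.zt‖ ^ 2 / (P.e : ℝ) ^ 2 * (φ 1).re ^ 2 by
    rw [P.coeff_const hX (P.mem_members.mp hφ), norm_mul, mul_pow, Complex.norm_real,
      Real.norm_eq_abs, sq_abs]
    ring, ← Finset.mul_sum, P.sum_sq]
  have he : (P.e : ℝ) ≠ 0 := Nat.cast_ne_zero.mpr P.e_pos.ne'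
  field_simp

/-- The coefficients of `β` on the images of its own members contribute at least `1`. -/
theorem own_ge (hG : Cfsg.IsMinSimpleOddOrder G) :
    1 ≤ ∑ φ ∈ P.members, ‖Cfsg.classInner P.beta (P.τ₁ φ)‖ ^ 2 := by
  classical
  have hz := P.spec.zeta_mem
  obtain ⟨x, hx⟩ := inner_int P.beta_gen P.zt_signed.generalized
  have hcoef : ∀ φ ∈ P.members, Cfsg.classInner P.beta (P.τ₁ φ) =
      (((φ 1).re / P.e * ((x : ℝ) + 1) - if φ = P.ζ then 1 else 0 : ℝ) : ℂ) := by
    intro φ hφ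
    rw [P.mem_members] at hφ
    obtain ⟨k, hk⟩ := (P.member_val hφ).2.2
    have h1 : φ 1 = ((k : ℤ) : ℂ) * P.ζ 1 := by rw [P.spec.zeta_deg, hk, Int.cast_natCast]; rfl
    have h0 : Cfsg.classInner P.beta (pieceTau P.L P.K P.N (φ - ((k : ℤ) : ℂ) • P.ζ)) =
        Cfsg.classInner (P.perm - P.ζ) (φ - ((k : ℤ) : ℂ) • P.ζ) := by
      rw [beta, pieceTau, pieceTau, Cfsg.Lib.Dade.classInner_dade_dade P.spec.dade P.perm_zeta_class
        P.perm_zeta_off]
      exact isClassFunction_generalized (IsGeneralizedCharacter.sub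
        (IsSignedIrr.generalized (Or.inl (P.spec.irr _ hφ)))
        (by
          rw [show ((k : ℤ) : ℂ) • P.ζ = (k : ℤ) • P.ζ from by funext y; simp]
          exact zspan_gen (fun ψ hψ => IsSignedIrr.generalized (Or.inl (P.spec.irr ψ hψ)))
            (Submodule.smul_mem _ (k : ℤ) (Submodule.subset_span hz))))
    rw [P.diff_image hφ hz k h1, classInner_sub_right, classInner_smul_right, map_intCast,
      classInner_sub_left, classInner_sub_right, classInner_sub_right, classInner_smul_right,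
      classInner_smul_right, map_intCast, P.inner_perm_member hφ, P.inner_perm_member hz,
      classInner_irrChar (P.spec.irr _ hz) (P.spec.irr _ hz), if_pos rfl,
      classInner_irrChar (P.spec.irr _ hz) (P.spec.irr _ hφ)] at h0
    have hx' : Cfsg.classInner P.beta (P.τ₁ P.ζ) = (x : ℂ) := hx
    rw [hx', sub_eq_iff_eq_add] at h0
    have he : (P.e : ℝ) ≠ 0 := Nat.cast_ne_zero.mpr P.e_pos.ne'
    rw [h0, show ((φ 1).re / P.e : ℝ) = (k : ℝ) from by
      rw [hk, ← Nat.cast_mul, Complex.natCast_re, Nat.cast_mul, mul_div_cancel_right₀ _ he]]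
    by_cases hφz : φ = P.ζ
    · rw [if_pos hφz, if_pos hφz.symm]; push_cast; ring
    · rw [if_neg hφz, if_neg (Ne.symm hφz)]; push_cast; ring
  rw [Finset.sum_congr rfl fun φ hφ => show ‖Cfsg.classInner P.beta (P.τ₁ φ)‖ ^ 2 =
      ((φ 1).re ^ 2) * (((x : ℝ) + 1) / P.e) ^ 2 +
        (if φ = P.ζ then 1 - 2 * ((φ 1).re / P.e * ((x : ℝ) + 1)) else 0) by
    rw [hcoef φ hφ, Complex.norm_real, Real.norm_eq_abs, sq_abs]
    split <;> ring,
    Finset.sum_add_distrib, ← Finset.sum_mul, P.sum_sq, Finset.sum_ite_eq',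
    if_pos (P.mem_members.mpr hz), P.spec.zeta_deg, Complex.natCast_re]
  have he : (0 : ℝ) < P.e := Nat.cast_pos.mpr P.e_pos
  show 1 ≤ (P.e : ℝ) * ((P.h : ℝ) - 1) * (((x : ℝ) + 1) / P.e) ^ 2 +
    (1 - 2 * ((P.e : ℝ) / P.e * ((x : ℝ) + 1)))
  have h2 := P.two_e_lt hG
  have hH : 2 ≤ ((P.h : ℝ) - 1) / P.e := by rw [le_div_iff₀ he]; linarith
  rw [div_self he.ne', one_mul,
    show (P.e : ℝ) * ((P.h : ℝ) - 1) * (((x : ℝ) + 1) / P.e) ^ 2 =
      ((P.h : ℝ) - 1) / P.e * ((x : ℝ) + 1) ^ 2 from by field_simp]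
  have hi : (x : ℝ) + 1 ≤ 0 ∨ 1 ≤ (x : ℝ) + 1 := by
    rcases le_or_gt (x + 1) 0 with h | h
    · exact Or.inl (by exact_mod_cast h)
    · exact Or.inr (by exact_mod_cast h)
  rcases hi with hi | hi <;> nlinarith [mul_le_mul_of_nonneg_right hH (sq_nonneg ((x : ℝ) + 1))]

theorem card_A_div :
    (Nat.card P.L : ℝ)⁻¹ * (Nat.card {a : P.L // (a : G) ∈ (P.K : Set G) \ P.N} : ℝ) = P.share := by
  classical
  haveI := Fintype.ofFinite ↥(P.K.subgroupOf P.L)
  haveI := Fintype.ofFinite ↥(P.N.subgroupOf P.L)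
  have e1 : (Finset.univ.filter fun a : P.L => (a : G) ∈ (P.K : Set G) \ P.N) =
      (Finset.univ.filter fun a : P.L => a ∈ P.K.subgroupOf P.L) \
        (Finset.univ.filter fun a : P.L => a ∈ P.N.subgroupOf P.L) := by
    ext a; simp [mem_subgroupOf]
  rw [Nat.card_eq_fintype_card (α := {a : P.L // _}), Fintype.card_subtype, e1,
    Finset.card_sdiff_of_subset (fun a ha => by
      simp only [Finset.mem_filter, Finset.mem_univ, true_and] at ha ⊢; exact P.le_KN ha),
    ← Fintype.card_subtype, ← Fintype.card_subtype, ← Nat.card_eq_fintype_card,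
    ← Nat.card_eq_fintype_card]
  have hK : Nat.card ↥(P.K.subgroupOf P.L) = Nat.card ↥(P.N.subgroupOf P.L) * P.h := by
    have h := ((P.N.subgroupOf P.L).subgroupOf (P.K.subgroupOf P.L)).card_mul_index
    rw [Nat.card_congr (subgroupOfEquivOfLe P.le_KN).toEquiv] at h
    exact h.symm
  change (Nat.card P.L : ℝ)⁻¹ *
    ((Nat.card ↥(P.K.subgroupOf P.L) - Nat.card ↥(P.N.subgroupOf P.L) : ℕ) : ℝ) = _
  rw [Nat.cast_sub (Subgroup.card_le_of_le P.le_KN), ← (P.K.subgroupOf P.L).card_mul_index, hK,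
    share, show (P.K.subgroupOf P.L).index = P.e from rfl]
  have hN : (Nat.card ↥(P.N.subgroupOf P.L) : ℝ) ≠ 0 := Nat.cast_ne_zero.mpr Nat.card_pos.ne'
  have he : (P.e : ℝ) ≠ 0 := Nat.cast_ne_zero.mpr P.e_pos.ne'
  have hh : (P.h : ℝ) ≠ 0 := Nat.cast_ne_zero.mpr (fun h0 => by
    rw [h0, mul_zero] at hK; exact Nat.card_pos.ne' hK)
  push_cast
  field_simp

theorem card_supp : (Nat.card P.supp : ℝ) / Nat.card G = P.share := by
  rw [← P.card_A_div, ← card_dadeSupp P.spec.dade, div_eq_inv_mul]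
  rfl

/-- The mass of a function orthogonal to the images of the members. -/
theorem mass_ge (hG : Cfsg.IsMinSimpleOddOrder G) {χ : G → ℂ} (hχ : Cfsg.IsClassFunction G χ)
    (ho : P.Orth χ) :
    ‖Cfsg.classInner χ P.beta‖ ^ 2 * P.share ≤ mass χ P.supp := by
  classical
  haveI := Fintype.ofFinite ↥(P.K.subgroupOf P.L)
  haveI := Fintype.ofFinite ↥(P.N.subgroupOf P.L)
  set Km := P.K.subgroupOf P.L with hKm
  set Nk : Subgroup ↥Km := (P.N.subgroupOf P.L).subgroupOf Km with hNk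
  haveI : Nk.Normal := inferInstance
  haveI := Fintype.ofFinite ↥Nk
  -- the indicator of `K ∖ N`
  set F : ↥P.L → ℂ := fun a => Set.indicator ((P.K : Set G) \ P.N) (fun _ => (1 : ℂ)) (a : G)
    with hF
  have hFc : Cfsg.IsClassFunction ↥P.L F := isClassFunction_indicator P.spec.dade
  have hFoff : ∀ a : P.L, (a : G) ∉ (P.K : Set G) \ P.N → F a = 0 := fun a ha => by
    simp only [hF, Set.indicator_of_notMem ha]
  -- its expansion through the members
  set Ab := Finset.univ.filter fun θ : Cfsg.IrrCharacter ↥Km =>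
    ∀ a ∈ Nk, (θ : ↥Km → ℂ) a = (θ : ↥Km → ℂ) 1 with hAb
  have hreg : (fun a : ↥Km => if a ∈ Nk then (Nk.index : ℂ) else 0) =
      ∑ θ ∈ Ab, (θ : ↥Km → ℂ) 1 • (θ : ↥Km → ℂ) := by
    have hcls : Cfsg.IsClassFunction ↥Km (fun a : ↥Km => if a ∈ Nk then (Nk.index : ℂ) else 0) :=
      fun x y => if_congr ⟨fun h => by simpa [mul_assoc] using (inferInstance : Nk.Normal).conj_mem _ h y⁻¹,
        fun h => (inferInstance : Nk.Normal).conj_mem x h y⟩ rfl rfl
    rw [classFunction_expand hcls, Finset.sum_filter]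
    refine Finset.sum_congr rfl fun θ _ => ?_
    have hin : Cfsg.classInner (fun a : ↥Km => if a ∈ Nk then (Nk.index : ℂ) else 0)
        (θ : ↥Km → ℂ) = Cfsg.classInner (fun _ : ↥Nk => (1 : ℂ)) (fun a : ↥Nk => (θ : ↥Km → ℂ) a) := by
      rw [classInner_def, classInner_def, ← Nk.card_mul_index]
      simp only [ite_mul, zero_mul]
      rw [← Finset.sum_filter, Finset.sum_subtype (Finset.univ.filter fun a : ↥Km => a ∈ Nk)
        (p := (· ∈ Nk)) (fun a => by simp), ← Finset.mul_sum, Nat.cast_mul, mul_inv, mul_assoc]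
      simp only [one_mul]
      rw [inv_mul_cancel_left₀ (Nat.cast_ne_zero.mpr Nk.index_ne_zero_of_finite)]
    rw [hin]
    split
    · rename_i hθ
      obtain ⟨n, -, hn⟩ := IsIrrCharacter.apply_one θ.2
      rw [show (fun a : ↥Nk => (θ : ↥Km → ℂ) a) =
        (θ : ↥Km → ℂ) 1 • (fun _ => (1 : ℂ)) from funext fun a => by rw [hθ a a.2]; simp,
        classInner_smul_right, classInner_irrChar isIrrCharacter_one isIrrCharacter_one, if_pos rfl,
        mul_one, hn, map_natCast]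
    · rename_i hθ
      suffices Cfsg.classInner (fun a : ↥Nk => (θ : ↥Km → ℂ) a) (fun _ : ↥Nk => (1 : ℂ)) = 0 by
        rw [← classInner_conj_symm, this, map_zero, zero_smul]
      by_contra hne
      obtain ⟨k, -, hk⟩ := restrict_eq_mult_of_invariant (N := Nk) θ.2 isIrrCharacter_one
        (fun g => rfl) hne
      refine hθ fun a ha => ?_
      have h1 := congrFun hk ⟨a, ha⟩
      have h2 := congrFun hk 1
      simp only [Pi.smul_apply, smul_eq_mul] at h1 h2
      rw [h1]; exact h2.symm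
  -- the identity `h e 1_A = ∑ θ(1) (θ(1) Ind 1 - Ind θ)`
  have hh : Nk.index = P.h := rfl
  have hident : ((P.h : ℂ) * P.e) • F =
      ∑ θ ∈ Ab, (θ : ↥Km → ℂ) 1 • ((θ : ↥Km → ℂ) 1 • P.perm - Cfsg.indFun Km (θ : ↥Km → ℂ)) := by
    have hsq : ∑ θ ∈ Ab, (θ : ↥Km → ℂ) 1 * (θ : ↥Km → ℂ) 1 = (P.h : ℂ) := by
      have h := congrArg (fun n : ℕ => (n : ℂ)) (sum_deg_sq_above Nk)
      push_cast at h
      rw [hh] at h
      rw [← h]
      refine Finset.sum_congr rfl fun θ _ => ?_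
      rw [irr_apply_one_eq_deg, sq]
    have hind : ∑ θ ∈ Ab, (θ : ↥Km → ℂ) 1 • Cfsg.indFun Km (θ : ↥Km → ℂ) =
        Cfsg.indFun Km (fun a : ↥Km => if a ∈ Nk then (P.h : ℂ) else 0) := by
      rw [show (fun a : ↥Km => if a ∈ Nk then (P.h : ℂ) else 0) =
        ∑ θ ∈ Ab, (θ : ↥Km → ℂ) 1 • (θ : ↥Km → ℂ) from hh ▸ hreg, indFun_sum]
      simp only [indFun_smul]
    simp only [smul_sub, smul_smul, Finset.sum_sub_distrib]
    rw [hind, ← Finset.sum_smul, hsq]
    funext a
    simp only [Pi.smul_apply, Pi.sub_apply, smul_eq_mul, hF]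
    rw [P.perm_apply]
    by_cases hK : a ∈ Km
    · rw [if_pos hK, indFun_normal_mem Km _ ⟨a, hK⟩]
      have hiff : ∀ g : P.L, (⟨g * a * g⁻¹, P.spec.normalK.conj_mem a hK g⟩ : ↥Km) ∈ Nk ↔
          a ∈ P.N.subgroupOf P.L := fun g =>
        ⟨fun h => by simpa [mul_assoc] using P.spec.normalN.conj_mem _ (mem_subgroupOf.mp h) g⁻¹,
          fun h => mem_subgroupOf.mpr (P.spec.normalN.conj_mem a h g)⟩
      by_cases hN : a ∈ P.N.subgroupOf P.L
      · rw [Set.indicator_of_notMem (fun h => h.2 (mem_subgroupOf.mp hN)), mul_zero,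
          Finset.sum_congr rfl fun g _ => if_pos ((hiff g).mpr hN), Finset.sum_const,
          Finset.card_univ, ← Nat.card_eq_fintype_card, ← Km.card_mul_index, nsmul_eq_mul,
          Nat.cast_mul, mul_assoc ((Nat.card ↥Km : ℕ) : ℂ),
          inv_mul_cancel_left₀ (Nat.cast_ne_zero.mpr Nat.card_pos.ne')]
        show (0 : ℂ) = _ - (P.e : ℂ) * P.h
        ring
      · rw [Set.indicator_of_mem (P.mem_A hK hN), Finset.sum_eq_zero
          fun g _ => if_neg fun h => hN ((hiff g).mp h)]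
        ring
    · rw [if_neg hK, indFun_normal_not_mem _ _ hK,
        Set.indicator_of_notMem (fun h => hK (mem_subgroupOf.mpr h.1))]
      ring
  -- the inner product with the image of the indicator
  have hterm : ∀ θ ∈ Ab, Cfsg.classInner χ (pieceTau P.L P.K P.N
      ((θ : ↥Km → ℂ) 1 • P.perm - Cfsg.indFun Km (θ : ↥Km → ℂ))) =
      (if (θ : ↥Km → ℂ) = (fun _ => 1) then 0 else (θ : ↥Km → ℂ) 1) *
        Cfsg.classInner χ P.beta := by
    intro θ hθ
    by_cases h1 : (θ : ↥Km → ℂ) = fun _ => 1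
    · rw [if_pos h1, zero_mul, show (θ : ↥Km → ℂ) 1 • P.perm = P.perm from by rw [h1, one_smul],
        show Cfsg.indFun Km (θ : ↥Km → ℂ) = P.perm from by rw [h1]; rfl, sub_self]
      have := pieceTau_smul P.L P.K P.N (0 : ℂ) 0
      rw [zero_smul, zero_smul] at this
      rw [this, classInner_zero_right]
    · rw [if_neg h1]
      have hmem : Cfsg.indFun Km (θ : ↥Km → ℂ) ∈ pieceChars P.L P.K P.N :=
        ⟨θ, θ.2, h1, fun a ha => (Finset.mem_filter.mp hθ).2 a (mem_subgroupOf.mpr ha), rfl⟩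
      obtain ⟨k, -, hk⟩ := IsIrrCharacter.apply_one θ.2
      have hdeg : Cfsg.indFun Km (θ : ↥Km → ℂ) 1 = ((k : ℤ) : ℂ) * P.ζ 1 := by
        rw [indFun_one, P.spec.zeta_deg, hk, Int.cast_natCast, mul_comm]
      have e : (θ : ↥Km → ℂ) 1 • P.perm - Cfsg.indFun Km (θ : ↥Km → ℂ) =
          ((k : ℤ) : ℂ) • (P.perm - P.ζ) -
            (Cfsg.indFun Km (θ : ↥Km → ℂ) - ((k : ℤ) : ℂ) • P.ζ) := by
        rw [hk, Int.cast_natCast, smul_sub]; abel
      rw [e, pieceTau_sub, pieceTau_smul, P.diff_image hmem P.spec.zeta_mem k hdeg,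
        classInner_sub_right, classInner_sub_right, classInner_smul_right, classInner_smul_right,
        ho _ hmem, ho _ P.spec.zeta_mem, mul_zero, sub_zero, sub_zero, hk, map_intCast,
        Int.cast_natCast]
      rfl
  have hprin : Ab.filter (fun θ : Cfsg.IrrCharacter ↥Km => (θ : ↥Km → ℂ) = fun _ => 1) =
      {principal ↥Km} := by
    ext θ
    simp only [Finset.mem_filter, Finset.mem_singleton, hAb, Finset.mem_univ, true_and]
    exact ⟨fun h => Subtype.ext h.2, fun h => by subst h; exact ⟨fun a _ => rfl, rfl⟩⟩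
  have hsum : Cfsg.classInner χ (pieceTau P.L P.K P.N F) =
      ((P.share : ℝ) : ℂ) * Cfsg.classInner χ P.beta := by
    have h := congrArg (fun f => Cfsg.classInner χ (pieceTau P.L P.K P.N f)) hident
    simp only [pieceTau_smul, classInner_smul_right, pieceTau_sum, classInner_sum_right, map_mul,
      map_natCast] at h
    have h2 : ∑ θ ∈ Ab, conj ((θ : ↥Km → ℂ) 1) * (Cfsg.classInner χ (pieceTau P.L P.K P.N
        ((θ : ↥Km → ℂ) 1 • P.perm - Cfsg.indFun Km (θ : ↥Km → ℂ)))) =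
        ((P.h : ℂ) - 1) * Cfsg.classInner χ P.beta := by
      rw [Finset.sum_congr rfl fun θ hθ => by rw [hterm θ hθ, ← mul_assoc], ← Finset.sum_mul]
      congr 1
      have hsq : ∑ θ ∈ Ab, (θ : ↥Km → ℂ) 1 * (θ : ↥Km → ℂ) 1 = (P.h : ℂ) := by
        have h' := congrArg (fun n : ℕ => (n : ℂ)) (sum_deg_sq_above Nk)
        push_cast at h'
        rw [hh] at h'
        rw [← h']
        refine Finset.sum_congr rfl fun θ _ => ?_
        rw [irr_apply_one_eq_deg, sq]
      rw [← hsq, ← Finset.sum_filter_add_sum_filter_not Ab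
        (fun θ : Cfsg.IrrCharacter ↥Km => (θ : ↥Km → ℂ) = fun _ => 1), hprin, Finset.sum_singleton,
        ← Finset.sum_filter_add_sum_filter_not Ab
          (fun θ : Cfsg.IrrCharacter ↥Km => (θ : ↥Km → ℂ) = fun _ => 1)
          (fun θ => (θ : ↥Km → ℂ) 1 * (θ : ↥Km → ℂ) 1), hprin, Finset.sum_singleton,
        show ((principal ↥Km : Cfsg.IrrCharacter ↥Km) : ↥Km → ℂ) = fun _ => 1 from rfl,
        if_pos rfl, mul_zero, zero_add, one_mul, add_sub_cancel_left]
      refine Finset.sum_congr rfl fun θ hθ => ?_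
      rw [if_neg (Finset.mem_filter.mp hθ).2, irr_apply_one_eq_deg, map_natCast]
    rw [h2] at h
    have hhe : (P.h : ℂ) * P.e ≠ 0 := mul_ne_zero
      (Nat.cast_ne_zero.mpr (zero_lt_one.trans (P.h_gt_one hG)).ne') (Nat.cast_ne_zero.mpr P.e_pos.ne')
    refine mul_left_cancel₀ hhe (h.trans ?_)
    rw [share]
    push_cast
    field_simp [(mul_ne_zero_iff.mp hhe).1, (mul_ne_zero_iff.mp hhe).2]
  have hnorm : (Cfsg.classInner (pieceTau P.L P.K P.N F) (pieceTau P.L P.K P.N F)).re = P.share := by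
    rw [pieceTau, Cfsg.Lib.Dade.classInner_dade_dade P.spec.dade hFc hFoff hFc, classInner_self,
      Complex.ofReal_re, ← P.card_A_div]
    congr 1
    rw [Nat.card_eq_fintype_card, Fintype.card_subtype, ← Finset.sum_boole]
    refine Finset.sum_congr rfl fun a _ => ?_
    simp only [hF]
    by_cases ha : (a : G) ∈ (P.K : Set G) \ P.N
    · rw [Set.indicator_of_mem ha, if_pos ha]; simp
    · rw [Set.indicator_of_notMem ha, if_neg ha]; simp
  have h := sq_inner_le_mass (X := χ) (fun g hg => P.tau_off F hg) hnorm.le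
  rw [hsum, norm_mul, Complex.norm_real, Real.norm_of_nonneg (P.share_nonneg hG), mul_pow] at h
  rcases (P.share_nonneg hG).eq_or_lt with h0 | h0
  · rw [← h0, mul_zero]; exact mass_nonneg _ _
  · refine le_of_mul_le_mul_right ?_ h0
    nlinarith [h]

/-- The images of the members of two pieces with disjoint supports are orthogonal. -/
theorem img_orth {Q : Piece G} (hG : Cfsg.IsMinSimpleOddOrder G) (hd : Disjoint P.supp Q.supp)
    {φ : ↥P.L → ℂ} (hφ : φ ∈ pieceChars P.L P.K P.N) {ψ : ↥Q.L → ℂ}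
    (hψ : ψ ∈ pieceChars Q.L Q.K Q.N) : Cfsg.classInner (P.τ₁ φ) (Q.τ₁ ψ) = 0 := by
  have diff : ∀ (R : Piece G) {ξ : ↥R.L → ℂ}, ξ ∈ pieceChars R.L R.K R.N →
      ∃ D : G → ℂ, D = R.τ₁ ξ - R.τ₁ (Cfsg.conjFun ξ) ∧ (∀ g ∉ R.supp, D g = 0) := by
    intro R ξ hξ
    obtain ⟨k, hk⟩ := (R.member_val hξ).2.2
    have h1 : ξ 1 = ((1 : ℤ) : ℂ) * Cfsg.conjFun ξ 1 := by simp [Cfsg.conjFun, hk]
    have e := R.diff_image hξ (R.conj_member hξ) 1 h1
    rw [Int.cast_one, one_smul, one_smul] at e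
    exact ⟨_, rfl, fun g hg => by rw [← e]; exact R.tau_off _ hg⟩
  obtain ⟨D, hD, hDoff⟩ := diff P hφ
  obtain ⟨E, hE, hEoff⟩ := diff Q hψ
  have h0 : Cfsg.classInner D E = 0 := classInner_eq_zero_of_disjoint hDoff
    fun g hg => hEoff g (Set.disjoint_left.mp hd hg)
  set a := P.τ₁ φ
  set b := Q.τ₁ ψ
  have hconj : ∀ {x y : G → ℂ}, IsSignedIrr G x → IsSignedIrr G y →
      Cfsg.classInner (Cfsg.conjFun x) (Cfsg.conjFun y) = Cfsg.classInner x y := by
    intro x y hx hy
    obtain ⟨m, hm⟩ := inner_int hx.generalized hy.generalized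
    rw [classInner_conjFun', hm, map_intCast]
  have hb := Q.img_signed hψ
  have hb' := Q.img_signed (Q.conj_member hψ)
  have ha := P.img_signed hφ
  rw [← P.conj_img hG hφ] at hD
  rw [← Q.conj_img hG hψ] at hE
  rw [← Q.conj_img hG hψ] at hb'
  have h2 : Cfsg.classInner (Cfsg.conjFun a) b = Cfsg.classInner a (Cfsg.conjFun b) := by
    conv_rhs => rw [← hconj ha hb']
    congr 1
    funext g; exact (Complex.conj_conj _).symm
  rw [hD, hE, classInner_sub_left, classInner_sub_right, classInner_sub_right, hconj ha hb, h2] at h0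
  refine ha.orth_diff (a' := Cfsg.conjFun b) hb ?_ (by linear_combination h0 / 2)
  show Cfsg.classInner (Q.τ₁ ψ) (Cfsg.conjFun (Q.τ₁ ψ)) = 0
  rw [Q.conj_img hG hψ, Q.img_inner hψ (Q.conj_member hψ),
    classInner_irrChar (Q.spec.irr _ hψ) (Q.spec.irr _ (Q.conj_member hψ)),
    if_neg (Q.member_ne_conj hG hψ).symm]

end Piece

end Cfsg.Agent.PF
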