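import Cfsg.Agent.OddChar.PF.S14Classify
import Cfsg.Agent.OddChar.PF.S14Grid
import Cfsg.Agent.OddChar.PF.S12IndCoherent

/-!
# Section 14: the image of `Ind_P^M f - μ_j` for a regular `f`

It is a signed irreducible character orthogonal to the cyclic TI family minus a column of that
family (or plus the conjugate column, when `|W₂| = 3`).
-/

set_option linter.style.haveILetI false
set_option linter.unusedSectionVars false
set_option linter.unusedVariables false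
set_option autoImplicit false

universe u

namespace Cfsg.Agent.PF

open Cfsg.Lib.Chars Cfsg.Lib.CyclicTI Cfsg.Lib.Dual
open Cfsg.Lib.Coherence (inner_int)
open Subgroup
open scoped ComplexConjugate

variable {G : Type u} [Group G] [Fintype G] {M W₁ U W₂ : Subgroup G}

/-- A column of the family. -/
noncomputable def colSum (η : (↥(W₁ ⊔ W₂) →* ℂˣ) → (G → ℂ)) (ψ : ↥(W₁ ⊔ W₂) →* ℂˣ) : G → ℂ :=
  ∑ᶠ φ ∈ {φ : ↥(W₁ ⊔ W₂) →* ℂˣ | OnFirst φ}, η (φ * ψ)

theorem colSum_eq (η : (↥(W₁ ⊔ W₂) →* ℂˣ) → (G → ℂ)) (ψ : ↥(W₁ ⊔ W₂) →* ℂˣ)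
    [Fintype {φ : ↥(W₁ ⊔ W₂) →* ℂˣ // OnFirst φ}] :
    colSum η ψ = ∑ φ : {φ : ↥(W₁ ⊔ W₂) →* ℂˣ // OnFirst φ}, η (φ.1 * ψ) :=
  (finsum_set_coe_eq_finsum_mem (f := fun φ => η (φ * ψ))
    ({φ : ↥(W₁ ⊔ W₂) →* ℂˣ | OnFirst φ})).symm.trans
      (finsum_eq_sum_of_fintype (α := {φ : ↥(W₁ ⊔ W₂) →* ℂˣ // OnFirst φ}) fun φ => η (φ.1 * ψ))

theorem inner_eta_colSum {η : (↥(W₁ ⊔ W₂) →* ℂˣ) → (G → ℂ)}
    (hW : Cfsg.IsSelfNormalizingCyclic W₁ W₂) (hη : Cfsg.IsCyclicTIFamily W₁ W₂ η)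
    {φ ψ ψ' : ↥(W₁ ⊔ W₂) →* ℂˣ} (hφ : OnFirst φ) (hψ : OnSecond ψ) (hψ' : OnSecond ψ')
    [Decidable (ψ = ψ')] :
    Cfsg.classInner (η (φ * ψ)) (colSum η ψ') = if ψ = ψ' then 1 else 0 := by
  classical
  haveI := Fintype.ofFinite {φ : ↥(W₁ ⊔ W₂) →* ℂˣ // OnFirst φ}
  rw [colSum_eq, classInner_sum_right, Finset.sum_eq_single (⟨φ, hφ⟩ : {φ // OnFirst φ})]
  · rw [hη.orthonormal]
    by_cases h : ψ = ψ'
    · rw [if_pos h, if_pos (by rw [h])]
    · rw [if_neg h, if_neg fun e => h ((mul_eq_iff hW hφ hψ hφ hψ').mp e).2]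
  · intro b _ hb
    rw [hη.orthonormal, if_neg fun e => hb (Subtype.ext ((mul_eq_iff hW hφ hψ b.2 hψ').mp e).1.symm)]
  · exact fun h => absurd (Finset.mem_univ _) h

theorem inner_colSum_colSum {η : (↥(W₁ ⊔ W₂) →* ℂˣ) → (G → ℂ)}
    (hW : Cfsg.IsSelfNormalizingCyclic W₁ W₂) (hη : Cfsg.IsCyclicTIFamily W₁ W₂ η)
    {ψ ψ' : ↥(W₁ ⊔ W₂) →* ℂˣ} (hψ : OnSecond ψ) (hψ' : OnSecond ψ') [Decidable (ψ = ψ')] :
    Cfsg.classInner (colSum η ψ) (colSum η ψ') = if ψ = ψ' then (Nat.card W₁ : ℂ) else 0 := by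
  classical
  haveI := Fintype.ofFinite {φ : ↥(W₁ ⊔ W₂) →* ℂˣ // OnFirst φ}
  rw [colSum_eq η ψ, classInner_sum_left,
    Finset.sum_congr rfl fun φ _ => inner_eta_colSum hW hη φ.2 hψ hψ',
    Finset.sum_const, Finset.card_univ, ← Nat.card_eq_fintype_card, card_onFirst hW]
  split <;> simp

theorem hom_mul_inv {A : Type*} [Group A] (φ ψ : A →* ℂˣ) : (φ * ψ)⁻¹ = φ⁻¹ * ψ⁻¹ :=
  MonoidHom.ext fun w => by simp [mul_comm]

theorem hom_inv_inv {A : Type*} [Group A] (φ : A →* ℂˣ) : φ⁻¹⁻¹ = φ :=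
  MonoidHom.ext fun w => by simp

theorem hom_inv_eq_one {A : Type*} [Group A] {φ : A →* ℂˣ} (h : φ⁻¹ = 1) : φ = 1 :=
  MonoidHom.ext fun w => by simpa using DFunLike.congr_fun h w

theorem tauM_sum {ι : Type*} (t : Finset ι) (f : ι → ↥M → ℂ) :
    tauM M (∑ i ∈ t, f i) = ∑ i ∈ t, tauM M (f i) := by
  classical
  induction t using Finset.induction with
  | empty =>
    rw [Finset.sum_empty, Finset.sum_empty]
    have := tauM_smul (M := M) (0 : ℂ) 0
    rwa [zero_smul, zero_smul] at this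
  | insert i t hi ih => rw [Finset.sum_insert hi, Finset.sum_insert hi, tauM_add, ih]

namespace Side

variable (s : Side M W₁ U W₂) (hG : Cfsg.IsMinSimpleOddOrder G)
include s

/-- An element of `W` outside both factors is not conjugate into `P`. -/
theorem hat_not_pSet {w : G} (hw : w ∈ W₁ ⊔ W₂) (h2 : w ∉ W₂) : w ∉ pSet M := by
  rintro ⟨x, hx, -, hc⟩
  obtain ⟨c, hc⟩ := isConj_iff.mp hc
  have hwp : w ^ Nat.card W₂ = 1 := by
    rw [← hc, conj_pow, s.elem.2 x hx, mul_one, mul_inv_cancel]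
  obtain ⟨a, b, ha, hb, he⟩ := mem_sup s.dataP.selfNormalizing ⟨w, hw⟩
  have he' : w = (a : G) * (b : G) := congrArg Subtype.val he
  have hab : Commute (a : G) b := s.dataP.selfNormalizing.2.2.2.1 _ ha _ hb
  have hb' : (b : G) ^ Nat.card W₂ = 1 := Cfsg.Lib.Dade.pow_card_mem hb
  rw [he', hab.mul_pow, hb', mul_one] at hwp
  have ha' : (a : G) ^ Nat.card W₁ = 1 := Cfsg.Lib.Dade.pow_card_mem ha
  have ha1 : (a : G) = 1 := (pow_eq_one_iff_of_coprime
    ((Nat.coprime_primes s.q_prime s.p_prime).mpr s.ne)).mp ⟨ha', hwp⟩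
  exact h2 (by rw [he', ha1, one_mul]; exact hb)

variable [Fintype M] {μ : (↥(W₁ ⊔ W₂) →* ℂˣ) → (↥M → ℂ)} {δ : (↥(W₁ ⊔ W₂) →* ℂˣ) → ℂ}

theorem indP_conj (f : ↥(Cfsg.fittingHall ↥M) →* ℂˣ) :
    Cfsg.conjFun (indP f) = indP f⁻¹ := by
  rw [indP, indP, conjFun_indFun]
  refine congrArg _ (funext fun x => ?_)
  show conj (f x : ℂ) = (((f⁻¹) x : ℂˣ) : ℂ)
  rw [MonoidHom.inv_apply, Units.val_inv_eq_inv_val]
  refine (Complex.inv_eq_conj ?_).symm
  have h : (f x : ℂ) ^ Nat.card W₂ = 1 := by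
    rw [← Units.val_pow_eq_pow_val, ← map_pow, s.pow_Pm, map_one, Units.val_one]
  exact (pow_eq_one_iff_of_nonneg (norm_nonneg _) s.p_prime.ne_zero).mp
    (by rw [← norm_pow, h, norm_one])

theorem indP_class (f : ↥(Cfsg.fittingHall ↥M) →* ℂˣ) : Cfsg.IsClassFunction ↥M (indP f) :=
  isClassFunction_indFun _ _

include hG

theorem good_indP_sub (f f' : ↥(Cfsg.fittingHall ↥M) →* ℂˣ) :
    GoodFun M W₁ (indP f - indP f') :=
  s.good_of_P hG (fun x y => by
      rw [Pi.sub_apply, Pi.sub_apply, s.indP_class f x y, s.indP_class f' x y])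
    (by rw [Pi.sub_apply, s.indP_one, s.indP_one, sub_self])
    fun l hl => by rw [Pi.sub_apply, s.indP_off f hl, s.indP_off f' hl, sub_self]

theorem tau_indP_off (f f' : ↥(Cfsg.fittingHall ↥M) →* ℂˣ) {g : G} (hg : g ∉ pSet M) :
    tauM M (indP f - indP f') g = 0 :=
  s.tau_P_off hG (fun x y => by
      rw [Pi.sub_apply, Pi.sub_apply, s.indP_class f x y, s.indP_class f' x y])
    (by rw [Pi.sub_apply, s.indP_one, s.indP_one, sub_self])
    (fun l hl => by rw [Pi.sub_apply, s.indP_off f hl, s.indP_off f' hl, sub_self]) hg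

variable (hT : PrimeTIChars M ⁅M, M⁆ W₁ W₂ μ δ)
  {η : (↥(W₁ ⊔ W₂) →* ℂˣ) → (G → ℂ)} (hη : Cfsg.IsCyclicTIFamily W₁ W₂ η)
include hT

omit s in
theorem red_sum' (s : Side M W₁ U W₂) (ψ : ↥(W₁ ⊔ W₂) →* ℂˣ)
    [Fintype {φ : ↥(W₁ ⊔ W₂) →* ℂˣ // OnFirst φ}] :
    redChar μ ψ = ∑ φ : {φ : ↥(W₁ ⊔ W₂) →* ℂˣ // OnFirst φ}, μ (φ.1 * ψ) :=
  (finsum_set_coe_eq_finsum_mem (f := fun φ => μ (φ * ψ))
    ({φ : ↥(W₁ ⊔ W₂) →* ℂˣ | OnFirst φ})).symm.trans
      (finsum_eq_sum_of_fintype (α := {φ : ↥(W₁ ⊔ W₂) →* ℂˣ // OnFirst φ}) fun φ => μ (φ.1 * ψ))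

theorem inner_red_mu {φ ψ j : ↥(W₁ ⊔ W₂) →* ℂˣ} (hφ : OnFirst φ) (hψ : OnSecond ψ)
    (hj : OnSecond j) [Decidable (ψ = j)] :
    Cfsg.classInner (redChar μ j) (μ (φ * ψ)) = if ψ = j then 1 else 0 := by
  classical
  haveI := Fintype.ofFinite {φ : ↥(W₁ ⊔ W₂) →* ℂˣ // OnFirst φ}
  rw [s.red_sum' hG hT, classInner_sum_left, Finset.sum_eq_single (⟨φ, hφ⟩ : {φ // OnFirst φ})]
  · rw [classInner_irrChar (hT.irr _) (hT.irr _)]
    exact if_congr ⟨fun e => ((mul_eq_iff s.dataP.selfNormalizing hφ hj hφ hψ).mp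
      (hT.injective e)).2.symm, fun e => by rw [e]⟩ rfl rfl
  · intro b _ hb
    exact s.mu_ne hG hT fun e =>
      hb (Subtype.ext ((mul_eq_iff s.dataP.selfNormalizing b.2 hj hφ hψ).mp e).1)
  · exact fun h => absurd (Finset.mem_univ _) h

theorem indP_ne_red {f : ↥(Cfsg.fittingHall ↥M) →* ℂˣ} (hf : IsRegular f)
    {j : ↥(W₁ ⊔ W₂) →* ℂˣ} (hj : OnSecond j) (hj1 : j ≠ 1) : indP f ≠ redChar μ j := fun e =>
  (s.prime hG).red_not_irr hT hj (e ▸ s.regular_irr hf)

theorem inner_indP_red {f : ↥(Cfsg.fittingHall ↥M) →* ℂˣ} (hf : IsRegular f)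
    {j : ↥(W₁ ⊔ W₂) →* ℂˣ} (hj : OnSecond j) (hj1 : j ≠ 1) :
    Cfsg.classInner (indP f) (redChar μ j) = 0 := by
  obtain ⟨f', -, -, he, -⟩ := s.exists_fixed hG hT hj hj1
  rw [he]
  exact s.inner_indP_ne fun e => s.indP_ne_red hG hT hf hj hj1 (e.trans he.symm)

theorem inner_indP_mu {f : ↥(Cfsg.fittingHall ↥M) →* ℂˣ} (hf : IsRegular f)
    {φ ψ : ↥(W₁ ⊔ W₂) →* ℂˣ} (hφ : OnFirst φ) (hψ : OnSecond ψ) (hψ1 : ψ ≠ 1) :
    Cfsg.classInner (indP f) (μ (φ * ψ)) = 0 := by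
  rw [classInner_irrChar (s.regular_irr hf) (hT.irr _), if_neg]
  intro e
  have h := congrFun e 1
  rw [s.indP_one, s.mu_deg hG hT hφ hψ hψ1] at h
  have h' : Nat.card U * Nat.card W₁ = Nat.card U := Nat.cast_injective (R := ℂ) h
  have h1 := Nat.mul_le_mul_left (Nat.card U) s.q_prime.two_le
  have h2 : 0 < Nat.card U := Nat.card_pos
  omega

theorem good_red_sub {ψ ψ' : ↥(W₁ ⊔ W₂) →* ℂˣ} (hψ : OnSecond ψ) (hψ1 : ψ ≠ 1)
    (hψ' : OnSecond ψ') (hψ'1 : ψ' ≠ 1) : GoodFun M W₁ (redChar μ ψ - redChar μ ψ') := by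
  obtain ⟨f, -, -, he, -⟩ := s.exists_fixed hG hT hψ hψ1
  obtain ⟨f', -, -, he', -⟩ := s.exists_fixed hG hT hψ' hψ'1
  rw [he, he']
  exact s.good_indP_sub hG f f'

include hη

theorem red_image {ψ ψ' : ↥(W₁ ⊔ W₂) →* ℂˣ} (hψ : OnSecond ψ) (hψ1 : ψ ≠ 1)
    (hψ' : OnSecond ψ') (hψ'1 : ψ' ≠ 1) :
    tauM M (redChar μ ψ - redChar μ ψ') = colSum η ψ - colSum η ψ' := by
  classical
  haveI := Fintype.ofFinite {φ : ↥(W₁ ⊔ W₂) →* ℂˣ // OnFirst φ}
  rw [s.red_sum' hG hT, s.red_sum' hG hT, ← Finset.sum_sub_distrib, tauM_sum,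
    Finset.sum_congr rfl fun φ _ => s.col_image hG hT hη φ.2 hψ hψ1 hψ' hψ'1,
    Finset.sum_sub_distrib, colSum_eq, colSum_eq]

/-- The image of `Ind_P^M f - μ_j`. -/
theorem reg_pattern {f : ↥(Cfsg.fittingHall ↥M) →* ℂˣ} (hf : IsRegular f)
    {j : ↥(W₁ ⊔ W₂) →* ℂˣ} (hj : OnSecond j) (hj1 : j ≠ 1) :
    ∃ χ : G → ℂ, IsSignedIrr G χ ∧ (∀ ω, Cfsg.classInner χ (η ω) = 0) ∧
      (tauM M (indP f - redChar μ j) = χ - colSum η j ∨
        (Nat.card W₂ = 3 ∧ tauM M (indP f - redChar μ j) = χ + colSum η j⁻¹)) := by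
  classical
  have hW := s.dataP.selfNormalizing
  haveI := Fintype.ofFinite (↥(W₁ ⊔ W₂) →* ℂˣ)
  haveI := Fintype.ofFinite {φ : ↥(W₁ ⊔ W₂) →* ℂˣ // OnFirst φ}
  haveI := Fintype.ofFinite {φ : ↥(W₁ ⊔ W₂) →* ℂˣ // OnSecond φ}
  obtain ⟨fj, -, -, hej, -⟩ := s.exists_fixed hG hT hj hj1
  set d : ↥M → ℂ := indP f - redChar μ j with hd
  have hdg : GoodFun M W₁ d := by rw [hd, hej]; exact s.good_indP_sub hG f fj
  set X : G → ℂ := tauM M d with hX
  have hXgen : Cfsg.IsGeneralizedCharacter G X :=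
    Cfsg.Lib.Dade.isGeneralized_dade (s.dade hG) (α := d) (by
      refine Cfsg.Lib.Chars.IsGeneralizedCharacter.sub ?_ ?_
      · exact IsSignedIrr.generalized (Or.inl (s.regular_irr hf) : IsSignedIrr ↥M (indP f))
      · rw [(s.prime hG).red_eq hT hj]
        exact IsGeneralizedCharacter.indFun
          (IsSignedIrr.generalized (Or.inl (hT.res_irr j) : IsSignedIrr _ _))) (s.good_A₀ hG hdg)
  have hXcls : Cfsg.IsClassFunction G X := s.isClassFunction_tau hG hdg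
  choose a ha using fun ω => inner_int hXgen (family_signed hη ω).generalized
  -- the principal coefficient
  have ha1 : a 1 = 0 := by
    have h := ha 1
    rw [hη.map_one, hX, s.inner_good hG hdg (fun _ _ => rfl), hd, classInner_sub_left,
      show (fun _ : ↥M => (1 : ℂ)) = μ 1 from ((s.prime hG).mu_one' hT).symm] at h
    have e1 : Cfsg.classInner (indP f) (μ 1) = 0 := by
      rw [classInner_irrChar (s.regular_irr hf) (hT.irr _), if_neg]
      intro e
      have h1 := congrFun e 1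
      rw [s.indP_one, (s.prime hG).mu_one' hT] at h1
      have h' : Nat.card U * Nat.card W₁ = 1 := Nat.cast_injective (R := ℂ) (by simpa using h1)
      have := s.u_gt_one
      have := Nat.eq_one_of_mul_eq_one_right h'
      omega
    have e2 := s.inner_red_mu hG hT onFirst_one onSecond_one hj
    rw [hom_one_mul, if_neg (Ne.symm hj1)] at e2
    rw [e1, e2, sub_zero] at h
    exact_mod_cast h.symm
  -- additivity
  have hadd : ∀ φ ψ, OnFirst φ → OnSecond ψ → a (φ * ψ) = a φ + a ψ := by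
    intro φ ψ hφ hψ
    have h := coeff_add hη hXcls (fun w h1 h2 => by
      rw [hX, hd, hej]
      exact s.tau_indP_off hG f fj (s.hat_not_pSet w.2 h2)) hφ hψ
    rw [ha, ha, ha, ha, ha1, Int.cast_zero, sub_zero] at h
    exact_mod_cast h
  -- the columns
  have hcol : ∀ φ ψ, OnFirst φ → OnSecond ψ → ψ ≠ 1 → ψ ≠ j → a (φ * ψ) = a (φ * j) + 1 := by
    intro φ ψ hφ hψ hψ1 hψj
    have h := s.inner_good_good hG hdg (s.good_col hG hT hφ hj hj1 hψ hψ1)
    rw [← hX, s.col_image hG hT hη hφ hj hj1 hψ hψ1, classInner_sub_right, ha, ha, hd,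
      classInner_sub_left, classInner_sub_right, classInner_sub_right,
      s.inner_indP_mu hG hT hf hφ hj hj1, s.inner_indP_mu hG hT hf hφ hψ hψ1,
      s.inner_red_mu hG hT hφ hj hj, s.inner_red_mu hG hT hφ hψ hj, if_pos rfl, if_neg hψj] at h
    have h' : ((a (φ * j) - a (φ * ψ) : ℤ) : ℂ) = ((-1 : ℤ) : ℂ) := by push_cast; rw [h]; ring
    have := Int.cast_injective h'
    omega
  set A : ℤ := a j with hA
  have hsecond : ∀ ψ, OnSecond ψ → ψ ≠ 1 → ψ ≠ j → a ψ = A + 1 := fun ψ hψ h1 h2 => by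
    have := hcol 1 ψ onFirst_one hψ h1 h2
    rw [hom_one_mul, hom_one_mul] at this
    exact this
  -- sums over the grid
  have hsplit : ∀ F : (↥(W₁ ⊔ W₂) →* ℂˣ) → ℤ, ∑ ω, F ω =
      ∑ φ : {φ : ↥(W₁ ⊔ W₂) →* ℂˣ // OnFirst φ}, ∑ ψ : {ψ : ↥(W₁ ⊔ W₂) →* ℂˣ // OnSecond ψ},
        F (φ.1 * ψ.1) := fun F => by
    rw [← (dualEquiv hW).sum_comp F, Fintype.sum_prod_type]
    rfl
  set o₂ : {ψ : ↥(W₁ ⊔ W₂) →* ℂˣ // OnSecond ψ} := ⟨1, onSecond_one⟩
  set j₂ : {ψ : ↥(W₁ ⊔ W₂) →* ℂˣ // OnSecond ψ} := ⟨j, hj⟩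
  have hoj : o₂ ≠ j₂ := fun e => hj1 (congrArg Subtype.val e).symm
  have hrest : (((Finset.univ.erase o₂).erase j₂).card : ℤ) = (Nat.card W₂ : ℤ) - 2 := by
    rw [Finset.card_erase_of_mem (Finset.mem_erase.mpr ⟨hoj.symm, Finset.mem_univ _⟩),
      Finset.card_erase_of_mem (Finset.mem_univ _), Finset.card_univ, ← Nat.card_eq_fintype_card,
      card_onSecond hW]
    have := s.p_prime.two_le
    omega
  have hinner : ∀ (F : {ψ : ↥(W₁ ⊔ W₂) →* ℂˣ // OnSecond ψ} → ℤ) (k : ℤ),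
      (∀ ψ, ψ ≠ o₂ → ψ ≠ j₂ → F ψ = k) →
        ∑ ψ, F ψ = F o₂ + F j₂ + ((Nat.card W₂ : ℤ) - 2) * k := by
    intro F k hk
    rw [← Finset.add_sum_erase _ _ (Finset.mem_univ o₂),
      ← Finset.add_sum_erase _ _ (Finset.mem_erase.mpr ⟨hoj.symm, Finset.mem_univ _⟩),
      Finset.sum_congr rfl fun ψ hψ => hk ψ
        (Finset.mem_erase.mp (Finset.mem_erase.mp hψ).2).1 (Finset.mem_erase.mp hψ).1,
      Finset.sum_const, nsmul_eq_mul, hrest, add_assoc]
  let x : {φ : ↥(W₁ ⊔ W₂) →* ℂˣ // OnFirst φ} → ℤ := fun φ => a φ.1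
  have hnorm : ∑ ω, a ω ^ 2 = ∑ φ, rowNorm (Nat.card W₂) A (x φ) := by
    rw [hsplit]
    refine Finset.sum_congr rfl fun φ _ => ?_
    rw [hinner _ ((x φ + A + 1) ^ 2) fun ψ h1 h2 => by
      rw [hadd _ _ φ.2 ψ.2, hsecond _ ψ.2 (fun e => h1 (Subtype.ext e))
        (fun e => h2 (Subtype.ext e)), add_assoc]]
    show a (φ.1 * 1) ^ 2 + a (φ.1 * j) ^ 2 + _ = _
    rw [hom_mul_one, hadd _ _ φ.2 hj]
    unfold rowNorm
    rfl
  -- the remainder
  set R : G → ℂ := X - ∑ ω, (a ω : ℂ) • η ω with hR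
  have hRη : ∀ ω, Cfsg.classInner R (η ω) = 0 := fun ω => by
    rw [hR, classInner_sub_left, classInner_sum_left, Finset.sum_eq_single ω, classInner_smul_left,
      hη.orthonormal, if_pos rfl, mul_one, ha, sub_self]
    · intro b _ hb; rw [classInner_smul_left, hη.orthonormal, if_neg hb, mul_zero]
    · exact fun h => absurd (Finset.mem_univ _) h
  have hRR : Cfsg.classInner R R = (((Nat.card W₁ : ℤ) + 1 - ∑ ω, a ω ^ 2 : ℤ) : ℂ) := by
    conv_lhs => arg 2; rw [hR]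
    rw [classInner_sub_right, classInner_sum_right,
      Finset.sum_eq_zero fun ω _ => by rw [classInner_smul_right, hRη, mul_zero], sub_zero, hR,
      classInner_sub_left, classInner_sum_left,
      Finset.sum_congr rfl fun ω _ => (classInner_smul_left (a ω : ℂ) (η ω) X).trans
        (by rw [← classInner_conj_symm X (η ω), ha, map_intCast, ← sq, ← Int.cast_pow]),
      hX, s.inner_good_good hG hdg hdg, hd, classInner_sub_left, classInner_sub_right,
      classInner_sub_right, classInner_irrChar (s.regular_irr hf) (s.regular_irr hf), if_pos rfl,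
      ← classInner_conj_symm (indP f) (redChar μ j), s.inner_indP_red hG hT hf hj hj1,
      (s.prime hG).inner_red_self hT hj]
    push_cast
    simp
    ring
  have hle : ∑ φ, rowNorm (Nat.card W₂) A (x φ) ≤
      (Fintype.card {φ : ↥(W₁ ⊔ W₂) →* ℂˣ // OnFirst φ} : ℤ) + 1 := by
    rw [← hnorm, ← Nat.card_eq_fintype_card, card_onFirst hW]
    have h := Cfsg.Lib.Coherence.inner_self_re_nonneg R
    rw [hRR, Complex.intCast_re] at h
    have : (0 : ℤ) ≤ (Nat.card W₁ : ℤ) + 1 - ∑ ω, a ω ^ 2 := by exact_mod_cast h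
    omega
  have hp3 : 3 ≤ Nat.card W₂ := by
    have h1 := s.p_prime.two_le
    have h2 := Nat.odd_iff.mp (s.odd_p hG)
    omega
  have hq3 : 3 ≤ Fintype.card {φ : ↥(W₁ ⊔ W₂) →* ℂˣ // OnFirst φ} := by
    rw [← Nat.card_eq_fintype_card, card_onFirst hW]
    have h1 := s.q_prime.two_le
    have h2 := Nat.odd_iff.mp (s.odd_q hG)
    omega
  obtain ⟨hAc, hx⟩ := row_pattern hp3 (s.odd_p hG) hq3 x A ⟨1, onFirst_one⟩ ha1 hle
  have hjinv : j⁻¹ ≠ j := hom_inv_ne (s.odd_W hG) hj1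
  have hjinv1 : j⁻¹ ≠ 1 := fun e => hj1 (hom_inv_eq_one e)
  have hthird : Nat.card W₂ = 3 → ∀ ψ, OnSecond ψ → ψ ≠ 1 → ψ ≠ j → ψ = j⁻¹ := by
    intro h3 ψ hψ h1 h2
    have hc : ((Finset.univ.erase o₂).erase j₂).card = 1 := by
      have := hrest; rw [h3] at this; omega
    obtain ⟨c, hc⟩ := Finset.card_eq_one.mp hc
    have hm : ∀ χ (hχ : OnSecond χ), χ ≠ 1 → χ ≠ j →
        (⟨χ, hχ⟩ : {ψ : ↥(W₁ ⊔ W₂) →* ℂˣ // OnSecond ψ}) = c := fun χ hχ e1 e2 =>
      Finset.mem_singleton.mp (hc ▸ Finset.mem_erase.mpr ⟨fun e => e2 (congrArg Subtype.val e),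
        Finset.mem_erase.mpr ⟨fun e => e1 (congrArg Subtype.val e), Finset.mem_univ _⟩⟩)
    exact congrArg Subtype.val ((hm ψ hψ h1 h2).trans (hm _ (onSecond_inv hj) hjinv1 hjinv).symm)
  rcases hx with hx0 | ⟨h3, i₀, hi₀, hxi, hxo⟩
  · -- the main case
    have hphi : ∀ φ, OnFirst φ → a φ = 0 := fun φ hφ => hx0 ⟨φ, hφ⟩
    have hn : ∑ ω, a ω ^ 2 = (Nat.card W₁ : ℤ) := by
      rw [hnorm, Finset.sum_congr rfl fun φ _ =>
        show rowNorm (Nat.card W₂) A (x φ) = 1 by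
          rw [hx0 φ]; unfold rowNorm
          rcases hAc with h | ⟨h, h3⟩
          · rw [h]; ring
          · rw [h, h3]; norm_num,
        Finset.sum_const, Finset.card_univ, ← Nat.card_eq_fintype_card, card_onFirst hW,
        nsmul_eq_mul, mul_one]
    have hRs : IsSignedIrr G R := by
      refine signed_of_norm_one ?_ ?_
      · refine Cfsg.Lib.Chars.IsGeneralizedCharacter.sub hXgen ?_
        have := Cfsg.Lib.Coherence.comb_gen Finset.univ η a fun ω _ => (family_signed hη ω).generalized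
        simpa [Cfsg.Lib.Coherence.comb] using this
      · rw [hRR, hn]; push_cast; ring
    refine ⟨R, hRs, hRη, ?_⟩
    have hval : ∀ (φ : {φ : ↥(W₁ ⊔ W₂) →* ℂˣ // OnFirst φ})
        (ψ : {ψ : ↥(W₁ ⊔ W₂) →* ℂˣ // OnSecond ψ}),
        (a (φ.1 * ψ.1) : ℂ) • η (φ.1 * ψ.1) =
          if ψ = j₂ then (A : ℂ) • η (φ.1 * j) else
            if ψ = o₂ then 0 else ((A + 1 : ℤ) : ℂ) • η (φ.1 * ψ.1) := by
      intro φ ψ
      rw [hadd _ _ φ.2 ψ.2, hphi _ φ.2, zero_add]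
      by_cases h2 : ψ = j₂
      · rw [if_pos h2, show ψ.1 = j from congrArg Subtype.val h2, ← hA]
      rw [if_neg h2]
      by_cases h1 : ψ = o₂
      · rw [if_pos h1, show ψ.1 = 1 from congrArg Subtype.val h1, ha1, Int.cast_zero, zero_smul]
      · rw [if_neg h1, hsecond _ ψ.2 (fun e => h1 (Subtype.ext e)) fun e => h2 (Subtype.ext e)]
    have hsum : (∑ ω, (a ω : ℂ) • η ω) = ∑ φ : {φ : ↥(W₁ ⊔ W₂) →* ℂˣ // OnFirst φ},
        ∑ ψ : {ψ : ↥(W₁ ⊔ W₂) →* ℂˣ // OnSecond ψ}, (a (φ.1 * ψ.1) : ℂ) • η (φ.1 * ψ.1) := by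
      rw [← (dualEquiv hW).sum_comp, Fintype.sum_prod_type]; rfl
    have hXR : X = R + ∑ ω, (a ω : ℂ) • η ω := by rw [hR, sub_add_cancel]
    rcases hAc with hA1 | ⟨hA0, h3⟩
    · left
      rw [hXR, hsum, colSum_eq, sub_eq_add_neg, ← Finset.sum_neg_distrib]
      congr 1
      refine Finset.sum_congr rfl fun φ _ => ?_
      rw [Finset.sum_eq_single j₂, hval, if_pos rfl, hA1]
      · simp
      · intro ψ _ hne
        rw [hval, if_neg hne, hA1]
        split <;> simp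
      · exact fun h => absurd (Finset.mem_univ _) h
    · right
      refine ⟨h3, ?_⟩
      rw [hXR, hsum, colSum_eq]
      congr 1
      refine Finset.sum_congr rfl fun φ _ => ?_
      rw [Finset.sum_eq_single (⟨j⁻¹, onSecond_inv hj⟩ : {ψ // OnSecond ψ}), hval,
        if_neg fun e => hjinv (congrArg Subtype.val e),
        if_neg fun e => hjinv1 (congrArg Subtype.val e), hA0]
      · simp
      · intro ψ _ hne
        rw [hval, hA0]
        split
        · simp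
        split
        · rfl
        · rename_i e2 e1
          exact absurd (Subtype.ext (hthird h3 ψ.1 ψ.2 (fun e => e1 (Subtype.ext e))
            fun e => e2 (Subtype.ext e))) hne
      · exact fun h => absurd (Finset.mem_univ _) h
  · -- an exceptional row is impossible
    exfalso
    have hA' : A = -1 ∨ A = 0 := hAc.imp id And.left
    have hn : ∑ ω, a ω ^ 2 = (Nat.card W₁ : ℤ) + 1 := by
      rw [hnorm, ← card_onFirst hW, @Nat.card_eq_fintype_card {φ : ↥(W₁ ⊔ W₂) →* ℂˣ // OnFirst φ},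
        ← Finset.add_sum_erase _ _ (Finset.mem_univ i₀),
        Finset.sum_congr rfl fun φ hφ =>
          show rowNorm (Nat.card W₂) A (x φ) = 1 by
            rw [hxo φ (Finset.mem_erase.mp hφ).1, h3]; unfold rowNorm
            rcases hA' with h | h <;> rw [h] <;> norm_num,
        Finset.sum_const, Finset.card_erase_of_mem (Finset.mem_univ _), Finset.card_univ,
        nsmul_eq_mul, mul_one, hxi, h3,
        show rowNorm 3 A (-(2 * A + 1)) = 2 by
          unfold rowNorm; rcases hA' with h | h <;> rw [h] <;> norm_num,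
        Nat.cast_sub (Fintype.card_pos_iff.mpr ⟨i₀⟩)]
      push_cast; ring
    have hR0 : R = 0 := (classInner_self_eq_zero R).mp (by rw [hRR, hn]; simp)
    have hXR : X = ∑ ω, (a ω : ℂ) • η ω := sub_eq_zero.mp hR0
    -- `X` and its conjugate are orthogonal
    have hdbar : Cfsg.conjFun d = indP f⁻¹ - redChar μ j⁻¹ := by
      rw [hd, conjFun_sub', s.indP_conj, (s.prime hG).conj_red hT hj]
    obtain ⟨fi, -, -, hei, -⟩ := s.exists_fixed hG hT (onSecond_inv hj) hjinv1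
    have hgbar : GoodFun M W₁ (Cfsg.conjFun d) := by
      rw [hdbar, hei]; exact s.good_indP_sub hG _ _
    have hfreg : IsRegular f⁻¹ := by
      refine ⟨fun e => hf.1 (hom_inv_eq_one e), fun g hg => hf.2 g (MonoidHom.ext fun y => ?_)⟩
      have := DFunLike.congr_fun hg y
      exact inv_injective this
    have hzero : Cfsg.classInner X (Cfsg.conjFun X) = 0 := by
      have e : Cfsg.conjFun X = tauM M (Cfsg.conjFun d) := by rw [hX, conjFun_tauM]
      rw [e, hX, s.inner_good_good hG hdg hgbar, hdbar, hd, classInner_sub_left,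
        classInner_sub_right, classInner_sub_right, s.inner_indP_red hG hT hf (onSecond_inv hj) hjinv1,
        ← classInner_conj_symm (indP f⁻¹) (redChar μ j), s.inner_indP_red hG hT hfreg hj hj1,
        (s.prime hG).inner_red_red hT hj (onSecond_inv hj) hjinv.symm]
      have hne : indP f ≠ indP f⁻¹ := by
        intro e
        rw [← s.indP_conj] at e
        have hp := eq_principal_of_real (G := ↥M)
          (hG.1.of_dvd_nat (Subgroup.card_subgroup_dvd_card M)) ⟨indP f, s.regular_irr hf⟩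
          fun g => Complex.conj_eq_iff_im.mp (congrFun e g).symm
        have h1 := congrFun (congrArg Subtype.val hp) 1
        simp only [s.indP_one] at h1
        have h' : Nat.card U * Nat.card W₁ = 1 := Nat.cast_injective (R := ℂ) (h1.trans
          (by simp [principal]))
        have := s.u_gt_one
        have := Nat.eq_one_of_mul_eq_one_right h'
        omega
      rw [s.inner_indP_ne hne]
      simp
    have hsum0 : ∑ ω, a ω * a ω⁻¹ = 0 := by
      have h := hzero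
      conv at h => lhs; arg 2; rw [hXR]
      rw [show Cfsg.conjFun (∑ ω, (a ω : ℂ) • η ω) = ∑ ω, (a ω : ℂ) • η ω⁻¹ from by
          funext g
          simp only [Cfsg.conjFun, Finset.sum_apply, Pi.smul_apply, smul_eq_mul, map_sum, map_mul,
            map_intCast]
          refine Finset.sum_congr rfl fun ω _ => ?_
          rw [← family_conj hW (s.odd_W hG) hη ω]
          rfl,
        classInner_sum_right] at h
      simp only [classInner_smul_right, ha, map_intCast, ← Int.cast_mul, ← Int.cast_sum] at h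
      exact_mod_cast h
    -- but the pattern gives `-2`
    let invF : {φ : ↥(W₁ ⊔ W₂) →* ℂˣ // OnFirst φ} → {φ : ↥(W₁ ⊔ W₂) →* ℂˣ // OnFirst φ} :=
      fun φ => ⟨φ.1⁻¹, onFirst_inv φ.2⟩
    have hinvF : Function.Involutive invF := fun φ => Subtype.ext (hom_inv_inv φ.1)
    have h2 := exceptional_sum invF hinvF A hA' i₀ (fun e => hom_inv_ne (s.odd_W hG)
      (fun e1 => hi₀ (Subtype.ext e1)) (congrArg Subtype.val e))
    simp only at h2
    have hxfun : ∀ φ, (if φ = i₀ then -(2 * A + 1) else 0) = x φ := fun φ => by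
      by_cases h : φ = i₀
      · rw [if_pos h, h, hxi]
      · rw [if_neg h, hxo φ h]
    simp only [hxfun] at h2
    rw [hsplit] at hsum0
    have hterm : ∀ φ : {φ : ↥(W₁ ⊔ W₂) →* ℂˣ // OnFirst φ},
        ∑ ψ : {ψ : ↥(W₁ ⊔ W₂) →* ℂˣ // OnSecond ψ}, a (φ.1 * ψ.1) * a (φ.1 * ψ.1)⁻¹ =
          x φ * x (invF φ) + (x φ + A) * (x (invF φ) + A + 1) +
            (x φ + A + 1) * (x (invF φ) + A) := by
      intro φ
      rw [hinner _ (a (φ.1 * j⁻¹) * a (φ.1⁻¹ * j)) fun ψ e1 e2 => by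
        rw [hthird h3 ψ.1 ψ.2 (fun e => e1 (Subtype.ext e)) fun e => e2 (Subtype.ext e),
          hom_mul_inv, hom_inv_inv], h3]
      show a (φ.1 * 1) * a (φ.1 * 1)⁻¹ + a (φ.1 * j) * a (φ.1 * j)⁻¹ + _ = _
      rw [hom_mul_one, hom_mul_inv, hadd _ _ φ.2 hj, hadd _ _ (onFirst_inv φ.2) (onSecond_inv hj),
        hadd _ _ φ.2 (onSecond_inv hj), hadd _ _ (onFirst_inv φ.2) hj,
        hsecond _ (onSecond_inv hj) hjinv1 hjinv, ← hA]
      show x φ * x (invF φ) + (x φ + A) * (x (invF φ) + (A + 1)) +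
        ((3 : ℕ) - 2 : ℤ) * ((x φ + (A + 1)) * (x (invF φ) + A)) = _
      push_cast
      ring
    rw [Finset.sum_congr rfl fun φ _ => hterm φ, h2] at hsum0
    norm_num at hsum0

/-- Two images have the same pattern, and their characters multiply like the induced characters. -/
theorem reg_compat {f f' : ↥(Cfsg.fittingHall ↥M) →* ℂˣ} (hf : IsRegular f) (hf' : IsRegular f')
    {j : ↥(W₁ ⊔ W₂) →* ℂˣ} (hj : OnSecond j) (hj1 : j ≠ 1) {χ χ' : G → ℂ}
    (hχ : IsSignedIrr G χ) (hχ' : IsSignedIrr G χ') (ho : ∀ ω, Cfsg.classInner χ (η ω) = 0)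
    (ho' : ∀ ω, Cfsg.classInner χ' (η ω) = 0) :
    (tauM M (indP f - redChar μ j) = χ - colSum η j →
      tauM M (indP f' - redChar μ j) ≠ χ' + colSum η j⁻¹) ∧
    (tauM M (indP f - redChar μ j) = χ - colSum η j →
      tauM M (indP f' - redChar μ j) = χ' - colSum η j →
        Cfsg.classInner χ χ' = Cfsg.classInner (indP f) (indP f')) ∧
    (tauM M (indP f - redChar μ j) = χ + colSum η j⁻¹ →
      tauM M (indP f' - redChar μ j) = χ' + colSum η j⁻¹ →
        Cfsg.classInner χ χ' = Cfsg.classInner (indP f) (indP f')) := by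
  classical
  obtain ⟨fj, -, -, hej, -⟩ := s.exists_fixed hG hT hj hj1
  have hd : Cfsg.classInner (tauM M (indP f - redChar μ j)) (tauM M (indP f' - redChar μ j)) =
      Cfsg.classInner (indP f) (indP f') + Nat.card W₁ := by
    rw [hej, s.inner_good_good hG (s.good_indP_sub hG f fj) (s.good_indP_sub hG f' fj), ← hej,
      classInner_sub_left, classInner_sub_right, classInner_sub_right,
      s.inner_indP_red hG hT hf hj hj1, ← classInner_conj_symm (indP f') (redChar μ j),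
      s.inner_indP_red hG hT hf' hj hj1, (s.prime hG).inner_red_self hT hj]
    simp
  have hc : ∀ {χ : G → ℂ}, (∀ ω, Cfsg.classInner χ (η ω) = 0) → ∀ ψ,
      Cfsg.classInner χ (colSum η ψ) = 0 ∧ Cfsg.classInner (colSum η ψ) χ = 0 := by
    intro χ h ψ
    haveI := Fintype.ofFinite {φ : ↥(W₁ ⊔ W₂) →* ℂˣ // OnFirst φ}
    have e : Cfsg.classInner χ (colSum η ψ) = 0 := by
      rw [colSum_eq, classInner_sum_right, Finset.sum_eq_zero fun φ _ => h _]
    exact ⟨e, by rw [← classInner_conj_symm, e, map_zero]⟩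
  have hW := s.dataP.selfNormalizing
  refine ⟨fun h1 h2 => ?_, fun h1 h2 => ?_, fun h1 h2 => ?_⟩
  · rw [h1, h2, classInner_sub_left, classInner_add_right, classInner_add_right, (hc ho _).1,
      (hc ho' _).2, inner_colSum_colSum hW hη hj (onSecond_inv hj),
      if_neg (hom_inv_ne (s.odd_W hG) hj1).symm] at hd
    have hq : (3 : ℝ) ≤ (Nat.card W₁ : ℝ) := by
      have h4 := s.q_prime.two_le
      have h5 := Nat.odd_iff.mp (s.odd_q hG)
      exact_mod_cast (show 3 ≤ Nat.card W₁ by omega)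
    have hb : 0 ≤ (Cfsg.classInner (indP f) (indP f')).re := by
      rw [classInner_irrChar (s.regular_irr hf) (s.regular_irr hf')]; split <;> simp
    have ha : (Cfsg.classInner χ χ').re ≤ 1 := by
      rcases hχ.trichotomy hχ' with ⟨-, e⟩ | ⟨-, e⟩ | e <;> rw [e] <;> norm_num
    have := congrArg Complex.re hd
    simp only [Complex.add_re, Complex.sub_re, Complex.neg_re, Complex.zero_re, Complex.natCast_re,
      add_zero, zero_add, sub_zero, zero_sub, neg_zero] at this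
    linarith
  · rw [h1, h2, classInner_sub_left, classInner_sub_right, classInner_sub_right, (hc ho _).1,
      (hc ho' _).2, inner_colSum_colSum hW hη hj hj, if_pos rfl] at hd
    linear_combination hd
  · rw [h1, h2, classInner_add_left, classInner_add_right, classInner_add_right, (hc ho _).1,
      (hc ho' _).2, inner_colSum_colSum hW hη (onSecond_inv hj) (onSecond_inv hj), if_pos rfl] at hd
    linear_combination hd

end Side

end Cfsg.Agent.PF
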