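import Cfsg.Agent.OddChar.PF.S12Signed
import Cfsg.Agent.OddChar.Rational
import Cfsg.Agent.OddChar.Family

/-!
# Section 14: tools

Conjugation and transposition of a cyclic TI family, orthogonality of signed irreducible
characters from their differences, and the average of a group action on an abelian group.
-/

set_option linter.style.haveILetI false
set_option linter.unusedSectionVars false
set_option autoImplicit false

universe u

namespace Cfsg.Agent.PF

open Cfsg.Lib.Chars Cfsg.Lib.CyclicTI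
open scoped ComplexConjugate

variable {G : Type u} [Group G] [Fintype G] {W₁ W₂ : Subgroup G}

theorem family_signed {η : (↥(W₁ ⊔ W₂) →* ℂˣ) → (G → ℂ)} (hη : Cfsg.IsCyclicTIFamily W₁ W₂ η)
    (ω : ↥(W₁ ⊔ W₂) →* ℂˣ) : IsSignedIrr G (η ω) := hη.irr_or_neg ω

/-- The conjugate of a member of the family. -/
theorem family_conj (hW : Cfsg.IsSelfNormalizingCyclic W₁ W₂)
    (hodd : Odd (Nat.card ↥(W₁ ⊔ W₂))) {η : (↥(W₁ ⊔ W₂) →* ℂˣ) → (G → ℂ)}
    (hη : Cfsg.IsCyclicTIFamily W₁ W₂ η) (ω : ↥(W₁ ⊔ W₂) →* ℂˣ) :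
    Cfsg.conjFun (η ω) = η ω⁻¹ := by
  funext g
  have h := family_map_auto hW hodd hη starRingAut ω g
  refine h.trans (congrFun (congrArg η ?_) g)
  refine MonoidHom.ext fun w => Units.ext ?_
  rw [autHom_apply, MonoidHom.inv_apply, Units.val_inv_eq_inv_val]
  have hfin : IsOfFinOrder w := isOfFinOrder_of_finite w
  have h1 : ‖(ω w : ℂ)‖ = 1 := by
    obtain ⟨n, hn, hn1⟩ := isOfFinOrder_iff_pow_eq_one.mp hfin
    refine (pow_eq_one_iff_of_nonneg (norm_nonneg _) hn.ne').mp ?_
    rw [← norm_pow, ← Units.val_pow_eq_pow_val, ← map_pow, hn1, map_one, Units.val_one, norm_one]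
  exact (Complex.inv_eq_conj h1).symm

theorem onSecond_inv {ψ : ↥(W₁ ⊔ W₂) →* ℂˣ} (h : OnSecond ψ) : OnSecond ψ⁻¹ := fun w hw => by
  rw [MonoidHom.inv_apply, h w hw, inv_one]

theorem onFirst_inv {φ : ↥(W₁ ⊔ W₂) →* ℂˣ} (h : OnFirst φ) : OnFirst φ⁻¹ := fun w hw => by
  rw [MonoidHom.inv_apply, h w hw, inv_one]

/-- A non-trivial linear character of a group of odd order is not its inverse. -/
theorem hom_inv_ne {A : Type*} [Group A] [Finite A] (hodd : Odd (Nat.card A)) {ω : A →* ℂˣ}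
    (h : ω ≠ 1) : ω⁻¹ ≠ ω := fun e => h (MonoidHom.ext fun a => by
  have h2 : ω a ^ 2 = 1 := by
    have := DFunLike.congr_fun e a
    rw [MonoidHom.inv_apply] at this
    rw [sq]; nth_rewrite 1 [← this]; rw [inv_mul_cancel]
  obtain ⟨k, hk⟩ := hodd
  have h3 : ω a ^ Nat.card A = 1 := by rw [← map_pow, pow_card_eq_one', map_one]
  rw [hk, pow_succ, pow_mul, h2, one_pow, one_mul] at h3
  exact h3)

/-- A signed irreducible character whose inner products with two orthogonal ones agree is orthogonal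
to them. -/
theorem IsSignedIrr.orth_diff {χ a a' : G → ℂ} (hχ : IsSignedIrr G χ) (ha : IsSignedIrr G a)
    (haa : Cfsg.classInner a a' = 0) (h : Cfsg.classInner χ a = Cfsg.classInner χ a') :
    Cfsg.classInner χ a = 0 := by
  rcases hχ.trichotomy ha with ⟨e, h1⟩ | ⟨e, h1⟩ | h1
  · rw [e] at h; rw [ha.inner_self, haa] at h; exact absurd h one_ne_zero
  · rw [e, classInner_neg_left, classInner_neg_left, ha.inner_self, haa, neg_zero] at h
    exact absurd h (neg_ne_zero.mpr one_ne_zero)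
  · exact h1

/-! ### Transposition of the family -/

/-- A linear character of `W₂ W₁` as one of `W₁ W₂`. -/
noncomputable def swapHom (ω : ↥(W₂ ⊔ W₁) →* ℂˣ) : ↥(W₁ ⊔ W₂) →* ℂˣ :=
  ω.comp (MulEquiv.subgroupCongr (sup_comm W₁ W₂)).toMonoidHom

theorem swapHom_apply (ω : ↥(W₂ ⊔ W₁) →* ℂˣ) (w : ↥(W₁ ⊔ W₂)) :
    swapHom ω w = ω ⟨w, sup_comm W₁ W₂ ▸ w.2⟩ := rfl

theorem swapHom_mul (ω ω' : ↥(W₂ ⊔ W₁) →* ℂˣ) :
    swapHom (ω * ω') = swapHom ω * swapHom ω' := rfl

theorem swapHom_one : swapHom (1 : ↥(W₂ ⊔ W₁) →* ℂˣ) = (1 : ↥(W₁ ⊔ W₂) →* ℂˣ) := rfl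

theorem swapHom_swapHom (ω : ↥(W₁ ⊔ W₂) →* ℂˣ) : swapHom (swapHom ω) = ω :=
  MonoidHom.ext fun _ => rfl

theorem swapHom_injective : Function.Injective (swapHom (W₁ := W₁) (W₂ := W₂)) :=
  fun a b h => by rw [← swapHom_swapHom a, h, swapHom_swapHom]

theorem onSecond_swapHom {ω : ↥(W₁ ⊔ W₂) →* ℂˣ} (h : OnFirst ω) : OnSecond (swapHom ω) :=
  fun _ hw => h _ hw

theorem onFirst_swapHom {ω : ↥(W₁ ⊔ W₂) →* ℂˣ} (h : OnSecond ω) : OnFirst (swapHom ω) :=
  fun _ hw => h _ hw

theorem indFun_congr {H K : Subgroup G} (h : H = K) (θ : ↥H → ℂ) :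
    Cfsg.indFun K (fun k => θ (MulEquiv.subgroupCongr h.symm k)) = Cfsg.indFun H θ := by
  subst h; rfl

/-- The transposed family. -/
theorem family_swap {η : (↥(W₁ ⊔ W₂) →* ℂˣ) → (G → ℂ)} (hη : Cfsg.IsCyclicTIFamily W₁ W₂ η) :
    Cfsg.IsCyclicTIFamily W₂ W₁ (fun ω => η (swapHom ω)) where
  irr_or_neg ω := hη.irr_or_neg _
  orthonormal ω ω' := by
    rw [hη.orthonormal]
    by_cases h : ω = ω'
    · rw [if_pos h, if_pos (congrArg swapHom h)]
    · rw [if_neg h, if_neg fun e => h (swapHom_injective e)]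
  map_one := by rw [swapHom_one, hη.map_one]
  eq_on ω w h1 h2 := by
    exact hη.eq_on (swapHom ω) (MulEquiv.subgroupCongr (sup_comm W₂ W₁) w) h2 h1
  induced_eq φ ψ hφ hψ hφ2 hψ1 := by
    have hφ' : swapHom ψ ≠ 1 := fun e => hψ (swapHom_injective (e.trans swapHom_one.symm))
    have hψ' : swapHom φ ≠ 1 := fun e => hφ (swapHom_injective (e.trans swapHom_one.symm))
    have e := hη.induced_eq (swapHom ψ) (swapHom φ) hφ' hψ' (fun w hw => hψ1 _ hw)
      (fun w hw => hφ2 _ hw)
    rw [← indFun_congr (sup_comm W₁ W₂)] at e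
    funext g
    have e' := congrFun e g
    rw [show swapHom (φ * ψ) = swapHom ψ * swapHom φ from
      (swapHom_mul φ ψ).trans (MonoidHom.ext fun w => mul_comm _ _)]
    calc _ = 1 - η (swapHom ψ) g - η (swapHom φ) g + η (swapHom ψ * swapHom φ) g := by
          rw [← e']
          refine congrFun (congrArg (Cfsg.indFun (W₂ ⊔ W₁)) (funext fun w => ?_)) g
          have h1 : ∀ ω : ↥(W₂ ⊔ W₁) →* ℂˣ,
              swapHom ω (MulEquiv.subgroupCongr (sup_comm W₁ W₂).symm w) = ω w := fun _ => rfl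
          simp only [h1]
          ring
      _ = _ := by ring

/-! ### Averages -/

/-- The product of the conjugates of `z` under the elements of `A`, in an abelian normal subgroup. -/
theorem exists_average {M : Type*} [Group M] [Finite M] (N : Subgroup M) [N.Normal]
    (hab : IsMulCommutative N) (A : Subgroup M) (z : N) :
    ∃ y : N, (∀ a ∈ A, a * (y : M) * a⁻¹ = y) ∧
      (∀ f : ↥N →* ℂˣ, (∀ a ∈ A, ∀ x : N, f (MulAut.conjNormal a x) = f x) →
        f y = f z ^ Nat.card A) ∧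
      ∀ m : M, m ∈ Subgroup.normalizer (A : Set M) → MulAut.conjNormal m z = z →
        m * (y : M) * m⁻¹ = y := by
  classical
  letI : CommGroup N := { (inferInstance : Group N) with mul_comm := hab.is_comm.comm }
  have := Fintype.ofFinite A
  refine ⟨∏ a : A, MulAut.conjNormal (a : M) z, fun a ha => ?_, fun f hf => ?_, fun m hm hz => ?_⟩
  · have h : MulAut.conjNormal a (∏ b : A, MulAut.conjNormal (b : M) z) =
        ∏ b : A, MulAut.conjNormal (b : M) z := by
      rw [map_prod]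
      refine Fintype.prod_equiv (Equiv.mulLeft ⟨a, ha⟩) _ _ fun b => ?_
      rw [Equiv.coe_mulLeft, Subgroup.coe_mul, map_mul, MulAut.mul_apply]
    have := congrArg Subtype.val h
    rwa [MulAut.conjNormal_apply] at this
  · rw [map_prod, Finset.prod_congr rfl fun (b : A) _ => hf b b.2 z, Finset.prod_const,
      Finset.card_univ, Nat.card_eq_fintype_card]
  · have hz' : MulAut.conjNormal m⁻¹ z = z := by
      conv_lhs => rw [← hz]
      rw [map_inv, ← MulAut.mul_apply, inv_mul_cancel, MulAut.one_apply]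
    let e : A ≃ A :=
      { toFun := fun b => ⟨m * (b : M) * m⁻¹, (Subgroup.mem_normalizer_iff.mp hm b).mp b.2⟩
        invFun := fun b => ⟨m⁻¹ * (b : M) * m,
          (Subgroup.mem_normalizer_iff.mp hm _).mpr (by simp [mul_assoc])⟩
        left_inv := fun b => Subtype.ext (by simp [mul_assoc])
        right_inv := fun b => Subtype.ext (by simp [mul_assoc]) }
    have h : MulAut.conjNormal m (∏ b : A, MulAut.conjNormal (b : M) z) =
        ∏ b : A, MulAut.conjNormal (b : M) z := by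
      rw [map_prod]
      refine Fintype.prod_equiv e _ _ fun b => ?_
      show MulAut.conjNormal m (MulAut.conjNormal (b : M) z) =
        MulAut.conjNormal (m * (b : M) * m⁻¹) z
      rw [map_mul, map_mul, MulAut.mul_apply, MulAut.mul_apply, hz']
    have := congrArg Subtype.val h
    rwa [MulAut.conjNormal_apply] at this

end Cfsg.Agent.PF
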