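import Cfsg.Agent.OddChar.PF.S13Basic
import Cfsg.Agent.OddChar.PF.S04System
import Cfsg.Agent.OddChar.PF.S04Support
import Cfsg.Agent.OddChar.PF.S12Coherent
import Cfsg.Agent.OddChar.PF.S07InvDade
import Cfsg.Agent.OddChar.PF.Sec08Prime
import Cfsg.Agent.OddChar.PF.S09Linear
import Cfsg.Agent.OddChar.PF.S14Tools

/-!
# Section 14: one of the two paired maximal subgroups

For `M = P U W₁` of type II or III with `P` elementary abelian of order `p ^ q`: the group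
theoretic facts, the Dade map on `A₀(M)` (all centralisers lie in `M`), and the linear characters
of `P` fixed by `W₁` that induce the column sums.
-/

set_option linter.style.haveILetI false
set_option linter.unusedSectionVars false
set_option linter.unusedVariables false
set_option autoImplicit false

universe u

namespace Cfsg.Agent.PF

open Cfsg.Lib.Chars Cfsg.Lib.CyclicTI Cfsg.Lib.Dual
open Subgroup
open scoped ComplexConjugate commutatorElement

variable {G : Type u} [Group G]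

/-- What Section 14 uses of `S` or of `T`. -/
structure Side (M W₁ U W₂ : Subgroup G) : Prop where
  max : IsCoatom M
  dataP : Cfsg.IsTypePWith M W₁ U W₂
  type : Cfsg.IsOfTypeII M ∨ Cfsg.IsOfTypeIII M
  cent_le : ∀ x ∈ typeA0' M, centralizer ({x} : Set G) ≤ M
  q_prime : (Nat.card W₁).Prime
  p_prime : (Nat.card W₂).Prime
  ne : Nat.card W₁ ≠ Nat.card W₂
  elem : Cfsg.IsElementaryAbelian (Nat.card W₂) (Cfsg.fittingHallOf M)
  card_P : Nat.card (Cfsg.fittingHallOf M) = Nat.card W₂ ^ Nat.card W₁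
  faithful : U ⊓ centralizer (Cfsg.fittingHallOf M : Set G) = ⊥
  cent_W₂ : centralizer (W₂ : Set G) = Cfsg.fittingHallOf M ⊔ W₁

variable [Fintype G] {M W₁ U W₂ : Subgroup G}

namespace Side

theorem hyp9 (s : Side M W₁ U W₂) : Hyp9 M W₁ U W₂ :=
  hyp9_of s.max s.dataP (s.type.imp id Or.inl)

theorem type4 (s : Side M W₁ U W₂) :
    Cfsg.IsOfTypeII M ∨ Cfsg.IsOfTypeIII M ∨ Cfsg.IsOfTypeIV M ∨ Cfsg.IsOfTypeV M :=
  s.type.imp id Or.inl

theorem U_comm (s : Side M W₁ U W₂) : IsMulCommutative U :=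
  ⟨⟨fun a b => Subtype.ext (commutatorElement_eq_one_iff_mul_comm.mp (Subgroup.mem_bot.mp
    (s.faithful ▸ (⟨(Subgroup.commutator_le_self U) (commutator_mem_commutator a.2 b.2),
      s.hyp9.derived_U_le_centralizer (commutator_mem_commutator a.2 b.2)⟩ :
        ⁅(a : G), (b : G)⁆ ∈ U ⊓ centralizer (Cfsg.fittingHallOf M : Set G)))))⟩⟩

theorem P_inf_U (s : Side M W₁ U W₂) : Cfsg.fittingHallOf M ⊓ U = ⊥ := s.dataP.U_compl.2.2.1

theorem derived_inf_W₁ (s : Side M W₁ U W₂) : ⁅M, M⁆ ⊓ W₁ = ⊥ := s.dataP.W₁_compl.2.2.1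

theorem P_inf_W₁ (s : Side M W₁ U W₂) : Cfsg.fittingHallOf M ⊓ W₁ = ⊥ :=
  le_bot_iff.mp (s.derived_inf_W₁ ▸ inf_le_inf_right _ s.hyp9.H_le_derived)

/-- `C_U(W₂) = 1`. -/
theorem U_inf_cent_W₂ (s : Side M W₁ U W₂) : U ⊓ centralizer (W₂ : Set G) = ⊥ := by
  refine (Subgroup.eq_bot_iff_forall _).mpr ?_
  rintro x ⟨hxU, hx⟩
  rw [s.cent_W₂] at hx
  obtain ⟨a, ha, w, hw, rfl⟩ := (Cfsg.Lib.Coprime.mem_sup_of_le_normalizer
    (s.hyp9.W₁_le.trans s.hyp9.M_le_normalizer_H)).mp hx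
  have hwd : w ∈ ⁅M, M⁆ :=
    (Subgroup.mul_mem_cancel_left _ (s.hyp9.H_le_derived ha)).mp (s.hyp9.U_le_derived hxU)
  obtain rfl : w = 1 := Subgroup.mem_bot.mp (s.derived_inf_W₁ ▸ ⟨hwd, hw⟩)
  rw [mul_one] at hxU ⊢
  exact Subgroup.mem_bot.mp (s.P_inf_U ▸ ⟨ha, hxU⟩)

theorem prime (s : Side M W₁ U W₂) (hG : Cfsg.IsMinSimpleOddOrder G) :
    PrimeDade M ⁅M, M⁆ W₁ W₂ (Cfsg.typeCore M) (typeA' M) (typeA0' M) (Cfsg.supportR M) :=
  primeDade_of_type hG s.max s.type4 s.dataP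

theorem R_eq_bot (s : Side M W₁ U W₂) {x : G} (hx : x ∈ typeA0' M) : Cfsg.supportR M x = ⊥ :=
  supportR_of_le (s.cent_le x hx)

theorem P_le_core (s : Side M W₁ U W₂) (hG : Cfsg.IsMinSimpleOddOrder G) :
    Cfsg.fittingHallOf M ≤ Cfsg.typeCore M := by
  unfold Cfsg.typeCore
  split
  · exact s.hyp9.H_le_derived
  · exact le_rfl

theorem odd_q (s : Side M W₁ U W₂) (hG : Cfsg.IsMinSimpleOddOrder G) : Odd (Nat.card W₁) :=
  hG.1.of_dvd_nat (Subgroup.card_subgroup_dvd_card W₁)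

theorem odd_p (s : Side M W₁ U W₂) (hG : Cfsg.IsMinSimpleOddOrder G) : Odd (Nat.card W₂) :=
  hG.1.of_dvd_nat (Subgroup.card_subgroup_dvd_card W₂)

theorem odd_u (s : Side M W₁ U W₂) (hG : Cfsg.IsMinSimpleOddOrder G) : Odd (Nat.card U) :=
  hG.1.of_dvd_nat (Subgroup.card_subgroup_dvd_card U)

theorem odd_W (s : Side M W₁ U W₂) (hG : Cfsg.IsMinSimpleOddOrder G) :
    Odd (Nat.card ↥(W₁ ⊔ W₂)) :=
  hG.1.of_dvd_nat (Subgroup.card_subgroup_dvd_card _)

theorem u_gt_one (s : Side M W₁ U W₂) : 1 < Nat.card U :=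
  U.one_lt_card_iff_ne_bot.mpr s.hyp9.U_ne

theorem card_M (s : Side M W₁ U W₂) :
    Nat.card M = Nat.card W₂ ^ Nat.card W₁ * Nat.card U * Nat.card W₁ := by
  rw [s.hyp9.card_eq, s.hyp9.card_derived, s.card_P]

/-- `W₁` acts semiregularly on `U`. -/
theorem u_modEq (s : Side M W₁ U W₂) : Nat.card U ≡ 1 [MOD Nat.card W₁] := by
  classical
  haveI := Fact.mk s.q_prime
  letI : MulAction W₁ U :=
    { smul := fun w x => ⟨w * x * (w : G)⁻¹,
        (mem_normalizer_iff.mp (s.hyp9.W₁_le_normalizer_U w.2) x).mp x.2⟩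
      one_smul := fun x => Subtype.ext (by show (1 : G) * x * (1 : G)⁻¹ = x; simp)
      mul_smul := fun a b x => Subtype.ext (by
        show ((a : G) * b) * x * ((a : G) * b)⁻¹ = a * (b * x * (b : G)⁻¹) * (a : G)⁻¹
        group) }
  have h := (IsPGroup.of_card (n := 1) (pow_one (Nat.card W₁)).symm).card_modEq_card_fixedPoints U
  have hfix : Nat.card (MulAction.fixedPoints W₁ U) = 1 := by
    rw [Nat.card_eq_one_iff_exists]
    refine ⟨⟨1, fun w => Subtype.ext (by show (w : G) * (1 : G) * (w : G)⁻¹ = 1; simp)⟩, fun y => ?_⟩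
    obtain ⟨w, hw, hw1⟩ := (Subgroup.bot_or_exists_ne_one W₁).resolve_left s.dataP.W₁_ne
    apply Subtype.ext; apply Subtype.ext
    refine s.hyp9.fpf' w hw hw1 y.1.1 y.1.2 ?_
    have hy : (w : G) * y.1.1 * (w : G)⁻¹ = y.1.1 := congrArg Subtype.val (y.2 ⟨w, hw⟩)
    exact mul_inv_eq_iff_eq_mul.mp hy
  rwa [hfix] at h

end Side

/-- The Dade map of `A₀(M)`. -/
noncomputable def tauM (M : Subgroup G) (f : ↥M → ℂ) : G → ℂ :=
  Cfsg.dadeIsometry (typeA0' M) M (Cfsg.supportR M) f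

theorem tauM_add (f f' : ↥M → ℂ) : tauM M (f + f') = tauM M f + tauM M f' := by
  funext g; simp only [tauM, Cfsg.dadeIsometry, Pi.add_apply]; split <;> simp

theorem tauM_sub (f f' : ↥M → ℂ) : tauM M (f - f') = tauM M f - tauM M f' := by
  funext g; simp only [tauM, Cfsg.dadeIsometry, Pi.sub_apply]; split <;> simp

theorem tauM_smul (c : ℂ) (f : ↥M → ℂ) : tauM M (c • f) = c • tauM M f := by
  funext g; simp only [tauM, Cfsg.dadeIsometry, Pi.smul_apply, smul_eq_mul]; split <;> simp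

theorem conjFun_tauM (f : ↥M → ℂ) :
    Cfsg.conjFun (tauM M f) = tauM M (Cfsg.conjFun f) := by
  funext g
  simp only [tauM, Cfsg.conjFun, Cfsg.dadeIsometry]
  split <;> simp

namespace Side

variable [Fintype M] (s : Side M W₁ U W₂) (hG : Cfsg.IsMinSimpleOddOrder G)
include s hG

theorem dade : Cfsg.DadeHypothesis (typeA0' M) M (Cfsg.supportR M) := (s.prime hG).dade

/-- Reciprocity for the Dade map. -/
theorem inner_tau {f : ↥M → ℂ} (hf : Cfsg.IsClassFunction M f)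
    (hA : ∀ x : M, (x : G) ∉ typeA0' M → f x = 0) {χ : G → ℂ} (hχ : Cfsg.IsClassFunction G χ) :
    Cfsg.classInner (tauM M f) χ = Cfsg.classInner f (fun x : M => χ x) := by
  rw [tauM, inner_dade (s.dade hG) hf hA hχ, classInner_def, classInner_def]
  congr 1
  refine Finset.sum_congr rfl fun x _ => ?_
  by_cases hx : (x : G) ∈ typeA0' M
  · rw [rho_of_const hx (c := χ x) fun u hu => by
      rw [s.R_eq_bot hx] at hu
      rw [Subgroup.mem_bot.mp hu, mul_one]]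
  · rw [hA x hx, zero_mul, zero_mul]

theorem inner_tau_tau {f f' : ↥M → ℂ} (hf : Cfsg.IsClassFunction M f)
    (hA : ∀ x : M, (x : G) ∉ typeA0' M → f x = 0) (hf' : Cfsg.IsClassFunction M f')
    (hA' : ∀ x : M, (x : G) ∉ typeA0' M → f' x = 0) :
    Cfsg.classInner (tauM M f) (tauM M f') = Cfsg.classInner f f' :=
  Cfsg.Lib.Dade.classInner_dade_dade (s.dade hG) hf hA hf'

/-- The support of an image. -/
theorem tau_ne_zero {f : ↥M → ℂ} (hf : Cfsg.IsClassFunction M f) {g : G}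
    (hg : tauM M f g ≠ 0) : ∃ x : M, (x : G) ∈ typeA0' M ∧ f x ≠ 0 ∧ IsConj (x : G) g := by
  by_cases h : ∃ a : ↥M, (a : G) ∈ typeA0' M ∧
      ∃ y : G, ∃ u ∈ Cfsg.supportR M (a : G), y * g * y⁻¹ = (a : G) * u
  · obtain ⟨a, ha, y, u, hu, he⟩ := h
    rw [s.R_eq_bot ha, Subgroup.mem_bot] at hu
    rw [hu, mul_one] at he
    refine ⟨a, ha, ?_, isConj_iff.mpr ⟨y⁻¹, by rw [← he]; group⟩⟩
    have e : tauM M f g = f a :=
      Cfsg.Lib.Dade.dade_apply (s.dade hG) hf a ha (one_mem (Cfsg.supportR M (a : G)))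
        (x := y) (by rw [mul_one]; exact he)
    rwa [e] at hg
  · exact absurd (by simp only [tauM, Cfsg.dadeIsometry, dif_neg h]) hg

end Side

end Cfsg.Agent.PF
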