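import Cfsg.Agent.OddChar.PF.Interface
import Cfsg.Agent.OddChar.PF.TypeMap
import Cfsg.Agent.OddLocal.HallCentralizer
import Cfsg.Agent.OddLocal.KappaDual

/-!
# Peterfalvi, section 8: types and cores of the maximal subgroups
-/

set_option linter.unusedSectionVars false
set_option linter.unusedVariables false
set_option linter.style.haveILetI false
set_option autoImplicit false

namespace Cfsg.Agent.PF

open Subgroup
open scoped commutatorElement
open Cfsg.Lib.OddLocal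
open Cfsg.Lib.OddLocal.Sigma
open Cfsg.Lib.OddLocal.RankTwoMax

universe u

variable {G : Type u} [Group G] [Finite G] {M : Subgroup G}

/-- The statements of the local analysis that describe the types. -/
structure TypeFacts (G : Type u) [Group G] [Finite G] : Prop where
  p1355 : P1355 G
  p1357 : P1357 G
  p1380 : P1380' G
  p1381 : P1381 G
  p1382 : P1382 G
  p1383 : P1383 G

theorem exists_decomposition (hG : Cfsg.IsMinSimpleOddOrder G) (hM : IsCoatom M) :
    ∃ K U : Subgroup G, Cfsg.IsSigmaDecomposition M K U := by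
  obtain ⟨K, hK⟩ := exists_kappa_hall hG hM
  obtain ⟨E, U, h⟩ := exists_kappaSplit hG hM hK
  exact ⟨K, U, h.decomposition hK (kappa_hall_cyclic hG hM hK)⟩

/-- A subgroup that is abelian modulo a normal subgroup has its derived subgroup there. -/
theorem derived_le_of_sup {K N : Subgroup G} (hKM : K ≤ M) (hNM : N ≤ M)
    (hn : M ≤ normalizer (N : Set G)) (hK : IsMulCommutative K) (hsup : M ≤ K ⊔ N) :
    ⁅M, M⁆ ≤ N := by
  rw [Subgroup.commutator_le]
  intro a ha b hb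
  have hdec : ∀ m ∈ M, ∃ k : M, (k : G) ∈ K ∧ ∃ n : M, (n : G) ∈ N ∧ m = n * k := by
    intro m hm
    obtain ⟨n, hn', k, hk, rfl⟩ :=
      (Cfsg.Lib.Coprime.mem_sup_of_le_normalizer (hKM.trans hn)).mp (sup_comm K N ▸ hsup hm)
    exact ⟨⟨k, hKM hk⟩, hk, ⟨n, hNM hn'⟩, hn', rfl⟩
  haveI : (N.subgroupOf M).Normal := (normal_subgroupOf_iff_le_normalizer hNM).mpr hn
  set f := QuotientGroup.mk' (N.subgroupOf M)
  have hf : ∀ (m : G) (hm : m ∈ M), ∃ k : M, (k : G) ∈ K ∧ f ⟨m, hm⟩ = f k := by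
    intro m hm
    obtain ⟨k, hk, n, hn', he⟩ := hdec m hm
    refine ⟨k, hk, ?_⟩
    have : (⟨m, hm⟩ : M) = n * k := Subtype.ext (by simpa using he)
    have h1 : f n = 1 := (QuotientGroup.eq_one_iff n).mpr (mem_subgroupOf.mpr hn')
    rw [this, map_mul, h1, one_mul]
  obtain ⟨k, hk, h1⟩ := hf a ha
  obtain ⟨l, hl, h2⟩ := hf b hb
  have hkl : k * l = l * k := by
    have h' := congrArg Subtype.val (hK.is_comm.comm (⟨(k : G), hk⟩ : K) ⟨(l : G), hl⟩)
    exact Subtype.ext h' 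
  have key : f ⁅(⟨a, ha⟩ : M), ⟨b, hb⟩⁆ = 1 := by
    rw [map_commutatorElement, h1, h2, ← map_commutatorElement,
      commutatorElement_eq_one_iff_mul_comm.mpr hkl, map_one]
  exact mem_subgroupOf.mp ((QuotientGroup.eq_one_iff _).mp key)

/-- Every maximal subgroup has one of the five types. -/
theorem type_cases (hG : Cfsg.IsMinSimpleOddOrder G) (h : TypeFacts G) (hM : IsCoatom M) :
    IsTypeI' M ∨ Cfsg.IsOfTypeII M ∨ Cfsg.IsOfTypeIII M ∨ Cfsg.IsOfTypeIV M ∨
      Cfsg.IsOfTypeV M := by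
  obtain ⟨K, U, hd⟩ := exists_decomposition hG hM
  by_cases hK : K = ⊥
  · by_cases hU : U = ⊥
    · exfalso
      obtain ⟨-, -, hle, hlt, -⟩ := h.p1355 M hM
      have hM' : M ≤ Cfsg.sigmaCore M := by
        intro m hm
        obtain ⟨u, hu, s, hs, rfl⟩ := hd.compl.2.2.2 m hm
        rw [hK, bot_sup_eq] at hs
        rw [hU, mem_bot] at hu
        simpa [hu] using hs
      exact hlt.not_ge (hM'.trans hle)
    · exact Or.inl ((h.p1380 M hM K U hd).mpr ⟨hK, hU⟩)
  · by_cases hU : U = ⊥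
    · by_cases hF : Cfsg.fittingHallOf M = Cfsg.sigmaCore M
      · exact Or.inr (Or.inr (Or.inr (Or.inr ((h.p1383 M hM K U hd).mpr ⟨hK, hU, hF⟩))))
      · rcases (h.p1382 M hM K U hd).mpr ⟨hK, hU, hF⟩ with h' | h'
        · exact Or.inr (Or.inr (Or.inl h'))
        · exact Or.inr (Or.inr (Or.inr (Or.inl h')))
    · exact Or.inr (Or.inl ((h.p1381 M hM K U hd).mpr ⟨hK, hU⟩))

theorem not_typeI_of_P (hG : Cfsg.IsMinSimpleOddOrder G) (h : TypeFacts G) (hM : IsCoatom M)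
    (hP : Cfsg.IsOfTypeII M ∨ Cfsg.IsOfTypeIII M ∨ Cfsg.IsOfTypeIV M ∨ Cfsg.IsOfTypeV M) :
    ¬ IsTypeI' M := by
  intro hI
  obtain ⟨K, U, hd⟩ := exists_decomposition hG hM
  have h1 := ((h.p1380 M hM K U hd).mp hI).1
  rcases hP with h' | h' | h' | h'
  · exact ((h.p1381 M hM K U hd).mp h').1 h1
  · exact ((h.p1382 M hM K U hd).mp (Or.inl h')).1 h1
  · exact ((h.p1382 M hM K U hd).mp (Or.inr h')).1 h1
  · exact ((h.p1383 M hM K U hd).mp h').1 h1

theorem not_typeII_of (hG : Cfsg.IsMinSimpleOddOrder G) (h : TypeFacts G) (hM : IsCoatom M)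
    (hP : Cfsg.IsOfTypeIII M ∨ Cfsg.IsOfTypeIV M ∨ Cfsg.IsOfTypeV M) : ¬ Cfsg.IsOfTypeII M := by
  intro hII
  obtain ⟨K, U, hd⟩ := exists_decomposition hG hM
  have h1 := ((h.p1381 M hM K U hd).mp hII).2
  rcases hP with h' | h' | h'
  · exact h1 ((h.p1382 M hM K U hd).mp (Or.inl h')).2.1
  · exact h1 ((h.p1382 M hM K U hd).mp (Or.inr h')).2.1
  · exact h1 ((h.p1383 M hM K U hd).mp h').2.1

theorem not_typeV_of (hG : Cfsg.IsMinSimpleOddOrder G) (h : TypeFacts G) (hM : IsCoatom M)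
    (hP : Cfsg.IsOfTypeIII M ∨ Cfsg.IsOfTypeIV M) : ¬ Cfsg.IsOfTypeV M := by
  intro hV
  obtain ⟨K, U, hd⟩ := exists_decomposition hG hM
  exact ((h.p1382 M hM K U hd).mp hP).2.2 ((h.p1383 M hM K U hd).mp hV).2.2

theorem typeCore_of_I_II (hG : Cfsg.IsMinSimpleOddOrder G) (h : TypeFacts G) (hM : IsCoatom M)
    (hP : IsTypeI' M ∨ Cfsg.IsOfTypeII M) : Cfsg.typeCore M = Cfsg.fittingHallOf M := by
  refine if_neg fun h34 => ?_
  rcases hP with hI | hII
  · exact not_typeI_of_P hG h hM (h34.elim (fun x => Or.inr (Or.inl x))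
      fun x => Or.inr (Or.inr (Or.inl x))) hI
  · exact not_typeII_of hG h hM (h34.elim Or.inl fun x => Or.inr (Or.inl x)) hII

/-- `M_s` is `M_σ` for every maximal subgroup. -/
theorem typeCore_eq_sigmaCore (hG : Cfsg.IsMinSimpleOddOrder G) (h : TypeFacts G)
    (hM : IsCoatom M) : Cfsg.typeCore M = Cfsg.sigmaCore M := by
  obtain ⟨K, U, hd⟩ := exists_decomposition hG hM
  unfold Cfsg.typeCore
  by_cases h34 : Cfsg.IsOfTypeIII M ∨ Cfsg.IsOfTypeIV M
  · rw [if_pos h34]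
    obtain ⟨-, hU, -⟩ := (h.p1382 M hM K U hd).mp h34
    refine le_antisymm ?_ (h.p1355 M hM).2.2.1
    haveI := hd.cyclic
    refine derived_le_of_sup hd.hall.1 (sigmaCore_le M) (le_normalizer_sigmaCore M) ⟨⟨fun a b => ?_⟩⟩ ?_
    · letI := IsCyclic.commGroup (α := K)
      exact mul_comm a b
    · intro m hm
      obtain ⟨u, hu, s, hs, rfl⟩ := hd.compl.2.2.2 m hm
      rw [hU, mem_bot] at hu
      simpa [hu] using hs
  · rw [if_neg h34]
    by_contra hne
    obtain ⟨hU, -, -⟩ := h.p1357 M hM K U hd hne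
    by_cases hK : K = ⊥
    · rcases type_cases hG h hM with h' | h' | h' | h' | h'
      · exact ((h.p1380 M hM K U hd).mp h').2 hU
      · exact ((h.p1381 M hM K U hd).mp h').1 hK
      · exact h34 (Or.inl h')
      · exact h34 (Or.inr h')
      · exact hne ((h.p1383 M hM K U hd).mp h').2.2
    · exact h34 ((h.p1382 M hM K U hd).mpr ⟨hK, hU, hne⟩)

theorem typeCore_le (hG : Cfsg.IsMinSimpleOddOrder G) (h : TypeFacts G) (hM : IsCoatom M) :
    Cfsg.typeCore M ≤ M := by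
  rw [typeCore_eq_sigmaCore hG h hM]; exact sigmaCore_le M

theorem typeCore_le_derived (hG : Cfsg.IsMinSimpleOddOrder G) (h : TypeFacts G) (hM : IsCoatom M) :
    Cfsg.typeCore M ≤ ⁅M, M⁆ := by
  rw [typeCore_eq_sigmaCore hG h hM]; exact (h.p1355 M hM).2.2.1

theorem typeCore_ne_bot (hG : Cfsg.IsMinSimpleOddOrder G) (h : TypeFacts G) (hM : IsCoatom M) :
    Cfsg.typeCore M ≠ ⊥ := by
  rw [typeCore_eq_sigmaCore hG h hM]
  exact fun h0 => (h.p1355 M hM).1 (le_bot_iff.mp ((h.p1355 M hM).2.1.trans_eq h0))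

theorem typeA1_subset_typeA (hG : Cfsg.IsMinSimpleOddOrder G) (h : TypeFacts G) (hM : IsCoatom M) :
    Cfsg.typeA1 M ⊆ typeA' M := by
  rintro x ⟨hx, hx1⟩
  have hx1' : x ≠ 1 := hx1
  unfold typeA'
  by_cases hI : IsTypeI' M
  · rw [if_pos hI]
    exact ⟨typeCore_le hG h hM hx, hx1', x, typeCore_of_I_II hG h hM (Or.inl hI) ▸ hx, hx1', rfl⟩
  · rw [if_neg hI]
    exact ⟨typeCore_le_derived hG h hM hx, hx1', x, hx, hx1', rfl⟩

/-- The frozen Type I is stronger than the primed one. -/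
theorem isTypeI'_of (h : Cfsg.IsOfTypeI M) : IsTypeI' M := by
  obtain ⟨hF, hcase⟩ := h
  refine ⟨hF, ?_⟩
  rcases hcase with h1 | h1 | ⟨he, p, hp, hd, hcy⟩
  · exact Or.inl h1
  · exact Or.inr (Or.inl h1)
  refine Or.inr (Or.inr ⟨he, p, hp, hd, ?_⟩)
  set e : Cfsg.fittingHall M ≃* ↥(Cfsg.fittingHallOf M) :=
    (Cfsg.fittingHall M).equivMapOfInjective M.subtype M.subtype_injective
  refine TypeMap.pPrimeCore_cyclic_equiv e ?_
  set N := Cfsg.pPrimeCore p ↥(Cfsg.fittingHall M)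
  have hle : N.map (Cfsg.fittingHall M).subtype ≤ Cfsg.pPrimeCore p M :=
    le_sSup ⟨ConjAct.normal_of_characteristic_of_normal, by
      rw [card_map_of_injective (Cfsg.fittingHall M).subtype_injective]
      exact Cfsg.Lib.Components.coprime_card_pPrimeCore p⟩
  haveI := hcy
  haveI : IsCyclic ↥(N.map (Cfsg.fittingHall M).subtype) := isCyclic_of_injective
    (Subgroup.inclusion hle) (Subgroup.inclusion_injective hle)
  exact (MulEquiv.isCyclic
    (N.equivMapOfInjective _ (Cfsg.fittingHall M).subtype_injective)).mpr inferInstance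

theorem typeA_subset_typeA0 (M : Subgroup G) : typeA' M ⊆ typeA0' M :=
  Set.subset_union_left

theorem typeA_subset (M : Subgroup G) : typeA' M ⊆ (M : Set G) := by
  intro x hx
  unfold typeA' at hx
  by_cases hI : IsTypeI' M
  · rw [if_pos hI] at hx; exact hx.1
  · rw [if_neg hI] at hx; exact Subgroup.commutator_le_self M hx.1

theorem one_not_mem_typeA (M : Subgroup G) : (1 : G) ∉ typeA' M := by
  intro hx
  unfold typeA' at hx
  by_cases hI : IsTypeI' M
  · rw [if_pos hI] at hx; exact hx.2.1 rfl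
  · rw [if_neg hI] at hx; exact hx.2.1 rfl

theorem typeA0_subset (M : Subgroup G) : typeA0' M ⊆ (M : Set G) := by
  rintro x (hx | ⟨-, W₁, U, W₂, hP, m, hm, w, hw, -, -, rfl⟩)
  · exact typeA_subset M hx
  · have hW : W₁ ⊔ W₂ ≤ M := sup_le hP.W₁_compl.2.1
      ((hP.W₂_le.trans inf_le_left).trans (Cfsg.Lib.FittingHall.fittingHallOf_le M))
    exact mul_mem (mul_mem hm (hW hw)) (inv_mem hm)

theorem one_not_mem_typeA0 (M : Subgroup G) : (1 : G) ∉ typeA0' M := by
  rintro (hx | ⟨-, W₁, U, W₂, hP, m, hm, w, hw, h1, -, he⟩)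
  · exact one_not_mem_typeA M hx
  · exact h1 (by rw [conj_eq_one_iff.mp he.symm]; exact one_mem _)

end Cfsg.Agent.PF
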